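import Mathlib
import Cfsg.Prelude.Def_Local
import Cfsg.Agent.H2.Cores

/-!
# Quasisimple groups, components, the layer `E(G)` and `F*(G)`
-/

set_option autoImplicit false

namespace H23

open Cfsg Subgroup

variable {G : Type*} [Group G]

/-! ### Small subgroup helpers -/

theorem comm_bot_symm {H K : Subgroup G} (h : ⁅H, K⁆ = ⊥) : ⁅K, H⁆ = ⊥ := by
  rw [commutator_comm]; exact h

theorem comm_bot_mono {H K H' K' : Subgroup G} (h : ⁅H, K⁆ = ⊥) (h1 : H' ≤ H) (h2 : K' ≤ K) :
    ⁅H', K'⁆ = ⊥ :=
  le_bot_iff.mp (h ▸ commutator_mono h1 h2)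

theorem comm_bot_iff {H K : Subgroup G} : ⁅H, K⁆ = ⊥ ↔ ∀ a ∈ H, ∀ b ∈ K, a * b = b * a := by
  rw [commutator_eq_bot_iff_le_centralizer]
  exact ⟨fun h a ha b hb => (h ha b hb).symm, fun h a ha b hb => (h a ha b hb).symm⟩

theorem le_centralizer_of_comm_bot {H K : Subgroup G} (h : ⁅H, K⁆ = ⊥) :
    H ≤ centralizer (K : Set G) := commutator_eq_bot_iff_le_centralizer.mp h

theorem comm_bot_of_le_centralizer {H K : Subgroup G} (h : H ≤ centralizer (K : Set G)) :
    ⁅H, K⁆ = ⊥ := commutator_eq_bot_iff_le_centralizer.mpr h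

theorem le_normalizer_of_comm_bot {H K : Subgroup G} (h : ⁅H, K⁆ = ⊥) :
    H ≤ normalizer (K : Set G) :=
  (le_centralizer_of_comm_bot h).trans (centralizer_le_normalizer _)

theorem comm_sSup_bot {S : Set (Subgroup G)} {K : Subgroup G} (h : ∀ H ∈ S, ⁅H, K⁆ = ⊥) :
    ⁅sSup S, K⁆ = ⊥ :=
  comm_bot_of_le_centralizer (sSup_le fun H hH => le_centralizer_of_comm_bot (h H hH))

theorem comm_sup_bot {H H' K : Subgroup G} (h : ⁅H, K⁆ = ⊥) (h' : ⁅H', K⁆ = ⊥) :
    ⁅H ⊔ H', K⁆ = ⊥ :=
  comm_bot_of_le_centralizer
    (sup_le (le_centralizer_of_comm_bot h) (le_centralizer_of_comm_bot h'))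

theorem conj_mem {H K : Subgroup G} (h : H ≤ normalizer (K : Set G)) {a k : G} (ha : a ∈ H)
    (hk : k ∈ K) : a * k * a⁻¹ ∈ K := le_normalizer_iff.mp h a ha k hk

theorem conj_mem' {H K : Subgroup G} (h : H ≤ normalizer (K : Set G)) {a k : G} (ha : a ∈ H)
    (hk : k ∈ K) : a⁻¹ * k * a ∈ K := by
  simpa using conj_mem h (H.inv_mem ha) hk

theorem mem_sup_of_le_normalizer_right {H K : Subgroup G} (h : H ≤ normalizer (K : Set G))
    {x : G} (hx : x ∈ H ⊔ K) : ∃ a ∈ H, ∃ b ∈ K, a * b = x := by
  rw [← SetLike.mem_coe, coe_mul_of_left_le_normalizer_right _ _ h] at hx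
  exact hx

theorem mem_sup_of_le_normalizer_left {H K : Subgroup G} (h : K ≤ normalizer (H : Set G))
    {x : G} (hx : x ∈ H ⊔ K) : ∃ a ∈ H, ∃ b ∈ K, a * b = x := by
  rw [← SetLike.mem_coe, coe_mul_of_right_le_normalizer_left _ _ h] at hx
  exact hx

theorem le_normalizer_inf {A K L : Subgroup G} (hK : A ≤ normalizer (K : Set G))
    (hL : A ≤ normalizer (L : Set G)) : A ≤ normalizer ((K ⊓ L : Subgroup G) : Set G) :=
  (le_inf hK hL).trans inf_normalizer_le_normalizer_inf

theorem le_normalizer_sup {A K L : Subgroup G} (hK : A ≤ normalizer (K : Set G))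
    (hL : A ≤ normalizer (L : Set G)) : A ≤ normalizer ((K ⊔ L : Subgroup G) : Set G) :=
  (le_inf hK hL).trans (normalizer_inf_normalizer_le_normalizer_sup K L)

theorem le_normalizer_centralizer {A K : Subgroup G} (hK : A ≤ normalizer (K : Set G)) :
    A ≤ normalizer ((centralizer (K : Set G) : Subgroup G) : Set G) := by
  rw [le_normalizer_iff]
  intro a ha c hc
  rw [mem_centralizer_iff] at hc ⊢
  intro k hk
  have := hc _ (conj_mem' hK ha hk)
  calc k * (a * c * a⁻¹) = a * (a⁻¹ * k * a * c) * a⁻¹ := by group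
    _ = a * (c * (a⁻¹ * k * a)) * a⁻¹ := by rw [this]
    _ = a * c * a⁻¹ * k := by group

theorem le_normalizer_commutator {A K L : Subgroup G} (hK : A ≤ normalizer (K : Set G))
    (hL : A ≤ normalizer (L : Set G)) : A ≤ normalizer ((⁅K, L⁆ : Subgroup G) : Set G) := by
  apply le_normalizer_closure_iff.mpr
  rintro g hg _ ⟨g₁, hg₁, g₂, hg₂, rfl⟩
  rw [conjugate_commutatorElement]
  exact commutator_mem_commutator (conj_mem hK hg hg₁) (conj_mem hL hg hg₂)

theorem le_normalizer_normalizer {A K : Subgroup G} (hK : A ≤ normalizer (K : Set G)) :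
    A ≤ normalizer ((normalizer (K : Set G) : Subgroup G) : Set G) :=
  hK.trans le_normalizer

theorem le_normalizer_of_le {A K : Subgroup G} (h : A ≤ K) : A ≤ normalizer (K : Set G) :=
  h.trans le_normalizer

theorem commutator_le_left_of {H K : Subgroup G} (h : K ≤ normalizer (H : Set G)) : ⁅H, K⁆ ≤ H :=
  le_normalizer_iff_commutator_le_left.mp h

theorem commutator_le_right_of {H K : Subgroup G} (h : H ≤ normalizer (K : Set G)) : ⁅H, K⁆ ≤ K :=
  le_normalizer_iff_commutator_le_right.mp h

theorem mem_normalizer_iff_map_conj {H : Subgroup G} {g : G} :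
    g ∈ normalizer (H : Set G) ↔ H.map (MulAut.conj g).toMonoidHom = H :=
  mem_normalizer_iff_map_conj_eq

theorem mem_map_conj {H : Subgroup G} {g x : G} :
    x ∈ H.map (MulAut.conj g).toMonoidHom ↔ g⁻¹ * x * g ∈ H := by
  constructor
  · rintro ⟨y, hy, rfl⟩
    simpa [mul_assoc] using hy
  · intro h
    exact ⟨_, h, by simp [mul_assoc]⟩

theorem map_subtype_center (K : Subgroup G) :
    (center K).map K.subtype = K ⊓ centralizer (K : Set G) := by
  ext x
  constructor
  · rintro ⟨y, hy, rfl⟩
    refine ⟨y.2, fun k hk => ?_⟩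
    exact congrArg Subtype.val (mem_center_iff.mp hy ⟨k, hk⟩)
  · rintro ⟨hx, hc⟩
    exact ⟨⟨x, hx⟩, mem_center_iff.mpr fun k => Subtype.ext (hc k k.2), rfl⟩

theorem isSubnormal_of_le_normalizer {H K : Subgroup G} (hle : H ≤ K)
    (hn : K ≤ normalizer (H : Set G)) (hK : K.IsSubnormal) : H.IsSubnormal :=
  IsSubnormal.step H K hle hK (normal_subgroupOf_of_le_normalizer hn)

theorem solvable_of_le {K L : Subgroup G} (hLK : L ≤ K) (hK : Group.IsSolvable K) :
    Group.IsSolvable L :=
  Group.isSolvable_of_isSolvable_injective (inclusion_injective hLK)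

theorem solvable_map {G' : Type*} [Group G'] {K : Subgroup G} (hK : Group.IsSolvable K)
    (f : G →* G') : Group.IsSolvable (K.map f) :=
  Group.isSolvable_of_surjective (f.subgroupMap_surjective K)

theorem commutator_lt_of_solvable {K : Subgroup G} (hK : Group.IsSolvable K) (hK1 : K ≠ ⊥) :
    ⁅K, K⁆ < K := by
  rw [← nontrivial_iff_ne_bot] at hK1
  rw [← K.range_subtype, MonoidHom.range_eq_map, ← map_commutator, map_subtype_lt_map_subtype]
  exact Group.IsSolvable.commutator_lt_top_of_nontrivial K

theorem eq_bot_of_perfect_of_solvable {K : Subgroup G} (hp : ⁅K, K⁆ = K)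
    (hK : Group.IsSolvable K) : K = ⊥ := by
  by_contra h
  exact (commutator_lt_of_solvable hK h).ne hp

/-- a subgroup with `[K, K, K] = 1` is nilpotent. -/
theorem isNilpotent_of_comm_comm_bot {K : Subgroup G} (h : ⁅⁅K, K⁆, K⁆ = ⊥) :
    Group.IsNilpotent K := by
  rw [isNilpotent_iff_lowerCentralSeries]
  exact ⟨2, h⟩

/-- `[X, L, L] = 1` implies `[X, L] = 1` when `L` is perfect. -/
theorem comm_bot_of_comm_comm_bot {X L : Subgroup G} (hL : ⁅L, L⁆ = L) (h : ⁅⁅X, L⁆, L⁆ = ⊥) :
    ⁅X, L⁆ = ⊥ := by
  have : ⁅⁅L, L⁆, X⁆ = ⊥ :=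
    commutator_commutator_eq_bot_of_rotate (by rwa [commutator_comm L X]) h
  rw [hL] at this
  exact comm_bot_symm this

/-- If `L` is perfect, lies in the subnormal subgroup `H`, normalizes `X` and centralizes
`X ∩ H`, then it centralizes `X`. -/
theorem comm_bot_of_subnormal {X L H : Subgroup G} (hL : ⁅L, L⁆ = L) (hH : H.IsSubnormal)
    (hLH : L ≤ H) (hX : L ≤ normalizer (X : Set G)) (h : ⁅X ⊓ H, L⁆ = ⊥) : ⁅X, L⁆ = ⊥ := by
  induction hH with
  | top => simpa using h
  | step H K hle _ hN ih =>
    refine ih (hLH.trans hle) (comm_bot_of_comm_comm_bot hL (comm_bot_mono h ?_ le_rfl))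
    have hKH : K ≤ normalizer (H : Set G) := (normal_subgroupOf_iff_le_normalizer hle).mp hN
    refine le_inf ((commutator_mono inf_le_left le_rfl).trans (commutator_le_left_of hX)) ?_
    exact (commutator_mono inf_le_right hLH).trans (commutator_le_right_of hKH)

/-! ### Quasisimple groups -/

theorem isQuasisimple_iff {X : Type*} [Group X] :
    IsQuasisimple X ↔ commutator X = ⊤ ∧ Nontrivial X ∧
      ∀ N : Subgroup X, N.Normal → N = ⊤ ∨ N ≤ center X := by
  constructor
  · rintro ⟨hp, hs⟩
    refine ⟨hp.commutator_eq_top, (QuotientGroup.mk'_surjective (center X)).nontrivial,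
      fun N hN => ?_⟩
    rcases (hN.map _ (QuotientGroup.mk'_surjective (center X))).eq_bot_or_eq_top with h | h
    · right
      simpa using (map_eq_bot_iff N).mp h
    · left
      have h1 : N ⊔ center X = ⊤ := by
        have := comap_map_eq (QuotientGroup.mk' (center X)) N
        rw [h, QuotientGroup.ker_mk', comap_top] at this
        exact this.symm
      rw [eq_top_iff, ← hp.commutator_eq_top]
      exact Normal.commutator_le_of_self_sup_commutative_eq_top h1 inferInstance
  · rintro ⟨hp, hn, h⟩
    have hp' : Group.IsPerfect X := ⟨hp⟩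
    refine ⟨hp', ?_⟩
    have : Nontrivial (X ⧸ center X) := by
      rw [QuotientGroup.nontrivial_iff]
      intro ht
      exact Group.IsPerfect.not_isMulCommutative X (center_eq_top_iff.mp ht)
    refine ⟨fun N hN => ?_⟩
    rcases h (N.comap (QuotientGroup.mk' (center X))) inferInstance with h1 | h1
    · right
      rw [← map_comap_eq_self_of_surjective (QuotientGroup.mk'_surjective (center X)) N, h1,
        map_top_of_surjective _ (QuotientGroup.mk'_surjective _)]
    · left
      rw [← map_comap_eq_self_of_surjective (QuotientGroup.mk'_surjective (center X)) N,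
        Subgroup.map_eq_bot_iff, QuotientGroup.ker_mk']
      exact h1

theorem IsQuasisimple.of_surjective {X Y : Type*} [Group X] [Group Y] (hX : IsQuasisimple X)
    {f : X →* Y} (hf : Function.Surjective f) [Nontrivial Y] : IsQuasisimple Y := by
  have := hX.1
  have hY : Group.IsPerfect Y := Group.IsPerfect.ofSurjective hf
  rw [isQuasisimple_iff] at hX ⊢
  refine ⟨hY.commutator_eq_top, inferInstance, fun N hN => ?_⟩
  rcases hX.2.2 (N.comap f) inferInstance with h | h
  · left
    rw [← map_comap_eq_self_of_surjective hf N, h, map_top_of_surjective _ hf]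
  · right
    intro y hy
    obtain ⟨x, rfl⟩ := hf y
    rw [mem_center_iff]
    intro g
    obtain ⟨g, rfl⟩ := hf g
    rw [← map_mul, ← map_mul, mem_center_iff.mp (h hy)]

theorem IsQuasisimple.nontrivial {X : Type*} [Group X] (hX : IsQuasisimple X) : Nontrivial X :=
  (isQuasisimple_iff.mp hX).2.1

theorem IsQuasisimple.of_equiv {X Y : Type*} [Group X] [Group Y] (hX : IsQuasisimple X)
    (e : X ≃* Y) : IsQuasisimple Y := by
  have := IsQuasisimple.nontrivial hX
  have : Nontrivial Y := e.symm.surjective.nontrivial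
  exact IsQuasisimple.of_surjective hX (f := e.toMonoidHom) e.surjective

theorem isQuasisimple_congr {X Y : Type*} [Group X] [Group Y] (e : X ≃* Y) :
    IsQuasisimple X ↔ IsQuasisimple Y :=
  ⟨fun h => IsQuasisimple.of_equiv h e, fun h => IsQuasisimple.of_equiv h e.symm⟩

theorem IsQuasisimple.not_isSolvable {X : Type*} [Group X] (hX : IsQuasisimple X) :
    ¬ Group.IsSolvable X := by
  have := IsQuasisimple.nontrivial hX
  have := hX.1
  exact Group.IsPerfect.not_isSolvable X

theorem isQuasisimple_of_simple {X : Type*} [Group X] (hs : IsSimpleGroup X)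
    (hna : ¬ IsMulCommutative X) : IsQuasisimple X := by
  rw [isQuasisimple_iff]
  refine ⟨?_, inferInstance, fun N hN => ?_⟩
  · rcases (inferInstance : (commutator X).Normal).eq_bot_or_eq_top with h | h
    · exact absurd ((commutator_eq_bot_iff X).mp h) hna
    · exact h
  · rcases hN.eq_bot_or_eq_top with h | h
    · right; rw [h]; exact bot_le
    · left; exact h

/-- a perfect central extension of a quasisimple group is quasisimple. -/
theorem IsQuasisimple.of_central_ker {X Y : Type*} [Group X] [Group Y] (hY : IsQuasisimple Y)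
    {f : X →* Y} (hf : Function.Surjective f) (hk : f.ker ≤ center X) (hp : commutator X = ⊤) :
    IsQuasisimple X := by
  have := IsQuasisimple.nontrivial hY
  rw [isQuasisimple_iff] at hY ⊢
  refine ⟨hp, hf.nontrivial, fun N hN => ?_⟩
  rcases hY.2.2 (N.map f) (hN.map f hf) with h | h
  · left
    have h1 : N ⊔ center X = ⊤ := by
      have := comap_map_eq f N
      rw [h, comap_top] at this
      rw [eq_top_iff, this]
      exact sup_le_sup_left hk N
    rw [eq_top_iff, ← hp]
    exact Normal.commutator_le_of_self_sup_commutative_eq_top h1 inferInstance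
  · right
    rw [← commutator_top_right_eq_bot_iff_le_center]
    refine comm_bot_of_comm_comm_bot hp ?_
    rw [commutator_top_right_eq_bot_iff_le_center]
    refine le_trans ?_ hk
    rw [← Subgroup.map_eq_bot_iff, map_commutator]
    exact comm_bot_mono (commutator_center_left (⊤ : Subgroup Y)) h le_top

/-- ambient form of quasisimplicity. -/
theorem isQuasisimple_subgroup_iff {K : Subgroup G} :
    IsQuasisimple K ↔ ⁅K, K⁆ = K ∧ K ≠ ⊥ ∧
      ∀ N : Subgroup G, N ≤ K → K ≤ normalizer (N : Set G) → N = K ∨ ⁅N, K⁆ = ⊥ := by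
  rw [isQuasisimple_iff, ← Group.isPerfect_def, isPerfect_iff, nontrivial_iff_ne_bot]
  refine and_congr_right fun _ => and_congr_right fun _ => ⟨fun h N hN hn => ?_, fun h N hN => ?_⟩
  · rcases h (N.subgroupOf K) (normal_subgroupOf_of_le_normalizer hn) with h1 | h1
    · left; exact le_antisymm hN (subgroupOf_eq_top.mp h1)
    · right
      have := map_mono (f := K.subtype) h1
      rw [map_subtype_center, map_subgroupOf_eq_of_le hN] at this
      exact comm_bot_of_le_centralizer (this.trans inf_le_right)
  · have hn : K ≤ normalizer ((N.map K.subtype : Subgroup G) : Set G) := by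
      have := le_normalizer_map (H := N) K.subtype
      rwa [normalizer_eq_top, ← MonoidHom.range_eq_map, range_subtype] at this
    rcases h (N.map K.subtype) (map_subtype_le N) hn with h1 | h1
    · left
      apply map_injective K.subtype_injective
      rw [h1, ← MonoidHom.range_eq_map, range_subtype]
    · right
      rw [← map_subtype_le_map_subtype, map_subtype_center]
      exact le_inf (map_subtype_le N) (le_centralizer_of_comm_bot h1)

theorem IsQuasisimple.perfect {K : Subgroup G} (h : IsQuasisimple K) : ⁅K, K⁆ = K :=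
  (isQuasisimple_subgroup_iff.mp h).1

theorem IsQuasisimple.ne_bot {K : Subgroup G} (h : IsQuasisimple K) : K ≠ ⊥ :=
  (isQuasisimple_subgroup_iff.mp h).2.1

theorem IsQuasisimple.eq_or_comm {K N : Subgroup G} (h : IsQuasisimple K) (hN : N ≤ K)
    (hn : K ≤ normalizer (N : Set G)) : N = K ∨ ⁅N, K⁆ = ⊥ :=
  (isQuasisimple_subgroup_iff.mp h).2.2 N hN hn

theorem IsQuasisimple.comm_ne_bot {K : Subgroup G} (h : IsQuasisimple K) : ⁅K, K⁆ ≠ ⊥ := by
  rw [IsQuasisimple.perfect h]; exact IsQuasisimple.ne_bot h

theorem IsQuasisimple.not_le_of_comm {K X : Subgroup G} (h : IsQuasisimple K) (hc : ⁅K, X⁆ = ⊥) :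
    ¬ K ≤ X := fun hle => IsQuasisimple.comm_ne_bot h (comm_bot_mono hc le_rfl hle)

theorem IsQuasisimple.not_le_of_solvable {K X : Subgroup G} (h : IsQuasisimple K)
    (hX : Group.IsSolvable X) : ¬ K ≤ X :=
  fun hle => IsQuasisimple.not_isSolvable h (solvable_of_le hle hX)

theorem IsQuasisimple.map {G' : Type*} [Group G'] {K : Subgroup G} (h : IsQuasisimple K)
    (f : G →* G') (hne : K.map f ≠ ⊥) : IsQuasisimple (K.map f) := by
  have := (nontrivial_iff_ne_bot _).mpr hne
  exact IsQuasisimple.of_surjective h (f.subgroupMap_surjective K)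

theorem isQuasisimple_map_iff_of_injective {G' : Type*} [Group G'] {K : Subgroup G}
    {f : G →* G'} (hf : Function.Injective f) : IsQuasisimple (K.map f) ↔ IsQuasisimple K :=
  (isQuasisimple_congr (K.equivMapOfInjective f hf)).symm

theorem isQuasisimple_subgroupOf_iff {K H : Subgroup G} (h : K ≤ H) :
    IsQuasisimple (K.subgroupOf H) ↔ IsQuasisimple K :=
  isQuasisimple_congr (subgroupOfEquivOfLe h)

theorem isQuasisimple_top_iff : IsQuasisimple (⊤ : Subgroup G) ↔ IsQuasisimple G :=
  isQuasisimple_congr topEquiv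

/-! ### Components -/

theorem IsComponent.perfect {L : Subgroup G} (h : IsComponent L) : ⁅L, L⁆ = L :=
  IsQuasisimple.perfect h.2

theorem IsComponent.ne_bot {L : Subgroup G} (h : IsComponent L) : L ≠ ⊥ :=
  IsQuasisimple.ne_bot h.2

/-- a component normalizing `X` lies in `X` or centralizes it. -/
theorem IsComponent.le_or_comm_of_le_normalizer {L X : Subgroup G} (hL : IsComponent L)
    (hX : L ≤ normalizer (X : Set G)) : L ≤ X ∨ ⁅L, X⁆ = ⊥ := by
  rcases IsQuasisimple.eq_or_comm hL.2 (inf_le_right : X ⊓ L ≤ L)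
    (le_normalizer_inf hX le_normalizer) with h | h
  · left; rw [← h]; exact inf_le_left
  · right
    exact comm_bot_symm (comm_bot_of_subnormal (IsComponent.perfect hL) hL.1 le_rfl hX h)

theorem IsComponent.le_or_comm {L H : Subgroup G} (hL : IsComponent L) (hH : H.IsSubnormal) :
    L ≤ H ∨ ⁅L, H⁆ = ⊥ := by
  induction hH with
  | top => left; exact le_top
  | step H K hle _ hN ih =>
    rcases ih with h | h
    · exact IsComponent.le_or_comm_of_le_normalizer hL
        (h.trans ((normal_subgroupOf_iff_le_normalizer hle).mp hN))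
    · right; exact comm_bot_mono h le_rfl hle

theorem IsComponent.comm_of_solvable {L H : Subgroup G} (hL : IsComponent L)
    (hs : Group.IsSolvable H) (hn : L ≤ normalizer (H : Set G)) : ⁅L, H⁆ = ⊥ :=
  (IsComponent.le_or_comm_of_le_normalizer hL hn).resolve_left
    (IsQuasisimple.not_le_of_solvable hL.2 hs)

theorem IsComponent.le_normalizer_of_isSubnormal {L H : Subgroup G} (hL : IsComponent L)
    (hH : H.IsSubnormal) : L ≤ normalizer (H : Set G) := by
  rcases IsComponent.le_or_comm hL hH with h | h
  · exact le_normalizer_of_le h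
  · exact le_normalizer_of_comm_bot h

theorem isComponent_top_iff : IsComponent (⊤ : Subgroup G) ↔ IsQuasisimple G :=
  ⟨fun h => isQuasisimple_top_iff.mp h.2, fun h => ⟨IsSubnormal.top, isQuasisimple_top_iff.mpr h⟩⟩

theorem IsQuasisimple.eq_top_or_le_center_of_isSubnormal {X : Type*} [Group X]
    (hX : IsQuasisimple X) {H : Subgroup X} (hH : H.IsSubnormal) : H = ⊤ ∨ H ≤ center X := by
  rcases IsComponent.le_or_comm (isComponent_top_iff.mpr hX) hH with h | h
  · left; exact top_le_iff.mp h
  · right; exact commutator_top_left_eq_bot_iff_le_center.mp h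

/-- a subnormal subgroup of `G` inside the quasisimple group `K` is `K` or central in `K`. -/
theorem IsQuasisimple.eq_or_comm_of_isSubnormal {K H : Subgroup G} (hK : IsQuasisimple K)
    (hle : H ≤ K) (hH : (H.subgroupOf K).IsSubnormal) : H = K ∨ ⁅H, K⁆ = ⊥ := by
  rcases IsQuasisimple.eq_top_or_le_center_of_isSubnormal hK hH with h | h
  · left; exact le_antisymm hle (subgroupOf_eq_top.mp h)
  · right
    have := map_mono (f := K.subtype) h
    rw [map_subtype_center, map_subgroupOf_eq_of_le hle] at this
    exact comm_bot_of_le_centralizer (this.trans inf_le_right)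

theorem IsComponent.eq_of_le {K L : Subgroup G} (hK : IsComponent K) (hL : IsComponent L)
    (h : K ≤ L) : K = L := by
  rcases IsComponent.le_or_comm hL hK.1 with h1 | h1
  · exact le_antisymm h h1
  · exact absurd h (IsQuasisimple.not_le_of_comm hK.2 (comm_bot_symm h1))

theorem IsComponent.eq_or_comm {K L : Subgroup G} (hK : IsComponent K) (hL : IsComponent L) :
    K = L ∨ ⁅K, L⁆ = ⊥ :=
  (IsComponent.le_or_comm hK hL.1).imp_left (IsComponent.eq_of_le hK hL)

theorem IsComponent.map {G' : Type*} [Group G'] {L : Subgroup G} (hL : IsComponent L)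
    {f : G →* G'} (hf : Function.Surjective f) (hne : L.map f ≠ ⊥) : IsComponent (L.map f) :=
  ⟨hL.1.map hf, IsQuasisimple.map hL.2 f hne⟩

theorem IsComponent.map_equiv {G' : Type*} [Group G'] {L : Subgroup G} (hL : IsComponent L)
    (e : G ≃* G') : IsComponent (L.map (e : G →* G')) :=
  ⟨hL.1.map e.surjective, (isQuasisimple_map_iff_of_injective e.injective).mpr hL.2⟩

theorem IsComponent.conj {L : Subgroup G} (hL : IsComponent L) (g : G) :
    IsComponent (L.map (MulAut.conj g).toMonoidHom) :=
  IsComponent.map_equiv hL (MulAut.conj g)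

theorem IsComponent.subgroupOf {L H : Subgroup G} (hL : IsComponent L) (h : L ≤ H) :
    IsComponent (L.subgroupOf H) :=
  ⟨hL.1.subgroupOf, (isQuasisimple_subgroupOf_iff h).mpr hL.2⟩

theorem IsComponent.map_subtype {H : Subgroup G} (hH : H.IsSubnormal) {K : Subgroup H}
    (hK : IsComponent K) : IsComponent (K.map H.subtype) :=
  ⟨hK.1.trans' hH, (isQuasisimple_map_iff_of_injective H.subtype_injective).mpr hK.2⟩

theorem IsComponent.of_map_subtype {H : Subgroup G} {K : Subgroup H}
    (hK : IsComponent (K.map H.subtype)) : IsComponent K := by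
  have := IsComponent.subgroupOf hK (map_subtype_le K)
  rwa [Subgroup.subgroupOf, comap_map_eq_self_of_injective H.subtype_injective] at this

theorem IsComponent.of_subgroupOf {H L : Subgroup G} (hH : H.IsSubnormal) (hle : L ≤ H)
    (hL : IsComponent (L.subgroupOf H)) : IsComponent L := by
  have := IsComponent.map_subtype hH hL
  rwa [map_subgroupOf_eq_of_le hle] at this

/-! ### The layer -/

theorem le_layer {L : Subgroup G} (hL : IsComponent L) : L ≤ layer G := le_sSup hL

theorem layer_le {H : Subgroup G} (h : ∀ L, IsComponent L → L ≤ H) : layer G ≤ H := sSup_le h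

theorem layer_comm {H : Subgroup G} (h : ∀ L : Subgroup G, IsComponent L → ⁅L, H⁆ = ⊥) :
    ⁅layer G, H⁆ = ⊥ :=
  comm_sSup_bot h

theorem layer_eq_bot_iff : layer G = ⊥ ↔ ∀ L : Subgroup G, ¬ IsComponent L := by
  constructor
  · intro h L hL
    exact IsComponent.ne_bot hL (le_bot_iff.mp (h ▸ le_layer hL))
  · intro h
    exact le_bot_iff.mp (layer_le fun L hL => absurd hL (h L))

theorem map_layer_le {G' : Type*} [Group G'] {f : G →* G'} (hf : Function.Surjective f) :
    (layer G).map f ≤ layer G' := by
  rw [map_le_iff_le_comap]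
  refine layer_le fun L hL => ?_
  rw [← map_le_iff_le_comap]
  by_cases h : L.map f = ⊥
  · rw [h]; exact bot_le
  · exact le_layer (IsComponent.map hL hf h)

theorem map_layer_equiv {G' : Type*} [Group G'] (e : G ≃* G') :
    (layer G).map (e : G →* G') = layer G' := by
  refine le_antisymm (map_layer_le e.surjective) fun x hx => ?_
  have : e.symm x ∈ layer G :=
    map_layer_le (f := (e.symm : G' →* G)) e.symm.surjective ⟨x, hx, rfl⟩
  exact ⟨e.symm x, this, by simp⟩

instance layer_characteristic (G : Type*) [Group G] : (layer G).Characteristic :=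
  characteristic_iff_map_eq.mpr fun e => map_layer_equiv e

instance layer_normal (G : Type*) [Group G] : (layer G).Normal := inferInstance

theorem layer_le_normalizer_of_isSubnormal {H : Subgroup G} (hH : H.IsSubnormal) :
    layer G ≤ normalizer (H : Set G) :=
  layer_le fun _ hL => IsComponent.le_normalizer_of_isSubnormal hL hH

theorem layer_perfect (G : Type*) [Group G] : ⁅layer G, layer G⁆ = layer G :=
  le_antisymm (commutator_le_self _) (layer_le fun L hL => by
    rw [← IsComponent.perfect hL]; exact commutator_mono (le_layer hL) (le_layer hL))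

theorem layer_comm_of_solvable {H : Subgroup G} (hs : Group.IsSolvable H)
    (hn : layer G ≤ normalizer (H : Set G)) : ⁅layer G, H⁆ = ⊥ :=
  layer_comm fun _ hL => IsComponent.comm_of_solvable hL hs ((le_layer hL).trans hn)

theorem layer_comm_fitting (G : Type*) [Group G] [Finite G] :
    ⁅layer G, fittingSubgroup G⁆ = ⊥ :=
  layer_comm_of_solvable inferInstance le_normalizer_of_normal

theorem layer_comm_pCore (p : ℕ) [Fact p.Prime] (G : Type*) [Group G] [Finite G] :
    ⁅layer G, pCore p G⁆ = ⊥ :=
  comm_bot_mono (layer_comm_fitting G) le_rfl (H2.pCore_le_fitting p)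

theorem layer_eq_bot_of_solvable [h : Group.IsSolvable G] : layer G = ⊥ :=
  eq_bot_of_perfect_of_solvable (layer_perfect G) inferInstance

/-- the layer of a subgroup, seen in the ambient group -/
theorem map_subtype_layer (H : Subgroup G) :
    (layer H).map H.subtype = sSup {L : Subgroup G | L ≤ H ∧ IsComponent (L.subgroupOf H)} := by
  apply le_antisymm
  · rw [map_le_iff_le_comap]
    refine layer_le fun L hL => ?_
    rw [← map_le_iff_le_comap]
    refine le_sSup ⟨map_subtype_le L, ?_⟩
    rwa [subgroupOf, comap_map_eq_self_of_injective H.subtype_injective]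
  · refine sSup_le fun L hL => ?_
    rw [← map_subgroupOf_eq_of_le hL.1]
    exact map_mono (le_layer hL.2)

theorem le_map_subtype_layer {H L : Subgroup G} (hle : L ≤ H)
    (hL : IsComponent (L.subgroupOf H)) : L ≤ (layer H).map H.subtype := by
  rw [map_subtype_layer]; exact le_sSup ⟨hle, hL⟩

theorem IsComponent.le_map_subtype_layer {H L : Subgroup G} (hL : IsComponent L) (hle : L ≤ H) :
    L ≤ (layer H).map H.subtype :=
  H23.le_map_subtype_layer hle (IsComponent.subgroupOf hL hle)

theorem map_subtype_layer_of_isSubnormal {H : Subgroup G} (hH : H.IsSubnormal) :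
    (layer H).map H.subtype = sSup {L : Subgroup G | IsComponent L ∧ L ≤ H} := by
  rw [map_subtype_layer]
  congr 1
  ext L
  exact ⟨fun h => ⟨IsComponent.of_subgroupOf hH h.1 h.2, h.1⟩,
    fun h => ⟨h.2, IsComponent.subgroupOf h.1 h.2⟩⟩

theorem map_subtype_layer_le {H : Subgroup G} (hH : H.IsSubnormal) :
    (layer H).map H.subtype ≤ layer G := by
  rw [map_subtype_layer_of_isSubnormal hH]
  exact sSup_le fun L hL => le_layer hL.1

theorem layer_le_map_subtype_layer {H : Subgroup G} (h : layer G ≤ H) :
    layer G ≤ (layer H).map H.subtype :=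
  layer_le fun _ hL => IsComponent.le_map_subtype_layer hL ((le_layer hL).trans h)

/-- the product of a set of components is normalized by the layer. -/
theorem layer_le_normalizer_sSup {S : Set (Subgroup G)} (hS : ∀ L ∈ S, IsComponent L) :
    layer G ≤ normalizer ((sSup S : Subgroup G) : Set G) := by
  refine layer_le fun L hL => ?_
  by_cases h : L ∈ S
  · exact le_normalizer_of_le (le_sSup h)
  · refine le_normalizer_of_comm_bot (comm_bot_symm (comm_sSup_bot fun K hK => ?_))
    exact (IsComponent.eq_or_comm (hS K hK) hL).resolve_left (fun e => h (e ▸ hK))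

theorem isSubnormal_sSup_components {S : Set (Subgroup G)} (hS : ∀ L ∈ S, IsComponent L) :
    (sSup S).IsSubnormal :=
  isSubnormal_of_le_normalizer (sSup_le fun L hL => le_layer (hS L hL))
    (layer_le_normalizer_sSup hS) (layer_normal G).isSubnormal

/-- a component contained in a product of components is one of them. -/
theorem IsComponent.mem_of_le_sSup {S : Set (Subgroup G)} (hS : ∀ L ∈ S, IsComponent L)
    {K : Subgroup G} (hK : IsComponent K) (h : K ≤ sSup S) : K ∈ S := by
  by_contra hn
  refine IsQuasisimple.not_le_of_comm hK.2 (comm_bot_symm (comm_sSup_bot fun L hL => ?_)) h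
  exact (IsComponent.eq_or_comm (hS L hL) hK).resolve_left (fun e => hn (e ▸ hL))

/-- an abelian subgroup normalized by the layer and contained in it lies in `F(G)`. -/
theorem le_fitting_of_le_layer [Finite G] {Z : Subgroup G} (hZ : Z ≤ layer G)
    (hn : layer G ≤ normalizer (Z : Set G)) (hc : ⁅Z, Z⁆ = ⊥) : Z ≤ fittingSubgroup G := by
  have := commutator_self_eq_bot_iff.mp hc
  exact H2.le_fitting_of_isSubnormal
    (isSubnormal_of_le_normalizer hZ hn (layer_normal G).isSubnormal)
    (H2.isNilpotent_of_isMulCommutative Z)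

theorem center_le_fitting_of_isSubnormal [Finite G] {H : Subgroup G} (hH : H.IsSubnormal) :
    H ⊓ centralizer (H : Set G) ≤ fittingSubgroup G := by
  have hc : ⁅H ⊓ centralizer (H : Set G), H ⊓ centralizer (H : Set G)⁆ = ⊥ :=
    comm_bot_mono (comm_bot_of_le_centralizer (le_refl (centralizer (H : Set G))))
      inf_le_right inf_le_left
  have := commutator_self_eq_bot_iff.mp hc
  exact H2.le_fitting_of_isSubnormal
    (isSubnormal_of_le_normalizer inf_le_left
      (le_normalizer_inf le_normalizer (le_normalizer_centralizer le_normalizer)) hH)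
    (H2.isNilpotent_of_isMulCommutative _)

theorem center_sSup_components [Finite G] (S : Set (Subgroup G)) (hS : ∀ L ∈ S, IsComponent L) :
    sSup S ⊓ centralizer ((sSup S : Subgroup G) : Set G) ≤
      ⨆ L ∈ S, L ⊓ centralizer (L : Set G) := by
  induction S, Set.toFinite S using Set.Finite.induction_on with
  | empty => simp
  | @insert L S hL _ ih =>
    have hS' : ∀ K ∈ S, IsComponent K := fun K hK => hS K (Set.mem_insert_of_mem _ hK)
    have hLc : IsComponent L := hS L (Set.mem_insert _ _)
    have hcomm : ⁅sSup S, L⁆ = ⊥ := comm_sSup_bot fun K hK =>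
      (IsComponent.eq_or_comm (hS' K hK) hLc).resolve_left (fun e => hL (e ▸ hK))
    rw [sSup_insert, iSup_insert]
    rintro z ⟨hz, hzc⟩
    obtain ⟨l, hl, c, hc, rfl⟩ :=
      mem_sup_of_le_normalizer_left (le_normalizer_of_comm_bot hcomm) hz
    have hc1 : c ∈ centralizer (L : Set G) := le_centralizer_of_comm_bot hcomm hc
    have hl1 : l ∈ centralizer ((sSup S : Subgroup G) : Set G) :=
      le_centralizer_of_comm_bot (comm_bot_symm hcomm) hl
    have hz1 : l * c ∈ centralizer (L : Set G) := centralizer_le (by exact le_sup_left (a := L)) hzc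
    have hz2 : l * c ∈ centralizer ((sSup S : Subgroup G) : Set G) :=
      centralizer_le (by exact le_sup_right (a := L)) hzc
    refine mul_mem_sup ⟨hl, ?_⟩ (ih hS' ⟨hc, ?_⟩)
    · exact (mul_mem_cancel_right hc1).mp hz1
    · exact (mul_mem_cancel_left hl1).mp hz2

theorem component_center_le_center_layer {L : Subgroup G} (hL : IsComponent L) :
    L ⊓ centralizer (L : Set G) ≤ layer G ⊓ centralizer ((layer G : Subgroup G) : Set G) := by
  refine le_inf (inf_le_left.trans (le_layer hL)) ?_
  refine le_centralizer_of_comm_bot (comm_bot_symm (layer_comm fun K hK => ?_))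
  rcases IsComponent.eq_or_comm hK hL with h | h
  · rw [h]; exact comm_bot_symm (comm_bot_of_le_centralizer inf_le_right)
  · exact comm_bot_mono h le_rfl inf_le_left

theorem center_layer_eq [Finite G] :
    layer G ⊓ centralizer ((layer G : Subgroup G) : Set G) = fittingSubgroup G ⊓ layer G :=
  le_antisymm (le_inf (center_le_fitting_of_isSubnormal (layer_normal G).isSubnormal) inf_le_left)
    (le_inf inf_le_right (inf_le_left.trans
      (le_centralizer_of_comm_bot (comm_bot_symm (layer_comm_fitting G)))))

/-! ### The generalized Fitting subgroup -/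

theorem layer_le_fstar (G : Type*) [Group G] : layer G ≤ generalizedFittingSubgroup G :=
  le_sup_left

theorem fitting_le_fstar (G : Type*) [Group G] :
    fittingSubgroup G ≤ generalizedFittingSubgroup G := le_sup_right

theorem map_fstar_le {G' : Type*} [Group G'] {f : G →* G'} (hf : Function.Surjective f) :
    (generalizedFittingSubgroup G).map f ≤ generalizedFittingSubgroup G' := by
  rw [generalizedFittingSubgroup, Subgroup.map_sup]
  exact sup_le_sup (map_layer_le hf) (H2.map_fitting_le hf)

theorem map_fstar_equiv {G' : Type*} [Group G'] (e : G ≃* G') :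
    (generalizedFittingSubgroup G).map (e : G →* G') = generalizedFittingSubgroup G' := by
  rw [generalizedFittingSubgroup, Subgroup.map_sup, map_layer_equiv, H2.map_fitting_equiv]; rfl

instance fstar_characteristic (G : Type*) [Group G] :
    (generalizedFittingSubgroup G).Characteristic :=
  characteristic_iff_map_eq.mpr fun e => map_fstar_equiv e

instance fstar_normal (G : Type*) [Group G] : (generalizedFittingSubgroup G).Normal :=
  inferInstance

theorem map_subtype_fstar_le [Finite G] {H : Subgroup G} (hH : H.IsSubnormal) :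
    (generalizedFittingSubgroup H).map H.subtype ≤ generalizedFittingSubgroup G := by
  rw [generalizedFittingSubgroup, Subgroup.map_sup]
  exact sup_le_sup (map_subtype_layer_le hH) (H2.IsSubnormal.le_fitting hH)

/-- a subnormal subgroup centralizing `F(G)` and not contained in it contains a component. -/
theorem exists_component_le [Finite G] {H : Subgroup G} (hH : H.IsSubnormal)
    (hc : H ≤ centralizer (fittingSubgroup G : Set G)) (hn : ¬ H ≤ fittingSubgroup G) :
    ∃ L : Subgroup G, IsComponent L ∧ L ≤ H := by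
  induction H using WellFoundedLT.induction with | ind H ih
  by_cases h : ∃ N : Subgroup G, N < H ∧ H ≤ normalizer (N : Set G) ∧ ¬ N ≤ fittingSubgroup G
  · obtain ⟨N, hlt, hN, hNF⟩ := h
    obtain ⟨L, hL, hLN⟩ := ih N hlt (isSubnormal_of_le_normalizer hlt.le hN hH)
      (hlt.le.trans hc) hNF
    exact ⟨L, hL, hLN.trans hlt.le⟩
  · push Not at h
    have key : ∀ N : Subgroup G, N ≤ H → H ≤ normalizer (N : Set G) → N = H ∨ ⁅N, H⁆ = ⊥ := by
      intro N hN hn'
      rcases hN.eq_or_lt with e | hlt
      · left; exact e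
      · right
        exact comm_bot_symm (comm_bot_mono (comm_bot_of_le_centralizer hc) le_rfl (h N hlt hn'))
    refine ⟨H, ⟨hH, isQuasisimple_subgroup_iff.mpr ⟨?_, ?_, key⟩⟩, le_rfl⟩
    · rcases key ⁅H, H⁆ (commutator_le_self H) (normalizer_commutator_ge_left H H) with e | e
      · exact e
      · exact absurd (H2.le_fitting_of_isSubnormal hH (isNilpotent_of_comm_comm_bot e)) hn
    · rintro rfl; exact hn bot_le

theorem centralizer_fstar_le_fitting [Finite G] :
    centralizer (generalizedFittingSubgroup G : Set G) ≤ fittingSubgroup G := by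
  by_contra hn
  obtain ⟨L, hL, hle⟩ := exists_component_le
    (normal_centralizer (H := generalizedFittingSubgroup G)).isSubnormal
    (centralizer_le (fitting_le_fstar G)) hn
  exact IsQuasisimple.comm_ne_bot hL.2 (comm_bot_mono (comm_bot_of_le_centralizer hle) le_rfl
    ((le_layer hL).trans (layer_le_fstar G)))

theorem centralizer_fstar_le [Finite G] :
    centralizer (generalizedFittingSubgroup G : Set G) ≤ generalizedFittingSubgroup G :=
  centralizer_fstar_le_fitting.trans (fitting_le_fstar G)

/-- a subgroup centralizing `E(G)` and `F(G)` lies in `F(G)`. -/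
theorem le_fitting_of_comm [Finite G] {X : Subgroup G} (h1 : ⁅X, layer G⁆ = ⊥)
    (h2 : ⁅X, fittingSubgroup G⁆ = ⊥) : X ≤ fittingSubgroup G :=
  (le_centralizer_of_comm_bot (comm_bot_symm
    (comm_sup_bot (comm_bot_symm h1) (comm_bot_symm h2)))).trans centralizer_fstar_le_fitting

theorem le_fitting_of_solvable_subnormal [Finite G] {H : Subgroup G} (hH : H.IsSubnormal)
    (hc : H ≤ centralizer (fittingSubgroup G : Set G)) (hs : Group.IsSolvable H) :
    H ≤ fittingSubgroup G := by
  by_contra hn
  obtain ⟨L, hL, hle⟩ := exists_component_le hH hc hn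
  exact IsQuasisimple.not_le_of_solvable hL.2 hs hle

theorem centralizer_fitting_le_iff [Finite G] :
    centralizer (fittingSubgroup G : Set G) ≤ fittingSubgroup G ↔ layer G = ⊥ := by
  constructor
  · intro h
    exact eq_bot_of_perfect_of_solvable (layer_perfect G) (solvable_of_le
      ((le_centralizer_of_comm_bot (layer_comm_fitting G)).trans h) inferInstance)
  · intro h
    by_contra hn
    obtain ⟨L, hL, -⟩ := exists_component_le
      (normal_centralizer (H := fittingSubgroup G)).isSubnormal le_rfl hn
    exact layer_eq_bot_iff.mp h L hL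

theorem fstar_eq_fitting_of_layer_eq_bot (h : layer G = ⊥) :
    generalizedFittingSubgroup G = fittingSubgroup G := by
  rw [generalizedFittingSubgroup, h, bot_sup_eq]

theorem layer_le_of_centralizer_le {Y : Subgroup G} (hY : Y.IsSubnormal)
    (hC : centralizer (Y : Set G) ≤ Y) : layer G ≤ Y :=
  layer_le fun _ hL => (IsComponent.le_or_comm hL hY).elim id
    fun h => (le_centralizer_of_comm_bot h).trans hC

/-- a subnormal subgroup of `G` inside `F*(G)` is the product of its components and
its intersection with `F(G)`. -/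
theorem le_layer_sup_of_le_fstar [Finite G] {S : Subgroup G} (hS : S.IsSubnormal)
    (hle : S ≤ generalizedFittingSubgroup G) :
    S ≤ (layer S).map S.subtype ⊔ (fittingSubgroup G ⊓ S) := by
  rw [map_subtype_layer_of_isSubnormal hS]
  set E₁ := sSup {L : Subgroup G | IsComponent L ∧ L ≤ S} with hE₁
  set E₂ := sSup {L : Subgroup G | IsComponent L ∧ ¬ L ≤ S} with hE₂
  have hE₁S : E₁ ≤ S := sSup_le fun L hL => hL.2
  have hE₂S : ⁅E₂, S⁆ = ⊥ := comm_sSup_bot fun L hL =>
    (IsComponent.le_or_comm hL.1 hS).resolve_left hL.2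
  have hE₂E : E₂ ≤ layer G := sSup_le fun L hL => le_layer hL.1
  have hE : layer G ≤ E₁ ⊔ E₂ := layer_le fun L hL => by
    by_cases h : L ≤ S
    · exact (le_sSup (show L ∈ {L : Subgroup G | IsComponent L ∧ L ≤ S} from ⟨hL, h⟩)).trans
        le_sup_left
    · exact (le_sSup (show L ∈ {L : Subgroup G | IsComponent L ∧ ¬ L ≤ S} from ⟨hL, h⟩)).trans
        le_sup_right
  intro s hs
  obtain ⟨e, he, f, hf, rfl⟩ := mem_sup_of_normal_right.mp (hle hs)
  obtain ⟨e₁, he₁, e₂, he₂, rfl⟩ := mem_sup_of_le_normalizer_left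
    (le_normalizer_of_comm_bot (comm_bot_mono hE₂S le_rfl hE₁S)) (hE he)
  rw [mul_assoc] at hs ⊢
  have h1 : e₂ * f ∈ S := (mul_mem_cancel_left (hE₁S he₁)).mp hs
  refine mul_mem_sup he₁ ⟨mul_mem ?_ hf, h1⟩
  refine center_le_fitting_of_isSubnormal
    (isSubnormal_sSup_components (S := {L : Subgroup G | IsComponent L ∧ ¬ L ≤ S})
      fun L hL => hL.1) ⟨he₂, ?_⟩
  have h2 : e₂ * f ∈ centralizer (E₂ : Set G) :=
    le_centralizer_of_comm_bot (comm_bot_symm hE₂S) h1
  have h3 : f ∈ centralizer (E₂ : Set G) :=
    le_centralizer_of_comm_bot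
      (comm_bot_symm (comm_bot_mono (layer_comm_fitting G) hE₂E le_rfl)) hf
  exact (mul_mem_cancel_right h3).mp h2

theorem map_subtype_fitting_of_isSubnormal [Finite G] {S : Subgroup G} (hS : S.IsSubnormal) :
    (fittingSubgroup S).map S.subtype = fittingSubgroup G ⊓ S := by
  refine le_antisymm (le_inf (H2.IsSubnormal.le_fitting hS) (map_subtype_le _)) ?_
  rw [← subgroupOf_map_subtype]
  exact map_mono (H2.fitting_subgroupOf_le S)

theorem map_subtype_fstar_of_isSubnormal [Finite G] {S : Subgroup G} (hS : S.IsSubnormal) :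
    (generalizedFittingSubgroup S).map S.subtype = generalizedFittingSubgroup G ⊓ S := by
  refine le_antisymm (le_inf (map_subtype_fstar_le hS) (map_subtype_le _)) ?_
  have hT : (generalizedFittingSubgroup G ⊓ S).IsSubnormal :=
    (fstar_normal G).isSubnormal.inf hS
  refine (le_layer_sup_of_le_fstar hT inf_le_left).trans ?_
  conv_rhs => rw [generalizedFittingSubgroup, Subgroup.map_sup,
    map_subtype_fitting_of_isSubnormal hS]
  refine sup_le_sup ?_ (inf_le_inf_left _ inf_le_right)
  rw [map_subtype_layer_of_isSubnormal hT, map_subtype_layer_of_isSubnormal hS]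
  exact sSup_le_sSup fun L hL => ⟨hL.1, hL.2.trans inf_le_right⟩

theorem fstar_ne_bot [Finite G] [Nontrivial G] : generalizedFittingSubgroup G ≠ ⊥ := by
  intro h
  have := centralizer_fstar_le (G := G)
  rw [h] at this
  obtain ⟨x, hx⟩ := exists_ne (1 : G)
  exact hx (this (by simp [mem_centralizer_iff]))

/-- `F*(G) = O_p(G)` if and only if `O_p(G)` contains its centralizer. -/
theorem fstar_eq_pCore_iff [Finite G] {p : ℕ} [Fact p.Prime] :
    generalizedFittingSubgroup G = pCore p G ↔ centralizer (pCore p G : Set G) ≤ pCore p G := by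
  constructor
  · intro h; rw [← h]; exact centralizer_fstar_le
  · intro h
    refine le_antisymm (sup_le (layer_le_of_centralizer_le (pCore_normal p G).isSubnormal h) ?_)
      ((H2.pCore_le_fitting p).trans (fitting_le_fstar G))
    exact (H2.fitting_le_pCore_sup_pPrimeCore p).trans
      (sup_le le_rfl ((H2.pPrimeCore_le_centralizer_pCore p).trans h))

theorem fstar_eq_pCore_iff_isPGroup [Finite G] {p : ℕ} [Fact p.Prime] :
    generalizedFittingSubgroup G = pCore p G ↔ IsPGroup p (generalizedFittingSubgroup G) :=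
  ⟨fun h => h ▸ H2.pCore_isPGroup p G, fun h => le_antisymm (H2.le_pCore inferInstance h)
    ((H2.pCore_le_fitting p).trans (fitting_le_fstar G))⟩

theorem fstar_eq_pCore_iff' [Finite G] {p : ℕ} [Fact p.Prime] :
    generalizedFittingSubgroup G = pCore p G ↔ layer G = ⊥ ∧ pPrimeCore p G = ⊥ := by
  constructor
  · intro h
    refine ⟨?_, ?_⟩
    · have : Group.IsNilpotent (pCore p G) := (H2.pCore_isPGroup p G).isNilpotent
      exact eq_bot_of_perfect_of_solvable (layer_perfect G)
        (solvable_of_le (h ▸ layer_le_fstar G) inferInstance)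
    · have h1 := (H2.pPrimeCore_le_centralizer_pCore p).trans (fstar_eq_pCore_iff.mp h)
      rw [← H2.pCore_inf_pPrimeCore (G := G) p]
      exact (inf_eq_right.mpr h1).symm
  · rintro ⟨h1, h2⟩
    rw [fstar_eq_fitting_of_layer_eq_bot h1, H2.fitting_eq_pCore_of_pPrimeCore_eq_bot h2]

end H23
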