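import Mathlib
import Cfsg.Prelude.Def_Local
import Cfsg.Agent.H2.Frattini
import Cfsg.Agent.H1.Coprime
import Cfsg.Agent.H23.Components

/-!
# Relative cores `O_{p'}(H)`, `O_p(H)` inside an ambient group, and `O^{p'}(H)`
-/

set_option autoImplicit false

namespace H23

open Cfsg Subgroup

variable {G : Type*} [Group G] {G' : Type*} [Group G']

/-! ### coprimality helpers -/

theorem cop_of_le {p : ℕ} {H K : Subgroup G} (hK : (Nat.card K).Coprime p) (h : H ≤ K) :
    (Nat.card H).Coprime p :=
  Nat.Coprime.coprime_dvd_left (card_dvd_of_le h) hK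

theorem cop_map {p : ℕ} {H : Subgroup G} (hH : (Nat.card H).Coprime p) (f : G →* G') :
    (Nat.card (H.map f)).Coprime p :=
  Nat.Coprime.coprime_dvd_left (card_map_dvd _ _) hH

theorem cop_subgroupOf {p : ℕ} {H : Subgroup G} (hH : (Nat.card H).Coprime p) (K : Subgroup G) :
    (Nat.card (H.subgroupOf K)).Coprime p := by
  rw [H2.card_subgroupOf]; exact cop_of_le hH inf_le_left

theorem cop_sup {p : ℕ} {H K : Subgroup G} (hH : (Nat.card H).Coprime p)
    (hK : (Nat.card K).Coprime p) (h : H ≤ normalizer (K : Set G)) :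
    (Nat.card ↥(H ⊔ K)).Coprime p :=
  Nat.Coprime.coprime_dvd_left (H2.card_sup_dvd_of_le_normalizer h) (hH.mul_left hK)

theorem card_comap_eq (f : G →* G') (K : Subgroup G') :
    Nat.card (K.comap f) = Nat.card f.ker * Nat.card ((K.comap f).map f) := by
  rw [← relIndex_ker, H2.card_mul_relIndex (ker_le_comap f K)]

theorem cop_comap {p : ℕ} {K : Subgroup G'} (hK : (Nat.card K).Coprime p) {f : G →* G'}
    (hf : (Nat.card f.ker).Coprime p) : (Nat.card (K.comap f)).Coprime p := by
  rw [card_comap_eq]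
  exact hf.mul_left (cop_of_le hK (map_comap_le f K))

theorem cop_iff_not_dvd {p n : ℕ} [hp : Fact p.Prime] : n.Coprime p ↔ ¬ p ∣ n :=
  Nat.coprime_comm.trans hp.out.coprime_iff_not_dvd

theorem cop_two_iff_odd {n : ℕ} : n.Coprime 2 ↔ Odd n := Nat.coprime_two_right

theorem cop_card_of_isPGroup [Finite G] {p : ℕ} {P K : Subgroup G} (hP : IsPGroup p P)
    (hK : (Nat.card K).Coprime p) : (Nat.card P).Coprime (Nat.card K) :=
  (H1.card_coprime_of_isPGroup hP hK).symm

theorem solv_of_isPGroup [Finite G] {p : ℕ} [Fact p.Prime] {P : Subgroup G} (hP : IsPGroup p P) :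
    Group.IsSolvable P := H1.solvable_of_isPGroup hP

theorem inf_eq_bot_of_isPGroup_of_cop [Finite G] {p : ℕ} {P K : Subgroup G} (hP : IsPGroup p P)
    (hK : (Nat.card K).Coprime p) : P ⊓ K = ⊥ :=
  H2.IsPGroup.eq_bot_of_coprime hP.to_inf_left (cop_of_le hK inf_le_right)

theorem isPGroup_sup {p : ℕ} {H K : Subgroup G} (hH : IsPGroup p H) (hK : IsPGroup p K)
    (h : H ≤ normalizer (K : Set G)) : IsPGroup p ↥(H ⊔ K) :=
  hH.to_sup_of_normal_right' hK h

theorem isPGroup_zpowers_of_orderOf {p : ℕ} {x : G} (hx : orderOf x = p) :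
    IsPGroup p (zpowers x) :=
  IsPGroup.of_card (n := 1) (by rw [Nat.card_zpowers, hx, pow_one])

theorem isPGroup_zpowers_of_pow {p : ℕ} {x : G} (hx : x ^ p = 1) : IsPGroup p (zpowers x) :=
  IsPGroup.of_card_dvd_pow (n := 1)
    (by rw [Nat.card_zpowers, pow_one]; exact orderOf_dvd_of_pow_eq_one hx)

theorem exists_pow_orderOf_coprime [Finite G] (p : ℕ) [hp : Fact p.Prime] (x : G) :
    ∃ k : ℕ, (orderOf (x ^ p ^ k)).Coprime p := by
  have h0 : orderOf x ≠ 0 := (orderOf_pos x).ne'
  obtain ⟨k, m, hm, e⟩ := Nat.exists_eq_pow_mul_and_not_dvd h0 p hp.out.ne_one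
  refine ⟨k, ?_⟩
  rw [orderOf_pow, e, Nat.gcd_mul_right_left, Nat.mul_div_cancel_left _ (pow_pos hp.out.pos k)]
  exact cop_iff_not_dvd.mpr hm

theorem mem_of_pow_mem_of_coprime [Finite G] {H : Subgroup G} {x : G} {n : ℕ}
    (hc : (orderOf x).Coprime n) (h : x ^ n ∈ H) : x ∈ H := by
  obtain ⟨m, hm⟩ := exists_pow_eq_self_of_coprime hc.symm
  rw [← hm]; exact H.pow_mem h m

theorem centralizer_zpowers (x : G) :
    centralizer ((zpowers x : Subgroup G) : Set G) = centralizer {x} := by
  rw [zpowers_eq_closure, centralizer_closure]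

theorem centralizer_sup (H K : Subgroup G) :
    centralizer ((H ⊔ K : Subgroup G) : Set G) =
      centralizer (H : Set G) ⊓ centralizer (K : Set G) := by
  apply le_antisymm
  · exact le_inf (H2.centralizer_anti le_sup_left) (H2.centralizer_anti le_sup_right)
  · rw [le_centralizer_iff]
    exact sup_le (le_centralizer_iff.mp inf_le_left) (le_centralizer_iff.mp inf_le_right)

theorem mem_centralizer_singleton_self (x : G) : x ∈ centralizer ({x} : Set G) :=
  mem_centralizer_singleton_iff.mpr rfl

theorem centralizer_le_centralizer_singleton {A : Subgroup G} {a : G} (ha : a ∈ A) :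
    centralizer (A : Set G) ≤ centralizer {a} :=
  centralizer_le (Set.singleton_subset_iff.mpr ha)

theorem map_conj_conj_inv (H : Subgroup G) (g : G) :
    (H.map (MulAut.conj g).toMonoidHom).map (MulAut.conj g⁻¹).toMonoidHom = H := by
  ext x; simp [mul_assoc]

theorem map_conj_mul (H : Subgroup G) (g h : G) :
    H.map (MulAut.conj (g * h)).toMonoidHom =
      (H.map (MulAut.conj h).toMonoidHom).map (MulAut.conj g).toMonoidHom := by
  ext x; simp only [mem_map_conj, mul_inv_rev, mul_assoc]

theorem map_conj_one (H : Subgroup G) : H.map (MulAut.conj (1 : G)).toMonoidHom = H := by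
  ext x; simp

theorem card_map_conj (H : Subgroup G) (g : G) :
    Nat.card (H.map (MulAut.conj g).toMonoidHom) = Nat.card H :=
  card_map_of_injective (MulAut.conj g).injective

theorem normalizer_le_normalizer_map_subtype {K : Subgroup G} (H : Subgroup K)
    [H.Characteristic] :
    normalizer (K : Set G) ≤ normalizer ((H.map K.subtype : Subgroup G) : Set G) :=
  H1.le_normalizer_map_subtype le_rfl H

theorem le_normalizer_map_subtype_of_normal {K : Subgroup G} (H : Subgroup K) [H.Normal] :
    K ≤ normalizer ((H.map K.subtype : Subgroup G) : Set G) := by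
  have := le_normalizer_map (H := H) K.subtype
  rwa [normalizer_eq_top, ← MonoidHom.range_eq_map, range_subtype] at this

theorem map_subtype_top (K : Subgroup G) : (⊤ : Subgroup K).map K.subtype = K := by
  rw [← MonoidHom.range_eq_map, range_subtype]

theorem comap_map_subtype {K : Subgroup G} (H : Subgroup K) :
    (H.map K.subtype).subgroupOf K = H :=
  comap_map_eq_self_of_injective K.subtype_injective H

theorem map_le_normalizer_map {H K : Subgroup G} (h : H ≤ normalizer (K : Set G)) (f : G →* G') :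
    H.map f ≤ normalizer ((K.map f : Subgroup G') : Set G') :=
  (map_mono h).trans (le_normalizer_map f)

theorem comap_le_normalizer_comap {H K : Subgroup G'} (h : H ≤ normalizer (K : Set G'))
    (f : G →* G') : H.comap f ≤ normalizer ((K.comap f : Subgroup G) : Set G) :=
  (comap_mono h).trans (le_normalizer_comap f)

theorem map_comm_bot {H K : Subgroup G} (h : ⁅H, K⁆ = ⊥) (f : G →* G') :
    ⁅H.map f, K.map f⁆ = ⊥ := by
  rw [← map_commutator, h, Subgroup.map_bot]

theorem comm_bot_of_map_injective {H K : Subgroup G} {f : G →* G'} (hf : Function.Injective f)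
    (h : ⁅H.map f, K.map f⁆ = ⊥) : ⁅H, K⁆ = ⊥ := by
  rw [← map_commutator] at h
  exact (map_eq_bot_iff_of_injective _ hf).mp h

theorem comm_subgroupOf_bot {H K : Subgroup G} (h : ⁅H, K⁆ = ⊥) (L : Subgroup G) :
    ⁅H.subgroupOf L, K.subgroupOf L⁆ = ⊥ :=
  comm_bot_of_map_injective L.subtype_injective
    (comm_bot_mono h (map_comap_le _ _) (map_comap_le _ _))

theorem comm_bot_of_subgroupOf {H K L : Subgroup G} (hH : H ≤ L) (hK : K ≤ L)
    (h : ⁅H.subgroupOf L, K.subgroupOf L⁆ = ⊥) : ⁅H, K⁆ = ⊥ := by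
  have := map_comm_bot h L.subtype
  rwa [map_subgroupOf_eq_of_le hH, map_subgroupOf_eq_of_le hK] at this

theorem comm_le_ker_iff {H K : Subgroup G} {f : G →* G'} :
    ⁅H, K⁆ ≤ f.ker ↔ ⁅H.map f, K.map f⁆ = ⊥ := by
  rw [← map_commutator, Subgroup.map_eq_bot_iff]

/-! ### `O_{p'}(H)` -/

/-- `O_{p'}(H)` as a subgroup of the ambient group. -/
abbrev opp (p : ℕ) (H : Subgroup G) : Subgroup G := (pPrimeCore p H).map H.subtype

theorem opp_le (p : ℕ) (H : Subgroup G) : opp p H ≤ H := map_subtype_le _

theorem opp_cop [Finite G] (p : ℕ) (H : Subgroup G) : (Nat.card (opp p H)).Coprime p :=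
  cop_map (H2.pPrimeCore_coprime p H) _

theorem normalizer_le_normalizer_opp (p : ℕ) (H : Subgroup G) :
    normalizer (H : Set G) ≤ normalizer ((opp p H : Subgroup G) : Set G) :=
  normalizer_le_normalizer_map_subtype _

theorem le_normalizer_opp (p : ℕ) {A H : Subgroup G} (h : A ≤ normalizer (H : Set G)) :
    A ≤ normalizer ((opp p H : Subgroup G) : Set G) :=
  h.trans (normalizer_le_normalizer_opp p H)

theorem le_opp {p : ℕ} {K H : Subgroup G} (hle : K ≤ H) (hn : H ≤ normalizer (K : Set G))
    (hc : (Nat.card K).Coprime p) : K ≤ opp p H := by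
  rw [← map_subgroupOf_eq_of_le hle]
  exact map_mono (H2.le_pPrimeCore (normal_subgroupOf_of_le_normalizer hn)
    (by rwa [H2.card_subgroupOf_of_le hle]))

theorem le_opp_of_isSubnormal [Finite G] {p : ℕ} {K H : Subgroup G} (hle : K ≤ H)
    (hn : (K.subgroupOf H).IsSubnormal) (hc : (Nat.card K).Coprime p) : K ≤ opp p H := by
  rw [← map_subgroupOf_eq_of_le hle]
  exact map_mono (H2.le_pPrimeCore_of_isSubnormal hn (by rwa [H2.card_subgroupOf_of_le hle]))

theorem opp_top [Finite G] (p : ℕ) : opp p (⊤ : Subgroup G) = pPrimeCore p G := by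
  rw [opp, H2.map_subtype_pPrimeCore_eq, inf_top_eq]

theorem opp_mono [Finite G] {p : ℕ} {K H : Subgroup G} (hle : K ≤ H)
    (hn : H ≤ normalizer (K : Set G)) : opp p K ≤ opp p H :=
  le_opp ((opp_le p K).trans hle) (le_normalizer_opp p hn) (opp_cop p K)

theorem opp_inf_le [Finite G] {p : ℕ} {K H : Subgroup G} (hle : K ≤ H) :
    opp p H ⊓ K ≤ opp p K :=
  le_opp inf_le_right
    (le_normalizer_inf (le_normalizer_opp p (le_normalizer_of_le hle)) le_normalizer)
    (cop_of_le (opp_cop p H) inf_le_left)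

theorem le_opp_of_le_opp [Finite G] {p : ℕ} {Y K H : Subgroup G} (hY : Y ≤ opp p H) (hYK : Y ≤ K)
    (hle : K ≤ H) : Y ≤ opp p K := (le_inf hY hYK).trans (opp_inf_le hle)

theorem pPrimeCore_inf_le_opp [Finite G] (p : ℕ) (K : Subgroup G) :
    pPrimeCore p G ⊓ K ≤ opp p K := by
  rw [← opp_top]; exact opp_inf_le le_top

theorem opp_of_isSubnormal [Finite G] {p : ℕ} {K : Subgroup G} (hK : K.IsSubnormal) :
    opp p K = pPrimeCore p G ⊓ K :=
  le_antisymm (le_inf (H2.IsSubnormal.le_pPrimeCore hK) (opp_le p K)) (pPrimeCore_inf_le_opp p K)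

theorem pPrimeCore_eq_subgroupOf_of_isSubnormal [Finite G] {p : ℕ} {K : Subgroup G}
    (hK : K.IsSubnormal) : pPrimeCore p K = (pPrimeCore p G).subgroupOf K := by
  apply map_injective K.subtype_injective
  rw [subgroupOf_map_subtype]; exact opp_of_isSubnormal hK

theorem map_opp_le [Finite G] (p : ℕ) (H : Subgroup G) (f : G →* G') :
    (opp p H).map f ≤ opp p (H.map f) :=
  le_opp (map_mono (opp_le p H)) (map_le_normalizer_map (le_normalizer_opp p le_normalizer) f)
    (cop_map (opp_cop p H) f)

theorem comap_opp_le [Finite G'] {p : ℕ} (H : Subgroup G') {f : G →* G'}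
    (hf : (Nat.card f.ker).Coprime p) : (opp p H).comap f ≤ opp p (H.comap f) :=
  le_opp (comap_mono (opp_le p H))
    (comap_le_normalizer_comap (le_normalizer_opp p le_normalizer) f) (cop_comap (opp_cop p H) hf)

theorem cop_ker_of_injective {p : ℕ} {f : G →* G'} (hf : Function.Injective f) :
    (Nat.card f.ker).Coprime p := by
  rw [(MonoidHom.ker_eq_bot_iff f).mpr hf]; simp

theorem map_opp_of_injective [Finite G] [Finite G'] (p : ℕ) (H : Subgroup G) {f : G →* G'}
    (hf : Function.Injective f) : (opp p H).map f = opp p (H.map f) := by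
  refine le_antisymm (map_opp_le p H f) ?_
  have h1 := comap_opp_le (p := p) (H.map f) (cop_ker_of_injective hf)
  rw [comap_map_eq_self_of_injective hf] at h1
  have h2 : opp p (H.map f) ≤ f.range := (opp_le p _).trans (map_le_range f H)
  rw [← map_comap_eq_self h2]
  exact map_mono h1

theorem opp_subgroupOf [Finite G] (p : ℕ) {H K : Subgroup G} (h : H ≤ K) :
    opp p (H.subgroupOf K) = (opp p H).subgroupOf K := by
  apply map_injective K.subtype_injective
  rw [map_opp_of_injective p _ K.subtype_injective, map_subgroupOf_eq_of_le h,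
    map_subgroupOf_eq_of_le ((opp_le p H).trans h)]

theorem opp_eq_bot_iff {p : ℕ} {H : Subgroup G} : opp p H = ⊥ ↔ pPrimeCore p H = ⊥ :=
  map_eq_bot_iff_of_injective _ H.subtype_injective

theorem opp_eq_self [Finite G] {p : ℕ} {H : Subgroup G} (h : (Nat.card H).Coprime p) :
    opp p H = H :=
  le_antisymm (opp_le p H) (le_opp le_rfl le_normalizer h)

theorem map_conj_opp [Finite G] (p : ℕ) (H : Subgroup G) (g : G) :
    (opp p H).map (MulAut.conj g).toMonoidHom = opp p (H.map (MulAut.conj g).toMonoidHom) :=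
  map_opp_of_injective p H (MulAut.conj g).injective

/-! ### `O_p(H)` -/

/-- `O_p(H)` as a subgroup of the ambient group. -/
abbrev op (p : ℕ) (H : Subgroup G) : Subgroup G := (pCore p H).map H.subtype

theorem op_le (p : ℕ) (H : Subgroup G) : op p H ≤ H := map_subtype_le _

theorem op_isPGroup (p : ℕ) (H : Subgroup G) : IsPGroup p (op p H) :=
  (H2.pCore_isPGroup p H).map _

theorem normalizer_le_normalizer_op (p : ℕ) (H : Subgroup G) :
    normalizer (H : Set G) ≤ normalizer ((op p H : Subgroup G) : Set G) :=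
  normalizer_le_normalizer_map_subtype _

theorem le_normalizer_op (p : ℕ) {A H : Subgroup G} (h : A ≤ normalizer (H : Set G)) :
    A ≤ normalizer ((op p H : Subgroup G) : Set G) :=
  h.trans (normalizer_le_normalizer_op p H)

theorem le_op {p : ℕ} {K H : Subgroup G} (hle : K ≤ H) (hn : H ≤ normalizer (K : Set G))
    (hc : IsPGroup p K) : K ≤ op p H := by
  rw [← map_subgroupOf_eq_of_le hle]
  exact map_mono (H2.le_pCore (normal_subgroupOf_of_le_normalizer hn) hc.comap_subtype)

theorem le_op_of_isSubnormal {p : ℕ} {K H : Subgroup G} (hle : K ≤ H)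
    (hn : (K.subgroupOf H).IsSubnormal) (hc : IsPGroup p K) : K ≤ op p H := by
  rw [← map_subgroupOf_eq_of_le hle]
  exact map_mono (H2.le_pCore_of_isSubnormal hn hc.comap_subtype)

theorem op_top (p : ℕ) : op p (⊤ : Subgroup G) = pCore p G := by
  rw [op, H2.map_subtype_pCore_eq, inf_top_eq]

theorem op_mono {p : ℕ} {K H : Subgroup G} (hle : K ≤ H)
    (hn : H ≤ normalizer (K : Set G)) : op p K ≤ op p H :=
  le_op ((op_le p K).trans hle) (le_normalizer_op p hn) (op_isPGroup p K)

theorem op_inf_le {p : ℕ} {K H : Subgroup G} (hle : K ≤ H) : op p H ⊓ K ≤ op p K :=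
  le_op inf_le_right
    (le_normalizer_inf (le_normalizer_op p (le_normalizer_of_le hle)) le_normalizer)
    (op_isPGroup p H).to_inf_left

theorem pCore_inf_le_op (p : ℕ) (K : Subgroup G) : pCore p G ⊓ K ≤ op p K := by
  rw [← op_top]; exact op_inf_le le_top

theorem map_op_le (p : ℕ) (H : Subgroup G) (f : G →* G') : (op p H).map f ≤ op p (H.map f) :=
  le_op (map_mono (op_le p H)) (map_le_normalizer_map (le_normalizer_op p le_normalizer) f)
    ((op_isPGroup p H).map f)

theorem op_eq_self {p : ℕ} {H : Subgroup G} (h : IsPGroup p H) : op p H = H :=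
  le_antisymm (op_le p H) (le_op le_rfl le_normalizer h)

theorem op_comm_opp [Finite G] (p : ℕ) (H : Subgroup G) : ⁅op p H, opp p H⁆ = ⊥ :=
  map_comm_bot (comm_bot_symm (comm_bot_of_le_centralizer
    (H2.pPrimeCore_le_centralizer_pCore p))) _

/-- two subgroups normalizing each other, one a `p`-group and one a `p'`-group, commute. -/
theorem comm_bot_of_isPGroup_of_cop [Finite G] {p : ℕ} {P K : Subgroup G} (hP : IsPGroup p P)
    (hK : (Nat.card K).Coprime p) (h1 : P ≤ normalizer (K : Set G))
    (h2 : K ≤ normalizer (P : Set G)) : ⁅P, K⁆ = ⊥ :=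
  le_bot_iff.mp ((le_inf (commutator_le_left_of h2) (commutator_le_right_of h1)).trans
    (inf_eq_bot_of_isPGroup_of_cop hP hK).le)

/-! ### `O_{p'}(C(x))` -/

theorem cpp_def (p : ℕ) (x : G) :
    centralizerPPrimeCore p x = opp p (centralizer ({x} : Set G)) := rfl

theorem cpp_le (p : ℕ) (x : G) : centralizerPPrimeCore p x ≤ centralizer ({x} : Set G) :=
  opp_le _ _

theorem cpp_cop [Finite G] (p : ℕ) (x : G) :
    (Nat.card (centralizerPPrimeCore p x)).Coprime p := opp_cop _ _

theorem centralizer_le_normalizer_cpp (p : ℕ) (x : G) :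
    centralizer ({x} : Set G) ≤ normalizer ((centralizerPPrimeCore p x : Subgroup G) : Set G) :=
  le_normalizer_opp p le_normalizer

theorem comap_centralizer_singleton_of_injective {f : G →* G'} (hf : Function.Injective f)
    (x : G) : (centralizer ({f x} : Set G')).comap f = centralizer {x} := by
  ext y
  simp only [mem_comap, mem_centralizer_singleton_iff, ← map_mul, hf.eq_iff]

theorem comap_cpp_le [Finite G'] (p : ℕ) {f : G →* G'} (hf : Function.Injective f) (x : G) :
    (centralizerPPrimeCore p (f x)).comap f ≤ centralizerPPrimeCore p x := by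
  have := comap_opp_le (p := p) (centralizer ({f x} : Set G')) (cop_ker_of_injective hf)
  rwa [comap_centralizer_singleton_of_injective hf] at this

theorem map_centralizer_of_cop_ker [Finite G] {p : ℕ} [Fact p.Prime] {f : G →* G'}
    (hf : Function.Surjective f) (hk : (Nat.card f.ker).Coprime p) {P : Subgroup G}
    (hP : IsPGroup p P) :
    (centralizer (P : Set G)).map f = centralizer ((P.map f : Subgroup G') : Set G') := by
  apply le_antisymm
  · rintro _ ⟨c, hc, rfl⟩ _ ⟨a, ha, rfl⟩
    rw [← map_mul, ← map_mul, hc a ha]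
  · intro y hy
    obtain ⟨g, rfl⟩ := hf y
    obtain ⟨n, hn, h⟩ := H1.exists_mul_mem_centralizer P f.ker le_normalizer_of_normal
      (cop_card_of_isPGroup hP hk) (Or.inl (solv_of_isPGroup hP)) g (fun a ha => by
        have := hy (f a) ⟨a, ha, rfl⟩
        rw [MonoidHom.mem_ker]
        simp only [map_mul, map_inv]
        rw [this]; group)
    exact ⟨n * g, h, by rw [map_mul, MonoidHom.mem_ker.mp hn, one_mul]⟩

theorem map_normalizer_of_cop_ker [Finite G] {p : ℕ} [Fact p.Prime] {f : G →* G'}
    (hf : Function.Surjective f) (hk : (Nat.card f.ker).Coprime p) {P : Subgroup G}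
    (hP : IsPGroup p P) :
    (normalizer (P : Set G)).map f = normalizer ((P.map f : Subgroup G') : Set G') := by
  refine le_antisymm (le_normalizer_map f) fun y hy => ?_
  obtain ⟨g, rfl⟩ := hf y
  obtain ⟨n, hn, h⟩ := H1.exists_mul_mem_normalizer P f.ker le_normalizer_of_normal
    (cop_card_of_isPGroup hP hk) (Or.inl (solv_of_isPGroup hP)) g (fun a ha => by
      obtain ⟨b, hb, e⟩ := (mem_normalizer_iff''.mp hy (f a)).mp ⟨a, ha, rfl⟩
      refine ⟨a * g * b⁻¹ * g⁻¹, ?_, ?_⟩
      · rw [MonoidHom.mem_ker]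
        simp only [map_mul, map_inv]
        rw [e]; group
      · have : g⁻¹ * (a * g * b⁻¹ * g⁻¹)⁻¹ * a * g = b := by group
        rw [this]; exact hb)
  exact ⟨n * g, h, by rw [map_mul, MonoidHom.mem_ker.mp hn, one_mul]⟩

theorem map_centralizer_singleton_of_cop_ker [Finite G] {p : ℕ} [Fact p.Prime] {f : G →* G'}
    (hf : Function.Surjective f) (hk : (Nat.card f.ker).Coprime p) {x : G}
    (hx : IsPGroup p (zpowers x)) :
    (centralizer ({x} : Set G)).map f = centralizer {f x} := by
  rw [← centralizer_zpowers, map_centralizer_of_cop_ker hf hk hx, MonoidHom.map_zpowers,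
    centralizer_zpowers]

theorem map_cpp_le [Finite G] {p : ℕ} [Fact p.Prime] {f : G →* G'}
    (hf : Function.Surjective f) (hk : (Nat.card f.ker).Coprime p) {x : G}
    (hx : IsPGroup p (zpowers x)) :
    (centralizerPPrimeCore p x).map f ≤ centralizerPPrimeCore p (f x) := by
  rw [cpp_def, cpp_def, ← map_centralizer_singleton_of_cop_ker hf hk hx]
  exact map_opp_le p _ f

theorem map_conj_centralizer_singleton (x g : G) :
    (centralizer ({x} : Set G)).map (MulAut.conj g).toMonoidHom = centralizer {g * x * g⁻¹} := by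
  ext y
  rw [mem_map_conj, mem_centralizer_singleton_iff, mem_centralizer_singleton_iff]
  constructor
  · intro h
    calc y * (g * x * g⁻¹) = g * (g⁻¹ * y * g * x) * g⁻¹ := by group
      _ = g * (x * (g⁻¹ * y * g)) * g⁻¹ := by rw [h]
      _ = _ := by group
  · intro h
    calc g⁻¹ * y * g * x = g⁻¹ * (y * (g * x * g⁻¹)) * g := by group
      _ = g⁻¹ * (g * x * g⁻¹ * y) * g := by rw [h]
      _ = _ := by group

theorem map_conj_cpp [Finite G] (p : ℕ) (x g : G) :
    (centralizerPPrimeCore p x).map (MulAut.conj g).toMonoidHom =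
      centralizerPPrimeCore p (g * x * g⁻¹) := by
  rw [cpp_def, cpp_def, map_conj_opp, map_conj_centralizer_singleton]

theorem orderOf_map_of_cop_ker [Finite G] {p : ℕ} [hp : Fact p.Prime] {f : G →* G'}
    (hk : (Nat.card f.ker).Coprime p) {x : G} (hx : orderOf x = p) : orderOf (f x) = p := by
  refine orderOf_eq_prime (by rw [← map_pow, ← hx, pow_orderOf_eq_one, map_one]) fun h => ?_
  have h1 : orderOf x ∣ Nat.card f.ker := orderOf_dvd_natCard _ h
  rw [hx] at h1
  exact cop_iff_not_dvd.mp hk h1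

theorem card_map_of_cop_ker [Finite G] {p : ℕ} {f : G →* G'} (hk : (Nat.card f.ker).Coprime p)
    {P : Subgroup G} (hP : IsPGroup p P) : Nat.card (P.map f) = Nat.card P := by
  rw [← relIndex_ker, ← H2.card_inf_mul_relIndex f.ker P, inf_comm,
    inf_eq_bot_of_isPGroup_of_cop hP hk, card_bot, one_mul]

/-! ### `O^{p'}(H)`: the subgroup generated by the `p`-subgroups of `H` -/

/-- `O^{p'}(H)`. -/
def pGen (p : ℕ) (H : Subgroup G) : Subgroup G := sSup {P : Subgroup G | P ≤ H ∧ IsPGroup p P}

theorem pGen_le (p : ℕ) (H : Subgroup G) : pGen p H ≤ H := sSup_le fun _ h => h.1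

theorem le_pGen {p : ℕ} {P H : Subgroup G} (h : P ≤ H) (hP : IsPGroup p P) : P ≤ pGen p H :=
  le_sSup ⟨h, hP⟩

theorem pGen_le_iff {p : ℕ} {H K : Subgroup G} :
    pGen p H ≤ K ↔ ∀ P : Subgroup G, P ≤ H → IsPGroup p P → P ≤ K :=
  ⟨fun h _ h1 h2 => (le_pGen h1 h2).trans h, fun h => sSup_le fun P hP => h P hP.1 hP.2⟩

theorem pGen_mono (p : ℕ) {H K : Subgroup G} (h : H ≤ K) : pGen p H ≤ pGen p K :=
  pGen_le_iff.mpr fun _ h1 h2 => le_pGen (h1.trans h) h2

theorem pGen_pGen (p : ℕ) (H : Subgroup G) : pGen p (pGen p H) = pGen p H :=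
  le_antisymm (pGen_le p _) (pGen_le_iff.mpr fun _ h1 h2 => le_pGen (le_pGen h1 h2) h2)

theorem map_pGen_le (p : ℕ) (H : Subgroup G) (f : G →* G') :
    (pGen p H).map f ≤ pGen p (H.map f) := by
  rw [map_le_iff_le_comap, pGen_le_iff]
  intro P h1 h2
  rw [← map_le_iff_le_comap]
  exact le_pGen (map_mono h1) (h2.map f)

theorem map_pGen_of_injective (p : ℕ) (H : Subgroup G) {f : G →* G'}
    (hf : Function.Injective f) : (pGen p H).map f = pGen p (H.map f) := by
  refine le_antisymm (map_pGen_le p H f) (pGen_le_iff.mpr fun P h1 h2 => ?_)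
  rw [← map_comap_eq_self (h1.trans (map_le_range f H))]
  refine map_mono (le_pGen ?_ (h2.comap_of_injective f hf))
  rw [← comap_map_eq_self_of_injective hf H]
  exact comap_mono h1

theorem normalizer_le_normalizer_pGen (p : ℕ) (H : Subgroup G) :
    normalizer (H : Set G) ≤ normalizer ((pGen p H : Subgroup G) : Set G) := by
  intro g hg
  rw [mem_normalizer_iff_map_conj] at hg ⊢
  rw [map_pGen_of_injective p H (MulAut.conj g).injective, hg]

theorem relIndex_pGen_cop [Finite G] (p : ℕ) [Fact p.Prime] (H : Subgroup G) :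
    ((pGen p H).relIndex H).Coprime p := by
  obtain ⟨P⟩ := (inferInstance : Nonempty (Sylow p H))
  have h1 : (P : Subgroup H) ≤ (pGen p H).subgroupOf H :=
    map_le_iff_le_comap.mp (le_pGen (map_subtype_le _) (P.isPGroup'.map _))
  exact cop_iff_not_dvd.mpr fun h => P.not_dvd_index (h.trans (index_dvd_of_le h1))

/-- a `p`-subgroup of `H O`, `H` subnormal and `O` a normal `p'`-subgroup, lies in `H`. -/
theorem le_of_isSubnormal_of_le_sup [Finite G] {p : ℕ} {H O P : Subgroup G} (hH : H.IsSubnormal)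
    [O.Normal] (hO : (Nat.card O).Coprime p) (hP : IsPGroup p P) (h : P ≤ H ⊔ O) : P ≤ H := by
  induction hH with
  | top => exact le_top
  | step H K hle _ hN ih =>
    have hPK : P ≤ K := ih (h.trans (sup_le_sup_right hle O))
    have h1 : P ≤ H ⊔ O ⊓ K := by
      rw [← H2.sup_inf_assoc_of_le_normalizer hle (Or.inr le_normalizer_of_normal)]
      exact le_inf h hPK
    have h2 : P.subgroupOf K ≤ H.subgroupOf K ⊔ (O ⊓ K).subgroupOf K := by
      rw [← subgroupOf_sup hle inf_le_right]
      exact comap_mono h1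
    have h3 := H2.le_of_isPGroup_of_le_sup_coprime hP.comap_subtype
      (cop_subgroupOf (cop_of_le hO inf_le_left) K) h2
    intro x hx
    exact h3 (show (⟨x, hPK hx⟩ : K) ∈ P.subgroupOf K from hx)

theorem pGen_sup_of_isSubnormal [Finite G] {p : ℕ} {H O : Subgroup G} (hH : H.IsSubnormal)
    [O.Normal] (hO : (Nat.card O).Coprime p) : pGen p (H ⊔ O) = pGen p H :=
  le_antisymm
    (pGen_le_iff.mpr fun _ h1 h2 => le_pGen (le_of_isSubnormal_of_le_sup hH hO h2 h1) h2)
    (pGen_mono p le_sup_left)

/-- if all `p'`-elements of `X` lie in the normal subgroup `C` and `X = [X, X]` modulo `C`,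
then `X ≤ C`. -/
theorem le_of_pPrime_mem_of_perfect_mod [Finite G] (p : ℕ) [Fact p.Prime] {X C : Subgroup G}
    [C.Normal] (h1 : ∀ x ∈ X, (orderOf x).Coprime p → x ∈ C) (h2 : X ≤ ⁅X, X⁆ ⊔ C) : X ≤ C := by
  rw [← H2.map_mk'_eq_bot_iff]
  refine eq_bot_of_perfect_of_solvable ?_ (solv_of_isPGroup (p := p) ?_)
  · refine le_antisymm (commutator_le_self _) ?_
    have := map_mono (f := QuotientGroup.mk' C) h2
    rwa [Subgroup.map_sup, H2.map_mk'_eq_bot_iff.mpr le_rfl, sup_bot_eq, map_commutator] at this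
  · rintro ⟨_, x, hx, rfl⟩
    obtain ⟨k, hk⟩ := exists_pow_orderOf_coprime p x
    refine ⟨k, Subtype.ext ?_⟩
    simp only [SubgroupClass.coe_pow, OneMemClass.coe_one]
    rw [← map_pow]
    exact (QuotientGroup.eq_one_iff _).mpr (h1 _ (X.pow_mem hx _) hk)

/-- a prime dividing the order of a perfect group divides the index of the centre. -/
theorem dvd_index_center_of_perfect {X : Type*} [Group X] [Finite X] (hX : commutator X = ⊤)
    {p : ℕ} (hp : p.Prime) (h : p ∣ Nat.card X) : p ∣ (center X).index := by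
  have := Subgroup.card_commutator_dvd_index_center_pow (G := X)
  rw [hX, card_top] at this
  exact hp.dvd_of_dvd_pow (h.trans this)

theorem dvd_relIndex_centralizer_of_perfect [Finite G] {L : Subgroup G} (hL : ⁅L, L⁆ = L)
    {p : ℕ} (hp : p.Prime) (h : p ∣ Nat.card L) :
    p ∣ (centralizer (L : Set G)).relIndex L := by
  have h1 := dvd_index_center_of_perfect (isPerfect_iff.mpr hL).commutator_eq_top hp h
  have h2 : (centralizer (L : Set G)).subgroupOf L = center L := by
    apply map_injective L.subtype_injective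
    rw [map_subtype_center, subgroupOf_map_subtype, inf_comm]
  rwa [relIndex, h2]

/-- a quasisimple group of order divisible by `p` is not contained in `Y C(L)` for a
`p'`-group `Y` normalizing it. -/
theorem not_le_sup_centralizer [Finite G] {p : ℕ} [hp : Fact p.Prime] {L Y : Subgroup G}
    (hL : ⁅L, L⁆ = L) (hd : p ∣ Nat.card L) (hY : (Nat.card Y).Coprime p)
    (hn : Y ≤ normalizer (L : Set G)) : ¬ L ≤ Y ⊔ centralizer (L : Set G) := by
  intro h
  have h1 := dvd_relIndex_centralizer_of_perfect hL hp.out hd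
  have hn' := le_normalizer_centralizer hn
  have h2 : (centralizer (L : Set G)).relIndex L ∣
      (centralizer (L : Set G)).relIndex (Y ⊔ centralizer (L : Set G)) := by
    have : ((centralizer (L : Set G)).subgroupOf (Y ⊔ centralizer (L : Set G))).Normal :=
      normal_subgroupOf_sup_of_le_normalizer hn'
    rw [← relIndex_subgroupOf h]
    exact relIndex_dvd_index_of_normal _ _
  rw [H2.relIndex_sup_of_le_normalizer hn'] at h2
  exact cop_iff_not_dvd.mp hY (h1.trans (h2.trans (relIndex_dvd_card _ _)))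

theorem IsQuasisimple.eq_of_relIndex_cop [Finite G] {p : ℕ} [hp : Fact p.Prime]
    {K N : Subgroup G} (hK : IsQuasisimple K) (hd : p ∣ Nat.card K) (hN : N ≤ K)
    (hn : K ≤ normalizer (N : Set G)) (hc : (N.relIndex K).Coprime p) : N = K := by
  refine (IsQuasisimple.eq_or_comm hK hN hn).resolve_right fun h => ?_
  exact cop_iff_not_dvd.mp hc
    ((dvd_relIndex_centralizer_of_perfect (IsQuasisimple.perfect hK) hp.out hd).trans
      (relIndex_dvd_of_le_left _ (le_centralizer_of_comm_bot h)))

theorem IsComponent.dvd_card [Finite G] {p : ℕ} [Fact p.Prime] (hO : pPrimeCore p G = ⊥)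
    {L : Subgroup G} (hL : IsComponent L) : p ∣ Nat.card L := by
  by_contra h
  exact IsComponent.ne_bot hL
    (le_bot_iff.mp (hO ▸ H2.le_pPrimeCore_of_isSubnormal hL.1 (cop_iff_not_dvd.mpr h)))

theorem relIndex_map_dvd (f : G →* G') (H K : Subgroup G) :
    (H.map f).relIndex (K.map f) ∣ H.relIndex K := by
  rw [relIndex_map_map]
  have h2 : (H ⊔ f.ker).relIndex (K ⊔ f.ker) = (H ⊔ f.ker).relIndex K := by
    rw [← relIndex_map_map, ← relIndex_comap, comap_map_eq]
  rw [h2]
  exact relIndex_dvd_of_le_left _ le_sup_left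

end H23
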