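import Mathlib
import Cfsg.Prelude.Def_Balance
import Cfsg.Agent.H23.Rel

/-!
# `p`-components and the `p`-layer
-/

set_option autoImplicit false
set_option linter.unusedSectionVars false

namespace H23

open Cfsg Subgroup

variable {G : Type*} [Group G] {G' : Type*} [Group G']

/-- the quotient map by `O_{p'}(G)`. -/
abbrev piO (p : ℕ) (G : Type*) [Group G] : G →* G ⧸ pPrimeCore p G :=
  QuotientGroup.mk' (pPrimeCore p G)

theorem piO_surj (p : ℕ) (G : Type*) [Group G] : Function.Surjective (piO p G) :=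
  QuotientGroup.mk'_surjective _

theorem ker_piO (p : ℕ) (G : Type*) [Group G] : (piO p G).ker = pPrimeCore p G :=
  QuotientGroup.ker_mk' _

theorem cop_ker_piO (p : ℕ) (G : Type*) [Group G] [Finite G] :
    (Nat.card (piO p G).ker).Coprime p := by
  rw [ker_piO]; exact H2.pPrimeCore_coprime p G

theorem comap_map_piO (p : ℕ) (K : Subgroup G) :
    (K.map (piO p G)).comap (piO p G) = K ⊔ pPrimeCore p G := H2.comap_map_mk' _ _

theorem comap_pPrimeCore_of_cop_ker [Finite G] {p : ℕ} {f : G →* G'} (hf : Function.Surjective f)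
    (hk : (Nat.card f.ker).Coprime p) : (pPrimeCore p G').comap f = pPrimeCore p G := by
  have : Finite G' := Finite.of_surjective f hf
  exact le_antisymm (H2.le_pPrimeCore inferInstance (cop_comap (H2.pPrimeCore_coprime p G') hk))
    (map_le_iff_le_comap.mp (H2.map_pPrimeCore_le p hf))

theorem map_pPrimeCore_of_cop_ker [Finite G] {p : ℕ} {f : G →* G'} (hf : Function.Surjective f)
    (hk : (Nat.card f.ker).Coprime p) : (pPrimeCore p G).map f = pPrimeCore p G' := by
  rw [← comap_pPrimeCore_of_cop_ker hf hk, map_comap_eq_self_of_surjective hf]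

/-- `K / (K ∩ ker f) ≃ f(K)`. -/
noncomputable def quotEquivMap (f : G →* G') (K : Subgroup G) (N : Subgroup K) [N.Normal]
    (h : N = f.ker.subgroupOf K) : K ⧸ N ≃* K.map f :=
  (QuotientGroup.quotientMulEquivOfEq (by rw [h, ← ker_subgroupMap])).trans
    (QuotientGroup.quotientKerEquivOfSurjective (f.subgroupMap K) (f.subgroupMap_surjective K))

theorem isQuasisimple_quot_iff [Finite G] {p : ℕ} {K : Subgroup G} (hK : K.IsSubnormal) :
    IsQuasisimple (K ⧸ pPrimeCore p K) ↔ IsQuasisimple (K.map (piO p G)) :=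
  isQuasisimple_congr (quotEquivMap (piO p G) K _
    (by rw [ker_piO, pPrimeCore_eq_subgroupOf_of_isSubnormal hK]))

theorem map_pGen_piO [Finite G] {p : ℕ} [Fact p.Prime] {K : Subgroup G}
    (hK : IsComponent (K.map (piO p G))) : (pGen p K).map (piO p G) = K.map (piO p G) :=
  IsQuasisimple.eq_of_relIndex_cop hK.2
    (IsComponent.dvd_card (H2.pPrimeCore_quotient_pPrimeCore p G) hK)
    (map_mono (pGen_le p K))
    (map_le_normalizer_map (le_normalizer.trans (normalizer_le_normalizer_pGen p K)) _)
    (Nat.Coprime.coprime_dvd_left (relIndex_map_dvd _ _ _) (relIndex_pGen_cop p K))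

theorem isSubnormal_pGen {p : ℕ} {K : Subgroup G} (hK : K.IsSubnormal) : (pGen p K).IsSubnormal :=
  isSubnormal_of_le_normalizer (pGen_le p K)
    (le_normalizer.trans (normalizer_le_normalizer_pGen p K)) hK

theorem isPComponent_iff' [Finite G] {p : ℕ} [Fact p.Prime] {K : Subgroup G} :
    IsPComponent p K ↔ K.IsSubnormal ∧ pGen p K = K ∧ IsComponent (K.map (piO p G)) := by
  constructor
  · rintro ⟨h1, h2, h3⟩
    exact ⟨h1, h3 _ (isSubnormal_pGen h1) (pGen_le p K) (map_pGen_piO h2), h2⟩
  · rintro ⟨h1, h2, h3⟩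
    refine ⟨h1, h3, fun H hH hle e => le_antisymm hle ?_⟩
    have h4 : K ≤ H ⊔ pPrimeCore p G := by
      rw [← comap_map_piO, e]; exact le_comap_map _ _
    rw [← h2]
    exact pGen_le_iff.mpr fun P hP hP' =>
      le_of_isSubnormal_of_le_sup hH (H2.pPrimeCore_coprime p G) hP' (hP.trans h4)

/-- intrinsic description of `p`-components. -/
theorem isPComponent_iff [Finite G] {p : ℕ} [Fact p.Prime] {K : Subgroup G} :
    IsPComponent p K ↔ K.IsSubnormal ∧ pGen p K = K ∧ IsQuasisimple (K ⧸ pPrimeCore p K) := by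
  rw [isPComponent_iff']
  refine and_congr_right fun h => and_congr_right fun _ => ?_
  rw [isQuasisimple_quot_iff h]
  exact ⟨fun h' => h'.2, fun h' => ⟨h.map (piO_surj p G), h'⟩⟩

section
variable [Finite G] {p : ℕ} [Fact p.Prime] {K L : Subgroup G}

theorem IsPComponent.pGen_eq (hK : IsPComponent p K) : pGen p K = K :=
  (isPComponent_iff'.mp hK).2.1

theorem IsPComponent.eq_pGen_sup (hK : IsPComponent p K) : K = pGen p (K ⊔ pPrimeCore p G) := by
  rw [pGen_sup_of_isSubnormal hK.1 (H2.pPrimeCore_coprime p G), IsPComponent.pGen_eq hK]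

theorem IsPComponent.eq_of_map_eq (hK : IsPComponent p K) (hL : IsPComponent p L)
    (h : K.map (piO p G) = L.map (piO p G)) : K = L := by
  rw [IsPComponent.eq_pGen_sup hK, IsPComponent.eq_pGen_sup hL, ← comap_map_piO, h, comap_map_piO]

theorem IsPComponent.eq_of_le (hK : IsPComponent p K) (hL : IsPComponent p L) (h : K ≤ L) :
    K = L :=
  IsPComponent.eq_of_map_eq hK hL (IsComponent.eq_of_le hK.2.1 hL.2.1 (map_mono h))

theorem IsPComponent.le_normalizer (hK : IsPComponent p K) {A : Subgroup G}
    (h : A.map (piO p G) ≤ normalizer ((K.map (piO p G) : Subgroup _) : Set _)) :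
    A ≤ normalizer (K : Set G) := by
  have h1 : A ≤ normalizer ((K ⊔ pPrimeCore p G : Subgroup G) : Set G) := by
    rw [← comap_map_piO]
    exact (le_comap_map _ A).trans (comap_le_normalizer_comap h _)
  have h2 := h1.trans (normalizer_le_normalizer_pGen p _)
  rwa [← IsPComponent.eq_pGen_sup hK] at h2

theorem exists_isPComponent {Kb : Subgroup (G ⧸ pPrimeCore p G)} (h : IsComponent Kb) :
    ∃ K : Subgroup G, IsPComponent p K ∧ K.map (piO p G) = Kb := by
  have e : (Kb.comap (piO p G)).map (piO p G) = Kb := map_comap_eq_self_of_surjective (piO_surj p G) _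
  have e' : (pGen p (Kb.comap (piO p G))).map (piO p G) = Kb := by
    rw [map_pGen_piO (by rwa [e]), e]
  refine ⟨pGen p (Kb.comap (piO p G)), isPComponent_iff'.mpr
    ⟨isSubnormal_pGen (h.1.comap _), pGen_pGen p _, by rwa [e']⟩, e'⟩

theorem IsPComponent.perfect (hK : IsPComponent p K) : ⁅K, K⁆ = K :=
  hK.2.2 _ (isSubnormal_of_le_normalizer (commutator_le_self K)
    (normalizer_commutator_ge_left K K) hK.1) (commutator_le_self K)
    (by rw [map_commutator, IsComponent.perfect hK.2.1])

theorem IsPComponent.dvd_card (hK : IsPComponent p K) : p ∣ Nat.card K :=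
  (IsComponent.dvd_card (H2.pPrimeCore_quotient_pPrimeCore p G) hK.2.1).trans (card_map_dvd _ _)

theorem IsPComponent.not_le_cop (hK : IsPComponent p K) {Y : Subgroup G}
    (hY : (Nat.card Y).Coprime p) : ¬ K ≤ Y :=
  fun h => cop_iff_not_dvd.mp (cop_of_le hY h) (IsPComponent.dvd_card hK)

theorem IsPComponent.ne_bot (hK : IsPComponent p K) : K ≠ ⊥ := by
  rintro rfl
  exact IsPComponent.not_le_cop hK (Y := ⊥) (by simp) le_rfl

theorem IsPComponent.not_solvable (hK : IsPComponent p K) : ¬ Group.IsSolvable K :=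
  fun h => IsPComponent.ne_bot hK (eq_bot_of_perfect_of_solvable (IsPComponent.perfect hK) h)

theorem IsPComponent.quasisimple_quot (hK : IsPComponent p K) :
    IsQuasisimple (K ⧸ pPrimeCore p K) := (isPComponent_iff.mp hK).2.2

theorem IsPComponent.opp_eq (hK : IsPComponent p K) : opp p K = pPrimeCore p G ⊓ K :=
  opp_of_isSubnormal hK.1

theorem IsComponent.isPComponent (hL : IsComponent L) (h : ¬ L ≤ pPrimeCore p G) :
    IsPComponent p L := by
  refine ⟨hL.1, IsComponent.map hL (piO_surj p G) (by rwa [Ne, H2.map_mk'_eq_bot_iff]),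
    fun H hH hle e => ?_⟩
  refine (IsQuasisimple.eq_or_comm_of_isSubnormal hL.2 hle hH.subgroupOf).resolve_right
    fun hc => ?_
  have h1 := map_comm_bot hc (piO p G)
  rw [e, ← map_commutator, IsComponent.perfect hL, H2.map_mk'_eq_bot_iff] at h1
  exact h h1

theorem IsComponent.isPComponent_of_dvd (hL : IsComponent L) (h : p ∣ Nat.card L) :
    IsPComponent p L :=
  IsComponent.isPComponent hL fun hle =>
    cop_iff_not_dvd.mp (cop_of_le (H2.pPrimeCore_coprime p G) hle) h

theorem IsPComponent.isComponent_of_quasisimple (hK : IsPComponent p K) (h : IsQuasisimple K) :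
    IsComponent K := ⟨hK.1, h⟩

theorem IsPComponent.quasisimple_iff (hK : IsPComponent p K) :
    IsQuasisimple K ↔ ⁅K, opp p K⁆ = ⊥ := by
  constructor
  · intro h
    rcases IsQuasisimple.eq_or_comm h (opp_le p K) (le_normalizer_opp p Subgroup.le_normalizer)
      with e | e
    · exact absurd e.ge (IsPComponent.not_le_cop hK (opp_cop p K))
    · exact comm_bot_symm e
  · intro h
    refine IsQuasisimple.of_central_ker (IsPComponent.quasisimple_quot hK) (piO_surj p K) ?_
      (isPerfect_iff.mpr (IsPComponent.perfect hK)).commutator_eq_top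
    rw [ker_piO, ← map_subtype_le_map_subtype, map_subtype_center]
    exact le_inf (opp_le p K) (le_centralizer_of_comm_bot (comm_bot_symm h))

theorem IsPComponent.isComponent_of_pPrimeCore_eq_bot (hO : pPrimeCore p G = ⊥)
    (hK : IsPComponent p K) : IsComponent K :=
  ⟨hK.1, (IsPComponent.quasisimple_iff hK).mpr (by
    rw [IsPComponent.opp_eq hK, hO, bot_inf_eq, commutator_bot_right])⟩

/-- a `p`-component lies in a subnormal subgroup or centralizes it modulo `O_{p'}(G)`. -/
theorem IsPComponent.le_or_comm_le (hK : IsPComponent p K) {H : Subgroup G}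
    (hH : H.IsSubnormal) : K ≤ H ∨ ⁅K, H⁆ ≤ pPrimeCore p G := by
  rcases IsComponent.le_or_comm hK.2.1 (hH.map (piO_surj p G)) with h | h
  · left
    have h4 : K ≤ H ⊔ pPrimeCore p G := by
      rw [← comap_map_piO]; exact map_le_iff_le_comap.mp h
    rw [← IsPComponent.pGen_eq hK]
    exact pGen_le_iff.mpr fun P hP hP' =>
      le_of_isSubnormal_of_le_sup hH (H2.pPrimeCore_coprime p G) hP' (hP.trans h4)
  · right
    rw [← ker_piO]; exact comm_le_ker_iff.mpr h

theorem IsPComponent.eq_or_comm_le (hK : IsPComponent p K) (hL : IsPComponent p L) :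
    K = L ∨ ⁅K, L⁆ ≤ pPrimeCore p G :=
  (IsPComponent.le_or_comm_le hK hL.1).imp_left (IsPComponent.eq_of_le hK hL)

theorem IsPComponent.le_normalizer_pcomp (hK : IsPComponent p K) (hL : IsPComponent p L) :
    L ≤ normalizer (K : Set G) :=
  IsPComponent.le_normalizer hK (IsComponent.le_normalizer_of_isSubnormal hL.2.1 hK.2.1.1)

theorem IsPComponent.pPrimeCore_le_normalizer (hK : IsPComponent p K) :
    pPrimeCore p G ≤ normalizer (K : Set G) :=
  IsPComponent.le_normalizer hK (by rw [H2.map_mk'_eq_bot_iff.mpr le_rfl]; exact bot_le)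

theorem IsPComponent.map_of_injective [Finite G'] (hK : IsPComponent p K) {f : G →* G'}
    (hf : Function.Injective f) (hs : (K.map f).IsSubnormal) : IsPComponent p (K.map f) := by
  rw [isPComponent_iff] at hK ⊢
  refine ⟨hs, by rw [← map_pGen_of_injective p K hf, hK.2.1], ?_⟩
  exact IsQuasisimple.of_equiv hK.2.2 (QuotientGroup.congr _ _ (K.equivMapOfInjective f hf)
    (H2.map_pPrimeCore_equiv p _))

theorem IsPComponent.of_map_injective [Finite G'] {f : G →* G'} (hf : Function.Injective f)
    (hK : IsPComponent p (K.map f)) : IsPComponent p K := by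
  rw [isPComponent_iff] at hK ⊢
  refine ⟨?_, ?_, ?_⟩
  · have := hK.1.comap f
    rwa [comap_map_eq_self_of_injective hf] at this
  · apply map_injective hf
    rw [map_pGen_of_injective p K hf, hK.2.1]
  · exact IsQuasisimple.of_equiv hK.2.2 (QuotientGroup.congr _ _ (K.equivMapOfInjective f hf)
      (H2.map_pPrimeCore_equiv p _)).symm

theorem IsPComponent.map_equiv [Finite G'] (hK : IsPComponent p K) (e : G ≃* G') :
    IsPComponent p (K.map (e : G →* G')) :=
  IsPComponent.map_of_injective hK e.injective (hK.1.map e.surjective)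

theorem IsPComponent.conj (hK : IsPComponent p K) (g : G) :
    IsPComponent p (K.map (MulAut.conj g).toMonoidHom) :=
  IsPComponent.map_equiv hK (MulAut.conj g)

theorem IsPComponent.subgroupOf (hK : IsPComponent p K) {H : Subgroup G} (h : K ≤ H) :
    IsPComponent p (K.subgroupOf H) :=
  IsPComponent.of_map_injective H.subtype_injective (by rwa [map_subgroupOf_eq_of_le h])

theorem IsPComponent.map_subtype {H : Subgroup G} (hH : H.IsSubnormal) {K : Subgroup H}
    (hK : IsPComponent p K) : IsPComponent p (K.map H.subtype) :=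
  IsPComponent.map_of_injective hK H.subtype_injective (hK.1.trans' hH)

theorem IsPComponent.of_subgroupOf {H : Subgroup G} (hH : H.IsSubnormal) (hle : K ≤ H)
    (hK : IsPComponent p (K.subgroupOf H)) : IsPComponent p K := by
  have := IsPComponent.map_subtype hH hK
  rwa [map_subgroupOf_eq_of_le hle] at this

end

/-! ### the `p`-layer -/

theorem le_pLayer {p : ℕ} {K : Subgroup G} (hK : IsPComponent p K) : K ≤ pLayer p G := le_sSup hK

theorem pLayer_le {p : ℕ} {H : Subgroup G} (h : ∀ K, IsPComponent p K → K ≤ H) :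
    pLayer p G ≤ H := sSup_le h

section
variable [Finite G] {p : ℕ} [Fact p.Prime]

theorem map_pLayer_piO (p : ℕ) [Fact p.Prime] (G : Type*) [Group G] [Finite G] :
    (pLayer p G).map (piO p G) = layer (G ⧸ pPrimeCore p G) := by
  apply le_antisymm
  · rw [map_le_iff_le_comap]
    exact pLayer_le fun K hK => map_le_iff_le_comap.mp (le_layer hK.2.1)
  · refine layer_le fun Kb hKb => ?_
    obtain ⟨K, hK, rfl⟩ := exists_isPComponent hKb
    exact map_mono (le_pLayer hK)

theorem comap_layer_piO (p : ℕ) [Fact p.Prime] (G : Type*) [Group G] [Finite G] :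
    (layer (G ⧸ pPrimeCore p G)).comap (piO p G) = pLayer p G ⊔ pPrimeCore p G := by
  rw [← map_pLayer_piO, comap_map_piO]

theorem pLayer_eq_bot_iff' : pLayer p G = ⊥ ↔ ∀ K : Subgroup G, ¬ IsPComponent p K := by
  constructor
  · intro h K hK
    exact IsPComponent.ne_bot hK (le_bot_iff.mp (h ▸ le_pLayer hK))
  · intro h
    exact le_bot_iff.mp (pLayer_le fun K hK => absurd hK (h K))

theorem pLayer_eq_bot_iff : pLayer p G = ⊥ ↔ layer (G ⧸ pPrimeCore p G) = ⊥ := by
  constructor
  · intro h; rw [← map_pLayer_piO, h, Subgroup.map_bot]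
  · intro h
    exact pLayer_eq_bot_iff'.mpr fun K hK => layer_eq_bot_iff.mp h _ hK.2.1

theorem map_pLayer_equiv [Finite G'] (e : G ≃* G') :
    (pLayer p G).map (e : G →* G') = pLayer p G' := by
  apply le_antisymm
  · rw [map_le_iff_le_comap]
    exact pLayer_le fun K hK => map_le_iff_le_comap.mp (le_pLayer (IsPComponent.map_equiv hK e))
  · refine pLayer_le fun K hK => ?_
    have := le_pLayer (IsPComponent.map_equiv hK e.symm)
    intro x hx
    exact ⟨e.symm x, this ⟨x, hx, rfl⟩, by simp⟩

instance pLayer_characteristic (p : ℕ) [Fact p.Prime] (G : Type*) [Group G] [Finite G] :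
    (pLayer p G).Characteristic :=
  characteristic_iff_map_eq.mpr fun e => map_pLayer_equiv e

instance pLayer_normal (p : ℕ) [Fact p.Prime] (G : Type*) [Group G] [Finite G] :
    (pLayer p G).Normal := inferInstance

theorem pLayer_perfect (p : ℕ) [Fact p.Prime] (G : Type*) [Group G] [Finite G] :
    ⁅pLayer p G, pLayer p G⁆ = pLayer p G :=
  le_antisymm (commutator_le_self _) (pLayer_le fun K hK => by
    rw [← IsPComponent.perfect hK]; exact commutator_mono (le_pLayer hK) (le_pLayer hK))

theorem pGen_pLayer (p : ℕ) [Fact p.Prime] (G : Type*) [Group G] [Finite G] :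
    pGen p (pLayer p G) = pLayer p G :=
  le_antisymm (pGen_le _ _) (pLayer_le fun K hK => by
    rw [← IsPComponent.pGen_eq hK]; exact pGen_mono p (le_pLayer hK))

theorem pLayer_le_normalizer_pcomp {K : Subgroup G} (hK : IsPComponent p K) :
    pLayer p G ≤ normalizer (K : Set G) :=
  pLayer_le fun _ hL => IsPComponent.le_normalizer_pcomp hK hL

theorem pLayer_eq_layer (hO : pPrimeCore p G = ⊥) : pLayer p G = layer G :=
  le_antisymm
    (pLayer_le fun _ hK => le_layer (IsPComponent.isComponent_of_pPrimeCore_eq_bot hO hK))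
    (layer_le fun _ hL => le_pLayer (IsComponent.isPComponent hL
      (by rw [hO, le_bot_iff]; exact IsComponent.ne_bot hL)))

theorem layer_le_pLayer_sup : layer G ≤ pLayer p G ⊔ pPrimeCore p G := by
  rw [← comap_layer_piO]
  exact map_le_iff_le_comap.mp (map_layer_le (piO_surj p G))

theorem pLayer_eq_bot_of_solvable (h : Group.IsSolvable G) : pLayer p G = ⊥ :=
  eq_bot_of_perfect_of_solvable (pLayer_perfect p G) inferInstance

theorem pLayer_comm_pCore (p : ℕ) [Fact p.Prime] (G : Type*) [Group G] [Finite G] :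
    ⁅pLayer p G ⊔ pPrimeCore p G, pCore p G⁆ = ⊥ := by
  have h1 : ⁅pLayer p G ⊔ pPrimeCore p G, pCore p G⁆ ≤ pPrimeCore p G := by
    conv_rhs => rw [← ker_piO]
    rw [comm_le_ker_iff, ← comap_layer_piO, map_comap_eq_self_of_surjective (piO_surj p G)]
    exact comm_bot_mono (layer_comm_pCore p _) le_rfl (H2.map_pCore_le p (piO_surj p G))
  exact le_bot_iff.mp ((le_inf (commutator_le_right _ _) h1).trans (H2.pCore_inf_pPrimeCore p).le)

/-- `O_{p',E}(G)` normalizes `O^{p'}(D)` for every subnormal subgroup `D`. -/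
theorem pLayer_sup_le_normalizer_pGen {D : Subgroup G} (hD : D.IsSubnormal) :
    pLayer p G ⊔ pPrimeCore p G ≤ normalizer ((pGen p D : Subgroup G) : Set G) := by
  rw [← pGen_sup_of_isSubnormal hD (H2.pPrimeCore_coprime p G)]
  refine le_trans ?_ (normalizer_le_normalizer_pGen p _)
  rw [← comap_layer_piO, ← comap_map_piO]
  exact comap_le_normalizer_comap (layer_le_normalizer_of_isSubnormal (hD.map (piO_surj p G))) _

theorem IsPComponent.map_of_cop_ker {f : G →* G'} (hf : Function.Surjective f)
    (hk : (Nat.card f.ker).Coprime p) {K : Subgroup G} (hK : IsPComponent p K) :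
    IsPComponent p (K.map f) := by
  have : Finite G' := Finite.of_surjective f hf
  rw [isPComponent_iff] at hK ⊢
  refine ⟨hK.1.map hf, le_antisymm (pGen_le _ _) ?_, ?_⟩
  · conv_lhs => rw [← hK.2.1]
    exact map_pGen_le p K f
  · have hs : Function.Surjective ((piO p (K.map f)).comp (f.subgroupMap K)) :=
      (piO_surj p _).comp (f.subgroupMap_surjective K)
    have hker : ((piO p (K.map f)).comp (f.subgroupMap K)).ker = pPrimeCore p K := by
      rw [← MonoidHom.comap_ker, ker_piO]
      refine comap_pPrimeCore_of_cop_ker (f.subgroupMap_surjective K) ?_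
      rw [ker_subgroupMap]
      exact cop_subgroupOf hk K
    exact IsQuasisimple.of_equiv hK.2.2 ((QuotientGroup.quotientMulEquivOfEq hker.symm).trans
      (QuotientGroup.quotientKerEquivOfSurjective _ hs))

theorem map_pLayer_of_cop_ker {f : G →* G'} (hf : Function.Surjective f)
    (hk : (Nat.card f.ker).Coprime p) : (pLayer p G).map f = pLayer p G' := by
  have : Finite G' := Finite.of_surjective f hf
  apply le_antisymm
  · rw [map_le_iff_le_comap]
    exact pLayer_le fun K hK =>
      map_le_iff_le_comap.mp (le_pLayer (IsPComponent.map_of_cop_ker hf hk hK))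
  · have hs : Function.Surjective ((piO p G').comp f) := (piO_surj p _).comp hf
    have hker : ((piO p G').comp f).ker = pPrimeCore p G := by
      rw [← MonoidHom.comap_ker, ker_piO, comap_pPrimeCore_of_cop_ker hf hk]
    let e : G ⧸ pPrimeCore p G ≃* G' ⧸ pPrimeCore p G' :=
      (QuotientGroup.quotientMulEquivOfEq hker.symm).trans
        (QuotientGroup.quotientKerEquivOfSurjective _ hs)
    have he : (e : G ⧸ pPrimeCore p G →* G' ⧸ pPrimeCore p G').comp (piO p G) =
        (piO p G').comp f := by
      ext x; rfl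
    have h1 : ((pLayer p G).map f).map (piO p G') = (pLayer p G').map (piO p G') := by
      rw [map_map, ← he, ← map_map, map_pLayer_piO, map_pLayer_piO, map_layer_equiv]
    have h2 : pLayer p G' ≤ (pLayer p G).map f ⊔ pPrimeCore p G' := by
      rw [← comap_map_piO, h1]; exact le_comap_map _ _
    rw [← pGen_pLayer p G']
    exact pGen_le_iff.mpr fun P hP hP' => le_of_isSubnormal_of_le_sup
      ((pLayer_normal p G).map f hf).isSubnormal (H2.pPrimeCore_coprime p G') hP' (hP.trans h2)

end

/-- `L_{p'}(H)` as a subgroup of the ambient group. -/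
abbrev play (p : ℕ) (H : Subgroup G) : Subgroup G := (pLayer p H).map H.subtype

/-- `E(H)` as a subgroup of the ambient group. -/
abbrev lay (H : Subgroup G) : Subgroup G := (layer H).map H.subtype

/-- `K` is a `p`-component of the subgroup `H`. -/
def IsPCompOf (p : ℕ) (K H : Subgroup G) : Prop := K ≤ H ∧ IsPComponent p (K.subgroupOf H)

/-- `K` is a component of the subgroup `H`. -/
def IsCompOf (K H : Subgroup G) : Prop := K ≤ H ∧ IsComponent (K.subgroupOf H)

theorem play_le (p : ℕ) (H : Subgroup G) : play p H ≤ H := map_subtype_le _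

theorem IsPCompOf.le_play {p : ℕ} {K H : Subgroup G} (h : IsPCompOf p K H) : K ≤ play p H := by
  rw [← map_subgroupOf_eq_of_le h.1]; exact map_mono (le_pLayer h.2)

theorem play_le_of {p : ℕ} {H X : Subgroup G} (h : ∀ K, IsPCompOf p K H → K ≤ X) :
    play p H ≤ X := by
  rw [map_le_iff_le_comap]
  refine pLayer_le fun K hK => ?_
  rw [← map_le_iff_le_comap]
  exact h _ ⟨map_subtype_le K, by rwa [comap_map_subtype]⟩

theorem lay_le_of {H X : Subgroup G} (h : ∀ K, IsCompOf K H → K ≤ X) : lay H ≤ X := by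
  rw [lay, map_subtype_layer]; exact sSup_le h

theorem IsCompOf.le_lay {K H : Subgroup G} (h : IsCompOf K H) : K ≤ lay H :=
  le_map_subtype_layer h.1 h.2

theorem subgroupOf_subgroupOf_eq {K C H : Subgroup G} (h : C ≤ H) :
    K.subgroupOf C = ((K.subgroupOf H).subgroupOf (C.subgroupOf H)).map
      (subgroupOfEquivOfLe h : C.subgroupOf H →* C) := by
  ext x
  constructor
  · intro hx
    exact ⟨⟨⟨x, h x.2⟩, x.2⟩, hx, rfl⟩
  · rintro ⟨y, hy, rfl⟩
    exact hy

theorem IsCompOf.quasisimple {K H : Subgroup G} (h : IsCompOf K H) : IsQuasisimple K :=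
  (isQuasisimple_subgroupOf_iff h.1).mp h.2.2

theorem isSubnormal_subgroupOf_of_le {K C H : Subgroup G} (h : (K.subgroupOf H).IsSubnormal)
    (hCH : C ≤ H) : (K.subgroupOf C).IsSubnormal :=
  h.comap (inclusion hCH)

theorem isSubnormal_subgroupOf_trans {K C H : Subgroup G} (hKC : K ≤ C) (hCH : C ≤ H)
    (h1 : (K.subgroupOf C).IsSubnormal) (h2 : (C.subgroupOf H).IsSubnormal) :
    (K.subgroupOf H).IsSubnormal := by
  refine IsSubnormal.trans (K := C.subgroupOf H) (comap_mono hKC) ?_ h2
  exact h1.comap (subgroupOfEquivOfLe hCH : C.subgroupOf H →* C)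

theorem isSubnormal_subgroupOf_of_le_normalizer {K H : Subgroup G}
    (h : H ≤ normalizer (K : Set G)) : (K.subgroupOf H).IsSubnormal :=
  (normal_subgroupOf_of_le_normalizer h).isSubnormal

theorem IsCompOf.of_le {K C H : Subgroup G} (h : IsCompOf K H) (hKC : K ≤ C) (hCH : C ≤ H) :
    IsCompOf K C :=
  ⟨hKC, isSubnormal_subgroupOf_of_le h.2.1 hCH,
    (isQuasisimple_subgroupOf_iff hKC).mpr h.quasisimple⟩

theorem IsCompOf.trans {K C H : Subgroup G} (h : IsCompOf K C) (hCH : C ≤ H)
    (hs : (C.subgroupOf H).IsSubnormal) : IsCompOf K H :=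
  ⟨h.1.trans hCH, isSubnormal_subgroupOf_trans h.1 hCH h.2.1 hs,
    (isQuasisimple_subgroupOf_iff (h.1.trans hCH)).mpr h.quasisimple⟩

theorem IsComponent.isCompOf {K H : Subgroup G} (h : IsComponent K) (hle : K ≤ H) :
    IsCompOf K H := ⟨hle, IsComponent.subgroupOf h hle⟩

theorem IsCompOf.isComponent {K H : Subgroup G} (h : IsCompOf K H) (hH : H.IsSubnormal) :
    IsComponent K := IsComponent.of_subgroupOf hH h.1 h.2

theorem IsCompOf.le_or_comm {K H X : Subgroup G} (h : IsCompOf K H) (hX : X ≤ H)
    (hn : K ≤ normalizer (X : Set G)) : K ≤ X ∨ ⁅K, X⁆ = ⊥ := by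
  rcases IsComponent.le_or_comm_of_le_normalizer h.2 (comap_le_normalizer_comap hn H.subtype)
    with h1 | h1
  · left
    intro k hk
    exact h1 (show (⟨k, h.1 hk⟩ : H) ∈ K.subgroupOf H from hk)
  · right; exact comm_bot_of_subgroupOf h.1 hX h1

theorem IsCompOf.eq_or_comm {K L H : Subgroup G} (hK : IsCompOf K H) (hL : IsCompOf L H) :
    K = L ∨ ⁅K, L⁆ = ⊥ := by
  rcases IsComponent.eq_or_comm hK.2 hL.2 with h | h
  · left
    rw [← map_subgroupOf_eq_of_le hK.1, h, map_subgroupOf_eq_of_le hL.1]
  · right; exact comm_bot_of_subgroupOf hK.1 hL.1 h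

theorem subgroupOf_map_of_injective {K H : Subgroup G} {f : G →* G'} (hf : Function.Injective f) :
    (K.map f).subgroupOf (H.map f) =
      (K.subgroupOf H).map ((H.equivMapOfInjective f hf : H ≃* H.map f) : H →* H.map f) := by
  ext ⟨_, x, hx, rfl⟩
  constructor
  · rintro ⟨y, hy, e⟩
    have : y = x := hf e
    exact ⟨⟨x, hx⟩, this ▸ hy, rfl⟩
  · rintro ⟨y, hy, e⟩
    exact ⟨y, hy, congrArg Subtype.val e⟩

theorem IsCompOf.map_of_injective {K H : Subgroup G} (h : IsCompOf K H) {f : G →* G'}
    (hf : Function.Injective f) : IsCompOf (K.map f) (H.map f) :=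
  ⟨map_mono h.1, by rw [subgroupOf_map_of_injective hf]; exact IsComponent.map_equiv h.2 _⟩

theorem IsCompOf.conj {K H : Subgroup G} (h : IsCompOf K H) (g : G) :
    IsCompOf (K.map (MulAut.conj g).toMonoidHom) (H.map (MulAut.conj g).toMonoidHom) :=
  h.map_of_injective (MulAut.conj g).injective

section
variable [Finite G] {p : ℕ} [Fact p.Prime]

theorem isPCompOf_iff {K H : Subgroup G} : IsPCompOf p K H ↔
    K ≤ H ∧ (K.subgroupOf H).IsSubnormal ∧ pGen p K = K ∧ IsQuasisimple (K ⧸ pPrimeCore p K) := by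
  refine and_congr_right fun hle => ?_
  rw [isPComponent_iff]
  refine and_congr_right fun _ => and_congr ?_ ?_
  · rw [← map_subtype_inj, map_pGen_of_injective p _ H.subtype_injective,
      map_subgroupOf_eq_of_le hle]
  · exact isQuasisimple_congr (QuotientGroup.congr _ _ (subgroupOfEquivOfLe hle)
      (H2.map_pPrimeCore_equiv p _))

theorem IsPCompOf.of_le {K C H : Subgroup G} (h : IsPCompOf p K H) (hKC : K ≤ C) (hCH : C ≤ H) :
    IsPCompOf p K C := by
  rw [isPCompOf_iff] at h ⊢
  exact ⟨hKC, isSubnormal_subgroupOf_of_le h.2.1 hCH, h.2.2⟩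

theorem IsPCompOf.trans {K C H : Subgroup G} (h : IsPCompOf p K C) (hCH : C ≤ H)
    (hs : (C.subgroupOf H).IsSubnormal) : IsPCompOf p K H := by
  rw [isPCompOf_iff] at h ⊢
  exact ⟨h.1.trans hCH, isSubnormal_subgroupOf_trans h.1 hCH h.2.1 hs, h.2.2⟩

theorem IsPCompOf.perfect {K H : Subgroup G} (h : IsPCompOf p K H) : ⁅K, K⁆ = K := by
  have := congrArg (map H.subtype) (IsPComponent.perfect h.2)
  rwa [map_commutator, map_subgroupOf_eq_of_le h.1] at this

theorem IsPCompOf.dvd_card {K H : Subgroup G} (h : IsPCompOf p K H) : p ∣ Nat.card K := by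
  rw [← H2.card_subgroupOf_of_le h.1]; exact IsPComponent.dvd_card h.2

theorem IsPComponent.isPCompOf {K H : Subgroup G} (h : IsPComponent p K) (hle : K ≤ H) :
    IsPCompOf p K H := ⟨hle, IsPComponent.subgroupOf h hle⟩

theorem IsPCompOf.isPComponent {K H : Subgroup G} (h : IsPCompOf p K H) (hH : H.IsSubnormal) :
    IsPComponent p K := IsPComponent.of_subgroupOf hH h.1 h.2

theorem IsCompOf.isPCompOf {K H : Subgroup G} (h : IsCompOf K H) (hd : p ∣ Nat.card K) :
    IsPCompOf p K H :=
  ⟨h.1, IsComponent.isPComponent_of_dvd h.2 (by rwa [H2.card_subgroupOf_of_le h.1])⟩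

theorem IsPCompOf.map_of_injective [Finite G'] {K H : Subgroup G} (h : IsPCompOf p K H)
    {f : G →* G'} (hf : Function.Injective f) : IsPCompOf p (K.map f) (H.map f) :=
  ⟨map_mono h.1, by rw [subgroupOf_map_of_injective hf]; exact IsPComponent.map_equiv h.2 _⟩

theorem IsPCompOf.conj {K H : Subgroup G} (h : IsPCompOf p K H) (g : G) :
    IsPCompOf p (K.map (MulAut.conj g).toMonoidHom) (H.map (MulAut.conj g).toMonoidHom) :=
  h.map_of_injective (MulAut.conj g).injective

theorem play_mono_of_le {C H : Subgroup G} (h : play p H ≤ C) (hCH : C ≤ H) :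
    play p H ≤ play p C :=
  play_le_of fun _ hK => (hK.of_le (hK.le_play.trans h) hCH).le_play

theorem play_mono {C H : Subgroup G} (hCH : C ≤ H) (hs : (C.subgroupOf H).IsSubnormal) :
    play p C ≤ play p H :=
  play_le_of fun _ hK => (hK.trans hCH hs).le_play

theorem play_le_pLayer {C : Subgroup G} (hs : C.IsSubnormal) : play p C ≤ pLayer p G :=
  play_le_of fun _ hK => le_pLayer (hK.isPComponent hs)

theorem play_top : play p (⊤ : Subgroup G) = pLayer p G :=
  le_antisymm (play_le_pLayer IsSubnormal.top)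
    (pLayer_le fun _ hK => (IsPComponent.isPCompOf hK le_top).le_play)

theorem play_perfect (H : Subgroup G) : ⁅play p H, play p H⁆ = play p H := by
  rw [← map_commutator, pLayer_perfect]

theorem pGen_play (H : Subgroup G) : pGen p (play p H) = play p H := by
  rw [← map_pGen_of_injective p _ H.subtype_injective, pGen_pLayer]

theorem normalizer_le_normalizer_play (H : Subgroup G) :
    normalizer (H : Set G) ≤ normalizer ((play p H : Subgroup G) : Set G) :=
  normalizer_le_normalizer_map_subtype _

theorem map_play_of_cop_ker (H : Subgroup G) {f : G →* G'} (hk : (Nat.card f.ker).Coprime p) :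
    (play p H).map f = play p (H.map f) := by
  rw [play, play, ← map_pLayer_of_cop_ker (f.subgroupMap_surjective H)
    (by rw [ker_subgroupMap]; exact cop_subgroupOf hk H), map_map, map_map]
  rfl

theorem oppE_eq (H : Subgroup G) :
    ((layer (H ⧸ pPrimeCore p H)).comap (QuotientGroup.mk' (pPrimeCore p H))).map H.subtype =
      play p H ⊔ opp p H := by
  rw [comap_layer_piO, Subgroup.map_sup]

theorem play_sup_opp_comm_op (H : Subgroup G) : ⁅play p H ⊔ opp p H, op p H⁆ = ⊥ := by
  rw [← Subgroup.map_sup]; exact map_comm_bot (pLayer_comm_pCore p H) _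

theorem lay_le_play_sup_opp (H : Subgroup G) : lay H ≤ play p H ⊔ opp p H := by
  rw [← Subgroup.map_sup]; exact map_mono layer_le_pLayer_sup

end

end H23
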