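import Mathlib
import Cfsg.Prelude.Def_Balance
import Cfsg.Agent.H23.PComp

/-!
# `p`-local subgroups and components (consequences of the `P × Q` lemma), balance
-/

set_option autoImplicit false
set_option linter.unusedSectionVars false

namespace H23

open Cfsg Subgroup
open scoped commutatorElement

variable {G : Type*} [Group G] {G' : Type*} [Group G'] [Finite G] {p : ℕ} [hp : Fact p.Prime]

theorem cop_zpowers {x : G} (h : (orderOf x).Coprime p) : (Nat.card (zpowers x)).Coprime p := by
  rwa [Nat.card_zpowers]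

/-- a `p'`-group centralizing the `p`-group `P` and `C_{O_p(G)}(P)` centralizes `O_p(G)`. -/
theorem le_centralizer_pCore_of {P Y : Subgroup G} (hP : IsPGroup p P)
    (hY : (Nat.card Y).Coprime p) (h1 : ⁅Y, P⁆ = ⊥)
    (h2 : ⁅Y, pCore p G ⊓ centralizer (P : Set G)⁆ = ⊥) : Y ≤ centralizer (pCore p G : Set G) :=
  H1.p_times_q p P Y (pCore p G) hP hY (H2.pCore_isPGroup p G)
    (le_centralizer_of_comm_bot (comm_bot_symm h1)) le_normalizer_of_normal
    le_normalizer_of_normal (le_centralizer_of_comm_bot (comm_bot_symm h2))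

theorem le_op_normalizer {P : Subgroup G} (hP : IsPGroup p P) :
    P ≤ op p (normalizer (P : Set G)) := le_op le_normalizer le_rfl hP

theorem oppE_normalizer_comm {P : Subgroup G} (hP : IsPGroup p P) :
    ⁅play p (normalizer (P : Set G)) ⊔ opp p (normalizer (P : Set G)), P⁆ = ⊥ :=
  comm_bot_mono (play_sup_opp_comm_op _) le_rfl (le_op_normalizer hP)

theorem oppE_le_comm_sup {H C : Subgroup G} (h : opp p H ≤ C) :
    play p H ⊔ opp p H ≤ ⁅play p H ⊔ opp p H, play p H ⊔ opp p H⁆ ⊔ C := by
  refine sup_le_sup ?_ h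
  conv_lhs => rw [← play_perfect H]
  exact commutator_mono le_sup_left le_sup_left

theorem oppE_normalizer_le_centralizer_pCore {P : Subgroup G} (hP : IsPGroup p P) :
    play p (normalizer (P : Set G)) ⊔ opp p (normalizer (P : Set G)) ≤
      centralizer (pCore p G : Set G) := by
  have key : ∀ Y : Subgroup G, (Nat.card Y).Coprime p →
      Y ≤ play p (normalizer (P : Set G)) ⊔ opp p (normalizer (P : Set G)) →
      Y ≤ centralizer (pCore p G : Set G) := fun Y hY hle =>
    le_centralizer_pCore_of hP hY (comm_bot_mono (oppE_normalizer_comm hP) hle le_rfl)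
      (comm_bot_mono (play_sup_opp_comm_op _) hle
        ((inf_le_inf_left _ (centralizer_le_normalizer _)).trans (pCore_inf_le_op p _)))
  refine le_of_pPrime_mem_of_perfect_mod p (fun x hx hc => ?_)
    (oppE_le_comm_sup (key _ (opp_cop p _) le_sup_right))
  exact key (zpowers x) (cop_zpowers hc) (zpowers_le.mpr hx) (mem_zpowers x)

theorem normalizer_le_normalizer_centralizer (P : Subgroup G) :
    normalizer (P : Set G) ≤ normalizer ((centralizer (P : Set G) : Subgroup G) : Set G) :=
  le_normalizer_centralizer le_rfl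

theorem opp_centralizer_le_opp_normalizer (P : Subgroup G) :
    opp p (centralizer (P : Set G)) ≤ opp p (normalizer (P : Set G)) :=
  opp_mono (centralizer_le_normalizer _) (normalizer_le_normalizer_centralizer P)

theorem play_centralizer_le_play_normalizer (P : Subgroup G) :
    play p (centralizer (P : Set G)) ≤ play p (normalizer (P : Set G)) :=
  play_mono (centralizer_le_normalizer _)
    (isSubnormal_subgroupOf_of_le_normalizer (normalizer_le_normalizer_centralizer P))

theorem opp_normalizer_eq_opp_centralizer {P : Subgroup G} (hP : IsPGroup p P) :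
    opp p (normalizer (P : Set G)) = opp p (centralizer (P : Set G)) :=
  le_antisymm (le_opp_of_le_opp le_rfl
    (le_sup_right.trans (le_centralizer_of_comm_bot (oppE_normalizer_comm hP)))
    (centralizer_le_normalizer _)) (opp_centralizer_le_opp_normalizer P)

theorem play_normalizer_eq_play_centralizer {P : Subgroup G} (hP : IsPGroup p P) :
    play p (normalizer (P : Set G)) = play p (centralizer (P : Set G)) :=
  le_antisymm (play_mono_of_le
    (le_sup_left.trans (le_centralizer_of_comm_bot (oppE_normalizer_comm hP)))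
    (centralizer_le_normalizer _)) (play_centralizer_le_play_normalizer P)

theorem oppE_centralizer_le_centralizer_pCore {P : Subgroup G} (hP : IsPGroup p P) :
    play p (centralizer (P : Set G)) ⊔ opp p (centralizer (P : Set G)) ≤
      centralizer (pCore p G : Set G) := by
  rw [← opp_normalizer_eq_opp_centralizer hP, ← play_normalizer_eq_play_centralizer hP]
  exact oppE_normalizer_le_centralizer_pCore hP

theorem cpp_eq_opp_zpowers (x : G) :
    centralizerPPrimeCore p x = opp p (centralizer ((zpowers x : Subgroup G) : Set G)) := by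
  rw [centralizer_zpowers]; rfl

theorem cpp_le_centralizer_pCore {x : G} (hx : IsPGroup p (zpowers x)) :
    centralizerPPrimeCore p x ≤ centralizer (pCore p G : Set G) := by
  rw [cpp_eq_opp_zpowers]
  exact le_sup_right.trans (oppE_centralizer_le_centralizer_pCore hx)

theorem lay_normalizer_of_le_pCore {P : Subgroup G} (hP : P ≤ pCore p G) :
    lay (normalizer (P : Set G)) = layer G := by
  have hPp : IsPGroup p P := (H2.pCore_isPGroup p G).to_le hP
  apply le_antisymm
  · refine lay_le_of fun K hK => le_layer ?_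
    have h1 : K ≤ centralizer (pCore p G : Set G) :=
      hK.le_lay.trans ((lay_le_play_sup_opp _).trans (oppE_normalizer_le_centralizer_pCore hPp))
    exact (hK.of_le h1 ((H2.centralizer_anti hP).trans
      (centralizer_le_normalizer _))).isComponent (normal_centralizer.isSubnormal)
  · exact layer_le_map_subtype_layer
      (le_normalizer_of_comm_bot (comm_bot_mono (layer_comm_pCore p G) le_rfl hP))

theorem eq_bot_of_perfect_of_isPGroup {K : Subgroup G} (h : ⁅K, K⁆ = K) (hK : IsPGroup p K) :
    K = ⊥ := eq_bot_of_perfect_of_solvable h (solv_of_isPGroup hK)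

theorem lay_perfect (H : Subgroup G) : ⁅lay H, lay H⁆ = lay H := by
  rw [← map_commutator, layer_perfect]

theorem fstar_eq_pCore_of_oppE_isPGroup {H : Subgroup G}
    (h : IsPGroup p ↥(play p H ⊔ opp p H)) : generalizedFittingSubgroup H = pCore p H := by
  rw [fstar_eq_pCore_iff', ← opp_eq_bot_iff,
    ← map_eq_bot_iff_of_injective _ H.subtype_injective]
  exact ⟨eq_bot_of_perfect_of_isPGroup (lay_perfect H) (h.to_le (lay_le_play_sup_opp H)),
    H2.IsPGroup.eq_bot_of_coprime (h.to_le le_sup_right) (opp_cop p H)⟩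

theorem fstar_normalizer_eq_pCore (h : generalizedFittingSubgroup G = pCore p G) {P : Subgroup G}
    (hP : IsPGroup p P) :
    generalizedFittingSubgroup (normalizer (P : Set G)) = pCore p (normalizer (P : Set G)) :=
  fstar_eq_pCore_of_oppE_isPGroup ((H2.pCore_isPGroup p G).to_le
    ((oppE_normalizer_le_centralizer_pCore hP).trans (fstar_eq_pCore_iff.mp h)))

theorem fstar_centralizer_eq_pCore (h : generalizedFittingSubgroup G = pCore p G) {P : Subgroup G}
    (hP : IsPGroup p P) :
    generalizedFittingSubgroup (centralizer (P : Set G)) = pCore p (centralizer (P : Set G)) :=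
  fstar_eq_pCore_of_oppE_isPGroup ((H2.pCore_isPGroup p G).to_le
    ((oppE_centralizer_le_centralizer_pCore hP).trans (fstar_eq_pCore_iff.mp h)))

/-- the intersection of the normalizers of all components. -/
def compKer (G : Type*) [Group G] : Subgroup G :=
  ⨅ L : {L : Subgroup G // IsComponent L}, normalizer ((L : Subgroup G) : Set G)

theorem mem_compKer {x : G} :
    x ∈ compKer G ↔ ∀ L : Subgroup G, IsComponent L → x ∈ normalizer (L : Set G) := by
  simp [compKer, mem_iInf]

instance compKer_normal (G : Type*) [Group G] : (compKer G).Normal := by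
  refine ⟨fun x hx g => ?_⟩
  simp only [compKer, mem_iInf] at hx ⊢
  intro L
  have := hx ⟨_, IsComponent.conj L.2 g⁻¹⟩
  rw [mem_normalizer_iff_map_conj] at this ⊢
  rw [map_conj_mul, map_conj_mul, this]
  simpa using map_conj_conj_inv (L : Subgroup G) g⁻¹

theorem sylow_inf_normal_exists (D : Subgroup G) (P : Subgroup G) (hP : IsPGroup p P)
    (hD : P ≤ normalizer (D : Set G)) :
    ∃ S : Subgroup G, S ≤ D ∧ IsPGroup p S ∧ P ≤ normalizer (S : Set G) ∧
      ¬ p ∣ S.relIndex D := by
  have hn : (D.subgroupOf (P ⊔ D)).Normal := normal_subgroupOf_sup_of_le_normalizer hD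
  obtain ⟨T, hT⟩ := (hP.comap_subtype (K := P ⊔ D)).exists_le_sylow
  refine ⟨(T : Subgroup ↥(P ⊔ D)).map (P ⊔ D).subtype ⊓ D, inf_le_right,
    (T.isPGroup'.map _).to_inf_left, le_normalizer_inf (le_normalizer_of_le ?_) hD, ?_⟩
  · exact (map_subgroupOf_eq_of_le (le_sup_left : P ≤ P ⊔ D)).ge.trans (map_mono hT)
  · rw [inf_relIndex_right, ← relIndex_subgroupOf (le_sup_right : D ≤ P ⊔ D), comap_map_subtype]
    intro h
    exact T.not_dvd_index (h.trans (Dvd.intro _ (H1.relIndex_mul_index_sup _ _)))

/-- a `p`-subgroup `S` normalized by the `p`-group `P` and not inside the `P S`-invariant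
subgroup `Z` contains an element outside `Z` centralizing `P` modulo `Z`. -/
theorem exists_mem_comm_le {S Z P : Subgroup G} (hS : IsPGroup p S) (hP : IsPGroup p P)
    (hPS : P ≤ normalizer (S : Set G)) (hSZ : S ≤ normalizer (Z : Set G))
    (hPZ : P ≤ normalizer (Z : Set G)) (hn : ¬ S ≤ Z) :
    ∃ s ∈ S, s ∉ Z ∧ ∀ g ∈ P, ⁅s, g⁆ ∈ Z := by
  set H := P ⊔ S with hH
  have hHp : IsPGroup p H := isPGroup_sup hP hS hPS
  have : Group.IsNilpotent H := hHp.isNilpotent
  have h1 : (Z.subgroupOf H).Normal := normal_subgroupOf_of_le_normalizer (sup_le hPZ hSZ)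
  have h2 : (S.subgroupOf H).Normal := normal_subgroupOf_sup_of_le_normalizer hPS
  obtain ⟨x, hx, hxZ, hc⟩ := H2.exists_mem_central_mod (N := Z.subgroupOf H) (C := S.subgroupOf H)
    (fun h => hn fun s hs => h (show (⟨s, mem_sup_right hs⟩ : H) ∈ S.subgroupOf H from hs))
  refine ⟨x, hx, hxZ, fun g hg => ?_⟩
  exact hc (commutator_mem_commutator (mem_zpowers x) (mem_top (⟨g, mem_sup_left hg⟩ : H)))

theorem oppE_normalizer_le_compKer_aux (hO : pPrimeCore p G = ⊥) {P : Subgroup G}
    (hP : IsPGroup p P) (hOP : pCore p G ≤ P) :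
    play p (normalizer (P : Set G)) ⊔ opp p (normalizer (P : Set G)) ≤ compKer G := by
  set N := normalizer (P : Set G) with hN
  set X := play p N ⊔ opp p N with hX
  have hXP : X ≤ centralizer (P : Set G) := le_centralizer_of_comm_bot (oppE_normalizer_comm hP)
  -- every element of `X` maps a component into its `P`-orbit
  have key : ∀ x ∈ X, ∀ L : Subgroup G, IsComponent L → ∃ g ∈ P,
      L.map (MulAut.conj x).toMonoidHom = L.map (MulAut.conj g).toMonoidHom := by
    intro x hx L hL
    by_contra hne
    push Not at hne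
    set Δ : Set (Subgroup G) := {K | ∃ g ∈ P, K = L.map (MulAut.conj g).toMonoidHom} with hΔ
    have hΔc : ∀ K ∈ Δ, IsComponent K := by
      rintro _ ⟨g, -, rfl⟩; exact IsComponent.conj hL g
    set D := sSup Δ with hD
    have hLD : L ≤ D := le_sSup ⟨1, P.one_mem, (map_conj_one L).symm⟩
    have hDE : D ≤ layer G := sSup_le fun K hK => le_layer (hΔc K hK)
    have hPD : P ≤ normalizer (D : Set G) := by
      intro h hh
      have aux : ∀ h ∈ P, D.map (MulAut.conj h).toMonoidHom ≤ D := by
        intro h hh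
        rw [map_le_iff_le_comap]
        refine sSup_le ?_
        rintro _ ⟨g, hg, rfl⟩
        rw [← map_le_iff_le_comap, ← map_conj_mul]
        exact le_sSup ⟨h * g, P.mul_mem hh hg, rfl⟩
      rw [mem_normalizer_iff_map_conj]
      exact eq_of_le_of_card_ge (aux h hh) (card_map_conj D h).ge
    have hDx : ⁅D.map (MulAut.conj x).toMonoidHom, D⁆ = ⊥ := by
      refine comm_bot_of_le_centralizer ?_
      rw [map_le_iff_le_comap]
      refine sSup_le ?_
      rintro _ ⟨g, hg, rfl⟩
      rw [← map_le_iff_le_comap, ← map_conj_mul]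
      refine le_centralizer_of_comm_bot (comm_bot_symm (comm_sSup_bot ?_))
      rintro _ ⟨g', hg', rfl⟩
      refine (IsComponent.eq_or_comm (IsComponent.conj hL g')
        (IsComponent.conj hL (x * g))).resolve_left fun e => hne (g⁻¹ * g')
          (P.mul_mem (P.inv_mem hg) hg') ?_
      rw [map_conj_mul, e, ← hXP hx g hg, map_conj_mul, map_conj_conj_inv]
    obtain ⟨S, hSD, hSp, hPS, hSi⟩ := sylow_inf_normal_exists D P hP hPD
    have hDsn : D.IsSubnormal := isSubnormal_sSup_components hΔc
    have hZP : D ⊓ centralizer (D : Set G) ≤ P := by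
      refine (center_le_fitting_of_isSubnormal hDsn).trans ?_
      rw [H2.fitting_eq_pCore_of_pPrimeCore_eq_bot hO]; exact hOP
    have hDp : ⁅D, D⁆ = D := le_antisymm (commutator_le_self D) (sSup_le fun K hK => by
      rw [← IsComponent.perfect (hΔc K hK)]
      exact commutator_mono (le_sSup hK) (le_sSup hK))
    have hSZ : ¬ S ≤ D ⊓ centralizer (D : Set G) := fun h =>
      hSi ((dvd_relIndex_centralizer_of_perfect hDp hp.out
        ((IsComponent.dvd_card hO hL).trans (card_dvd_of_le hLD))).trans
          (relIndex_dvd_of_le_left _ (h.trans inf_le_right)))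
    obtain ⟨s, hsS, hsZ, hs⟩ := exists_mem_comm_le hSp hP hPS
      (le_normalizer_inf (le_normalizer_of_le hSD)
        (le_normalizer_centralizer (le_normalizer_of_le hSD)))
      (le_normalizer_inf hPD (le_normalizer_centralizer hPD)) hSZ
    have hsN : s ∈ N := by
      refine mem_normalizer_fintype fun g hg => ?_
      have : s * g * s⁻¹ = ⁅s, g⁆ * g := by rw [commutatorElement_def]; group
      rw [this]
      exact P.mul_mem (hZP (hs g hg)) hg
    have h1 : X ≤ normalizer ((pGen p (D ⊓ N) : Subgroup G) : Set G) := by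
      have h2 := map_le_normalizer_map
        (pLayer_sup_le_normalizer_pGen (p := p) (hDsn.subgroupOf (K := N))) N.subtype
      rwa [Subgroup.map_sup, map_pGen_of_injective p _ N.subtype_injective,
        subgroupOf_map_subtype] at h2
    have h3 : s ∈ pGen p (D ⊓ N) :=
      le_pGen (zpowers_le.mpr (show s ∈ D ⊓ N from ⟨hSD hsS, hsN⟩))
        (hSp.to_le (zpowers_le.mpr hsS)) (mem_zpowers s)
    have h4 : x⁻¹ * s * x ∈ D := (pGen_le p _ (conj_mem' h1 hx h3)).1
    exact hsZ ⟨hSD hsS, le_centralizer_of_comm_bot hDx (mem_map_conj.mpr h4)⟩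
  have key2 : ∀ x ∈ X, (orderOf x).Coprime p → x ∈ compKer G := by
    intro x hx hc
    rw [mem_compKer]
    intro L hL
    obtain ⟨g, hg, e⟩ := key x hx L hL
    have hpow : ∀ n : ℕ, L.map (MulAut.conj (x ^ n)).toMonoidHom =
        L.map (MulAut.conj (g ^ n)).toMonoidHom := by
      intro n
      induction n with
      | zero => simp
      | succ n ih =>
        rw [pow_succ', map_conj_mul, ih, ← map_conj_mul, ← hXP hx _ (P.pow_mem hg n), map_conj_mul,
          e, ← map_conj_mul, pow_succ]
    obtain ⟨k, hk⟩ := hP ⟨g, hg⟩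
    have hk' : g ^ p ^ k = 1 := congrArg Subtype.val hk
    refine mem_of_pow_mem_of_coprime (hc.pow_right k) ?_
    rw [mem_normalizer_iff_map_conj, hpow, hk', map_conj_one]
  refine le_of_pPrime_mem_of_perfect_mod p key2 (oppE_le_comm_sup fun x hx => ?_)
  exact key2 x (mem_sup_right hx)
    (Nat.Coprime.coprime_dvd_left (orderOf_dvd_natCard _ hx) (opp_cop p N))

theorem oppE_centralizer_le_compKer (hO : pPrimeCore p G = ⊥) {P : Subgroup G}
    (hP : IsPGroup p P) :
    play p (centralizer (P : Set G)) ⊔ opp p (centralizer (P : Set G)) ≤ compKer G := by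
  have hP' : IsPGroup p ↥(P ⊔ pCore p G) := hP.to_sup_of_normal_right (H2.pCore_isPGroup p G)
  refine le_trans ?_ (oppE_normalizer_le_compKer_aux hO hP' le_sup_right)
  rw [opp_normalizer_eq_opp_centralizer hP', play_normalizer_eq_play_centralizer hP']
  have h1 : play p (centralizer (P : Set G)) ⊔ opp p (centralizer (P : Set G)) ≤
      centralizer ((P ⊔ pCore p G : Subgroup G) : Set G) := by
    rw [centralizer_sup]
    exact le_inf (sup_le (play_le _ _) (opp_le _ _)) (oppE_centralizer_le_centralizer_pCore hP)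
  exact sup_le_sup (play_mono_of_le (le_sup_left.trans h1) (H2.centralizer_anti le_sup_left))
    (le_opp_of_le_opp le_rfl (le_sup_right.trans h1) (H2.centralizer_anti le_sup_left))

theorem oppE_normalizer_le_compKer (hO : pPrimeCore p G = ⊥) {P : Subgroup G}
    (hP : IsPGroup p P) :
    play p (normalizer (P : Set G)) ⊔ opp p (normalizer (P : Set G)) ≤ compKer G := by
  rw [opp_normalizer_eq_opp_centralizer hP, play_normalizer_eq_play_centralizer hP]
  exact oppE_centralizer_le_compKer hO hP

theorem cpp_le_normalizer_component (hO : pPrimeCore p G = ⊥) {x : G}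
    (hx : IsPGroup p (zpowers x)) {L : Subgroup G} (hL : IsComponent L) :
    centralizerPPrimeCore p x ≤ normalizer (L : Set G) := by
  rw [cpp_eq_opp_zpowers]
  exact fun y hy => mem_compKer.mp (oppE_centralizer_le_compKer hO hx (mem_sup_right hy)) L hL

/-- if `x` of prime order `p` does not normalize the component `L`, each element of `L` is,
modulo `C(L)`, in `C(x)` (diagonal argument). -/
theorem exists_centralizer_mul_mem {x : G} (hx : x ^ p = 1) {L : Subgroup G}
    (hL : IsComponent L) (hn : x ∉ normalizer (L : Set G)) {l : G} (hl : l ∈ L) :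
    ∃ c ∈ centralizer (L : Set G), l * c ∈ centralizer ({x} : Set G) := by
  have key : ∀ n : ℕ, n < p → ∃ c ∈ centralizer (L : Set G), (l * x) ^ (n + 1) = l * c * x ^ (n + 1) := by
    intro n
    induction n with
    | zero => intro _; exact ⟨1, one_mem _, by simp⟩
    | succ n ih =>
      intro hlt
      obtain ⟨c, hc, e⟩ := ih (by omega)
      refine ⟨c * (x ^ (n + 1) * l * (x ^ (n + 1))⁻¹), mul_mem hc ?_, ?_⟩
      · refine le_centralizer_of_comm_bot ((IsComponent.eq_or_comm
          (IsComponent.conj hL (x ^ (n + 1))) hL).resolve_left fun e' => hn ?_) ⟨l, hl, rfl⟩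
        refine mem_of_pow_mem_of_coprime (n := n + 1) ?_ (mem_normalizer_iff_map_conj.mpr e')
        refine Nat.Coprime.coprime_dvd_left (orderOf_dvd_of_pow_eq_one hx) ?_
        exact (Nat.coprime_of_lt_prime (by omega) hlt hp.out)
      · rw [pow_succ, e]; group
  obtain ⟨c, hc, e⟩ := key (p - 1) (Nat.sub_lt hp.out.pos one_pos)
  rw [Nat.sub_add_cancel hp.out.one_le, hx, mul_one] at e
  refine ⟨c, hc, ?_⟩
  rw [mem_centralizer_singleton_iff]
  have h1 : l * c * (l * x) = l * x * (l * c) := by
    rw [← e]; exact (Commute.self_pow (l * x) p).eq.symm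
  have h2 : l * c = c * l := hc l hl
  calc l * c * x = l⁻¹ * (l * (l * c) * x) := by group
    _ = l⁻¹ * (l * (c * l) * x) := by rw [h2]
    _ = l⁻¹ * (l * c * (l * x)) := by group
    _ = l⁻¹ * (l * x * (l * c)) := by rw [h1]
    _ = x * (l * c) := by group

theorem comm_eq_bot_of_comm_zpowers_ne {x : G} {L : Subgroup G} (hL : IsQuasisimple L)
    (hn : x ∈ normalizer (L : Set G)) (hne : ⁅L, zpowers x⁆ ≠ L) : ⁅L, zpowers x⁆ = ⊥ := by
  have h1 := (IsQuasisimple.eq_or_comm hL (commutator_le_left_of (zpowers_le.mpr hn))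
    (normalizer_commutator_ge_left L _)).resolve_left hne
  rw [commutator_comm L] at h1
  exact comm_bot_symm (comm_bot_of_comm_comm_bot (IsQuasisimple.perfect hL) h1)

theorem mem_normalizer_of_comm_eq {x : G} {L : Subgroup G} (h : ⁅L, zpowers x⁆ = L) :
    x ∈ normalizer (L : Set G) := by
  have := normalizer_commutator_ge_right L (zpowers x) (mem_zpowers x)
  rwa [h] at this

theorem component_comm_cpp (hO : pPrimeCore p G = ⊥) {x : G} (hx : x ^ p = 1) {L : Subgroup G}
    (hL : IsComponent L) (hne : ⁅L, zpowers x⁆ ≠ L) : ⁅L, centralizerPPrimeCore p x⁆ = ⊥ := by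
  have hYL := cpp_le_normalizer_component hO (isPGroup_zpowers_of_pow hx) hL
  have key : ∀ l ∈ L, ∃ c ∈ centralizer (L : Set G), l * c ∈ centralizer ({x} : Set G) := by
    intro l hl
    by_cases hn : x ∈ normalizer (L : Set G)
    · refine ⟨1, one_mem _, ?_⟩
      rw [mul_one, ← centralizer_zpowers]
      exact le_centralizer_of_comm_bot (comm_eq_bot_of_comm_zpowers_ne hL.2 hn hne) hl
    · exact exists_centralizer_mul_mem hx hL hn hl
  have h1 : L ≤ normalizer
      ((centralizerPPrimeCore p x ⊔ centralizer (L : Set G) : Subgroup G) : Set G) := by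
    intro l hl
    obtain ⟨c, hc, hlc⟩ := key l hl
    have e : l = l * c * c⁻¹ := by group
    rw [e]
    refine mul_mem ?_ (inv_mem (le_normalizer (mem_sup_right hc)))
    exact normalizer_inf_normalizer_le_normalizer_sup _ _ ⟨centralizer_le_normalizer_cpp p x hlc,
      normalizer_le_normalizer_centralizer L
        (mul_mem (le_normalizer hl) (centralizer_le_normalizer _ hc))⟩
  rcases IsComponent.le_or_comm_of_le_normalizer hL h1 with h | h
  · exact absurd h (not_le_sup_centralizer (IsComponent.perfect hL) (IsComponent.dvd_card hO hL)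
      (cpp_cop p x) hYL)
  · exact comm_bot_mono h le_rfl le_sup_left

/-- a `p'`-subgroup centralizing `O_p(G)` and all components is trivial if `O_{p'}(G) = 1`. -/
theorem eq_bot_of_comm_layer (hO : pPrimeCore p G = ⊥) {Y : Subgroup G}
    (hY : (Nat.card Y).Coprime p) (h1 : Y ≤ centralizer (pCore p G : Set G))
    (h2 : ∀ L : Subgroup G, IsComponent L → ⁅L, Y⁆ = ⊥) : Y = ⊥ := by
  have h3 := le_fitting_of_comm (comm_bot_symm (layer_comm h2))
    (by rw [H2.fitting_eq_pCore_of_pPrimeCore_eq_bot hO]; exact comm_bot_of_le_centralizer h1)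
  rw [H2.fitting_eq_pCore_of_pPrimeCore_eq_bot hO] at h3
  exact H2.IsPGroup.eq_bot_of_coprime ((H2.pCore_isPGroup p G).to_le h3) hY

theorem exists_unbalanced_component (hO : pPrimeCore p G = ⊥) {x : G} (hx : x ^ p = 1)
    {Y : Subgroup G} (hY : Y ≤ centralizerPPrimeCore p x) (hne : Y ≠ ⊥) :
    ∃ L : Subgroup G, IsComponent L ∧ ⁅L, Y⁆ ≠ ⊥ ∧ ⁅L, zpowers x⁆ = L ∧
      Y ≤ normalizer (L : Set G) := by
  by_contra h
  push Not at h
  refine hne (eq_bot_of_comm_layer hO (cop_of_le (cpp_cop p x) hY)
    (hY.trans (cpp_le_centralizer_pCore (isPGroup_zpowers_of_pow hx))) fun L hL => ?_)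
  by_contra hc
  by_cases e : ⁅L, zpowers x⁆ = L
  · exact h L hL hc e (hY.trans (cpp_le_normalizer_component hO (isPGroup_zpowers_of_pow hx) hL))
  · exact hc (comm_bot_mono (component_comm_cpp hO hx hL e) le_rfl hY)

/-- passing `O_{p'}(C(a))` to the group induced on a component. -/
theorem map_le_cpp_of_component (hO : pPrimeCore p G = ⊥) {L B Y : Subgroup G}
    (hL : IsComponent L) {a : G} (ha : IsPGroup p (zpowers a)) (haB : a ∈ B)
    (hBL : B ≤ normalizer (L : Set G)) (hBa : B ≤ centralizer {a}) (hYB : Y ≤ B)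
    (hY : Y ≤ centralizerPPrimeCore p a) {H' : Type*} [Group H'] (f : ↥(L ⊔ B) →* H')
    (hf : Function.Surjective f) (hker : f.ker ≤ (centralizer (L : Set G)).subgroupOf (L ⊔ B)) :
    (Y.subgroupOf (L ⊔ B)).map f ≤ centralizerPPrimeCore p (f ⟨a, mem_sup_right haB⟩) := by
  set a' : ↥(L ⊔ B) := ⟨a, mem_sup_right haB⟩ with ha'
  set M₀ := (centralizer ({f a'} : Set H')).comap f with hM₀
  set M := M₀.map (L ⊔ B).subtype with hM
  set Z := L ⊓ centralizer (L : Set G) with hZ
  set P := zpowers a ⊔ Z with hP
  have hZO : Z ≤ pCore p G := by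
    rw [← H2.fitting_eq_pCore_of_pPrimeCore_eq_bot hO]
    exact center_le_fitting_of_isSubnormal hL.1
  have hNZ : normalizer (L : Set G) ≤ normalizer (Z : Set G) :=
    le_normalizer_inf le_rfl (normalizer_le_normalizer_centralizer L)
  have hMP : M ≤ normalizer (P : Set G) := by
    rintro _ ⟨m, hm, rfl⟩
    obtain ⟨l, hl, b, hb, e⟩ := mem_sup_of_le_normalizer_left hBL m.2
    have hmZ : (m : G) ∈ normalizer (Z : Set G) := hNZ (sup_le le_normalizer hBL m.2)
    have hba : b * a = a * b := mem_centralizer_singleton_iff.mp (hBa hb)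
    have hc : (m : G) * a * (m : G)⁻¹ * a⁻¹ ∈ Z := by
      refine ⟨?_, ?_⟩
      · have : (m : G) * a * (m : G)⁻¹ * a⁻¹ = l * (a * l⁻¹ * a⁻¹) := by
          rw [← e, mul_assoc l b a, hba]; group
        rw [this]
        exact L.mul_mem hl (conj_mem hBL haB (L.inv_mem hl))
      · have h1 : m * a' * m⁻¹ * a'⁻¹ ∈ f.ker := by
          have : f m * f a' = f a' * f m := mem_centralizer_singleton_iff.mp hm
          rw [MonoidHom.mem_ker]
          simp only [map_mul, map_inv]
          rw [this]; group
        exact hker h1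
    have h2 : P.map (MulAut.conj (m : G)).toMonoidHom ≤ P := by
      rw [hP, Subgroup.map_sup, mem_normalizer_iff_map_conj.mp hmZ, MonoidHom.map_zpowers]
      refine sup_le (zpowers_le.mpr ?_) le_sup_right
      have : (MulAut.conj (m : G)).toMonoidHom a = ((m : G) * a * (m : G)⁻¹ * a⁻¹) * a := by simp
      rw [this]
      exact mul_mem (mem_sup_right hc) (mem_sup_left (mem_zpowers a))
    exact mem_normalizer_iff_map_conj.mpr (eq_of_le_of_card_ge h2 (card_map_conj P _).ge)
  have hYM : Y ≤ M := by
    intro y hy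
    refine ⟨⟨y, mem_sup_right (hYB hy)⟩, ?_, rfl⟩
    rw [hM₀, SetLike.mem_coe, mem_comap, mem_centralizer_singleton_iff, ← map_mul, ← map_mul]
    congr 1
    exact Subtype.ext (mem_centralizer_singleton_iff.mp (hBa (hYB hy)))
  have hYP : Y ≤ centralizer (P : Set G) := by
    rw [hP, centralizer_sup, centralizer_zpowers]
    exact le_inf (hYB.trans hBa)
      (hY.trans ((cpp_le_centralizer_pCore ha).trans (H2.centralizer_anti hZO)))
  have h1 : Y ≤ opp p (M ⊓ centralizer (P : Set G)) := by
    refine le_opp_of_le_opp hY (le_inf hYM hYP) (inf_le_right.trans ?_)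
    rw [← centralizer_zpowers]; exact H2.centralizer_anti le_sup_left
  have h2 : Y ≤ opp p M :=
    h1.trans (opp_mono inf_le_left (le_normalizer_inf le_normalizer (le_normalizer_centralizer hMP)))
  have h3 : Y.subgroupOf (L ⊔ B) ≤ opp p M₀ := by
    rw [← comap_map_subtype (opp p M₀), map_opp_of_injective p _ (L ⊔ B).subtype_injective]
    exact comap_mono h2
  refine (map_mono h3).trans ((map_opp_le p M₀ f).trans ?_)
  rw [hM₀, map_comap_eq_self_of_surjective hf]; rfl

theorem pPrimeCore_quot_centralizer_eq_bot (hO : pPrimeCore p G = ⊥) {L H : Subgroup G}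
    (hL : IsComponent L) (hLH : L ≤ H) [((centralizer (L : Set G)).subgroupOf H).Normal] :
    pPrimeCore p (H ⧸ (centralizer (L : Set G)).subgroupOf H) = ⊥ := by
  set f := QuotientGroup.mk' ((centralizer (L : Set G)).subgroupOf H) with hf
  set W := (pPrimeCore p (H ⧸ (centralizer (L : Set G)).subgroupOf H)).comap f with hW
  have hf' : Function.Surjective f := QuotientGroup.mk'_surjective _
  rcases IsComponent.le_or_comm_of_le_normalizer hL
    (hLH.trans (le_normalizer_map_subtype_of_normal W)) with h | h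
  · exfalso
    have h1 : (L.subgroupOf H).map f ≤ pPrimeCore p _ := by
      rw [map_le_iff_le_comap, ← hW, ← comap_map_subtype W]
      exact comap_mono h
    have h2 := cop_of_le (H2.pPrimeCore_coprime p _) h1
    rw [← relIndex_ker, QuotientGroup.ker_mk', relIndex_subgroupOf hLH] at h2
    exact cop_iff_not_dvd.mp h2 (dvd_relIndex_centralizer_of_perfect (IsComponent.perfect hL)
      hp.out (IsComponent.dvd_card hO hL))
  · rw [← map_comap_eq_self_of_surjective hf' (pPrimeCore p _), ← hW, H2.map_mk'_eq_bot_iff,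
      ← comap_map_subtype W]
    exact comap_mono (le_centralizer_of_comm_bot (comm_bot_symm h))

theorem isBalancedFor_of_components (hO : pPrimeCore p G = ⊥)
    (h : ∀ L : Subgroup G, IsComponent L → ∀ H : Subgroup G, L ≤ H → (L.subgroupOf H).Normal →
      ∀ [((centralizer (L : Set G)).subgroupOf H).Normal],
        IsBalancedFor p (↥H ⧸ (centralizer (L : Set G)).subgroupOf H)) : IsBalancedFor p G := by
  intro x hx
  have hx1 : x ^ p = 1 := by rw [← hx]; exact pow_orderOf_eq_one x
  rw [hO, le_bot_iff]
  by_contra hne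
  obtain ⟨L, hL, h1, h2, h3⟩ := exists_unbalanced_component hO hx1 le_rfl hne
  set B := normalizer (L : Set G) ⊓ centralizer {x} with hB
  have hxB : x ∈ B := ⟨mem_normalizer_of_comm_eq h2, mem_centralizer_singleton_self x⟩
  have hN : L ⊔ B ≤ normalizer (L : Set G) := sup_le le_normalizer inf_le_left
  have : ((centralizer (L : Set G)).subgroupOf (L ⊔ B)).Normal :=
    normal_subgroupOf_of_le_normalizer (le_normalizer_centralizer hN)
  have h4 := map_le_cpp_of_component hO hL (isPGroup_zpowers_of_pow hx1) hxB inf_le_left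
    inf_le_right (le_inf h3 (cpp_le p x)) le_rfl
    (QuotientGroup.mk' ((centralizer (L : Set G)).subgroupOf (L ⊔ B)))
    (QuotientGroup.mk'_surjective _) (QuotientGroup.ker_mk' _).le
  have h5 := h L hL (L ⊔ B) le_sup_left (normal_subgroupOf_of_le_normalizer hN)
    (QuotientGroup.mk' ((centralizer (L : Set G)).subgroupOf (L ⊔ B)) ⟨x, mem_sup_right hxB⟩) (by
      refine orderOf_eq_prime ?_ fun e => ?_
      · rw [← map_pow, show (⟨x, mem_sup_right hxB⟩ : ↥(L ⊔ B)) ^ p = 1 from Subtype.ext hx1,
          map_one]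
      · have e' : x ∈ centralizer (L : Set G) :=
          (QuotientGroup.eq_one_iff (⟨x, mem_sup_right hxB⟩ : ↥(L ⊔ B))).mp e
        have := comm_bot_symm (comm_bot_of_le_centralizer (zpowers_le.mpr e'))
        exact IsComponent.ne_bot hL (h2.symm.trans this))
  rw [pPrimeCore_quot_centralizer_eq_bot hO hL le_sup_left] at h5
  have h6 := h4.trans h5
  rw [le_bot_iff, H2.map_mk'_eq_bot_iff] at h6
  refine h1 (comm_bot_symm (comm_bot_of_le_centralizer fun y hy => ?_))
  exact h6 (show (⟨y, mem_sup_right ⟨h3 hy, cpp_le p x hy⟩⟩ : ↥(L ⊔ B)) ∈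
    (centralizerPPrimeCore p x).subgroupOf (L ⊔ B) from hy)

end H23
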