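import Mathlib
import Cfsg.Prelude.Def_Balance
import Cfsg.Agent.H23.Local

/-!
# `k`-balance, `p`-constraint, the extended 2-layer
-/

set_option autoImplicit false
set_option linter.unusedSectionVars false

namespace H23

open Cfsg Subgroup
open scoped commutatorElement

variable {G : Type*} [Group G] {G' : Type*} [Group G']

/-- the automorphism induced on a quotient by a characteristic subgroup. -/
def autQuot (K : Type*) [Group K] (N : Subgroup K) [hN : N.Characteristic] :
    MulAut K →* MulAut (K ⧸ N) where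
  toFun e := QuotientGroup.congr N N e (characteristic_iff_map_eq.mp hN e)
  map_one' := by ext ⟨x⟩; rfl
  map_mul' a b := by ext ⟨x⟩; rfl

theorem autQuot_apply {K : Type*} [Group K] (N : Subgroup K) [N.Characteristic] (e : MulAut K)
    (x : K) : autQuot K N e (x : K ⧸ N) = (e x : K ⧸ N) := rfl

/-- the action of a subgroup of `N(L)` on `L / Z(L)`. -/
def actQuot (L H : Subgroup G) (h : H ≤ normalizer (L : Set G)) : H →* MulAut (L ⧸ center L) :=
  (autQuot L (center L)).comp (L.normalizerMonoidHom.comp (inclusion h))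

theorem actQuot_apply {L H : Subgroup G} (h : H ≤ normalizer (L : Set G)) (g : H) (l : L) :
    actQuot L H h g (l : L ⧸ center L) =
      ((⟨g * l * (g : G)⁻¹, conj_mem h g.2 l.2⟩ : L) : L ⧸ center L) := rfl

theorem ker_actQuot {L H : Subgroup G} (hL : ⁅L, L⁆ = L) (h : H ≤ normalizer (L : Set G)) :
    (actQuot L H h).ker = (centralizer (L : Set G)).subgroupOf H := by
  ext g
  rw [MonoidHom.mem_ker, mem_subgroupOf]
  constructor
  · intro hg
    have h1 : ⁅zpowers (g : G), L⁆ ≤ centralizer (L : Set G) := by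
      rw [commutator_le]
      rintro _ ⟨n, rfl⟩ l hl
      have h2 : actQuot L H h (g ^ n) = 1 := by rw [map_zpow, hg, one_zpow]
      have h3 := DFunLike.congr_fun h2 ((⟨l⁻¹, L.inv_mem hl⟩ : L) : L ⧸ center L)
      rw [actQuot_apply, MulAut.one_apply, QuotientGroup.eq] at h3
      have h4 := (map_subtype_center L).le (mem_map_of_mem L.subtype h3)
      have e : ⁅(g : G) ^ n, l⁆ = ((g : G) ^ n * l⁻¹ * ((g : G) ^ n)⁻¹)⁻¹ * l⁻¹ := by
        rw [commutatorElement_def]; group
      show ⁅(g : G) ^ n, l⁆ ∈ _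
      rw [e]
      exact h4.2
    exact le_centralizer_of_comm_bot
      (comm_bot_of_comm_comm_bot hL (comm_bot_of_le_centralizer h1)) (mem_zpowers _)
  · intro hg
    ext ⟨l⟩
    show actQuot L H h g (l : L ⧸ center L) = (l : L ⧸ center L)
    rw [actQuot_apply]
    congr 1
    apply Subtype.ext
    show (g : G) * l * (g : G)⁻¹ = l
    rw [← hg l l.2]; group

theorem conj_range_le_actQuot_range {L H : Subgroup G} (h : H ≤ normalizer (L : Set G))
    (hLH : L ≤ H) : (MulAut.conj : (L ⧸ center L) →* MulAut (L ⧸ center L)).range ≤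
      (actQuot L H h).range := by
  rintro _ ⟨⟨l⟩, rfl⟩
  refine ⟨⟨l, hLH l.2⟩, ?_⟩
  ext ⟨m⟩
  rfl

theorem signalizerDelta_le (p : ℕ) {A : Subgroup G} {a : G} (ha : a ∈ A) (ha1 : a ≠ 1) :
    signalizerDelta p A ≤ centralizerPPrimeCore p a :=
  iInf_le (fun a : {a : G // a ∈ A ∧ a ≠ 1} => centralizerPPrimeCore p (a : G)) ⟨a, ha, ha1⟩

theorem le_signalizerDelta {p : ℕ} {A X : Subgroup G}
    (h : ∀ a ∈ A, a ≠ 1 → X ≤ centralizerPPrimeCore p a) : X ≤ signalizerDelta p A :=
  le_iInf fun a => h a a.2.1 a.2.2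

theorem le_centralizer_of_forall {A X : Subgroup G}
    (h : ∀ a ∈ A, a ≠ 1 → X ≤ centralizer {a}) : X ≤ centralizer (A : Set G) := by
  intro x hx a ha
  by_cases h1 : a = 1
  · simp [h1]
  · exact (mem_centralizer_singleton_iff.mp (h a ha h1 hx)).symm

theorem signalizerDelta_le_centralizer (p : ℕ) (A : Subgroup G) :
    signalizerDelta p A ≤ centralizer (A : Set G) :=
  le_centralizer_of_forall fun a ha ha1 => (signalizerDelta_le p ha ha1).trans (cpp_le p a)

theorem IsElementaryAbelian.isPGroup {p : ℕ} {A : Subgroup G} (hA : IsElementaryAbelian p A) :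
    IsPGroup p A := H2.isPGroup_of_forall_pow_eq_one hA.2

theorem IsElementaryAbelian.comm {p : ℕ} {A : Subgroup G} (hA : IsElementaryAbelian p A)
    {a b : G} (ha : a ∈ A) (hb : b ∈ A) : a * b = b * a :=
  (le_centralizer_iff_isMulCommutative.mpr hA.1 hb a ha)

theorem IsElementaryAbelian.le_centralizer {p : ℕ} {A : Subgroup G}
    (hA : IsElementaryAbelian p A) : A ≤ centralizer (A : Set G) :=
  le_centralizer_iff_isMulCommutative.mpr hA.1

theorem IsElementaryAbelian.le_centralizer_singleton {p : ℕ} {A : Subgroup G}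
    (hA : IsElementaryAbelian p A) {a : G} (ha : a ∈ A) : A ≤ centralizer {a} :=
  (IsElementaryAbelian.le_centralizer hA).trans (centralizer_le_centralizer_singleton ha)

theorem isElementaryAbelian_iff {p : ℕ} {A : Subgroup G} : IsElementaryAbelian p A ↔
    (∀ a ∈ A, ∀ b ∈ A, a * b = b * a) ∧ ∀ a ∈ A, a ^ p = 1 := by
  rw [IsElementaryAbelian, ← commutator_self_eq_bot_iff, comm_bot_iff]

theorem IsElementaryAbelian.of_le {p : ℕ} {A B : Subgroup G} (hA : IsElementaryAbelian p A)
    (h : B ≤ A) : IsElementaryAbelian p B :=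
  ⟨H2.isMulCommutative_of_le hA.1 h, fun a ha => hA.2 a (h ha)⟩

theorem IsElementaryAbelian.map {p : ℕ} {A : Subgroup G} (hA : IsElementaryAbelian p A)
    (f : G →* G') : IsElementaryAbelian p (A.map f) := by
  rw [isElementaryAbelian_iff] at hA ⊢
  constructor
  · rintro _ ⟨a, ha, rfl⟩ _ ⟨b, hb, rfl⟩
    rw [← map_mul, ← map_mul, hA.1 a ha b hb]
  · rintro _ ⟨a, ha, rfl⟩
    rw [← map_pow, hA.2 a ha, map_one]

theorem IsElementaryAbelian.comap_of_injective {p : ℕ} {A : Subgroup G'}
    (hA : IsElementaryAbelian p A) {f : G →* G'} (hf : Function.Injective f) :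
    IsElementaryAbelian p (A.comap f) := by
  rw [isElementaryAbelian_iff] at hA ⊢
  constructor
  · intro a ha b hb
    apply hf; rw [map_mul, map_mul, hA.1 _ ha _ hb]
  · intro a ha
    apply hf; rw [map_pow, hA.2 _ ha, map_one]

theorem IsElementaryAbelian.subgroupOf {p : ℕ} {A : Subgroup G} (hA : IsElementaryAbelian p A)
    (K : Subgroup G) : IsElementaryAbelian p (A.subgroupOf K) :=
  IsElementaryAbelian.comap_of_injective hA K.subtype_injective

theorem IsElementaryAbelian.orderOf_eq {p : ℕ} [Fact p.Prime] {A : Subgroup G}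
    (hA : IsElementaryAbelian p A) {a : G} (ha : a ∈ A) (ha1 : a ≠ 1) : orderOf a = p :=
  orderOf_eq_prime (hA.2 a ha) ha1

theorem isElementaryAbelian_zpowers {p : ℕ} {a : G} (ha : a ^ p = 1) :
    IsElementaryAbelian p (zpowers a) := by
  refine ⟨inferInstance, ?_⟩
  rintro _ ⟨n, rfl⟩
  show (a ^ n) ^ p = 1
  rw [← zpow_natCast, ← zpow_mul, mul_comm, zpow_mul, zpow_natCast, ha, one_zpow]

theorem exists_ne_one_of_one_lt_card {A : Subgroup G} (h : 1 < Nat.card A) :
    ∃ a ∈ A, a ≠ 1 := by
  by_contra hn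
  push Not at hn
  rw [(eq_bot_iff_forall A).mpr hn, card_bot] at h
  exact lt_irrefl _ h

variable [Finite G] {p : ℕ} [hp : Fact p.Prime]

theorem signalizerDelta_eq_bot {k : ℕ} (hk : 1 ≤ k) (hO : pPrimeCore p G = ⊥)
    (h : ∀ L : Subgroup G, IsComponent L → IsLocallyKBalanced p k (L ⧸ center L))
    {A : Subgroup G} (hA : IsElementaryAbelian p A) (hAk : Nat.card A = p ^ k) :
    signalizerDelta p A = ⊥ := by
  obtain ⟨a₀, ha₀, ha₀1⟩ := exists_ne_one_of_one_lt_card (A := A)
    (by rw [hAk]; exact Nat.one_lt_pow (by omega) hp.out.one_lt)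
  have hD := signalizerDelta_le p ha₀ ha₀1
  have hp₀ := isPGroup_zpowers_of_pow (hA.2 a₀ ha₀)
  refine eq_bot_of_comm_layer hO (cop_of_le (cpp_cop p a₀) hD)
    (hD.trans (cpp_le_centralizer_pCore hp₀)) fun L hL => ?_
  by_cases hc : ∃ a ∈ A, a ≠ 1 ∧ ⁅L, zpowers a⁆ ≠ L
  · obtain ⟨a, ha, ha1, hne⟩ := hc
    exact comm_bot_mono (component_comm_cpp hO (hA.2 a ha) hL hne) le_rfl
      (signalizerDelta_le p ha ha1)
  push Not at hc
  have hAL : A ≤ normalizer (L : Set G) := by
    intro a ha
    by_cases h1 : a = 1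
    · rw [h1]; exact one_mem _
    · exact mem_normalizer_of_comm_eq (hc a ha h1)
  set B := normalizer (L : Set G) ⊓ centralizer (A : Set G) with hB
  have hAB : A ≤ B := le_inf hAL (IsElementaryAbelian.le_centralizer hA)
  have hDB : signalizerDelta p A ≤ B :=
    le_inf (hD.trans (cpp_le_normalizer_component hO hp₀ hL)) (signalizerDelta_le_centralizer p A)
  have hN : L ⊔ B ≤ normalizer (L : Set G) := sup_le le_normalizer inf_le_left
  set f := (actQuot L (L ⊔ B) hN).rangeRestrict with hf
  have hker : f.ker = (centralizer (L : Set G)).subgroupOf (L ⊔ B) := by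
    rw [hf, MonoidHom.ker_rangeRestrict, ker_actQuot (IsComponent.perfect hL)]
  have hcard : Nat.card ((A.subgroupOf (L ⊔ B)).map f) = p ^ k := by
    have h1 : f.ker ⊓ A.subgroupOf (L ⊔ B) = ⊥ := by
      rw [eq_bot_iff, hker]
      rintro a ⟨h1, h2⟩
      by_contra h3
      have h4 : (a : G) ≠ 1 := fun e => h3 (Subtype.ext e)
      have h5 : ⁅L, zpowers (a : G)⁆ = ⊥ :=
        comm_bot_symm (comm_bot_of_le_centralizer (zpowers_le.mpr h1))
      exact IsComponent.ne_bot hL ((hc a h2 h4).symm.trans h5)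
    rw [← relIndex_ker, ← hAk, ← H2.card_subgroupOf_of_le (hAB.trans (le_sup_right (a := L))),
      ← H2.card_inf_mul_relIndex f.ker, h1, card_bot, one_mul]
  have h1 := h L hL _ (conj_range_le_actQuot_range hN le_sup_left) _
    (IsElementaryAbelian.map (IsElementaryAbelian.subgroupOf hA (L ⊔ B)) f) hcard
  have h2 : ((signalizerDelta p A).subgroupOf (L ⊔ B)).map f ≤
      signalizerDelta p ((A.subgroupOf (L ⊔ B)).map f) := by
    refine le_signalizerDelta ?_
    rintro _ ⟨a, ha, rfl⟩ ha1
    have ha1' : (a : G) ≠ 1 := fun e => ha1 (by rw [show a = 1 from Subtype.ext e, map_one])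
    exact map_le_cpp_of_component hO hL (isPGroup_zpowers_of_pow (hA.2 a ha)) (hAB ha) inf_le_left
      (inf_le_right.trans (centralizer_le_centralizer_singleton ha)) hDB
      (signalizerDelta_le p ha ha1') f (MonoidHom.rangeRestrict_surjective _) hker.le
  rw [h1, le_bot_iff, Subgroup.map_eq_bot_iff, hker] at h2
  refine comm_bot_symm (comm_bot_of_le_centralizer fun y hy => ?_)
  exact h2 (show (⟨y, mem_sup_right (hDB hy)⟩ : ↥(L ⊔ B)) ∈
    (signalizerDelta p A).subgroupOf (L ⊔ B) from hy)

theorem le_opp_of_map_piO_eq_bot {C D : Subgroup G} (hD : D ≤ C)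
    (h : (D.subgroupOf C).map (piO p C) = ⊥) : D ≤ opp p C := by
  rw [H2.map_mk'_eq_bot_iff] at h
  rw [← map_subgroupOf_eq_of_le hD]
  exact map_mono h

theorem map_subgroupOf_cpp_le {C : Subgroup G} {a : C} (ha : IsPGroup p (zpowers (a : G))) :
    ((centralizerPPrimeCore p (a : G)).subgroupOf C).map (piO p C) ≤
      centralizerPPrimeCore p (piO p C a) := by
  refine (map_mono (comap_cpp_le p C.subtype_injective a)).trans
    (map_cpp_le (piO_surj p C) (cop_ker_piO p C) ?_)
  refine (ha.comap_subtype (K := C)).to_le ?_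
  rw [zpowers_le]; exact mem_zpowers (a : G)

theorem isKBalanced_of_locally {k : ℕ} (hk : 1 ≤ k)
    (h : ∀ x : G, orderOf x = p → ∀ K : Subgroup (↥(centralizer ({x} : Set G)) ⧸
      pPrimeCore p ↥(centralizer ({x} : Set G))), IsComponent K →
        IsLocallyKBalanced p k (↥K ⧸ center ↥K)) : IsKBalanced p k G := by
  intro A hA hAk b hb hAb
  set C := centralizer ({b} : Set G) with hC
  have hAC : A ≤ C := fun a ha => mem_centralizer_singleton_iff.mpr (hAb a ha)
  have hA' := IsElementaryAbelian.subgroupOf hA C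
  have h1 := signalizerDelta_eq_bot hk (H2.pPrimeCore_quotient_pPrimeCore p C) (h b hb)
    (IsElementaryAbelian.map hA' (piO p C))
    (by rw [card_map_of_cop_ker (cop_ker_piO p C) (IsElementaryAbelian.isPGroup hA'),
      H2.card_subgroupOf_of_le hAC, hAk])
  refine le_opp_of_map_piO_eq_bot inf_le_right ?_
  rw [← le_bot_iff, ← h1]
  refine le_signalizerDelta ?_
  rintro _ ⟨a, ha, rfl⟩ ha1
  have ha1' : (a : G) ≠ 1 := fun e => ha1 (by rw [show a = 1 from Subtype.ext e, map_one])
  have haA : (a : G) ∈ A := ha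
  have h3 : signalizerDelta p A ⊓ C ≤ centralizerPPrimeCore p (a : G) :=
    inf_le_left.trans (signalizerDelta_le p haA ha1')
  exact (map_mono (comap_mono (f := C.subtype) h3)).trans
    (map_subgroupOf_cpp_le (isPGroup_zpowers_of_pow (hA.2 a haA)))

theorem eq_of_mem_of_card_two {A : Subgroup G} (hA : Nat.card A = 2) {a b : G} (ha : a ∈ A)
    (hb : b ∈ A) (ha1 : a ≠ 1) (hb1 : b ≠ 1) : a = b := by
  obtain ⟨y, -, hy⟩ := (Nat.card_eq_two_iff' (1 : A)).mp hA
  have h1 := hy ⟨a, ha⟩ fun e => ha1 (congrArg Subtype.val e)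
  have h2 := hy ⟨b, hb⟩ fun e => hb1 (congrArg Subtype.val e)
  exact congrArg Subtype.val (h1.trans h2.symm)

theorem signalizerDelta_of_card_two {A : Subgroup G} (hA : Nat.card A = 2) {a : G} (ha : a ∈ A)
    (ha1 : a ≠ 1) (q : ℕ) : signalizerDelta q A = centralizerPPrimeCore q a :=
  le_antisymm (signalizerDelta_le q ha ha1)
    (le_signalizerDelta fun b hb hb1 => by rw [eq_of_mem_of_card_two hA ha hb ha1 hb1])

theorem ne_one_of_orderOf_eq {x : G} (hx : orderOf x = p) : x ≠ 1 := by
  rintro rfl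
  rw [orderOf_one] at hx
  exact hp.out.ne_one hx.symm

theorem pow_eq_one_of_orderOf_eq {x : G} {n : ℕ} (hx : orderOf x = n) : x ^ n = 1 := by
  rw [← hx]; exact pow_orderOf_eq_one x

theorem isBalanced_iff : IsBalanced G ↔ IsKBalanced 2 1 G := by
  constructor
  · intro h A hA hAk b hb hAb
    rw [pow_one] at hAk
    obtain ⟨a, ha, ha1⟩ := exists_ne_one_of_one_lt_card (A := A) (by rw [hAk]; norm_num)
    rw [signalizerDelta_of_card_two hAk ha ha1,
      h a b (IsElementaryAbelian.orderOf_eq hA ha ha1) hb (hAb a ha)]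
    exact inf_le_left
  · intro h
    have key : ∀ x y : G, orderOf x = 2 → orderOf y = 2 → x * y = y * x →
        centralizerPPrimeCore 2 x ⊓ centralizer {y} ≤
          centralizerPPrimeCore 2 y ⊓ centralizer {x} := by
      intro x y hx hy hxy
      refine le_inf ?_ (inf_le_left.trans (cpp_le 2 x))
      have hc : Nat.card (zpowers x) = 2 := by rw [Nat.card_zpowers, hx]
      rw [← signalizerDelta_of_card_two hc (mem_zpowers x) (ne_one_of_orderOf_eq hx)]
      refine h _ (isElementaryAbelian_zpowers (pow_eq_one_of_orderOf_eq hx)) (by rw [hc, pow_one])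
        y hy ?_
      rintro _ ⟨n, rfl⟩
      exact (Commute.zpow_left hxy n).eq
    exact fun x y hx hy hxy => le_antisymm (key x y hx hy hxy) (key y x hy hx hxy.symm)

theorem isLocallyKBalanced_of_isLocallyBalanced {K : Type*} [Group K] [Finite K]
    (h : IsLocallyBalanced K) : IsLocallyKBalanced 2 1 K := by
  intro H hH A hA hAk
  rw [pow_one] at hAk
  obtain ⟨a, ha, ha1⟩ := exists_ne_one_of_one_lt_card (A := A) (by rw [hAk]; norm_num)
  rw [signalizerDelta_of_card_two hAk ha ha1]
  exact h H hH a (IsElementaryAbelian.orderOf_eq hA ha ha1)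

/-! ### groups of characteristic `p` -/

theorem isPGroup_fstar_of_isSubnormal {H : Subgroup G} (hH : H.IsSubnormal)
    (h : IsPGroup p (generalizedFittingSubgroup G)) :
    IsPGroup p (generalizedFittingSubgroup H) :=
  ((h.to_le (map_subtype_fstar_le hH)).of_equiv
    ((generalizedFittingSubgroup H).equivMapOfInjective _ H.subtype_injective).symm)

theorem isPGroup_fstar_of_equiv (e : G ≃* G') (h : IsPGroup p (generalizedFittingSubgroup G)) :
    IsPGroup p (generalizedFittingSubgroup G') := by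
  rw [← map_fstar_equiv e]; exact h.map _

theorem isPGroup_fstar_of_centralizer {T : Subgroup G} [T.Normal] (hT : IsPGroup p T)
    (h : IsPGroup p (generalizedFittingSubgroup (centralizer (T : Set G)))) :
    IsPGroup p (generalizedFittingSubgroup G) := by
  rw [← fstar_eq_pCore_iff_isPGroup, fstar_eq_pCore_iff'] at h ⊢
  have hTO : T ≤ pCore p G := H2.le_pCore inferInstance hT
  constructor
  · have := layer_le_map_subtype_layer
      (le_centralizer_of_comm_bot (comm_bot_mono (layer_comm_pCore p G) le_rfl hTO))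
    rwa [h.1, Subgroup.map_bot, le_bot_iff] at this
  · have h1 : pPrimeCore p G ≤ opp p (centralizer (T : Set G)) :=
      (le_inf le_rfl ((H2.pPrimeCore_le_centralizer_pCore p).trans
        (H2.centralizer_anti hTO))).trans (pPrimeCore_inf_le_opp p _)
    rwa [opp_eq_bot_iff.mpr h.2, le_bot_iff] at h1

theorem subgroupOf_centralizer {T H : Subgroup G} (h : T ≤ H) :
    centralizer ((T.subgroupOf H : Subgroup H) : Set H) = (centralizer (T : Set G)).subgroupOf H := by
  ext x
  constructor
  · intro hx t ht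
    exact congrArg Subtype.val (hx ⟨t, h ht⟩ ht)
  · intro hx t ht
    exact Subtype.ext (hx t ht)

theorem isPGroup_fstar_normalizer_of_centralizer {T : Subgroup G} (hT : IsPGroup p T)
    (h : IsPGroup p (generalizedFittingSubgroup (centralizer (T : Set G)))) :
    IsPGroup p (generalizedFittingSubgroup (normalizer (T : Set G))) := by
  refine isPGroup_fstar_of_centralizer (T := T.subgroupOf (normalizer (T : Set G)))
    hT.comap_subtype ?_
  rw [subgroupOf_centralizer le_normalizer]
  exact isPGroup_fstar_of_equiv (subgroupOfEquivOfLe (centralizer_le_normalizer _)).symm h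

theorem exists_central_orderOf_eq {T : Subgroup G} (hT : IsPGroup p T) (h1 : T ≠ ⊥) :
    ∃ t ∈ T, t ∈ centralizer (T : Set G) ∧ orderOf t = p := by
  have h2 := H2.inf_centralizer_ne_bot_of_isPGroup hT hT le_normalizer h1
  have h3 : p ∣ Nat.card ↥(T ⊓ centralizer (T : Set G)) :=
    (hT.to_inf_left.card_eq_or_dvd).resolve_left fun e => h2 (card_eq_one.mp e)
  obtain ⟨t, ht, ho⟩ := H2.exists_mem_orderOf_eq_prime hp.out h3
  exact ⟨t, ht.1, ht.2, ho⟩

theorem isPGroup_fstar_centralizer_of_le {T C : Subgroup G} (hT : IsPGroup p T) (hTC : T ≤ C)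
    (hC : centralizer (T : Set G) ≤ C) (h : IsPGroup p (generalizedFittingSubgroup C)) :
    IsPGroup p (generalizedFittingSubgroup (centralizer (T : Set G))) := by
  have h1 := fstar_centralizer_eq_pCore (fstar_eq_pCore_iff_isPGroup.mpr h)
    (hT.comap_subtype (K := C))
  rw [fstar_eq_pCore_iff_isPGroup] at h1
  have h2 : IsPGroup p (generalizedFittingSubgroup ((centralizer (T : Set G)).subgroupOf C)) := by
    rw [← subgroupOf_centralizer hTC]; exact h1
  exact isPGroup_fstar_of_equiv (subgroupOfEquivOfLe hC) h2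

theorem fstar_normalizer_of_centralizers
    (h : ∀ t : G, orderOf t = p → generalizedFittingSubgroup ↥(centralizer ({t} : Set G)) =
      pCore p ↥(centralizer ({t} : Set G))) {T : Subgroup G} (hT : IsPGroup p T) (h1 : T ≠ ⊥) :
    generalizedFittingSubgroup ↥(normalizer (T : Set G)) = pCore p ↥(normalizer (T : Set G)) := by
  obtain ⟨t, ht, htc, ho⟩ := exists_central_orderOf_eq hT h1
  rw [fstar_eq_pCore_iff_isPGroup]
  refine isPGroup_fstar_normalizer_of_centralizer hT
    (isPGroup_fstar_centralizer_of_le hT (C := centralizer {t}) ?_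
      (centralizer_le_centralizer_singleton ht) (fstar_eq_pCore_iff_isPGroup.mp (h t ho)))
  intro s hs
  exact mem_centralizer_singleton_iff.mpr (htc s hs)

theorem fstar_quot_eq_pCore_iff : generalizedFittingSubgroup (G ⧸ pPrimeCore p G) =
    pCore p (G ⧸ pPrimeCore p G) ↔ pLayer p G = ⊥ := by
  rw [fstar_eq_pCore_iff', pLayer_eq_bot_iff]
  exact ⟨fun h => h.1, fun h => ⟨h, H2.pPrimeCore_quotient_pPrimeCore p G⟩⟩

theorem oppE_normalizer_le_of_pLayer_eq_bot (hL : pLayer p G = ⊥) {P : Subgroup G}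
    (hP : IsPGroup p P) :
    play p (normalizer (P : Set G)) ⊔ opp p (normalizer (P : Set G)) ≤ pPrimeCore p G := by
  have h1 := fstar_eq_pCore_iff'.mp
    (fstar_normalizer_eq_pCore (fstar_quot_eq_pCore_iff.mpr hL) (hP.map (piO p G)))
  have e := map_normalizer_of_cop_ker (piO_surj p G) (cop_ker_piO p G) hP
  rw [← H2.map_mk'_eq_bot_iff, Subgroup.map_sup, map_play_of_cop_ker _ (cop_ker_piO p G), e,
    play, pLayer_eq_layer h1.2, h1.1, Subgroup.map_bot, bot_sup_eq, ← le_bot_iff,
    ← opp_eq_bot_iff.mpr h1.2, ← e]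
  exact map_opp_le p _ _

theorem play_eq_bot_of_cop {H : Subgroup G} (h : (Nat.card (play p H)).Coprime p) :
    play p H = ⊥ :=
  le_bot_iff.mp (play_le_of fun _ hK =>
    absurd (hK.dvd_card.trans (card_dvd_of_le hK.le_play)) (cop_iff_not_dvd.mp h))

theorem play_normalizer_eq_bot_of_pLayer_eq_bot (hL : pLayer p G = ⊥) {P : Subgroup G}
    (hP : IsPGroup p P) : play p (normalizer (P : Set G)) = ⊥ :=
  play_eq_bot_of_cop (cop_of_le (H2.pPrimeCore_coprime p G)
    (le_sup_left.trans (oppE_normalizer_le_of_pLayer_eq_bot hL hP)))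

theorem opp_centralizer_le_of_pLayer_eq_bot (hL : pLayer p G = ⊥) {P : Subgroup G}
    (hP : IsPGroup p P) : opp p (centralizer (P : Set G)) ≤ pPrimeCore p G :=
  (opp_centralizer_le_opp_normalizer P).trans
    (le_sup_right.trans (oppE_normalizer_le_of_pLayer_eq_bot hL hP))

theorem cpp_le_of_pLayer_eq_bot (hL : pLayer p G = ⊥) {x : G} (hx : IsPGroup p (zpowers x)) :
    centralizerPPrimeCore p x ≤ pPrimeCore p G := by
  rw [cpp_eq_opp_zpowers]; exact opp_centralizer_le_of_pLayer_eq_bot hL hx

/-- the image of a Sylow subgroup of `W` has index prime to `p` in the image of `W`. -/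
theorem not_dvd_relIndex_map_sylow (f : G →* G') (W : Subgroup G) (P : Sylow p W) :
    ¬ p ∣ (((P : Subgroup W).map W.subtype).map f).relIndex (W.map f) := by
  intro h
  have := h.trans (relIndex_map_dvd f _ _)
  rw [relIndex, comap_map_subtype] at this
  exact P.not_dvd_index this

theorem eq_of_isPGroup_of_not_dvd_relIndex {P Q : Subgroup G} (hQ : IsPGroup p Q) (h : P ≤ Q)
    (hn : ¬ p ∣ P.relIndex Q) : P = Q := by
  obtain ⟨n, e⟩ := hQ.index (P.subgroupOf Q)
  rcases n with _ | n
  · exact le_antisymm h (relIndex_eq_one.mp e)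
  · exact absurd (by rw [relIndex, e]; exact dvd_pow_self p (by omega)) hn

theorem map_sylow_pPrimePCore (P : Sylow p (pPrimePCore p G)) :
    ((P : Subgroup (pPrimePCore p G)).map (pPrimePCore p G).subtype).map (piO p G) =
      pCore p (G ⧸ pPrimeCore p G) := by
  have e : (pPrimePCore p G).map (piO p G) = pCore p (G ⧸ pPrimeCore p G) :=
    map_comap_eq_self_of_surjective (piO_surj p G) _
  refine eq_of_isPGroup_of_not_dvd_relIndex (H2.pCore_isPGroup p _)
    (e ▸ map_mono (map_subtype_le _)) ?_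
  rw [← e]; exact not_dvd_relIndex_map_sylow _ _ P

theorem isPConstrained_iff : IsPConstrained p G ↔ pLayer p G = ⊥ := by
  rw [← fstar_quot_eq_pCore_iff, fstar_eq_pCore_iff]
  constructor
  · intro h
    obtain ⟨P⟩ := (inferInstance : Nonempty (Sylow p (pPrimePCore p G)))
    conv_lhs => rw [← map_sylow_pPrimePCore P]
    rw [← map_centralizer_of_cop_ker (piO_surj p G) (cop_ker_piO p G) (P.isPGroup'.map _),
      map_le_iff_le_comap]
    exact h P
  · intro h P
    refine (map_le_iff_le_comap (f := piO p G)).mp ?_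
    rw [map_centralizer_of_cop_ker (piO_surj p G) (cop_ker_piO p G) (P.isPGroup'.map _),
      map_sylow_pPrimePCore P]
    exact h

end H23
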