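import Mathlib
import Cfsg.Agent.H23.Balance
import Cfsg.Agent.H13.Basic

/-!
# The extended 2-layer; relative form of the unbalanced component lemma
-/

set_option autoImplicit false
set_option linter.unusedSectionVars false

namespace H23

open Cfsg Subgroup
open scoped commutatorElement

variable {G : Type*} [Group G] [Finite G] {p : ℕ} [hp : Fact p.Prime]

theorem map_conj_centralizer (T : Subgroup G) (g : G) :
    (centralizer (T : Set G)).map (MulAut.conj g).toMonoidHom =
      centralizer ((T.map (MulAut.conj g).toMonoidHom : Subgroup G) : Set G) :=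
  H1.centralizer_conj_smul g T |>.symm

theorem map_conj_le_of_mem {H X : Subgroup G} {g : G} (hH : H ≤ X) (hg : g ∈ X) :
    H.map (MulAut.conj g).toMonoidHom ≤ X := by
  rintro _ ⟨h, hh, rfl⟩
  exact X.mul_mem (X.mul_mem hg (hH hh)) (X.inv_mem hg)

theorem eq_map_conj_of_sylow {M T T' : Subgroup G} (hT : IsPGroup p T) (hT' : IsPGroup p T')
    (hTM : T ≤ M) (hT'M : T' ≤ M) (h : ¬ p ∣ T.relIndex M) (h' : ¬ p ∣ T'.relIndex M) :
    ∃ m ∈ M, T' = T.map (MulAut.conj m).toMonoidHom := by
  obtain ⟨l, hl, e⟩ := H13.exists_conj_mem_of_not_dvd_relIndex hT' h' hT hTM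
  refine ⟨l, hl, ?_⟩
  have h1 : T.map (MulAut.conj l).toMonoidHom ≤ T' := by
    rintro _ ⟨x, hx, rfl⟩; exact e x hx
  refine H13.eq_of_not_dvd_relIndex ?_ hT' hT'M h1
  have := H1.relIndex_conj_smul_of_mem_normalizer T M (le_normalizer hl)
  rw [H1.conj_smul_eq_map] at this
  rwa [this]

theorem le_sup_of_sylow {M N T : Subgroup G} [N.Normal] (hTM : T ≤ M)
    (h : ¬ p ∣ T.relIndex M) (hq : IsPGroup p (M.map (QuotientGroup.mk' N))) : M ≤ N ⊔ T := by
  have h1 : T.map (QuotientGroup.mk' N) = M.map (QuotientGroup.mk' N) :=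
    eq_of_isPGroup_of_not_dvd_relIndex hq (map_mono hTM)
      fun hd => h (hd.trans (relIndex_map_dvd _ _ _))
  have h2 := le_comap_map (QuotientGroup.mk' N) M
  rwa [← h1, H2.comap_map_mk', sup_comm] at h2

section ext

/-- `L_{p'}(G) O_{p',p}(G)`. -/
abbrev lopp (p : ℕ) (G : Type*) [Group G] : Subgroup G := pLayer p G ⊔ pPrimePCore p G

theorem lopp_le_sup {T : Subgroup G} (hTM : T ≤ lopp p G) (h : ¬ p ∣ T.relIndex (lopp p G)) :
    lopp p G ≤ (pLayer p G ⊔ pPrimeCore p G) ⊔ T := by
  refine le_sup_of_sylow hTM h ?_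
  have e : (lopp p G).map (QuotientGroup.mk' (pLayer p G ⊔ pPrimeCore p G)) =
      (pPrimePCore p G).map (QuotientGroup.mk' (pLayer p G ⊔ pPrimeCore p G)) := by
    rw [Subgroup.map_sup, H2.map_mk'_eq_bot_iff.mpr le_sup_left, bot_sup_eq]
  rw [e, H13.isPGroup_iff_forall_mem]
  rintro _ ⟨x, hx, rfl⟩
  obtain ⟨k, hk⟩ := H13.isPGroup_iff_forall_mem.mp (H2.pCore_isPGroup p (G ⧸ pPrimeCore p G))
    (piO p G x) hx
  refine ⟨k, ?_⟩
  rw [← map_pow] at hk ⊢
  exact (QuotientGroup.eq_one_iff _).mpr (mem_sup_right ((QuotientGroup.eq_one_iff _).mp hk))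

theorem opp_centralizer_le_of_sylow {T T' : Subgroup G} (hT : IsPGroup p T) (hT' : IsPGroup p T')
    (hTM : T ≤ lopp p G) (hT'M : T' ≤ lopp p G) (h : ¬ p ∣ T.relIndex (lopp p G))
    (h' : ¬ p ∣ T'.relIndex (lopp p G)) :
    opp p (centralizer (T' : Set G)) ≤
      pLayer p G ⊔ pPrimeCore p G ⊔ opp p (centralizer (T : Set G)) := by
  obtain ⟨m, hm, rfl⟩ := eq_map_conj_of_sylow hT hT' hTM hT'M h h'
  obtain ⟨a, ha, t, ht, rfl⟩ := mem_sup_of_le_normalizer_left
    (le_normalizer_of_normal) (lopp_le_sup hTM h hm)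
  rw [map_conj_mul, mem_normalizer_iff_map_conj.mp (le_normalizer ht), ← map_conj_centralizer,
    ← map_conj_opp]
  exact map_conj_le_of_mem le_sup_right (mem_sup_left ha)

theorem extendedTwoLayer_eq {T : Subgroup G} (hT : IsPGroup 2 T) (hTM : T ≤ lopp 2 G)
    (h : ¬ 2 ∣ T.relIndex (lopp 2 G)) : extendedTwoLayer G =
      pLayer 2 G ⊔ pPrimeCore 2 G ⊔ opp 2 (centralizer (T : Set G)) := by
  apply le_antisymm
  · refine sup_le le_sup_left (iSup_le fun T' => ?_)
    exact opp_centralizer_le_of_sylow hT (T'.isPGroup'.map _) hTM (map_subtype_le _) h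
      (H13.not_dvd_relIndex_map_sylow T')
  · obtain ⟨T'⟩ := (inferInstance : Nonempty (Sylow 2 (lopp 2 G)))
    refine sup_le le_sup_left ((opp_centralizer_le_of_sylow (T'.isPGroup'.map _) hT
      (map_subtype_le _) hTM (H13.not_dvd_relIndex_map_sylow T') h).trans
        (sup_le le_sup_left (le_sup_of_le_right ?_)))
    exact le_iSup_of_le T' le_rfl

theorem lopp_normal : (lopp p G).Normal := by
  have : (pPrimePCore p G).Normal := Normal.comap inferInstance _
  infer_instance

theorem extendedTwoLayer_normal : (extendedTwoLayer G).Normal := by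
  obtain ⟨T, hT, -, hTM, h⟩ := H13.exists_sylow_rel (L := lopp 2 G) (IsPGroup.of_bot (p := 2)) bot_le
  have hN : normalizer (T : Set G) ≤ normalizer ((extendedTwoLayer G : Subgroup G) : Set G) := by
    rw [extendedTwoLayer_eq hT hTM h]
    exact le_normalizer_sup le_normalizer_of_normal
      (le_normalizer_opp 2 (le_normalizer_centralizer le_rfl))
  have hL : pLayer 2 G ⊔ pPrimeCore 2 G ≤
      normalizer ((extendedTwoLayer G : Subgroup G) : Set G) :=
    le_normalizer_of_le le_sup_left
  rw [← normalizer_eq_top_iff, eq_top_iff]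
  intro g _
  have := lopp_normal (p := 2) (G := G)
  obtain ⟨l, hl, e⟩ := H13.frattini_rel hT hTM h (g := g) (le_normalizer_of_normal (mem_top g))
  have h1 := (lopp_le_sup hTM h).trans (sup_le hL (le_normalizer.trans hN)) hl
  exact (mul_mem_cancel_left h1).mp (hN e)

theorem centralizer_sylow_le_normalizer_component {T M L : Subgroup G} (hL : IsComponent L)
    (hd : p ∣ Nat.card L) (hLM : layer G ≤ M) [M.Normal] (h : ¬ p ∣ T.relIndex M) :
    centralizer (T : Set G) ≤ normalizer (L : Set G) := by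
  intro c hc
  rw [mem_normalizer_iff_map_conj]
  refine ((IsComponent.eq_or_comm hL (IsComponent.conj hL c)).resolve_right fun h1 => ?_).symm
  have h2 : ¬ p ∣ T.relIndex L := fun h3 => h (h3.trans
    ((H1.relIndex_dvd_of_le_normalizer T (le_layer hL)
      (layer_le_normalizer_of_isSubnormal hL.1)).trans
      (H1.relIndex_dvd_of_le_normalizer T hLM le_normalizer_of_normal)))
  refine h2 ((dvd_relIndex_centralizer_of_perfect (IsComponent.perfect hL) hp.out hd).trans ?_)
  rw [← inf_relIndex_right T L]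
  refine relIndex_dvd_of_le_left L fun t ht => ?_
  refine le_centralizer_of_comm_bot (comm_bot_symm h1) ?_
  rw [mem_map_conj, mul_assoc, hc t ht.1, inv_mul_cancel_left]
  exact ht.2

theorem centralizer_sylow_le_normalizer_pcomp {T K : Subgroup G} (hK : IsPComponent p K)
    (h : ¬ p ∣ T.relIndex (lopp p G)) : centralizer (T : Set G) ≤ normalizer (K : Set G) := by
  refine IsPComponent.le_normalizer hK ((H13.map_centralizer_le _ _).trans ?_)
  have hKb := (isPComponent_iff'.mp hK).2.2
  have := lopp_normal (p := p) (G := G)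
  have := Normal.map (inferInstance : (lopp p G).Normal) _ (piO_surj p G)
  refine centralizer_sylow_le_normalizer_component (M := (lopp p G).map (piO p G)) hKb
    (IsComponent.dvd_card (H2.pPrimeCore_quotient_pPrimeCore p G) hKb) ?_
    fun hd => h (hd.trans (relIndex_map_dvd _ _ _))
  rw [← map_pLayer_piO]
  exact map_mono le_sup_left

end ext

/-- a component of `X` seen in the ambient group. -/
theorem isCompOf_map_subtype {X : Subgroup G} {L : Subgroup X} (hL : IsComponent L) :
    IsCompOf (L.map X.subtype) X :=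
  ⟨map_subtype_le _, by rw [comap_map_subtype]; exact hL⟩

theorem isPCompOf_map_subtype {X : Subgroup G} {L : Subgroup X} (hL : IsPComponent p L) :
    IsPCompOf p (L.map X.subtype) X :=
  ⟨map_subtype_le _, by rw [comap_map_subtype]; exact hL⟩

theorem cpp_subgroup {X : Subgroup G} (x : X) :
    (centralizerPPrimeCore p x).map X.subtype = opp p (X ⊓ centralizer {(x : G)}) := by
  rw [cpp_def, map_opp_of_injective p _ X.subtype_injective,
    ← comap_centralizer_singleton_of_injective X.subtype_injective x, map_comap_eq,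
    range_subtype]
  rfl

theorem exists_unbalanced_compOf {X : Subgroup G} (hO : opp p X = ⊥) {x : G} (hxX : x ∈ X)
    (hx : x ^ p = 1) {Y : Subgroup G} (hY : Y ≤ opp p (X ⊓ centralizer {x})) (hne : Y ≠ ⊥) :
    ∃ L : Subgroup G, IsCompOf L X ∧ ⁅L, Y⁆ ≠ ⊥ ∧ ⁅L, zpowers x⁆ = L ∧
      Y ≤ normalizer (L : Set G) := by
  have hYX : Y ≤ X := hY.trans ((opp_le _ _).trans inf_le_left)
  have e : (Y.subgroupOf X).map X.subtype = Y := map_subgroupOf_eq_of_le hYX
  obtain ⟨L, hL, h1, h2, h3⟩ := exists_unbalanced_component (opp_eq_bot_iff.mp hO)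
    (x := (⟨x, hxX⟩ : X)) (Subtype.ext hx) (Y := Y.subgroupOf X)
    (by rw [← map_le_map_iff_of_injective X.subtype_injective, cpp_subgroup, e]; exact hY)
    (fun h => hne (by rw [← e, h, Subgroup.map_bot]))
  refine ⟨L.map X.subtype, isCompOf_map_subtype hL, fun h => h1 ?_, ?_, ?_⟩
  · exact comm_bot_of_map_injective X.subtype_injective (by rw [e]; exact h)
  · conv_rhs => rw [← h2]
    rw [map_commutator, MonoidHom.map_zpowers]; rfl
  · rw [← e]; exact map_le_normalizer_map h3 _

end H23
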