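import Mathlib
import Cfsg.Prelude.Def_Balance
import Cfsg.Agent.H26.S01a

/-! # Solvable signalizer functors: members, the transitivity theorem -/

set_option autoImplicit false
set_option linter.unusedSectionVars false
set_option linter.unusedVariables false

namespace H23

open Cfsg H24 Subgroup H26
open H25 hiding abl_iff cyc_zpowers cyc_bot exists_prime_dvd_card
open scoped commutatorElement

universe u

variable {G : Type u} [Group G]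

/-- a solvable signalizer functor on the elementary abelian `p`-group `A`. -/
structure SF (p : ℕ) (A : Subgroup G) (θ : G → Subgroup G) : Prop where
  prime : p.Prime
  ea : IsElementaryAbelian p A
  cent : ∀ a ∈ A, a ≠ 1 → θ a ≤ C{a}
  pi : ∀ a ∈ A, a ≠ 1 → IsPi {p}ᶜ (θ a)
  inv : ∀ a ∈ A, a ≠ 1 → A ≤ N[θ a]
  bal : ∀ a ∈ A, a ≠ 1 → ∀ b ∈ A, b ≠ 1 → θ a ⊓ C{b} ≤ θ b
  sol : ∀ a ∈ A, a ≠ 1 → Sol (θ a)

/-- a member of the family of `θ`. -/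
structure Mem (p : ℕ) (A : Subgroup G) (θ : G → Subgroup G) (U : Subgroup G) : Prop where
  sol : Sol U
  pi : IsPi {p}ᶜ U
  inv : A ≤ N[U]
  le : ∀ a ∈ A, a ≠ 1 → U ⊓ C{a} ≤ θ a

variable {p q r : ℕ} {A B D H K L M P Q U V X Y : Subgroup G} {θ : G → Subgroup G} {a b c : G}

theorem sf_of (hp : p.Prime) (hA : IsElementaryAbelian p A)
    (h : IsSolvableSignalizerFunctor p A θ) : SF p A θ :=
  ⟨hp, hA, h.1.1, fun a ha h1 => (isPi_compl_iff hp).2 (h.1.2.1 a ha h1),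
    fun a ha h1 => le_N_iff.2 (h.1.2.2.1 a ha h1), h.1.2.2.2, h.2⟩

theorem SF.isSF (h : SF p A θ) : IsSolvableSignalizerFunctor p A θ :=
  ⟨⟨h.cent, fun a ha h1 => (isPi_compl_iff h.prime).1 (h.pi a ha h1),
    fun a ha h1 => le_N_iff.1 (h.inv a ha h1), h.bal⟩, h.sol⟩

theorem mem_family (hp : p.Prime) : U ∈ signalizerFamily p A θ ↔ Mem p A θ U :=
  ⟨fun h => ⟨h.1, (isPi_compl_iff hp).2 h.2.1, le_N_iff.2 h.2.2.1, h.2.2.2⟩,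
    fun h => ⟨h.sol, (isPi_compl_iff hp).1 h.pi, le_N_iff.1 h.inv, h.le⟩⟩

theorem mem_sigInf {x : G} : x ∈ signalizerInf A θ ↔ ∀ a ∈ A, a ≠ 1 → x ∈ θ a := by
  unfold signalizerInf
  rw [mem_iInf]
  exact ⟨fun h a ha h1 => h ⟨a, ha, h1⟩, fun h a => h a a.2.1 a.2.2⟩

theorem sigInf_le (ha : a ∈ A) (h1 : a ≠ 1) : signalizerInf A θ ≤ θ a :=
  fun _ hx => mem_sigInf.1 hx a ha h1

theorem le_sigInf (h : ∀ a ∈ A, a ≠ 1 → X ≤ θ a) : X ≤ signalizerInf A θ :=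
  fun _ hx => mem_sigInf.2 fun a ha h1 => h a ha h1 hx

theorem le_C_of_forall (h : ∀ a ∈ A, a ≠ 1 → X ≤ C{a}) : X ≤ C[A] := by
  refine cents_symm fun a ha => mem_C_iff_le_C1.2 ?_
  by_cases h1 : a = 1
  · rw [h1, C1_one]; exact le_top
  · exact h a ha h1

theorem SF.abl (h : SF p A θ) : Abl A := h.ea.1

theorem SF.le_C1 (h : SF p A θ) (ha : a ∈ A) : A ≤ C{a} := h.abl.le_C.trans (C_le_C1 ha)

theorem SF.norm_C (h : SF p A θ) (hB : B ≤ A) : A ≤ N[C[B]] :=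
  H24.norm_C (h.abl.norm le_rfl hB)

theorem SF.norm_C1 (h : SF p A θ) (ha : a ∈ A) : A ≤ N[C{a}] := H24.norm_C1 (h.le_C1 ha)

theorem SF.mem (h : SF p A θ) (ha : a ∈ A) (h1 : a ≠ 1) : Mem p A θ (θ a) :=
  ⟨h.sol a ha h1, h.pi a ha h1, h.inv a ha h1, h.bal a ha h1⟩

theorem SF.mono (h : SF p A θ) (hB : B ≤ A) : SF p B θ :=
  ⟨h.prime, h.ea.mono hB, fun a ha => h.cent a (hB ha), fun a ha => h.pi a (hB ha),
    fun a ha h1 => hB.trans (h.inv a (hB ha) h1), fun a ha h1 b hb => h.bal a (hB ha) h1 b (hB hb),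
    fun a ha => h.sol a (hB ha)⟩

theorem Mem.mono (h : Mem p A θ U) (hB : B ≤ A) : Mem p B θ U :=
  ⟨h.sol, h.pi, hB.trans h.inv, fun a ha => h.le a (hB ha)⟩

theorem Mem.of_le (h : Mem p A θ U) (hV : V ≤ U) (hn : A ≤ N[V]) : Mem p A θ V :=
  ⟨h.sol.of_le hV, h.pi.of_le hV, hn, fun a ha h1 => (inf_le_inf_right _ hV).trans (h.le a ha h1)⟩

theorem Mem.inf_left (h : Mem p A θ U) (hn : A ≤ N[V]) : Mem p A θ (U ⊓ V) :=
  h.of_le inf_le_left (norm_inf h.inv hn)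

theorem Mem.inf_right (h : Mem p A θ U) (hn : A ≤ N[V]) : Mem p A θ (V ⊓ U) :=
  h.of_le inf_le_right (norm_inf hn h.inv)

theorem Mem.inf (h : Mem p A θ U) (h' : Mem p A θ V) : Mem p A θ (U ⊓ V) := h.inf_left h'.inv

theorem Mem.infN (h : Mem p A θ U) (hn : A ≤ N[V]) : Mem p A θ (U ⊓ N[V]) := h.inf_left (norm_N hn)

theorem Mem.infC (h : Mem p A θ U) (hn : A ≤ N[V]) : Mem p A θ (U ⊓ C[V]) := h.inf_left (norm_C hn)

theorem mem_bot' (p : ℕ) (A : Subgroup G) (θ : G → Subgroup G) : Mem p A θ ⊥ :=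
  ⟨sol_bot, isPi_bot _, by rw [N_bot]; exact le_top, fun _ _ _ => inf_le_left.trans bot_le⟩

theorem Mem.le_of_cent (h : Mem p A θ U) (ha : a ∈ A) (h1 : a ≠ 1) (hc : U ≤ C{a}) : U ≤ θ a :=
  (le_inf le_rfl hc).trans (h.le a ha h1)

theorem Mem.chr (h : Mem p A θ U) (hV : Chr V U) : Mem p A θ V := h.of_le hV.le (hV.norm h.inv)

theorem Mem.center (h : Mem p A θ U) : Mem p A θ Z[U] := h.of_le inf_le_left (norm_Z h.inv)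

theorem Mem.fitting (h : Mem p A θ U) : Mem p A θ F[U] :=
  h.of_le (Fitting_le _) (norm_Fitting h.inv)

theorem SF.sigInf_le_C (h : SF p A θ) (hB : B ≤ A) : signalizerInf B θ ≤ C[B] :=
  le_C_of_forall fun b hb h1 => (sigInf_le hb h1).trans (h.cent b (hB hb) h1)

theorem SF.sigInf_eq (h : SF p A θ) (hB : B ≤ A) (hb : b ∈ B) (h1 : b ≠ 1) :
    signalizerInf B θ = θ b ⊓ C[B] :=
  le_antisymm (le_inf (sigInf_le hb h1) (h.sigInf_le_C hB))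
    (le_sigInf fun c hc hc1 => (inf_le_inf_left _ (C_le_C1 hc)).trans
      (h.bal b (hB hb) h1 c (hB hc) hc1))

theorem SF.mem_sigInf (h : SF p A θ) (hB : B ≤ A) (h1 : B ≠ ⊥) :
    Mem p A θ (signalizerInf B θ) := by
  obtain ⟨b, hb, hb1⟩ := exists_ne_one h1
  rw [h.sigInf_eq hB hb hb1]
  exact (h.mem (hB hb) hb1).inf_left (h.norm_C hB)

theorem Mem.inf_C_le (h : Mem p A θ U) (hB : B ≤ A) : U ⊓ C[B] ≤ signalizerInf B θ :=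
  le_sigInf fun b hb h1 => (inf_le_inf_left _ (C_le_C1 hb)).trans (h.le b (hB hb) h1)

theorem sigInf_anti (hB : B ≤ A) : signalizerInf A θ ≤ signalizerInf B θ :=
  le_sigInf fun _ hb h1 => sigInf_le (hB hb) h1

theorem Mem.conj (hθ : SF p A θ) (h : Mem p A θ U) (hc : c ∈ signalizerInf A θ) :
    Mem p A θ (cj c U) := by
  have hcA : c ∈ C[A] := hθ.sigInf_le_C le_rfl hc
  refine ⟨h.sol.cj c, h.pi.cj c, ?_, fun a ha h1 => ?_⟩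
  · have := norm_cj h.inv c
    rwa [cj_of_mem_C hcA] at this
  · have e : cj c C{a} = C{a} := cj_of_mem (C_le_C1 ha hcA)
    rw [← e, ← cj_inf, ← cj_of_mem (sigInf_le ha h1 hc)]
    exact cj_mono c (h.le a ha h1)

variable [Finite G]

theorem SF.piA (h : SF p A θ) : IsPi {p} A := h.ea.isPi h.prime

theorem SF.solA (h : SF p A θ) : Sol A := h.abl.sol

theorem SF.pi_zp (h : SF p A θ) (ha : a ∈ A) : IsPi {p} (zpowers a) :=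
  h.piA.of_le (zpowers_le.2 ha)

theorem SF.cop (h : SF p A θ) (hU : IsPi {p}ᶜ U) (hB : B ≤ A) : (♯U).Coprime ♯B :=
  hU.coprime' (h.piA.of_le hB)

theorem Mem.cop (h : Mem p A θ U) (hθ : SF p A θ) (hB : B ≤ A) : (♯U).Coprime ♯B :=
  hθ.cop h.pi hB

theorem Mem.pcore (h : Mem p A θ U) (π : Set ℕ) : Mem p A θ O[π, U] :=
  h.of_le (pcore_le _ _) (norm_pcore π h.inv)

theorem Mem.ne_p (h : Mem p A θ U) (hq : q.Prime) (hd : q ∣ ♯U) : q ≠ p := h.pi.mem hq hd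

/-- a product of two members which is a solvable group is a member. -/
theorem Mem.prod (hθ : SF p A θ) (hX : Mem p A θ X) (hY : Mem p A θ Y) (h : IsProd X Y K)
    (hK : Sol K) : Mem p A θ K := by
  refine ⟨hK, h.isPi hX.pi hY.pi, h.sup_eq ▸ norm_sup hX.inv hY.inv, fun a ha h1 => ?_⟩
  have hz : zpowers a ≤ A := zpowers_le.2 ha
  have := coprime_cent_mulG h (hz.trans hX.inv) (hz.trans hY.inv)
    (hθ.cop (hX.pi.inf_left Y) hz) (Or.inl (hX.sol.of_le inf_le_left))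
  rw [C_zpowers] at this
  rw [← this.sup_eq]
  exact sup_le (hX.le a ha h1) (hY.le a ha h1)

theorem Mem.sup (hθ : SF p A θ) (hX : Mem p A θ X) (hY : Mem p A θ Y) (hn : Y ≤ N[X]) :
    Mem p A θ (X ⊔ Y) :=
  Mem.prod hθ hX hY (isProd_sup hn) (hX.sol.sup hY.sol hn)

theorem Mem.sup' (hθ : SF p A θ) (hX : Mem p A θ X) (hY : Mem p A θ Y) (hn : X ≤ N[Y]) :
    Mem p A θ (X ⊔ Y) := sup_comm Y X ▸ Mem.sup hθ hY hX hn

/-! ## Hyperplanes -/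

theorem not_cyc_of_card (hp : p.Prime) (hA : IsElementaryAbelian p A) (h2 : p ^ 2 ≤ ♯A) :
    ¬ Cyc A := fun hc => by
  have h1 := Nat.le_of_dvd hp.pos (hA.card_dvd_of_cyc hc)
  have := hp.one_lt
  nlinarith

theorem ne_bot_of_card (hp : p.Prime) {n : ℕ} (hn : 0 < n) (h : p ^ n ≤ ♯A) : A ≠ ⊥ := by
  rintro rfl
  rw [card_bot] at h
  have := Nat.one_lt_pow hn.ne' hp.one_lt
  omega

theorem relIndex_dvd_of_cocyclic (hp : p.Prime) (hA : IsElementaryAbelian p A) (hB : B ≤ A)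
    (ha : a ∈ A) (h : A ≤ B ⊔ zpowers a) : B.relIndex A ∣ p := by
  have hz : zpowers a ≤ A := zpowers_le.2 ha
  have e : B ⊔ zpowers a = A := le_antisymm (sup_le hB hz) h
  have hP : IsProd B (zpowers a) A := e ▸ isProd_sup (hA.abl.norm hz hB)
  refine hP.relIndex_dvd.trans ?_
  rw [card_zpowers']
  exact orderOf_dvd_of_pow_eq_one (hA.pow ha)

theorem exists_hyp (hp : p.Prime) (hA : IsElementaryAbelian p A) (hB : B < A) :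
    ∃ D, B ≤ D ∧ D ≤ A ∧ D.relIndex A = p := by
  obtain ⟨D, h1, h2, h3⟩ := exists_maximal_pgroup hp (hA.isPi hp) hB
  exact ⟨D, h1, h2.le, h3⟩

/-- a coprime operator group: generation by the centralizers of hyperplanes. -/
theorem le_of_hyp (hp : p.Prime) (hA : IsElementaryAbelian p A) (h1 : A ≠ ⊥) (hAK : A ≤ N[K])
    (hK : IsPi {p}ᶜ K) (hL : ∀ B ≤ A, B.relIndex A = p → K ⊓ C[B] ≤ L) : K ≤ L := by
  refine coprime_abelian_gen_cent hA.abl hAK (hK.coprime' (hA.isPi hp)) ?_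
  rintro B hB ⟨a, ha, h⟩
  rcases (Nat.dvd_prime hp).1 (relIndex_dvd_of_cocyclic hp hA hB ha h) with e | e
  · obtain ⟨D, -, h2, h3⟩ := exists_hyp hp hA (bot_lt_iff_ne_bot.2 h1)
    exact (inf_le_inf_left _ (C_anti (h2.trans (relIndex_eq_one.1 e)))).trans (hL D h2 h3)
  · exact hL B hB e

theorem le_of_cent1 (hp : p.Prime) (hA : IsElementaryAbelian p A) (h2 : p ^ 2 ≤ ♯A)
    (hAK : A ≤ N[K]) (hK : IsPi {p}ᶜ K) (hL : ∀ a ∈ A, a ≠ 1 → K ⊓ C{a} ≤ L) : K ≤ L :=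
  coprime_abelian_gen_cent1 hA.abl (not_cyc_of_card hp hA h2) hAK (hK.coprime' (hA.isPi hp)) hL

theorem card_hyp (hB : B ≤ A) (h : B.relIndex A = p) : ♯B * p = ♯A := h ▸ card_mul_relIndex hB

theorem le_card_hyp (hp : p.Prime) {n : ℕ} (hA : p ^ (n + 1) ≤ ♯A) (hB : B ≤ A)
    (h : B.relIndex A = p) : p ^ n ≤ ♯B := by
  rw [← card_hyp hB h, pow_succ] at hA
  exact Nat.le_of_mul_le_mul_right hA hp.pos

theorem hyp_ne_bot (hp : p.Prime) (hA : p ^ 2 ≤ ♯A) (hB : B ≤ A) (h : B.relIndex A = p) :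
    B ≠ ⊥ := ne_bot_of_card hp one_pos (le_card_hyp hp hA hB h)

theorem le_card_inf_hyp (hp : p.Prime) {n : ℕ} (hA : IsElementaryAbelian p A) (hD : D ≤ A)
    (hn : p ^ (n + 1) ≤ ♯D) (hB : B ≤ A) (h : B.relIndex A = p) : p ^ n ≤ ♯(B ⊓ D) := by
  have h1 : B.relIndex D ∣ p := h ▸ relIndex_dvd_of_nml (hA.abl.nml hB) hD
  have h2 := card_inf_mul_relIndex B D
  have h3 := Nat.le_of_dvd hp.pos h1
  have h4 : p ^ n * p ≤ ♯(B ⊓ D) * p := by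
    rw [← pow_succ]
    exact hn.trans (h2 ▸ Nat.mul_le_mul_left _ h3)
  exact Nat.le_of_mul_le_mul_right h4 hp.pos

theorem exists_mem_hyp_inf (hp : p.Prime) (hA : IsElementaryAbelian p A) (h3 : p ^ 3 ≤ ♯A)
    (hB : B ≤ A) (h : B.relIndex A = p) (hD : D ≤ A) (h' : D.relIndex A = p) :
    ∃ a ∈ B, a ∈ D ∧ a ≠ 1 := by
  have h1 := le_card_inf_hyp hp hA hD (le_card_hyp hp h3 hD h') hB h
  obtain ⟨a, ha, ha1⟩ := exists_ne_one (ne_bot_of_card hp one_pos h1)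
  exact ⟨a, ha.1, ha.2, ha1⟩

theorem exists_cent_not_le_two (hp : p.Prime) (hA : IsElementaryAbelian p A) (h3 : p ^ 3 ≤ ♯A)
    (hX : IsPi {p}ᶜ X) (hY : IsPi {p}ᶜ Y) (hAX : A ≤ N[X]) (hAY : A ≤ N[Y])
    (hXD : ¬ X ≤ D) (hYD : ¬ Y ≤ L) :
    ∃ a ∈ A, a ≠ 1 ∧ ¬ X ⊓ C{a} ≤ D ∧ ¬ Y ⊓ C{a} ≤ L := by
  have h1 : A ≠ ⊥ := ne_bot_of_card hp (by norm_num) h3
  obtain ⟨B, hB, hBi, hBX⟩ : ∃ B ≤ A, B.relIndex A = p ∧ ¬ X ⊓ C[B] ≤ D := by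
    by_contra hc
    push Not at hc
    exact hXD (le_of_hyp hp hA h1 hAX hX hc)
  obtain ⟨B', hB', hBi', hBY⟩ : ∃ B ≤ A, B.relIndex A = p ∧ ¬ Y ⊓ C[B] ≤ L := by
    by_contra hc
    push Not at hc
    exact hYD (le_of_hyp hp hA h1 hAY hY hc)
  obtain ⟨a, ha, ha', ha1⟩ := exists_mem_hyp_inf hp hA h3 hB hBi hB' hBi'
  exact ⟨a, hB ha, ha1, fun h => hBX ((inf_le_inf_left _ (C_le_C1 ha)).trans h),
    fun h => hBY ((inf_le_inf_left _ (C_le_C1 ha')).trans h)⟩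

theorem exists_norm_cent_not_le (hp : p.Prime) (hA : IsElementaryAbelian p A) (h3 : p ^ 3 ≤ ♯A)
    (hX : IsPi {p}ᶜ X) (hY : IsPi {p}ᶜ Y) (hXn : Nil X) (hYn : Nil Y) (hAX : A ≤ N[X])
    (hAY : A ≤ N[Y]) (h1 : X ⊓ Y ≠ X) (h2 : X ⊓ Y ≠ Y) :
    ∃ a ∈ A, a ≠ 1 ∧ ¬ X ⊓ N[X ⊓ Y] ⊓ C{a} ≤ X ⊓ Y ∧ ¬ Y ⊓ N[X ⊓ Y] ⊓ C{a} ≤ X ⊓ Y := by
  have hD := norm_N (norm_inf hAX hAY)
  exact exists_cent_not_le_two hp hA h3 (hX.inf_left _) (hY.inf_left _) (norm_inf hAX hD)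
    (norm_inf hAY hD) (hXn.proper_norm (lt_of_le_of_ne inf_le_left h1)).not_ge
    (hYn.proper_norm (lt_of_le_of_ne inf_le_right h2)).not_ge

/-- a member is generated by its intersections with the `θ b`, `b` in a noncyclic subgroup. -/
theorem Mem.le_of_theta (h : Mem p A θ U) (hθ : SF p A θ) (hB : B ≤ A) (h2 : p ^ 2 ≤ ♯B)
    (hL : ∀ b ∈ B, b ≠ 1 → U ⊓ θ b ≤ L) : U ≤ L :=
  le_of_cent1 hθ.prime (hθ.ea.mono hB) h2 (hB.trans h.inv) h.pi fun b hb h1 =>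
    (le_inf inf_le_left (h.le b (hB hb) h1)).trans (hL b hb h1)

theorem Mem.le_of_theta' (h : Mem p A θ U) (hθ : SF p A θ) (hB : B ≤ A) (h2 : p ^ 2 ≤ ♯B)
    (hL : ∀ b ∈ B, b ≠ 1 → θ b ≤ L) : U ≤ L :=
  h.le_of_theta hθ hB h2 fun b hb h1 => inf_le_right.trans (hL b hb h1)

theorem Mem.le_of_hyp (h : Mem p A θ U) (hθ : SF p A θ) (hB : B ≤ A) (h1 : B ≠ ⊥)
    (hL : ∀ D ≤ B, D.relIndex B = p → U ⊓ signalizerInf D θ ≤ L) : U ≤ L :=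
  H23.le_of_hyp hθ.prime (hθ.ea.mono hB) h1 (hB.trans h.inv) h.pi fun D hD hi =>
    (le_inf inf_le_left (h.inf_C_le (hD.trans hB))).trans (hL D hD hi)

/-! ## Maximal `q`-members and the transitivity theorem -/

/-- `Q` is maximal among the `q`-subgroups in the family of `θ`. -/
structure MaxQ (p : ℕ) (A : Subgroup G) (θ : G → Subgroup G) (q : ℕ) (Q : Subgroup G) : Prop where
  mem : Mem p A θ Q
  pi : IsPi {q} Q
  max : ∀ R, Mem p A θ R → IsPi {q} R → Q ≤ R → R = Q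

theorem exists_maxQ (h : Mem p A θ U) (hU : IsPi {q} U) : ∃ Q, MaxQ p A θ q Q ∧ U ≤ Q := by
  obtain ⟨Q, h1, h2, h3⟩ := exists_max (P := fun Q => Mem p A θ Q ∧ IsPi {q} Q) ⟨h, hU⟩
  exact ⟨Q, ⟨h2.1, h2.2, fun R hR hR' hle => h3 R ⟨hR, hR'⟩ hle⟩, h1⟩

theorem MaxQ.conj (hθ : SF p A θ) (h : MaxQ p A θ q Q) (hc : c ∈ signalizerInf A θ) :
    MaxQ p A θ q (cj c Q) := by
  refine ⟨h.mem.conj hθ hc, h.pi.cj c, fun R hR hR' hle => ?_⟩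
  rw [← h.max (cj c⁻¹ R) (hR.conj hθ (inv_mem hc)) (hR'.cj _) (cj_le_iff.1 hle), cj_cj_inv]

theorem Mem.exists_syl (h : Mem p A θ H) (hθ : SF p A θ) (hq : q.Prime) (hX : X ≤ H)
    (hXq : IsPi {q} X) (hAX : A ≤ N[X]) : ∃ S, Syl q H S ∧ A ≤ N[S] ∧ X ≤ S :=
  sol_coprime_Sylow_subset hq h.inv (h.cop hθ le_rfl) (Or.inr h.sol) hX hXq hAX

theorem Mem.syl_trans (h : Mem p A θ H) (hθ : SF p A θ) (hq : q.Prime) (hP : Syl q H P)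
    (hAP : A ≤ N[P]) (hQ : Syl q H Q) (hAQ : A ≤ N[Q]) :
    ∃ c ∈ H, c ∈ signalizerInf A θ ∧ Q = cj c P := by
  obtain ⟨c, hc, e⟩ := sol_coprime_Sylow_trans hq h.inv (h.cop hθ le_rfl) (Or.inr h.sol) hP hAP
    hQ hAQ
  exact ⟨c, hc.1, h.inf_C_le le_rfl hc, e⟩

theorem transitivity (hθ : SF p A θ) (h3 : p ^ 3 ≤ ♯A) (hq : q.Prime) {Q₁ Q₂ : Subgroup G}
    (h₁ : MaxQ p A θ q Q₁) (h₂ : MaxQ p A θ q Q₂) : ∃ c ∈ signalizerInf A θ, cj c Q₁ = Q₂ := by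
  suffices H : ∀ D : Subgroup G, ∀ Q₁ Q₂, MaxQ p A θ q Q₁ → MaxQ p A θ q Q₂ → Q₁ ⊓ Q₂ = D →
      ∃ c ∈ signalizerInf A θ, cj c Q₁ = Q₂ from H _ _ _ h₁ h₂ rfl
  intro D
  induction D using subgroup_ind_up with
  | _ D ih =>
  intro Q₁ Q₂ h₁ h₂ hD
  by_cases e1 : Q₁ ⊓ Q₂ = Q₁
  · exact ⟨1, one_mem _, by rw [cj_one, h₁.max Q₂ h₂.mem h₂.pi (inf_eq_left.1 e1)]⟩
  by_cases e2 : Q₁ ⊓ Q₂ = Q₂
  · exact ⟨1, one_mem _, by rw [cj_one, h₂.max Q₁ h₁.mem h₁.pi (inf_eq_right.1 e2)]⟩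
  obtain ⟨a, ha, ha1, n1, n2⟩ := exists_norm_cent_not_le hθ.prime hθ.ea h3 h₁.mem.pi h₂.mem.pi
    (h₁.pi.nil hq) (h₂.pi.nil hq) h₁.mem.inv h₂.mem.inv e1 e2
  rw [hD] at n1 n2
  have hDm : Mem p A θ D := hD ▸ h₁.mem.inf h₂.mem
  have hH : Mem p A θ (D ⊔ (θ a ⊓ N[D])) :=
    Mem.sup hθ hDm ((hθ.mem ha ha1).infN hDm.inv) inf_le_right
  have key : ∀ Q, MaxQ p A θ q Q → D ≤ Q → ¬ Q ⊓ N[D] ⊓ C{a} ≤ D →
      ∃ S Q', Syl q (D ⊔ (θ a ⊓ N[D])) S ∧ A ≤ N[S] ∧ D < S ∧ MaxQ p A θ q Q' ∧ S ≤ Q' ∧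
        ∃ c ∈ signalizerInf A θ, cj c Q = Q' := by
    intro Q hQ hDQ hn
    have hle : D ⊔ (Q ⊓ N[D] ⊓ C{a}) ≤ Q := sup_le hDQ (inf_le_left.trans inf_le_left)
    obtain ⟨S, hS, hAS, hle'⟩ := hH.exists_syl hθ hq (X := D ⊔ (Q ⊓ N[D] ⊓ C{a}))
      (sup_le_sup_left (le_inf ((inf_le_inf_right _ inf_le_left).trans (hQ.mem.le a ha ha1))
        (inf_le_left.trans inf_le_right)) _) (hQ.pi.of_le hle)
      (norm_sup hDm.inv (norm_inf (norm_inf hQ.mem.inv (norm_N hDm.inv)) (hθ.norm_C1 ha)))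
    obtain ⟨Q', hQ', hSQ'⟩ := exists_maxQ (hH.of_le hS.le hAS) hS.pi
    have hlt : D < D ⊔ (Q ⊓ N[D] ⊓ C{a}) := left_lt_sup.2 hn
    exact ⟨S, Q', hS, hAS, hlt.trans_le hle', hQ', hSQ',
      ih _ (hlt.trans_le (le_inf hle (hle'.trans hSQ'))) Q Q' hQ hQ' rfl⟩
  obtain ⟨S₁, Q₁', hS₁, hA₁, -, hQ₁', hle₁, c₁, hc₁, e₁⟩ := key Q₁ h₁ (hD ▸ inf_le_left) n1
  obtain ⟨S₂, Q₂', hS₂, hA₂, hlt₂, hQ₂', hle₂, c₂, hc₂, e₂⟩ := key Q₂ h₂ (hD ▸ inf_le_right) n2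
  obtain ⟨c, -, hc, e⟩ := hH.syl_trans hθ hq hS₁ hA₁ hS₂ hA₂
  obtain ⟨d, hd, e'⟩ := ih _ (hlt₂.trans_le (le_inf (e ▸ cj_mono c hle₁) hle₂)) _ _
    (hQ₁'.conj hθ hc) hQ₂' rfl
  refine ⟨c₂⁻¹ * (d * (c * c₁)), mul_mem (inv_mem hc₂) (mul_mem hd (mul_mem hc hc₁)), ?_⟩
  rw [cj_mul, cj_mul, cj_mul, e₁, e', ← e₂, cj_inv_cj]

theorem MaxQ.exists_le_cj (hθ : SF p A θ) (h3 : p ^ 3 ≤ ♯A) (hq : q.Prime) (hQ : MaxQ p A θ q Q)
    (hU : Mem p A θ U) (hUq : IsPi {q} U) : ∃ c ∈ signalizerInf A θ, U ≤ cj c Q := by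
  obtain ⟨Q', hQ', hle⟩ := exists_maxQ hU hUq
  obtain ⟨c, hc, e⟩ := transitivity hθ h3 hq hQ hQ'
  exact ⟨c, hc, e ▸ hle⟩

theorem MaxQ.exists_syl (hθ : SF p A θ) (h3 : p ^ 3 ≤ ♯A) (hq : q.Prime) (hQ : MaxQ p A θ q Q)
    (hH : Mem p A θ H) : ∃ c ∈ signalizerInf A θ, Syl q H (cj c Q ⊓ H) := by
  obtain ⟨S, hS, hAS, -⟩ := hH.exists_syl hθ hq bot_le (isPi_bot _) (mem_bot' p A θ).inv
  obtain ⟨c, hc, hle⟩ := hQ.exists_le_cj hθ h3 hq (hH.of_le hS.le hAS) hS.pi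
  exact ⟨c, hc, hS.of_ge inf_le_right ((hQ.pi.cj c).inf_left _) (le_inf hle hS.le)⟩

theorem MaxQ.syl_of_norm (hθ : SF p A θ) (h3 : p ^ 3 ≤ ♯A) (hq : q.Prime) (hQ : MaxQ p A θ q Q)
    (hH : Mem p A θ H) (hn : signalizerInf A θ ≤ N[H]) : Syl q H (Q ⊓ H) := by
  obtain ⟨c, hc, hS⟩ := hQ.exists_syl hθ h3 hq hH
  have := hS.cj c⁻¹
  rwa [cj_inf, cj_inv_cj, cj_of_mem_N (inv_mem (hn hc))] at this

theorem MaxQ.syl_theta (hθ : SF p A θ) (h3 : p ^ 3 ≤ ♯A) (hq : q.Prime) (hQ : MaxQ p A θ q Q)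
    (ha : a ∈ A) (h1 : a ≠ 1) : Syl q (θ a) (Q ⊓ θ a) :=
  hQ.syl_of_norm hθ h3 hq (hθ.mem ha h1) (norm_of_le (sigInf_le ha h1))

theorem Mem.inf_theta (hθ : SF p A θ) (hU : Mem p A θ U) (ha : a ∈ A) (h1 : a ≠ 1) :
    U ⊓ θ a = U ⊓ C{a} :=
  le_antisymm (inf_le_inf_left _ (hθ.cent a ha h1)) (le_inf inf_le_left (hU.le a ha h1))

theorem Mem.inf_sigInf (hθ : SF p A θ) (hU : Mem p A θ U) (hB : B ≤ A) :
    U ⊓ signalizerInf B θ = U ⊓ C[B] :=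
  le_antisymm (inf_le_inf_left _ (hθ.sigInf_le_C hB)) (le_inf inf_le_left (hU.inf_C_le hB))

theorem MaxQ.syl_sigInf (hθ : SF p A θ) (h3 : p ^ 3 ≤ ♯A) (hq : q.Prime) (hQ : MaxQ p A θ q Q)
    (hB : B ≤ A) (h1 : B ≠ ⊥) : Syl q (signalizerInf B θ) (Q ⊓ C[B]) := by
  rw [← hQ.mem.inf_sigInf hθ hB]
  exact hQ.syl_of_norm hθ h3 hq (hθ.mem_sigInf hB h1) (norm_of_le (sigInf_anti hB))

theorem isComplete_of_mem (hθ : SF p A θ) (hM : Mem p A θ M) (h : ∀ a ∈ A, a ≠ 1 → θ a ≤ M) :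
    IsCompleteSignalizerFunctor p A θ :=
  ⟨hθ.isSF.1, M, le_N_iff.1 hM.inv, (isPi_compl_iff hθ.prime).1 hM.pi, fun a ha h1 =>
    le_antisymm (hM.le a ha h1) (le_inf (h a ha h1) (hθ.cent a ha h1))⟩

theorem complete_of_single_prime (hθ : SF p A θ) (h3 : p ^ 3 ≤ ♯A) (hq : q.Prime)
    (h : ∀ a ∈ A, a ≠ 1 → IsPi {q} (θ a)) : ∃ M, Mem p A θ M ∧ ∀ a ∈ A, a ≠ 1 → θ a ≤ M := by
  obtain ⟨Q, hQ, -⟩ := exists_maxQ (mem_bot' p A θ) (isPi_bot {q})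
  exact ⟨Q, hQ.mem, fun a ha h1 =>
    inf_eq_right.1 ((hQ.syl_theta hθ h3 hq ha h1).eq_self (h a ha h1))⟩

end H23
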