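import Mathlib
import Cfsg.Agent.H23.Sig1

/-! # Coprime factorisations and small lemmas on solvable groups -/

set_option autoImplicit false
set_option linter.unusedSectionVars false
set_option linter.unusedVariables false

namespace H23

open Cfsg H24 Subgroup H26
open H25 hiding abl_iff cyc_zpowers cyc_bot exists_prime_dvd_card
open scoped commutatorElement

universe u

variable {G : Type u} [Group G] [Finite G]
variable {p q r : ℕ} {π : Set ℕ} {A B D H K L M N P Q S T U V W X Y : Subgroup G} {a b c : G}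

/-- an invariant Sylow subgroup meets each `A C_K(A)`-invariant subgroup in a Sylow subgroup. -/
theorem syl_inf_of_cent_norm (hq : q.Prime) (hAK : A ≤ N[K]) (hc : (♯K).Coprime ♯A)
    (hs : Sol A ∨ Sol K) (hS : Syl q K S) (hAS : A ≤ N[S]) (hX : X ≤ K) (hAX : A ≤ N[X])
    (hn : K ⊓ C[A] ≤ N[X]) : Syl q X (S ⊓ X) := by
  have hcX : (♯X).Coprime ♯A := hc.coprime_dvd_left (card_dvd hX)
  have hsX : Sol A ∨ Sol X := hs.imp id fun h => h.of_le hX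
  obtain ⟨P, hP, hAP⟩ := sol_coprime_Sylow_exists hq hAX hcX hsX
  obtain ⟨P', hP', hAP', hle⟩ := sol_coprime_Sylow_subset hq hAK hc hs (hP.le.trans hX) hP.pi hAP
  obtain ⟨c, hc', e⟩ := sol_coprime_Sylow_trans hq hAK hc hs hP' hAP' hS hAS
  have h1 : Syl q X (cj c P) := hP.cj_mem_N (hn hc')
  exact h1.of_ge inf_le_right (hS.pi.inf_left _) (le_inf (e ▸ cj_mono c hle) h1.le)

theorem hall_inf_of_cent_norm (hAK : A ≤ N[K]) (hc : (♯K).Coprime ♯A) (hs : Sol K)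
    (hS : Hall π K S) (hAS : A ≤ N[S]) (hX : X ≤ K) (hAX : A ≤ N[X])
    (hn : K ⊓ C[A] ≤ N[X]) : Hall π X (S ⊓ X) := by
  have hcX : (♯X).Coprime ♯A := hc.coprime_dvd_left (card_dvd hX)
  obtain ⟨P, hP, hAP⟩ := coprime_Hall_exists π hAX hcX (hs.of_le hX)
  obtain ⟨P', hP', hAP', hle⟩ := coprime_Hall_subset hAK hc hs (hP.le.trans hX) hP.pi hAP
  obtain ⟨c, hc', e⟩ := coprime_Hall_trans hAK hc hs hP' hAP' hS hAS
  have h1 : Hall π X (cj c P) := hP.cj_mem_N (hn hc')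
  exact h1.of_ge inf_le_right (hS.pi.inf_left _) (le_inf (e ▸ cj_mono c hle) h1.le)

theorem isProd_hall (h : IsProd X Y K) (hS : Hall π K S) (hX : Hall π X (S ⊓ X))
    (hY : Hall π Y (S ⊓ Y)) : IsProd (S ⊓ X) (S ⊓ Y) S := by
  refine isProd_of_card inf_le_left inf_le_left (Nat.le_of_dvd
    (Nat.mul_pos (card_pos _) (card_pos _)) ?_)
  have h1 : ♯S * ♯(S ⊓ X ⊓ (S ⊓ Y)) ∣ ♯K * ♯(X ⊓ Y) :=
    mul_dvd_mul (card_dvd hS.le) (card_dvd (inf_le_inf inf_le_right inf_le_right))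
  rw [h.card, ← hX.card, ← hY.card, mul_mul_mul_comm] at h1
  exact (hS.pi.piNat.mul ((hS.pi.inf_left _).inf_left _).piNat).dvd_of_dvd_mul
    (hX.idx.mul hY.idx) h1

theorem isProd_of_cent1_nil (hp : p.Prime) (hA : IsElementaryAbelian p A) (h2 : p ^ 2 ≤ ♯A)
    (hQ : Nil Q) (hQp : IsPi {p}ᶜ Q) (hAQ : A ≤ N[Q]) (hX : X ≤ Q) (hY : Y ≤ Q)
    (h : ∀ a ∈ A, a ≠ 1 → ∀ g ∈ Q ⊓ C{a}, ∃ x ∈ X, ∃ y ∈ Y, g = x * y) : IsProd X Y Q := by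
  obtain ⟨N, -, ⟨hN, hAN, hP⟩, hmin⟩ := exists_min
    (P := fun N => N ⊴ Q ∧ A ≤ N[N] ∧ ∀ g ∈ Q, ∃ x ∈ X, ∃ y ∈ Y, (x * y)⁻¹ * g ∈ N) (H := Q)
    ⟨Nml.refl Q, hAQ, fun g hg => ⟨1, one_mem _, 1, one_mem _, by simpa using hg⟩⟩
  by_cases h1 : N = ⊥
  · refine ⟨hX, hY, fun g hg => ?_⟩
    obtain ⟨x, hx, y, hy, e⟩ := hP g hg
    rw [h1, mem_bot, inv_mul_eq_one] at e
    exact ⟨x, hx, y, hy, e.symm⟩
  exfalso
  have hlt := nil_comm_properl hQ hN.le h1 le_rfl hN.norm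
  have hW : ⁅N, Q⁆ ⊴ Q := hN.comm (Nml.refl Q)
  set W := ⁅N, Q⁆ with hWdef
  have hcomm : ∀ n ∈ N, ∀ g ∈ Q, cs W n * cs W g = cs W g * cs W n := fun n hn g hg =>
    comm_of_cent ((quo_cents (hN.le.trans hW.norm) hW.norm).2 le_rfl)
      (cs_mem_quo hn (hW.norm (hN.le hn))) (cs_mem_quo hg (hW.norm hg))
  have mul : ∀ x ∈ Q, ∀ y ∈ Q, cs W (x * y) = cs W x * cs W y := fun x hx y hy =>
    ap_mul _ (hW.norm hx) (hW.norm hy)
  have inv : ∀ x ∈ Q, cs W x⁻¹ = (cs W x)⁻¹ := fun x hx => ap_inv _ (hW.norm hx)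
  let T : Subgroup G :=
    { carrier := {n | n ∈ N ∧ ∃ x ∈ X, ∃ y ∈ Y, cs W n = cs W x * cs W y}
      one_mem' := ⟨one_mem _, 1, one_mem _, 1, one_mem _, by simp [cs, ap_one]⟩
      mul_mem' := by
        rintro n m ⟨hn, x, hx, y, hy, e⟩ ⟨hm, x', hx', y', hy', e'⟩
        refine ⟨mul_mem hn hm, x * x', mul_mem hx hx', y' * y, mul_mem hy' hy, ?_⟩
        rw [mul _ (hN.le hn) _ (hN.le hm), mul _ (hX hx) _ (hX hx'), mul _ (hY hy') _ (hY hy), e,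
          mul_assoc, ← hcomm m hm y (hY hy), e']
        group
      inv_mem' := by
        rintro n ⟨hn, x, hx, y, hy, e⟩
        refine ⟨inv_mem hn, x⁻¹, inv_mem hx, y⁻¹, inv_mem hy, ?_⟩
        rw [inv _ (hN.le hn), inv _ (hX hx), inv _ (hY hy), ← mul_inv_rev, inv_inj]
        have := hcomm n hn x (hX hx)
        rw [e, mul_assoc, mul_left_cancel_iff] at this
        rw [this, e] }
  have hNT : N ≤ T := le_of_cent1 hp hA h2 hAN (hQp.of_le hN.le) fun a ha ha1 n hn => by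
    obtain ⟨x, hx, y, hy, e⟩ := h a ha ha1 n ⟨hN.le hn.1, hn.2⟩
    exact ⟨hn.1, x, hx, y, hy, by rw [e, mul _ (hX hx) _ (hY hy)]⟩
  refine hlt.ne (hmin W ⟨hW, norm_comm hAN hAQ, fun g hg => ?_⟩ hlt.le)
  obtain ⟨x, hx, y, hy, e⟩ := hP g hg
  obtain ⟨hn, x', hx', y', hy', e'⟩ := hNT e
  refine ⟨x * x', mul_mem hx hx', y' * y, mul_mem hy' hy, ?_⟩
  have hxy : x * x' * (y' * y) ∈ Q :=
    mul_mem (mul_mem (hX hx) (hX hx')) (mul_mem (hY hy') (hY hy))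
  rw [← cs_eq_cs (hW.norm hxy) (hW.norm hg), mul _ (mul_mem (hX hx) (hX hx')) _
    (mul_mem (hY hy') (hY hy)), mul _ (hX hx) _ (hX hx'), mul _ (hY hy') _ (hY hy)]
  have e2 : g = x * (y * ((x * y)⁻¹ * g)) := by group
  rw [e2, mul _ (hX hx) _ (mul_mem (hY hy) (hN.le hn)), mul _ (hY hy) _ (hN.le hn),
    ← hcomm _ hn y (hY hy), e']
  group

theorem dvd_of_forall_part {n m : ℕ}
    (h : ∀ q, q.Prime → ∃ a b, PiNat {q}ᶜ b ∧ n = a * b ∧ a ∣ m) : n ∣ m := by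
  rw [Nat.dvd_iff_prime_pow_dvd_dvd]
  intro q k hq hd
  obtain ⟨a, b, hb, e, ha⟩ := h q hq
  exact ((piNat_self_pow hq k).dvd_of_dvd_mul hb (e ▸ hd)).trans ha

/-- factorisation from the factorisations of the centralizers. -/
theorem isProd_of_cent1 (hp : p.Prime) (hA : IsElementaryAbelian p A) (h2 : p ^ 2 ≤ ♯A)
    (hK : IsPi {p}ᶜ K) (hAK : A ≤ N[K]) (hX : X ≤ K) (hY : Y ≤ K) (hAX : A ≤ N[X])
    (hAY : A ≤ N[Y]) (hCX : K ⊓ C[A] ≤ N[X])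
    (h : ∀ a ∈ A, a ≠ 1 → IsProd (X ⊓ C{a}) (Y ⊓ C{a}) (K ⊓ C{a})) : IsProd X Y K := by
  refine isProd_of_card hX hY (Nat.le_of_dvd (Nat.mul_pos (card_pos _) (card_pos _))
    (dvd_of_forall_part fun q hq => ?_))
  have hs : Sol A := hA.abl.sol
  have cop : ∀ {L : Subgroup G}, L ≤ K → (♯L).Coprime ♯A := fun h =>
    (hK.of_le h).coprime' (hA.isPi hp)
  have hXY := norm_inf hAX hAY
  obtain ⟨S₀, h₀, hA₀⟩ := sol_coprime_Sylow_exists hq hXY (cop (inf_le_left.trans hX)) (Or.inl hs)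
  obtain ⟨S₁, h₁, hA₁, l₁⟩ := sol_coprime_Sylow_subset hq hAY (cop hY) (Or.inl hs)
    (h₀.le.trans inf_le_right) h₀.pi hA₀
  obtain ⟨S, hS, hAS, l⟩ := sol_coprime_Sylow_subset hq hAK (cop le_rfl) (Or.inl hs)
    (h₁.le.trans hY) h₁.pi hA₁
  have hSY : Syl q Y (S ⊓ Y) := h₁.of_ge inf_le_right (hS.pi.inf_left _) (le_inf l h₁.le)
  have hSXY : Syl q (X ⊓ Y) (S ⊓ X ⊓ (S ⊓ Y)) :=
    h₀.of_ge (inf_le_inf inf_le_right inf_le_right) ((hS.pi.inf_left _).inf_left _)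
      (le_inf (le_inf (l₁.trans l) (h₀.le.trans inf_le_left))
        (le_inf (l₁.trans l) (h₀.le.trans inf_le_right)))
  have hP : IsProd (S ⊓ X) (S ⊓ Y) S := by
    by_cases hqp : q = p
    · have : S = ⊥ := (hqp ▸ hS.pi).eq_bot (hK.of_le hS.le)
      rw [this, bot_inf_eq, bot_inf_eq]
      exact ⟨le_rfl, le_rfl, fun m hm => ⟨m, hm, 1, one_mem _, (mul_one m).symm⟩⟩
    refine isProd_of_cent1_nil hp hA h2 (hS.pi.nil hq) (hK.of_le hS.le) hAS inf_le_left inf_le_left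
      fun a ha ha1 g hg => ?_
    have hCa : A ≤ N[C{a}] := norm_C1 (hA.le_cent.trans (C_le_C1 ha))
    have hCC : ∀ L : Subgroup G, L ⊓ C[A] ≤ N[C{a}] := fun L =>
      norm_of_le (inf_le_right.trans (C_le_C1 ha))
    have k1 := syl_inf_of_cent_norm hq hAK (cop le_rfl) (Or.inl hs) hS hAS inf_le_left
      (norm_inf hAK hCa) (norm_inf (norm_of_le inf_le_left) (hCC K))
    have k2 := syl_inf_of_cent_norm hq hAK (cop le_rfl) (Or.inl hs) hS hAS (inf_le_left.trans hX)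
      (norm_inf hAX hCa) (norm_inf hCX (hCC K))
    have k3 := syl_inf_of_cent_norm hq hAY (cop hY) (Or.inl hs) hSY (norm_inf hAS hAY) inf_le_left
      (norm_inf hAY hCa) (norm_inf (norm_of_le inf_le_left) (hCC Y))
    have e2 : S ⊓ (K ⊓ C{a}) ⊓ (X ⊓ C{a}) = S ⊓ (X ⊓ C{a}) := by
      rw [inf_assoc, inf_eq_right.2 (inf_le_inf_right _ hX)]
    have e3 : S ⊓ (K ⊓ C{a}) ⊓ (Y ⊓ C{a}) = S ⊓ Y ⊓ (Y ⊓ C{a}) := by
      rw [inf_assoc, inf_eq_right.2 (inf_le_inf_right _ hY), inf_assoc,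
        inf_eq_right.2 (inf_le_left : Y ⊓ C{a} ≤ Y)]
    obtain ⟨x, hx, y, hy, e⟩ := (isProd_hall (h a ha ha1) k1 (e2 ▸ k2) (e3 ▸ k3)).mul g
      ⟨hg.1, hS.le hg.1, hg.2⟩
    exact ⟨x, ⟨hx.1.1, hx.2.1⟩, y, ⟨hy.1.1, hy.2.1⟩, e⟩
  refine ⟨♯S * ♯(S ⊓ X ⊓ (S ⊓ Y)), S.relIndex K * (S ⊓ X ⊓ (S ⊓ Y)).relIndex (X ⊓ Y),
    hS.idx.mul hSXY.idx, by rw [mul_mul_mul_comm, hS.card, hSXY.card], ?_⟩
  rw [hP.card]
  exact mul_dvd_mul (card_dvd inf_le_right) (card_dvd inf_le_right)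

/-! ## Constraint -/

theorem le_Opp_of_comm (hq : q.Prime) (hK : Sol K) (hX : X ≤ K)
    (h : ⁅Opp q K, X⁆ ≤ O[{q}ᶜ, K]) : X ≤ Opp q K := by
  have hn := (pcore_nml {q}ᶜ K).norm
  have h1 : quo X O[{q}ᶜ, K] ≤ C[quo (Opp q K) O[{q}ᶜ, K]] :=
    cents_symm ((quo_cents ((core2_le _ _ _).trans hn) (hX.trans hn)).2 h)
  rw [quo_core2] at h1
  have h2 := (le_inf (quo_mono _ hX) h1).trans
    (cent_sub_pcore hq (hK.quo _) (pcore_quo_pcore _ _))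
  exact (quo_le_iff (hX.trans hn)).1 h2

theorem le_pcore_of_le_Opp (hX : X ≤ Opp q K) (hX' : IsPi {q}ᶜ X) : X ≤ O[{q}ᶜ, K] :=
  (hall_pcore_core2 {q} K).le_of_nml (pcore_nml_core2 _ _ _).norm hX' hX

theorem le_pcore_of_comm_Opp (hq : q.Prime) (hK : Sol K) (hX : X ≤ K) (hX' : IsPi {q}ᶜ X)
    (h : ⁅Opp q K, X⁆ ≤ O[{q}ᶜ, K]) : X ≤ O[{q}ᶜ, K] :=
  le_pcore_of_le_Opp (le_Opp_of_comm hq hK hX h) hX'

theorem le_pcore_of_hyp_comm (hp : p.Prime) (hA : IsElementaryAbelian p A) (h1 : A ≠ ⊥)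
    (hK : IsPi {p}ᶜ K) (hs : Sol K) (hAK : A ≤ N[K]) (hq : q.Prime) (hU : U ≤ K)
    (hUq : IsPi {q}ᶜ U) (h : ∀ B ≤ A, B.relIndex A = p → IsPi {q}ᶜ ⁅U, K ⊓ C[B]⁆) :
    U ≤ O[{q}ᶜ, K] := by
  have hn := (pcore_nml {q}ᶜ K).norm
  have hT := core2_nml {q}ᶜ {q} K
  refine le_pcore_of_comm_Opp hq hs hU hUq ((le_centQ (hU.trans hn)).1 ?_).2
  refine le_of_hyp hp hA h1 (norm_core2 _ _ hAK) (hK.of_le hT.le) fun B hB hi => ?_
  refine (le_centQ (hU.trans hn)).2 ⟨inf_le_left.trans (hT.le.trans hn), ?_⟩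
  refine le_pcore_of_le_Opp ((comm_mono_left inf_le_left).trans (comm_le_left (hU.trans hT.norm)))
    ((h B hB hi).of_le ?_)
  rw [commC]
  exact comm_mono_right (inf_le_inf_right _ hT.le)

end H23
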