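import Mathlib
import Cfsg.Agent.H23.Sig2
import Cfsg.Agent.H26.S01b
import Cfsg.Agent.H1.BG38

/-! # Coprime action of an element of prime order on solvable groups -/

set_option autoImplicit false
set_option linter.unusedSectionVars false
set_option linter.unusedVariables false

namespace H23

open Cfsg H24 Subgroup H26
open H25 hiding abl_iff cyc_zpowers cyc_bot exists_prime_dvd_card
open scoped commutatorElement

universe u

variable {G : Type u} [Group G] [Finite G]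
variable {p q r : ℕ} {π : Set ℕ} {A B D H K L M N P Q R S T U V W X Y : Subgroup G} {a b c : G}

theorem pi_zp (hp : p.Prime) (hb : b ^ p = 1) : IsPi {p} (zpowers b) :=
  (piElt_of_pow_eq_one (piNat_self hp) hb).isPi

theorem zp_le (h : b ∈ H) : zpowers b ≤ H := zpowers_le.2 h

theorem card_zp (hp : p.Prime) (hb : b ^ p = 1) (h1 : b ≠ 1) : ♯(zpowers b) = p := by
  have := Fact.mk hp
  rw [card_zpowers', orderOf_eq_prime hb h1]

theorem comm_le_C_of_left (h : X ≤ C[V]) (hY : Y ≤ N[V]) : ⁅X, Y⁆ ≤ C[V] :=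
  (comm_mono_left h).trans (comm_le_left (norm_C hY))

theorem comm_le_C_of_right (hX : X ≤ N[V]) (h : Y ≤ C[V]) : ⁅X, Y⁆ ≤ C[V] := by
  rw [commC]; exact comm_le_C_of_left h hX

theorem le_C1_iff : X ≤ C{b} ↔ zpowers b ≤ C[X] := by
  rw [← C_zpowers, centsC]

theorem le_C1_iff_comm : X ≤ C{b} ↔ ⁅X, zpowers b⁆ = ⊥ := by
  rw [comm_eq_bot, C_zpowers]

/-- an involution without fixed points inverts. -/
theorem conj_eq_inv_of_fpf (hb : b ^ 2 = 1) (hbV : b ∈ N[V]) (h : V ⊓ C{b} = ⊥) {v : G}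
    (hv : v ∈ V) : b * v * b⁻¹ = v⁻¹ := by
  obtain ⟨k, -, e⟩ := exists_conj_of_fpf hbV h hv
  have h2 : (v * b) ^ 2 = 1 := by rw [← e, conj_pow, hb]; group
  have h3 : b⁻¹ = b := by rw [inv_eq_iff_mul_eq_one, ← pow_two, hb]
  rw [h3, eq_inv_iff_mul_eq_one]
  have : b * v * b * v = v⁻¹ * (v * b) ^ 2 * v := by rw [pow_two]; group
  rw [this, h2]; group

/-- fixed point free action. -/
theorem comm_cent_of_fpf (hp : p.Prime) (hr : r.Prime) (hb : b ^ p = 1) (hU : IsPi {r} U)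
    (hrp : r ≠ p) (ho : r ≠ 2 ∨ Abl U) (hV : Sol V) (hVp : IsPi {p}ᶜ V) (hVr : IsPi {r}ᶜ V)
    (hUV : U ≤ N[V]) (hbV : b ∈ N[V]) (hbU : b ∈ N[U]) (h : V ⊓ C{b} = ⊥) :
    ⁅U, zpowers b⁆ ≤ C[V] := by
  by_cases h1 : b = 1
  · rw [h1, zpowers_one_eq_bot, commutator_bot_right]; exact bot_le
  have hz := pi_zp hp hb
  have hc : (♯U).Coprime ♯(zpowers b) := hU.coprime_of_ne hz hrp
  have hpi : IsPi {r, p} (U ⊔ zpowers b) :=
    (hU.of_mem (by simp)).sup (hz.of_mem (by simp)) (zp_le hbU)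
  have hVc : IsPi ({r, p} : Set ℕ)ᶜ V := by
    have := hVr.inter hVp
    rwa [← Set.compl_union] at this
  have hcV : (♯V).Coprime ♯(U ⊔ zpowers b) := hVc.coprime' hpi
  by_cases hab : Abl U
  · by_cases hK : ⁅U, zpowers b⁆ = ⊥
    · rw [hK]; exact bot_le
    have hn : zpowers b ≤ N[⁅U, zpowers b⁆] := norm_comm_right _ _
    have hF := Frob.mk' hn hK (by simpa using h1) (semireg_of_prime
      (by rw [card_zp hp hb h1]; exact hp) (coprime_abel_cent_TI (zp_le hbU) hc hab))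
    have hle : ⁅U, zpowers b⁆ ≤ U := comm_le_left (zp_le hbU)
    exact (H1.Frobenius_Wielandt_fixpoint hF (sup_le (hle.trans hUV) (zp_le hbV))
      (hcV.coprime_dvd_right (card_dvd (sup_le_sup_right hle _))) hV).2.1 (by rwa [C_zpowers])
  have hr2 : r ≠ 2 := ho.resolve_right hab
  by_cases hp2 : p = 2
  · subst hp2
    rw [zpowers_eq_closure]
    refine H12.commutator_closure_le (V := U) (R := C[V]) (s := {b}) ?_ ?_
    · intro x hx; rw [Set.mem_singleton_iff.1 hx]; exact N_le_NC _ hbV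
    · intro x hx u hu
      rw [Set.mem_singleton_iff.1 hx, mem_C]
      intro v hv
      have e1 := conj_eq_inv_of_fpf hb hbV h (conj_mem' (hUV hu) hv)
      have e2 := conj_eq_inv_of_fpf hb hbV h hv
      have h3 : b⁻¹ = b := by rw [inv_eq_iff_mul_eq_one, ← pow_two, hb]
      have e3 : b⁻¹ * (u⁻¹ * v * u) * b = (u⁻¹ * v * u)⁻¹ := by
        rw [← e1]; simp only [h3]
      calc v * (b * u * b⁻¹ * u⁻¹) = (b * v⁻¹ * b⁻¹) * (b * u * b⁻¹ * u⁻¹) := by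
            congr 1
            have := conj_eq_inv_of_fpf hb hbV h (V.inv_mem hv)
            rw [this, inv_inv]
        _ = b * u * (u⁻¹ * v * u)⁻¹ * b⁻¹ * u⁻¹ := by group
        _ = b * u * (b⁻¹ * (u⁻¹ * v * u) * b) * b⁻¹ * u⁻¹ := by rw [e3]
        _ = b * u * b⁻¹ * u⁻¹ * v := by group
  · have hodd : Odd ♯(U ⊔ zpowers b) := by
      rw [← Nat.not_even_iff_odd, even_iff_two_dvd]
      refine hpi.not_dvd Nat.prime_two ?_
      simp only [Set.mem_insert_iff, Set.mem_singleton_iff, not_or]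
      exact ⟨hr2.symm, fun h => hp2 h.symm⟩
    have := H1.odd_prime_sdprod_sol_cent1 ((hU.sol hr).sup (abl_zpowers b).sol (zp_le hbU)) hodd
      (SD.mk_sup (zp_le hbU) (inf_eq_bot_of_cop hc)) hc (by rw [card_zp hp hb h1]; exact hp) hV
      (sup_le hUV (zp_le hbV)) hcV (by rwa [C_zpowers])
    rw [commC]
    exact this.trans inf_le_right

theorem cs_pow_eq_one (hb : b ^ p = 1) (hbK : b ∈ N[K]) : cs K b ^ p = 1 := by
  rw [← ap_pow _ hbK, hb, ap_one]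

theorem cs_mem_N (hbK : b ∈ N[K]) (hb : b ∈ N[V]) : cs K b ∈ N[quo V K] :=
  ap_mem_N _ hb hbK

/-- if the fixed points of `b` on `V` centralize `U`, then `[U, b]` centralizes `V`. -/
theorem comm_cent_of_fix (hp : p.Prime) (hr : r.Prime) (hb : b ^ p = 1) (hU : IsPi {r} U)
    (hrp : r ≠ p) (ho : r ≠ 2 ∨ Abl U) (hbU : b ∈ N[U]) :
    ∀ V : Subgroup G, Sol V → IsPi {p}ᶜ V → IsPi {r}ᶜ V → U ≤ N[V] → b ∈ N[V] →
      V ⊓ C{b} ≤ C[U] → ⁅U, zpowers b⁆ ≤ C[V] := by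
  intro V
  induction V using subgroup_ind with
  | h V ih =>
  intro hV hVp hVr hUV hbV h
  by_cases h0 : V = ⊥
  · rw [h0, C_bot]; exact le_top
  have hD := der1_nml V
  have hUD : U ≤ N[⁅V, V⁆] := norm_der1 hUV
  have hbD : zpowers b ≤ N[⁅V, V⁆] := norm_der1 (zp_le hbV)
  have hbD' : b ∈ N[⁅V, V⁆] := hbD (mem_zpowers b)
  have h1 := ih _ (hV.der1_lt h0) (hV.of_le hD.le) (hVp.of_le hD.le) (hVr.of_le hD.le) hUD hbD'
    ((inf_le_inf_right _ hD.le).trans h)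
  have hle : ⁅U, zpowers b⁆ ≤ U := comm_le_left (zp_le hbU)
  have hc : (♯V).Coprime ♯⁅U, zpowers b⁆ := hVr.coprime' (hU.of_le hle)
  refine stable_factor_cent h1 ?_ hD.le (hc.coprime_dvd_left (card_dvd hD.le))
    (Or.inl (hV.of_le hD.le))
  rw [commC, ← quo_cents (hle.trans hUD) hD.norm]
  have hab := abl_quo_der1 V
  have hn : quo ⁅U, zpowers b⁆ ⁅V, V⁆ ≤ N[quo V ⁅V, V⁆] := quo_norm _ (hle.trans hUV)
  have hcq := coprime_quo hc ⁅V, V⁆
  refine coprime_commGG1P hn hcq hab.sol (comm_eq_bot'.2 ?_)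
  have hl : ⁅quo V ⁅V, V⁆, quo ⁅U, zpowers b⁆ ⁅V, V⁆⁆ ≤ quo V ⁅V, V⁆ := comm_le_left hn
  have hbU1 : b ∈ N[⁅U, zpowers b⁆] := norm_comm_right _ _ (mem_zpowers b)
  have := comm_cent_of_fpf (U := quo U ⁅V, V⁆)
    (V := ⁅quo V ⁅V, V⁆, quo ⁅U, zpowers b⁆ ⁅V, V⁆⁆) hp hr (cs_pow_eq_one hb hbD') (hU.quo _) hrp
    (ho.imp id fun h => h.quo _) (hab.sol.of_le hl) ((hVp.quo _).of_le hl)
    ((hVr.quo _).of_le hl) (norm_comm (quo_norm _ hUV) (quo_norm _ (norm_comm_left _ _)))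
    (zpowers_le.1 (norm_comm (zp_le (cs_mem_N hbD' hbV)) (zp_le (cs_mem_N hbD' hbU1))))
    (cs_mem_N hbD' hbU) ?_
  · rwa [← quo_zpowers hbD', ← quo_comm hUD hbD] at this
  rw [eq_bot_iff, ← coprime_abel_cent_TI hn hcq hab]
  refine le_inf inf_le_left ((inf_le_inf_right _ hl).trans ?_)
  rw [← coprime_quo_cent1 hbV hbD' hD.norm]
  · exact quo_cent _ (h.trans (C_anti hle))
  · rw [← card_zpowers']
    exact (hVp.of_le hD.le).coprime' (pi_zp hp hb)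

/-! ## Constraint -/

theorem le_pcore_of_le_core2 (hX : X ≤ core2 π πᶜ H) (hX' : IsPi π X) : X ≤ O[π, H] := by
  have := hall_pcore_core2 πᶜ H
  rw [compl_compl] at this
  exact this.le_of_nml (pcore_nml_core2 _ _ _).norm hX' hX

theorem le_core2_of_comm (hH : Sol H) (hX : X ≤ H) (h : ⁅core2 π πᶜ H, X⁆ ≤ O[π, H]) :
    X ≤ core2 π πᶜ H := by
  have hn := (pcore_nml π H).norm
  have h1 : quo X O[π, H] ≤ C[quo (core2 π πᶜ H) O[π, H]] :=
    cents_symm ((quo_cents ((core2_le _ _ _).trans hn) (hX.trans hn)).2 h)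
  rw [quo_core2] at h1
  have h2 : F[quo H O[π, H]] ≤ O[πᶜ, quo H O[π, H]] := by
    have := Fitting_le_core2 πᶜ (quo H O[π, H])
    rwa [compl_compl, core2_of_pcore_eq_bot _ (pcore_quo_pcore _ _)] at this
  have h3 := (le_Fitting_of_cent (hH.quo _) (quo_mono _ hX) (h1.trans (C_anti h2))).trans h2
  exact (quo_le_iff (hX.trans hn)).1 h3

theorem le_pcore_of_comm_core2 (hH : Sol H) (hX : X ≤ H) (hX' : IsPi π X)
    (h : ⁅core2 π πᶜ H, X⁆ ≤ O[π, H]) : X ≤ O[π, H] :=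
  le_pcore_of_le_core2 (le_core2_of_comm hH hX h) hX'

/-- an `r`-subgroup normalized by `b` and `C_H(b)` has its commutator with `b` in `O_r(H)`. -/
theorem comm_le_pcore (hp : p.Prime) (hr : r.Prime) (hb : b ^ p = 1) (hH : Sol H)
    (hHp : IsPi {p}ᶜ H) (hbH : b ∈ N[H]) (hUH : U ≤ H) (hU : IsPi {r} U) (ho : r ≠ 2 ∨ Abl U)
    (hbU : b ∈ N[U]) (h : H ⊓ C{b} ≤ N[U]) : ⁅U, zpowers b⁆ ≤ O[{r}, H] := by
  by_cases hrp : r = p
  · rw [IsPi.eq_bot (hrp ▸ hU : IsPi {p} U) (hHp.of_le hUH), commutator_bot_left]; exact bot_le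
  have hle : ⁅U, zpowers b⁆ ≤ U := comm_le_left (zp_le hbU)
  have hn := (pcore_nml {r} H).norm
  have hT := core2_nml {r} {r}ᶜ H
  have hbO : b ∈ N[O[{r}, H]] := N_le_N_pcore _ _ hbH
  have hbT : b ∈ N[core2 {r} {r}ᶜ H] := norm_core2 _ _ (zp_le hbH) (mem_zpowers b)
  refine le_pcore_of_comm_core2 hH (hle.trans hUH) (hU.of_le hle) ?_
  rw [commC, ← quo_cents (hle.trans (hUH.trans hn)) (hT.le.trans hn),
    quo_comm (hUH.trans hn) (zp_le hbO), quo_zpowers hbO]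
  have hV : IsPi {r}ᶜ (quo (core2 {r} {r}ᶜ H) O[{r}, H]) := by rw [quo_core2]; exact pcore_pi _ _
  have hUV := quo_norm O[{r}, H] (hUH.trans hT.norm)
  refine comm_cent_of_fix hp hr (cs_pow_eq_one hb hbO) (hU.quo _) hrp
    (ho.imp id fun h => h.quo _) (cs_mem_N hbO hbU) _ ((hH.of_le hT.le).quo _)
    ((hHp.of_le hT.le).quo _) hV hUV (cs_mem_N hbO hbT) ?_
  rw [← comm_eq_bot, eq_bot_iff, ← IsPi.inf_eq_bot' hV (hU.quo _)]
  refine le_inf ((comm_mono_left inf_le_left).trans (comm_le_left hUV)) (comm_le_right ?_)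
  rw [← coprime_quo_cent1 hbT hbO (hT.le.trans hn)]
  · exact quo_norm _ ((inf_le_inf_right _ hT.le).trans h)
  · rw [← card_zpowers']
    exact (hHp.of_le (pcore_le _ _)).coprime' (pi_zp hp hb)

theorem le_pcore_of_cent1_comm (hp : p.Prime) (hB : IsElementaryAbelian p B) (h2 : p ^ 2 ≤ ♯B)
    (hK : IsPi {p}ᶜ K) (hs : Sol K) (hBK : B ≤ N[K]) (hU : U ≤ K) (hUq : IsPi π U)
    (h : ∀ b ∈ B, b ≠ 1 → IsPi π ⁅K ⊓ C{b}, U⁆) : U ≤ O[π, K] := by
  have hn := (pcore_nml π K).norm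
  have hT := core2_nml π πᶜ K
  refine le_pcore_of_comm_core2 hs hU hUq ((le_centQ (hU.trans hn)).1 ?_).2
  refine le_of_cent1 hp hB h2 (norm_core2 _ _ hBK) (hK.of_le hT.le) fun b hb h1 => ?_
  refine (le_centQ (hU.trans hn)).2 ⟨inf_le_left.trans (hT.le.trans hn), ?_⟩
  exact le_pcore_of_le_core2
    ((comm_mono_left inf_le_left).trans (comm_le_left (hU.trans hT.norm)))
    ((h b hb h1).of_le (comm_mono_left (inf_le_inf_right _ hT.le)))

theorem le_pcore_of_le_Opp_cent (hr : r.Prime) (hX : X ≤ Opp r H) (hXr : IsPi {r} X)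
    (hc : X ≤ C[O[{r}ᶜ, H]]) : X ≤ O[{r}, H] := by
  have hn : Opp r H ⊓ C[O[{r}ᶜ, H]] ⊴ H :=
    ⟨inf_le_left.trans (core2_le _ _ _),
      norm_inf (core2_nml _ _ _).norm (norm_C (pcore_nml _ _).norm)⟩
  obtain ⟨P, hP, hXP⟩ := Sylow_superset hr hXr (le_inf hX hc)
  have hsd := (ncompl_iff hP).1 ((ncompl_core2 {r} H).of_le inf_le_left)
  have h1 : Opp r H ⊓ C[O[{r}ᶜ, H]] ≤ N[P] := by
    rw [← IsProd.sup_eq hsd.isProd]
    refine sup_le (norm_of_cent (cents_symm ?_)) (norm_self _)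
    exact (hP.le.trans inf_le_right).trans (C_anti (hn.pcore_le _))
  exact hXP.trans ((pcore_max' hP.pi hP.le h1).trans (hn.pcore_le _))

theorem le_Opp_of_cent_syl (hr : r.Prime) (hH : Sol H) (hS : Syl r H S) (hX : X ≤ H)
    (hc : X ≤ C[S]) : X ≤ Opp r H :=
  (le_inf hX (hc.trans (C_anti inf_le_left))).trans
    (solvable_p_constrained hr hH (hS.inf_nml (core2_nml _ _ _)))

/-- generation of a coprime commutator. -/
theorem comm_le_of_cent1 (hp : p.Prime) (hB : IsElementaryAbelian p B) (h2 : p ^ 2 ≤ ♯B)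
    (hY : IsPi {p}ᶜ Y) (hBY : B ≤ N[Y]) (hW : W ≤ C[B]) (hWY : W ≤ N[Y])
    (hc : (♯Y).Coprime ♯W) (hs : Sol Y ∨ Sol W)
    (hL : ∀ b ∈ B, b ≠ 1 → ⁅Y ⊓ C{b}, W⁆ ≤ L) : ⁅Y, W⁆ ≤ L := by
  have hWb : ∀ b ∈ B, W ≤ N[Y ⊓ C{b}] := fun b hb =>
    norm_inf hWY (norm_C1 (hW.trans (C_le_C1 hb)))
  have hBb : ∀ b ∈ B, B ≤ N[Y ⊓ C{b}] := fun b hb =>
    norm_inf hBY (norm_C1 (hB.le_cent.trans (C_le_C1 hb)))
  have hBW : B ≤ N[W] := norm_of_cent (cents_symm hW)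
  set K₀ : Subgroup G := ⨆ b : {b // b ∈ B ∧ b ≠ 1}, ⁅Y ⊓ C{b.1}, W⁆ with hK₀
  have hKY : K₀ ≤ Y := iSup_le fun b => (comm_le_left (hWb _ b.2.1)).trans inf_le_left
  have hP : IsProd K₀ (Y ⊓ C[W]) Y := by
    refine isProd_of_cent1 hp hB h2 hY hBY hKY inf_le_left
      (norm_iSup fun b => norm_comm (hBb _ b.2.1) hBW) (norm_inf hBY (norm_C hBW))
      (norm_iSup fun b => (inf_le_inf_left _ (C_le_C1 b.2.1)).trans (norm_comm_left _ _))
      fun b hb h1 => ?_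
    have := coprime_cent_prod' (hWb b hb) (hc.coprime_dvd_left (card_dvd inf_le_left))
      (sol_or_of_le hs inf_le_left)
    refine (this.mono_left (le_inf (le_iSup_of_le ⟨b, hb, h1⟩ le_rfl)
      ((comm_le_left (hWb b hb)).trans inf_le_right)) (inf_le_inf_right _ hKY)).mono_right ?_ ?_
    · exact le_inf (inf_le_inf_right _ inf_le_left) (inf_le_left.trans inf_le_right)
    · exact inf_le_inf_right _ inf_le_left
  rw [hP.comm_left_of_cent inf_le_right]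
  exact (comm_le_left (norm_iSup fun b => norm_comm_right _ _)).trans
    (iSup_le fun b => hL _ b.2.1 b.2.2)

theorem cent_Fitting_of_forall (h : ∀ s, s.Prime → D ≤ C[O[{s}, N]]) : D ≤ C[F[N]] :=
  cents_symm (Fitting_le_of_pcore_le fun s hs _ => cents_symm (h s hs))

theorem le_pcore_of_forall (hN : Sol N) (hD : D ≤ N) (hDr : IsPi π D)
    (h : ∀ s, s.Prime → D ≤ C[O[{s}, N]]) : D ≤ O[π, N] :=
  le_pcore_of_le_Fitting hDr (le_Fitting_of_cent hN hD (cent_Fitting_of_forall h))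

/-- a coprime operator group centralizing all `O_s(Y)` centralizes `Y`. -/
theorem cent_of_forall_pcore (hY : Sol Y) (hX : X ≤ N[Y]) (hc : (♯Y).Coprime ♯X)
    (h : ∀ s, s.Prime → s ∣ ♯Y → X ≤ C[O[{s}, Y]]) : X ≤ C[Y] :=
  (le_inf le_rfl (cents_symm (Fitting_le_of_pcore_le fun s hs hd =>
    cents_symm (h s hs (hd.trans (card_dvd (Fitting_le _))))))).trans
    (coprime_cent_Fitting hX hc hY)

theorem le_C1_of_comm_le (hp : p.Prime) (ha : a ^ p = 1) (hR : IsPi {p}ᶜ R) (haR : a ∈ N[R])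
    (h : ⁅R, zpowers a⁆ ≤ C{a}) : R ≤ C{a} :=
  le_C1_iff.2 (coprime_commGG1P' (zp_le haR) (hR.coprime' (pi_zp hp ha))
    (Or.inr (abl_zpowers a).sol) (le_C1_iff_comm.1 h))

theorem le_C1_of_pcores (hp : p.Prime) (hr : r.Prime) (hr2 : r ≠ 2) (ha : a ^ p = 1) (hN : Sol N)
    (hNp : IsPi {p}ᶜ N) (haN : a ∈ N[N]) (hRN : R ≤ N) (hR : IsPi {r} R) (haR : a ∈ N[R])
    (h0 : O[{r}, N] ≤ C{a})
    (h : ∀ s, s.Prime → s ≠ r →
      O[{s}, N] ≤ C{a} ∨ O[{s}, N] ⊓ C{a} = ⊥ ∨ R ≤ C[O[{s}, N]]) : R ≤ C{a} := by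
  by_cases hrp : r = p
  · rw [IsPi.eq_bot (hrp ▸ hR : IsPi {p} R) (hNp.of_le hRN)]; exact bot_le
  have hle : ⁅R, zpowers a⁆ ≤ R := comm_le_left (zp_le haR)
  refine le_C1_of_comm_le hp ha (hNp.of_le hRN) haR ((le_pcore_of_forall hN (hle.trans hRN)
    (hR.of_le hle) fun s hs => ?_).trans h0)
  have hn := hRN.trans (pcore_nml {s} N).norm
  by_cases hsr : s = r
  · subst hsr; exact comm_le_C_of_right hn (le_C1_iff.1 h0)
  rcases h s hs hsr with h | h | h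
  · exact comm_le_C_of_right hn (le_C1_iff.1 h)
  · exact comm_cent_of_fpf hp hr ha hR hrp (Or.inl hr2) ((pcore_pi _ _).sol hs)
      (hNp.of_le (pcore_le _ _)) ((pcore_pi _ _).compl_of_ne hsr) hn (N_le_N_pcore _ _ haN) haR h
  · exact hle.trans h

/-- the `P × Q` lemma for an element. -/
theorem le_C1_of_PxQ (hp : p.Prime) (hr : r.Prime) (hrp : r ≠ p) (ha : a ^ p = 1)
    (hP : IsPi {r} P) (hU : IsPi {r} U) (hPa : P ≤ C{a}) (hPU : P ≤ N[U]) (haU : a ∈ N[U])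
    (h : U ⊓ C[P] ≤ C{a}) : U ≤ C{a} :=
  le_C1_iff.2 (Thompson_PxQ hr hP ((pi_zp hp ha).compl_of_ne hrp.symm) hU
    (by rwa [C_zpowers]) hPU (zp_le haU) (by rwa [C_zpowers]))

end H23
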