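import Mathlib
import Cfsg.Agent.H23.SigL

/-! # A minimal incomplete solvable signalizer functor: first properties -/

set_option autoImplicit false
set_option linter.unusedSectionVars false
set_option linter.unusedVariables false

namespace H23

open Cfsg H24 Subgroup H26
open H25 hiding abl_iff cyc_zpowers cyc_bot exists_prime_dvd_card
open scoped commutatorElement

universe u

variable {G : Type u} [Group G] [Finite G]
variable {p q r : ℕ} {π : Set ℕ} {A B D H K L M N P Q R S T U V W X Y : Subgroup G}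
  {θ : G → Subgroup G} {a b c : G}

local notation "sI" => signalizerInf

/-- some member contains every `θ a`. -/
def Cmp (p : ℕ) (A : Subgroup G) (θ : G → Subgroup G) : Prop :=
  ∃ M, Mem p A θ M ∧ ∀ a ∈ A, a ≠ 1 → θ a ≤ M

/-- a minimal incomplete functor. -/
structure CE (p : ℕ) (A : Subgroup G) (θ : G → Subgroup G) : Prop where
  sf : SF p A θ
  card : ♯A = p ^ 3
  sub : ∀ θ' : G → Subgroup G, SF p A θ' → (∀ a ∈ A, a ≠ 1 → θ' a ≤ θ a) →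
    (∃ a ∈ A, a ≠ 1 ∧ ¬ θ a ≤ θ' a) → Cmp p A θ'
  quot : ∀ U, Mem p A θ U → U ≠ ⊥ → ∃ a ∈ A, a ≠ 1 ∧ ¬ θ a ≤ N[U]
  inc : ¬ Cmp p A θ

/-- a maximal member. -/
structure MaxM (p : ℕ) (A : Subgroup G) (θ : G → Subgroup G) (M : Subgroup G) : Prop where
  mem : Mem p A θ M
  max : ∀ H, Mem p A θ H → M ≤ H → H = M

/-- a subgroup of index `p`. -/
structure Line (p : ℕ) (A B : Subgroup G) : Prop where
  le : B ≤ A
  idx : B.relIndex A = p

theorem exists_maxM (h : Mem p A θ U) : ∃ M, MaxM p A θ M ∧ U ≤ M := by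
  obtain ⟨M, h1, h2, h3⟩ := exists_max (P := Mem p A θ) h
  exact ⟨M, ⟨h2, h3⟩, h1⟩

theorem Mem.of_sub {θ' : G → Subgroup G} (h : Mem p A θ' U)
    (hle : ∀ a ∈ A, a ≠ 1 → θ' a ≤ θ a) : Mem p A θ U :=
  ⟨h.sol, h.pi, h.inv, fun a ha h1 => (h.le a ha h1).trans (hle a ha h1)⟩

theorem CE.prime (h : CE p A θ) : p.Prime := h.sf.prime
theorem CE.ea (h : CE p A θ) : IsElementaryAbelian p A := h.sf.ea
theorem CE.h3 (h : CE p A θ) : p ^ 3 ≤ ♯A := h.card.ge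
theorem CE.h2 (h : CE p A θ) : p ^ 2 ≤ ♯A :=
  (Nat.pow_le_pow_right h.prime.pos (by norm_num)).trans h.h3
theorem CE.ne_bot (h : CE p A θ) : A ≠ ⊥ := ne_bot_of_card h.prime (by norm_num) h.h3
theorem CE.pow (h : CE p A θ) (ha : a ∈ A) : a ^ p = 1 := h.ea.pow ha
theorem CE.mem (h : CE p A θ) (ha : a ∈ A) (h1 : a ≠ 1) : Mem p A θ (θ a) := h.sf.mem ha h1
theorem CE.memC (h : CE p A θ) : Mem p A θ (sI A θ) := h.sf.mem_sigInf le_rfl h.ne_bot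

theorem CE.line_card (h : CE p A θ) (hB : Line p A B) : ♯B = p ^ 2 := by
  have := card_hyp hB.le hB.idx
  rw [h.card, pow_succ] at this
  exact Nat.eq_of_mul_eq_mul_right h.prime.pos this

theorem CE.line_h2 (h : CE p A θ) (hB : Line p A B) : p ^ 2 ≤ ♯B := (h.line_card hB).ge

theorem CE.line_ne_bot (h : CE p A θ) (hB : Line p A B) : B ≠ ⊥ :=
  ne_bot_of_card h.prime two_pos (h.line_h2 hB)

theorem CE.le_of_line (h : CE p A θ) (hAK : A ≤ N[K]) (hK : IsPi {p}ᶜ K)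
    (hL : ∀ B, Line p A B → K ⊓ C[B] ≤ L) : K ≤ L :=
  le_of_hyp h.prime h.ea h.ne_bot hAK hK fun B hB hi => hL B ⟨hB, hi⟩

theorem CE.exists_line (h : CE p A θ) (hAK : A ≤ N[K]) (hK : IsPi {p}ᶜ K) (hL : ¬ K ≤ L) :
    ∃ B, Line p A B ∧ ¬ K ⊓ C[B] ≤ L := by
  by_contra hc
  push Not at hc
  exact hL (h.le_of_line hAK hK hc)

theorem CE.le_of_cent1 (h : CE p A θ) (hB : Line p A B) (hBK : B ≤ N[K]) (hK : IsPi {p}ᶜ K)
    (hL : ∀ b ∈ B, b ≠ 1 → K ⊓ C{b} ≤ L) : K ≤ L :=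
  H23.le_of_cent1 h.prime (h.ea.mono hB.le) (h.line_h2 hB) hBK hK hL

theorem CE.exists_cent1 (h : CE p A θ) (hB : Line p A B) (hBK : B ≤ N[K]) (hK : IsPi {p}ᶜ K)
    (hL : ¬ K ≤ L) : ∃ b ∈ B, b ≠ 1 ∧ ¬ K ⊓ C{b} ≤ L := by
  by_contra hc
  push Not at hc
  exact hL (h.le_of_cent1 hB hBK hK hc)

/-- two independent elements generate a line. -/
theorem CE.C_line (h : CE p A θ) (hB : Line p A B) (hb : b ∈ B) (hc : c ∈ B) (h1 : c ≠ 1)
    (hn : b ∉ zpowers c) : C{c} ⊓ C{b} ≤ C[B] := by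
  have hp := h.prime
  have hb1 : b ≠ 1 := by rintro rfl; exact hn (one_mem _)
  have e1 := card_zp hp (h.pow (hB.le hc)) h1
  have e2 := card_zp hp (h.pow (hB.le hb)) hb1
  have hi : zpowers c ⊓ zpowers b = ⊥ := by
    rw [inf_comm]
    exact prime_inf_of_not_le (e2 ▸ hp) (by rwa [zpowers_le])
  have e3 := card_sup_of_inf (h.sf.abl.norm (zp_le (hB.le hb)) (zp_le (hB.le hc))) hi
  rw [e1, e2, ← pow_two, ← h.line_card hB] at e3
  rw [← eq_of_card_eq (sup_le (zp_le hc) (zp_le hb)) e3, C_sup, C_zpowers, C_zpowers]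

theorem SF.theta_eq (h : SF p A θ) (hc : c ∈ A) (hb : b ∈ zpowers c) (h1 : b ≠ 1) :
    θ b = θ c := by
  have hc1 : c ≠ 1 := by rintro rfl; simp at hb; exact h1 hb
  have hbA : b ∈ A := zp_le hc hb
  have e : zpowers b = zpowers c :=
    zpowers_eq_of_prime (by rw [card_zp h.prime (h.ea.pow hc) hc1]; exact h.prime) hb h1
  have e' : C{b} = C{c} := by rw [← C_zpowers, e, C_zpowers]
  exact le_antisymm ((h.mem hbA h1).le_of_cent hc hc1 (e' ▸ h.cent b hbA h1))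
    ((h.mem hc hc1).le_of_cent hbA h1 (e' ▸ h.cent c hc hc1))

theorem CE.false_of_le (h : CE p A θ) (hB : B ≤ A) (h2 : p ^ 2 ≤ ♯B) (hM : Mem p A θ M)
    (hle : ∀ b ∈ B, b ≠ 1 → θ b ≤ M) : False :=
  h.inc ⟨M, hM, fun a ha h1 => (h.mem ha h1).le_of_theta' h.sf hB h2 hle⟩

/-! ## Normalizers of members -/

/-- the subgroup generated by the members normalizing `U`. -/
def HN (p : ℕ) (A : Subgroup G) (θ : G → Subgroup G) (U : Subgroup G) : Subgroup G :=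
  sSup {K | Mem p A θ K ∧ K ≤ N[U]}

theorem HN_le : HN p A θ U ≤ N[U] := sSup_le fun _ h => h.2

theorem Mem.le_HN (hK : Mem p A θ K) (h : K ≤ N[U]) : K ≤ HN p A θ U := le_sSup ⟨hK, h⟩

theorem CE.mem_HN (h : CE p A θ) (hU : Mem p A θ U) (h1 : U ≠ ⊥) : Mem p A θ (HN p A θ U) := by
  have hs : SF p A fun a => θ a ⊓ N[U] :=
    ⟨h.prime, h.ea, fun a ha h1 => inf_le_left.trans (h.sf.cent a ha h1),
      fun a ha h1 => (h.sf.pi a ha h1).inf_left _,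
      fun a ha h1 => norm_inf (h.sf.inv a ha h1) (norm_N hU.inv),
      fun a ha h1 b hb hb1 => le_inf ((inf_le_inf_right _ inf_le_left).trans
        (h.sf.bal a ha h1 b hb hb1)) (inf_le_left.trans inf_le_right),
      fun a ha h1 => (h.sf.sol a ha h1).of_le inf_le_left⟩
  obtain ⟨a, ha, ha1, hn⟩ := h.quot U hU h1
  obtain ⟨M, hM, hle⟩ := h.sub _ hs (fun _ _ _ => inf_le_left)
    ⟨a, ha, ha1, fun hc => hn (hc.trans inf_le_right)⟩
  refine (hM.of_sub fun _ _ _ => inf_le_left).of_le (sSup_le fun K hK => ?_)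
    (norm_sSup fun K hK => hK.1.inv)
  exact hK.1.le_of_theta h.sf le_rfl h.h2 fun b hb hb1 =>
    (le_inf inf_le_right (inf_le_left.trans hK.2)).trans (hle b hb hb1)

theorem CE.exists_maxM_norm (h : CE p A θ) (hU : Mem p A θ U) (h1 : U ≠ ⊥) :
    ∃ M, MaxM p A θ M ∧ ∀ K, Mem p A θ K → K ≤ N[U] → K ≤ M := by
  obtain ⟨M, hM, hle⟩ := exists_maxM (h.mem_HN hU h1)
  exact ⟨M, hM, fun K hK hn => (hK.le_HN hn).trans hle⟩

/-- a maximal member normalizing `D ≠ 1` contains every member normalizing `D`. -/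
theorem CE.le_of_norm (h : CE p A θ) (hM : MaxM p A θ M) (hD : Mem p A θ D) (h1 : D ≠ ⊥)
    (hn : M ≤ N[D]) (hK : Mem p A θ K) (hKD : K ≤ N[D]) : K ≤ M :=
  hM.max _ (h.mem_HN hD h1) (hM.mem.le_HN hn) ▸ hK.le_HN hKD

theorem CE.le_of_nml (h : CE p A θ) (hM : MaxM p A θ M) (hD : D ⊴ M) (hAD : A ≤ N[D])
    (h1 : D ≠ ⊥) (hK : Mem p A θ K) (hKD : K ≤ N[D]) : K ≤ M :=
  h.le_of_norm hM (hM.mem.of_le hD.le hAD) h1 hD.norm hK hKD

theorem CE.le_of_pcore (h : CE p A θ) (hM : MaxM p A θ M) (h1 : O[π, M] ≠ ⊥)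
    (hK : Mem p A θ K) (hKD : K ≤ N[O[π, M]]) : K ≤ M :=
  h.le_of_nml hM (pcore_nml _ _) (norm_pcore _ hM.mem.inv) h1 hK hKD

theorem CE.eq_of_norm (h : CE p A θ) (hM : MaxM p A θ M) (hN : MaxM p A θ N) (hD : Mem p A θ D)
    (h1 : D ≠ ⊥) (hn : M ≤ N[D]) (hn' : N ≤ N[D]) : M = N :=
  (hM.max _ hN.mem (h.le_of_norm hN hD h1 hn' hM.mem hn)).symm

theorem CE.maxM_ne_bot (h : CE p A θ) (hM : MaxM p A θ M) : M ≠ ⊥ := by
  rintro rfl
  exact h.inc ⟨⊥, hM.mem, fun a ha h1 => (hM.max _ (h.mem ha h1) bot_le).le⟩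

/-! ## The largest `π`-member invariant under `θ(C(A))` -/

/-- the subgroup generated by the `π`-members normalized by `θ(C(A))`. -/
def XP (p : ℕ) (A : Subgroup G) (θ : G → Subgroup G) (π : Set ℕ) : Subgroup G :=
  sSup {U | Mem p A θ U ∧ IsPi π U ∧ sI A θ ≤ N[U]}

theorem Mem.le_XP (hU : Mem p A θ U) (hπ : IsPi π U) (hn : sI A θ ≤ N[U]) : U ≤ XP p A θ π :=
  le_sSup ⟨hU, hπ, hn⟩

theorem norm_XP : sI A θ ≤ N[XP p A θ π] := norm_sSup fun _ h => h.2.2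

theorem Mem.pcore_le_XP (hH : Mem p A θ H) (hn : sI A θ ≤ N[H]) (π : Set ℕ) :
    O[π, H] ≤ XP p A θ π :=
  (hH.pcore π).le_XP (pcore_pi _ _) (norm_pcore _ hn)

theorem isPi_of_cent1 (hp : p.Prime) (hA : IsElementaryAbelian p A) (h2 : p ^ 2 ≤ ♯A)
    (hM : IsPi {p}ᶜ M) (hAM : A ≤ N[M]) (h : ∀ a ∈ A, a ≠ 1 → IsPi π (M ⊓ C{a})) :
    IsPi π M := by
  rw [isPi_def]
  intro s hs hd
  by_contra hsπ
  obtain ⟨S, hS, hAS⟩ := sol_coprime_Sylow_exists hs hAM (hM.coprime' (hA.isPi hp))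
    (Or.inl hA.abl.sol)
  refine hS.ne_bot hs rfl hd (eq_bot_iff.2 (le_of_cent1 hp hA h2 hAS (hM.of_le hS.le)
    fun a ha h1 => ?_))
  exact ((hS.pi.inf_left _).eq_bot
    (((h a ha h1).of_le (inf_le_inf_right _ hS.le)).compl_of_not_mem hsπ)).le

theorem CE.mem_XP (h : CE p A θ) (hπ : ∃ a ∈ A, a ≠ 1 ∧ ¬ IsPi π (θ a)) :
    Mem p A θ (XP p A θ π) ∧ IsPi π (XP p A θ π) := by
  set θ' : G → Subgroup G := fun a =>
    sSup {U | U ≤ θ a ∧ IsPi π U ∧ A ≤ N[U] ∧ sI A θ ≤ N[U]} with hθ'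
  have hle : ∀ a, θ' a ≤ θ a := fun a => sSup_le fun _ h => h.1
  have hinv : ∀ a, A ≤ N[θ' a] := fun a => norm_sSup fun _ h => h.2.2.1
  have hC : ∀ a, sI A θ ≤ N[θ' a] := fun a => norm_sSup fun _ h => h.2.2.2
  have hCa : ∀ b ∈ A, sI A θ ≤ N[C{b}] := fun b hb =>
    norm_of_le ((h.sf.sigInf_le_C le_rfl).trans (C_le_C1 hb))
  have hpi : ∀ a ∈ A, a ≠ 1 → IsPi π (θ' a) := by
    intro a ha h1
    have hm := h.mem ha h1
    obtain ⟨H₀, hH, hAH⟩ := coprime_Hall_exists π hm.inv (hm.cop h.sf le_rfl) hm.sol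
    refine hH.pi.of_le (sSup_le fun U hU => ?_)
    have := hall_inf_of_cent_norm hm.inv (hm.cop h.sf le_rfl) hm.sol hH hAH hU.1 hU.2.2.1
      ((hm.inf_C_le le_rfl).trans hU.2.2.2)
    exact inf_eq_right.1 (this.eq_self hU.2.1)
  have hs : SF p A θ' :=
    ⟨h.prime, h.ea, fun a ha h1 => (hle a).trans (h.sf.cent a ha h1),
      fun a ha h1 => (h.sf.pi a ha h1).of_le (hle a), fun a _ _ => hinv a,
      fun a ha h1 b hb hb1 => le_sSup ⟨(inf_le_inf_right _ (hle a)).trans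
        (h.sf.bal a ha h1 b hb hb1), (hpi a ha h1).inf_left _,
        norm_inf (hinv a) (h.sf.norm_C1 hb), norm_inf (hC a) (hCa b hb)⟩,
      fun a ha h1 => (h.sf.sol a ha h1).of_le (hle a)⟩
  obtain ⟨a, ha, ha1, hn⟩ := hπ
  obtain ⟨M, hM, hM'⟩ := h.sub _ hs (fun a _ _ => hle a)
    ⟨a, ha, ha1, fun hc => hn ((hpi a ha ha1).of_le hc)⟩
  have hXM : XP p A θ π ≤ M := sSup_le fun U hU =>
    H23.le_of_cent1 h.prime h.ea h.h2 hU.1.inv hU.1.pi fun b hb hb1 =>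
      le_trans (b := θ' b) (le_sSup ⟨hU.1.le b hb hb1, hU.2.1.inf_left _,
        norm_inf hU.1.inv (h.sf.norm_C1 hb), norm_inf hU.2.2 (hCa b hb)⟩) (hM' b hb hb1)
  exact ⟨(hM.of_sub fun a _ _ => hle a).of_le hXM (norm_sSup fun U hU => hU.1.inv),
    (isPi_of_cent1 h.prime h.ea h.h2 hM.pi hM.inv fun b hb hb1 =>
      (hpi b hb hb1).of_le (hM.le b hb hb1)).of_le hXM⟩

theorem CE.mem_XP_prime (h : CE p A θ) (hr : r.Prime) :
    Mem p A θ (XP p A θ {r}) ∧ IsPi {r} (XP p A θ {r}) := by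
  refine h.mem_XP ?_
  by_contra hc
  push Not at hc
  exact h.inc (complete_of_single_prime h.sf h.h3 hr hc)

theorem CE.mem_XP_compl (h : CE p A θ) (hU : Mem p A θ U) (hUr : IsPi {r} U) (h1 : U ≠ ⊥) :
    Mem p A θ (XP p A θ {r}ᶜ) ∧ IsPi {r}ᶜ (XP p A θ {r}ᶜ) := by
  refine h.mem_XP ?_
  by_contra hc
  push Not at hc
  refine h1 (eq_bot_iff.2 (hU.le_of_theta h.sf le_rfl h.h2 fun b hb hb1 => ?_))
  exact ((hUr.inf_left _).eq_bot ((hc b hb hb1).inf_right _)).le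

theorem MaxQ.le_of_norm (h : CE p A θ) (hq : q.Prime) (hQ : MaxQ p A θ q Q) (hU : Mem p A θ U)
    (hUq : IsPi {q} U) (hn : sI A θ ≤ N[U]) : U ≤ Q := by
  obtain ⟨c, hc, hle⟩ := hQ.exists_le_cj h.sf h.h3 hq hU hUq
  rwa [le_cj_iff, cj_of_mem_N (inv_mem (hn hc))] at hle

/-! ## Commutators with an element of `A` -/

theorem CE.false_of_comm (h : CE p A θ) (ha : a ∈ A) (h1 : a ≠ 1) (hB : B ≤ A)
    (h2 : p ^ 2 ≤ ♯B) (hY : Mem p A θ Y)
    (hle : ∀ c ∈ B, c ≠ 1 → ⁅θ c, zpowers a⁆ ≤ Y) : False := by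
  have hz : zpowers a ≤ A := zp_le ha
  have key : ∀ B' ≤ A, p ^ 2 ≤ ♯B' → ∀ L : Subgroup G, (∀ c ∈ B', c ≠ 1 → ⁅θ c, zpowers a⁆ ≤ L) →
      ∀ d ∈ A, d ≠ 1 → ⁅θ d, zpowers a⁆ ≤ L := by
    intro B' hB' h2' L hL d hd hd1
    have hm := h.mem hd hd1
    exact comm_le_of_cent1 h.prime (h.ea.mono hB') h2' hm.pi (hB'.trans hm.inv)
      (h.sf.abl.cents hz hB') (hz.trans hm.inv) (hm.cop h.sf hz) (Or.inl hm.sol)
      fun c hc hc1 => (comm_mono_left (hm.le c (hB' hc) hc1)).trans (hL c hc hc1)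
  set J : Subgroup G := ⨆ d : {d // d ∈ A ∧ d ≠ 1}, ⁅θ d.1, zpowers a⁆ with hJ
  have hJm : Mem p A θ J := hY.of_le (iSup_le fun d => key B hB h2 Y hle d.1 d.2.1 d.2.2)
    (norm_iSup fun d => norm_comm (h.sf.inv _ d.2.1 d.2.2) (h.sf.abl.norm le_rfl hz))
  have hn : θ a ≤ N[J] := by
    refine h.le_of_line (h.sf.inv a ha h1) (h.sf.pi a ha h1) fun B' hB' => ?_
    have e : J = ⨆ d : {d // d ∈ B' ∧ d ≠ 1}, ⁅θ d.1, zpowers a⁆ :=
      le_antisymm (iSup_le fun d => key B' hB'.le (h.line_h2 hB') _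
        (fun c hc hc1 => le_iSup_of_le ⟨c, hc, hc1⟩ le_rfl) d.1 d.2.1 d.2.2)
        (iSup_le fun d => le_iSup_of_le ⟨d.1, hB'.le d.2.1, d.2.2⟩ le_rfl)
    rw [e]
    refine norm_iSup fun d => norm_comm (norm_of_le ?_)
      (norm_zpowers_of_cent (inf_le_left.trans (h.sf.cent a ha h1)))
    exact (inf_le_inf_left _ (C_le_C1 d.2.1)).trans (h.sf.bal a ha h1 _ (hB'.le d.2.1) d.2.2)
  refine h.inc ⟨J ⊔ θ a, Mem.sup h.sf hJm (h.mem ha h1) hn, fun d hd hd1 => ?_⟩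
  have hm := h.mem hd hd1
  rw [← (coprime_cent_prod (hz.trans hm.inv) (hm.cop h.sf hz) hm.sol).sup_eq, C_zpowers]
  exact sup_le_sup (le_iSup_of_le ⟨d, hd, hd1⟩ le_rfl) (hm.le a ha h1)

/-- no element of `A#` centralizes a nontrivial maximal `r`-member. -/
theorem CE.false_of_maxQ_cent (h : CE p A θ) (hr : r.Prime) (ha : a ∈ A) (h1 : a ≠ 1)
    (hS : MaxQ p A θ r S) (hS1 : S ≠ ⊥) (hc : S ≤ C{a}) : False := by
  refine h.false_of_comm ha h1 le_rfl h.h2 (h.mem_XP_compl hS.mem hS.pi hS1).1 fun c hcA hc1 => ?_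
  have hm := h.mem hcA hc1
  have hz : zpowers a ≤ A := zp_le ha
  refine (coprime_comm_pcore (π := {r}ᶜ) (H := S ⊓ θ c) (hz.trans hm.inv) (hm.cop h.sf hz) hm.sol
    (by rw [compl_compl]; exact hS.syl_theta h.sf h.h3 hr hcA hc1)
    (by rw [C_zpowers]; exact inf_le_left.trans hc)).trans ?_
  exact hm.pcore_le_XP (norm_of_le (sigInf_le hcA hc1)) _

theorem le_C1_of_stab (hp : p.Prime) (ha : a ^ p = 1) (hK : Nil K) (hKp : IsPi {p}ᶜ K)
    (haK : a ∈ N[K]) (hX : X ≤ K) (hXa : X ≤ C{a}) (h : K ⊓ C[X] ≤ C{a}) : K ≤ C{a} := by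
  refine le_C1_iff.2 (coprime_nil_faithful_cent_stab (zp_le haK) (hKp.coprime' (pi_zp hp ha)) hK ?_)
  rw [C_zpowers]
  exact le_inf inf_le_left ((inf_le_inf_left _ (C_anti (le_inf hX hXa))).trans h)

/-- no `θ a` is a maximal member. -/
theorem CE.not_le_C1 (h : CE p A θ) (ha : a ∈ A) (h1 : a ≠ 1) (hM : MaxM p A θ M) :
    ¬ M ≤ C{a} := by
  intro hc
  obtain ⟨r, hr, hR⟩ := exists_pcore_ne_bot hM.mem.sol (h.maxM_ne_bot hM)
  obtain ⟨S, hS, hle⟩ := exists_maxQ (hM.mem.pcore {r}) (pcore_pi _ _)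
  refine h.false_of_maxQ_cent hr ha h1 hS (ne_bot_of_le hR hle) ?_
  refine le_C1_of_stab h.prime (h.pow ha) (hS.pi.nil hr) hS.mem.pi (hS.mem.inv ha) hle
    ((pcore_le _ _).trans hc) (le_trans ?_ hc)
  exact h.le_of_pcore hM hR (hS.mem.infC (hM.mem.pcore _).inv) (norm_of_cent inf_le_right)

theorem CE.exists_pcore_not_le (h : CE p A θ) (ha : a ∈ A) (h1 : a ≠ 1) (hM : MaxM p A θ M) :
    ∃ s, s.Prime ∧ ¬ O[{s}, M] ≤ C{a} := by
  by_contra hc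
  push Not at hc
  have hz : zpowers a ≤ A := zp_le ha
  exact h.not_le_C1 ha h1 hM (le_C1_iff.2 (cent_of_forall_pcore hM.mem.sol (hz.trans hM.mem.inv)
    (hM.mem.cop h.sf hz) fun s hs _ => le_C1_iff.1 (hc s hs)))

end H23
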