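import Mathlib
import Cfsg.Agent.H23.SigCE

/-! # Universal subgroups of a minimal incomplete solvable signalizer functor -/

set_option autoImplicit false
set_option linter.unusedSectionVars false
set_option linter.unusedVariables false

namespace H23

open Cfsg H24 Subgroup H26
open H25 hiding abl_iff cyc_zpowers cyc_bot exists_prime_dvd_card
open scoped commutatorElement

universe u

variable {G : Type u} [Group G] [Finite G]
variable {p q r s t : ℕ} {π : Set ℕ} {A B D H K L M N P Q R S T U V W X Y : Subgroup G}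
  {θ : G → Subgroup G} {a b c d : G}

local notation "sI" => signalizerInf

/-- a nontrivial `r`-member lying in `O_r(θ c)` for all `c` of a line. -/
structure Univ (p : ℕ) (A : Subgroup G) (θ : G → Subgroup G) (r : ℕ) (B U : Subgroup G) :
    Prop where
  ce : CE p A θ
  line : Line p A B
  prime : r.Prime
  inv : A ≤ N[U]
  ne : U ≠ ⊥
  le : ∀ c ∈ B, c ≠ 1 → U ≤ O[{r}, θ c]

theorem Univ.le_theta (h : Univ p A θ r B U) (hc : c ∈ B) (h1 : c ≠ 1) : U ≤ θ c :=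
  (h.le c hc h1).trans (pcore_le _ _)

theorem Univ.le_C1 (h : Univ p A θ r B U) (hc : c ∈ B) (h1 : c ≠ 1) : U ≤ C{c} :=
  (h.le_theta hc h1).trans (h.ce.sf.cent c (h.line.le hc) h1)

theorem Univ.mem (h : Univ p A θ r B U) : Mem p A θ U := by
  obtain ⟨c, hc, h1⟩ := exists_ne_one (h.ce.line_ne_bot h.line)
  exact (h.ce.mem (h.line.le hc) h1).of_le (h.le_theta hc h1) h.inv

theorem Univ.pi (h : Univ p A θ r B U) : IsPi {r} U := by
  obtain ⟨c, hc, h1⟩ := exists_ne_one (h.ce.line_ne_bot h.line)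
  exact (pcore_pi _ _).of_le (h.le c hc h1)

theorem Univ.ne_p (h : Univ p A θ r B U) : r ≠ p := h.mem.ne_p h.prime (h.pi.dvd_card h.ne)

theorem Univ.le_pcore (h : Univ p A θ r B U) (hH : Mem p A θ H) (hU : U ≤ H) :
    U ≤ O[{r}, H] := by
  refine le_pcore_of_cent1_comm h.ce.prime (h.ce.ea.mono h.line.le) (h.ce.line_h2 h.line) hH.pi
    hH.sol (h.line.le.trans hH.inv) hU h.pi fun c hc h1 => (pcore_pi {r} (θ c)).of_le ?_
  exact (commutator_mono (hH.le c (h.line.le hc) h1) (h.le c hc h1)).trans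
    (comm_le_right (pcore_nml _ _).norm)

theorem Univ.pcore_ne_bot (h : Univ p A θ r B U) (hH : Mem p A θ H) (hU : U ≤ H) :
    O[{r}, H] ≠ ⊥ := ne_bot_of_le h.ne (h.le_pcore hH hU)

theorem Univ.pcore_eq (h : Univ p A θ r B U) (hM : MaxM p A θ M) (hU : U ≤ M) :
    O[{r}ᶜ, M] = O[{r}ᶜ, HN p A θ U] ⊓ M := by
  have hH := h.ce.mem_HN h.mem h.ne
  have hR := h.le_pcore hM.mem hU
  refine le_antisymm (le_inf ?_ (pcore_le _ _)) ?_
  · have hZ : Z[O[{r}, M]] ⊴ M := (pcore_nml _ _).center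
    have hZm := (hM.mem.pcore {r}).center
    have hZ1 : Z[O[{r}, M]] ≠ ⊥ :=
      ((pcore_pi _ _).nil h.prime).center_ne_bot (h.pcore_ne_bot hM.mem hU)
    have hc := pcore_compl_cent_pcore {r} M
    have h1 : HN p A θ U ⊓ N[Z[O[{r}, M]]] ≤ M :=
      h.ce.le_of_nml hM hZ hZm.inv hZ1 (hH.infN hZm.inv) inf_le_right
    refine le_trans ?_ (p'core_norm_pgroup h.prime ((pcore_pi _ _).inf_left _)
      (hZm.le_HN (norm_of_cent (inf_le_right.trans (C_anti hR)))) hH.sol)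
    refine (le_inf le_rfl (le_inf ((hM.mem.pcore _).le_HN (norm_of_cent (hc.trans (C_anti hR))))
      (norm_of_cent (hc.trans (C_anti inf_le_left))))).trans (pcore_inf_le _ h1)
  · refine le_trans ?_ (p'core_norm_pgroup h.prime h.pi hU hM.mem.sol)
    have h1 : M ⊓ N[U] ≤ HN p A θ U := (hM.mem.infN h.inv).le_HN inf_le_right
    exact (le_inf inf_le_left (le_inf inf_le_right
      (inf_le_left.trans ((pcore_le _ _).trans HN_le)))).trans (pcore_inf_le _ h1)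

/-- a universal subgroup with a maximal member `N` above its normalizer, `O_{r'}(N) ≠ 1`. -/
structure Big (p : ℕ) (A : Subgroup G) (θ : G → Subgroup G) (r : ℕ) (B U N : Subgroup G) :
    Prop extends Univ p A θ r B U where
  max : MaxM p A θ N
  le_of : ∀ K, Mem p A θ K → K ≤ N[U] → K ≤ N
  ne' : O[{r}ᶜ, N] ≠ ⊥
  eq : ∀ M, MaxM p A θ M → U ≤ M → O[{r}ᶜ, M] = O[{r}ᶜ, N] ⊓ M

theorem Univ.big_or (h : Univ p A θ r B U) :
    (∃ N, Big p A θ r B U N) ∨ ∀ M, MaxM p A θ M → U ≤ M → O[{r}ᶜ, M] = ⊥ := by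
  by_cases hY : O[{r}ᶜ, HN p A θ U] = ⊥
  · exact Or.inr fun M hM hU => by rw [h.pcore_eq hM hU, hY, bot_inf_eq]
  have hH := h.ce.mem_HN h.mem h.ne
  obtain ⟨N, hN, hle⟩ := exists_maxM hH
  have hU : U ≤ N := (h.mem.le_HN (norm_self _)).trans hle
  have e : O[{r}ᶜ, N] = O[{r}ᶜ, HN p A θ U] := by
    rw [h.pcore_eq hN hU, inf_eq_left]; exact (pcore_le _ _).trans hle
  exact Or.inl ⟨N, h, hN, fun K hK hn => (hK.le_HN hn).trans hle, e ▸ hY,
    fun M hM hU => e ▸ h.pcore_eq hM hU⟩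

theorem pcore_le_compl (hs : s ≠ r) (H : Subgroup G) : O[{s}, H] ≤ O[{r}ᶜ, H] :=
  pcore_mono H (singleton_subset_compl hs)

theorem pcore_pcore_compl (hs : s ≠ r) (H : Subgroup G) : O[{s}, O[{r}ᶜ, H]] = O[{s}, H] :=
  pcore_pcore_of_subset H (singleton_subset_compl hs)

theorem cent_compl_of_forall (hN : Sol N) (hX : X ≤ N[N]) (hc : (♯O[{r}ᶜ, N]).Coprime ♯X)
    (h : ∀ t, t.Prime → t ≠ r → X ≤ C[O[{t}, N]]) : X ≤ C[O[{r}ᶜ, N]] := by
  refine cent_of_forall_pcore (hN.of_le (pcore_le _ _)) (norm_pcore _ hX) hc fun t ht hd => ?_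
  have htr : t ≠ r := (pcore_pi _ _).mem ht hd
  rw [pcore_pcore_compl htr]
  exact h t ht htr

namespace Big

variable (h : Big p A θ r B U N)
include h

theorem le_N : U ≤ N := h.le_of _ h.mem (norm_self _)

theorem le_R : U ≤ O[{r}, N] := h.le_pcore h.max.mem h.le_N

theorem pcore_le_Y (hM : MaxM p A θ M) (hU : U ≤ M) : O[{r}ᶜ, M] ≤ O[{r}ᶜ, N] :=
  (h.eq M hM hU).le.trans inf_le_left

theorem le_of_cent (hK : Mem p A θ K) (hc : K ≤ C[U]) : K ≤ N := h.le_of K hK (norm_of_cent hc)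

theorem star' (hD : Mem p A θ D) (h1 : D ≠ ⊥) (hU : U ≤ N[D]) (hY : O[{r}ᶜ, N] ≤ N[D])
    (hK : Mem p A θ K) (hKD : K ≤ N[D]) : K ≤ N := by
  obtain ⟨M, hM, hle⟩ := h.ce.exists_maxM_norm hD h1
  have e : O[{r}ᶜ, M] = O[{r}ᶜ, N] := by
    rw [h.eq M hM (hle _ h.mem hU), inf_eq_left]
    exact hle _ (h.max.mem.pcore _) hY
  exact (hle K hK hKD).trans (h.ce.le_of_pcore h.max h.ne' hM.mem (e ▸ (pcore_nml _ _).norm))

theorem star (hs : s.Prime) (hsr : s ≠ r) (hX : X ≤ O[{s}, N]) (hAX : A ≤ N[X]) (h1 : X ≠ ⊥)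
    (hK : Mem p A θ K) (hKX : K ≤ N[X]) : K ≤ N := by
  have hNm := h.max.mem
  have hXm : Mem p A θ X := (hNm.pcore _).of_le hX hAX
  obtain ⟨M, hM, hle⟩ := h.ce.exists_maxM_norm hXm h1
  have hXY : X ≤ O[{r}ᶜ, N] := hX.trans (pcore_le_compl hsr N)
  have hU : U ≤ M := hle _ h.mem (norm_of_cent (h.le_R.trans
    ((pcore_cent_pcore_compl {r} N).trans (C_anti hXY))))
  have e := h.eq M hM hU
  have key : ∀ L, Mem p A θ L → Mem p A θ (pEltGen r (L ⊓ C[O[{r}ᶜ, L]])) ∧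
      pEltGen r (L ⊓ C[O[{r}ᶜ, L]]) ⊴ L := by
    intro L hL
    have hn : L ⊓ C[O[{r}ᶜ, L]] ⊴ L := (pcore_nml _ _).infC
    have hl : pEltGen r (L ⊓ C[O[{r}ᶜ, L]]) ≤ L := p_elt_gen_normal.le.trans hn.le
    exact ⟨hL.of_le hl (norm_pEltGen (hL.infC (hL.pcore _).inv).inv), hl, norm_pEltGen hn.norm⟩
  have hle1 : ∀ L : Subgroup G, pEltGen r (L ⊓ C[O[{r}ᶜ, L]]) ≤ C[O[{r}ᶜ, L]] := fun L =>
    p_elt_gen_normal.le.trans inf_le_right
  have e2 : pEltGen r (M ⊓ C[O[{r}ᶜ, M]]) = pEltGen r (N ⊓ C[O[{r}ᶜ, N]]) := by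
    refine le_antisymm (pEltGen_le_iff.2 fun x hx hxr => mem_pEltGen ?_ hxr)
      (pEltGen_le_iff.2 fun x hx hxr => mem_pEltGen ⟨?_, C_anti (h.pcore_le_Y hM hU) hx.2⟩ hxr)
    · have hZ : Z[O[{s}, N]] ⊴ N := (pcore_nml _ _).center
      have hZm := (hNm.pcore {s}).center
      have hZM : Z[O[{s}, N]] ≤ O[{r}ᶜ, M] := e ▸ le_inf (inf_le_left.trans (pcore_le_compl hsr N))
        (hle _ hZm (norm_of_cent (inf_le_right.trans (C_anti hX))))
      have hxN : x ∈ N := h.ce.le_of_nml h.max hZ hZm.inv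
        (((pcore_pi _ _).nil hs).center_ne_bot (ne_bot_of_le h1 hX)) (key M hM.mem).1
        (norm_of_cent ((hle1 M).trans (C_anti hZM))) (mem_pEltGen hx hxr)
      have hx2 : ∀ L, Mem p A θ L → L ≤ O[{r}ᶜ, N] → L ≤ C[X] → zpowers x ≤ C[L] :=
        fun L hL h1 h2 => zp_le (C_anti (e ▸ le_inf h1 (hle L hL (norm_of_cent h2))) hx.2)
      refine ⟨hxN, zpowers_le.1 (cent_compl_of_forall hNm.sol (zp_le (norm_self _ hxN))
        ((pcore_pi _ _).coprime' hxr.isPi) fun t ht htr => ?_)⟩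
      by_cases hts : t = s
      · subst hts
        refine Thompson_PxQ ht ((pcore_pi _ _).of_le hX) (hxr.isPi.compl_of_ne htr.symm)
          (pcore_pi _ _) (cents_symm (zp_le (C_anti (e ▸ le_inf hXY
            (hle X hXm (norm_self _))) hx.2))) (norm_of_le hX)
          (zp_le ((pcore_nml _ _).norm hxN)) (cents_symm ?_)
        exact hx2 _ ((hNm.pcore _).infC hAX) (inf_le_left.trans (pcore_le_compl htr N))
          inf_le_right
      · exact hx2 _ (hNm.pcore _) (pcore_le_compl htr N)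
          ((pcore_cent_pcore_of_ne hts N).trans (C_anti hX))
    · exact hle _ (key N hNm).1 (norm_of_cent ((hle1 N).trans (C_anti hXY))) (mem_pEltGen hx hxr)
  have e3 : M = N := h.ce.eq_of_norm hM h.max (key N hNm).1 (ne_bot_of_le h.ne
    (le_pEltGen h.pi (le_inf h.le_N (h.le_R.trans (pcore_cent_pcore_compl {r} N)))))
    (e2 ▸ (key M hM.mem).2.norm) (key N hNm).2.norm
  exact e3 ▸ hle K hK hKX

theorem inf_le_pcore (hM : MaxM p A θ M) (hU : U ≤ M) (hsr : s ≠ r) :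
    O[{s}, N] ⊓ M ≤ O[{s}, M] := by
  rw [← pcore_pcore_compl hsr M]
  refine le_trans ?_ (pcore_inf_le _ ((h.pcore_le_Y hM hU).trans (pcore_le _ _)))
  rw [h.eq M hM hU]
  exact le_inf inf_le_left (inf_le_inf_right _ (pcore_le_compl hsr N))

theorem pcore_le_N (hM : MaxM p A θ M) (hU : U ≤ M) (hsr : s ≠ r) : O[{s}, M] ≤ N :=
  (pcore_le_compl hsr M).trans ((h.pcore_le_Y hM hU).trans (pcore_le _ _))

theorem pcore_le_pcore (hM : MaxM p A θ M) (hU : U ≤ M) (hs : s.Prime) (hsr : s ≠ r)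
    (h1 : O[{s}, M] ≠ ⊥) : O[{s}, N] ≤ O[{s}, M] := by
  have hn : O[{s}, M] ≤ N[O[{s}, N]] := (h.pcore_le_N hM hU hsr).trans (pcore_nml _ _).norm
  have hH := Mem.sup' h.ce.sf (hM.mem.pcore {s}) (h.max.mem.pcore {s}) hn
  have := (((pcore_pi {s} M).sup' (pcore_pi _ _) hn).nil hs).eq_of_norm_le le_sup_left ?_
  · exact this ▸ le_sup_right
  refine (le_inf inf_le_left (h.ce.le_of_pcore hM h1 (hH.infN (hM.mem.pcore _).inv)
    inf_le_right)).trans ?_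
  rw [← group_modl' hn (pcore_le _ _)]
  exact sup_le le_rfl (h.inf_le_pcore hM hU hsr)

theorem fpf (hM : MaxM p A θ M) (hU : U ≤ M) (ha : a ∈ A) (h1 : a ≠ 1) (haM : θ a ≤ M)
    (hi : O[{s}, N] ⊓ M = ⊥) : O[{s}, N] ⊓ C{a} = ⊥ :=
  eq_bot_of_le hi (le_inf inf_le_left (((h.max.mem.pcore _).le a ha h1).trans haM))

theorem cent_or_fpf (hM : MaxM p A θ M) (hU : U ≤ M) (ha : a ∈ A) (h1 : a ≠ 1) (haM : θ a ≤ M)
    (hs : s.Prime) (hsr : s ≠ r) (hc : O[{s}, M] ≤ C{a}) :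
    O[{s}, N] ≤ C{a} ∨ O[{s}, N] ⊓ C{a} = ⊥ := by
  by_cases h0 : O[{s}, M] = ⊥
  · exact Or.inr (h.fpf hM hU ha h1 haM (eq_bot_of_le h0 (h.inf_le_pcore hM hU hsr)))
  · exact Or.inl ((h.pcore_le_pcore hM hU hs hsr h0).trans hc)

theorem R_le_of_inf (hM : MaxM p A θ M) (hU : U ≤ M) (hs : s.Prime) (hsr : s ≠ r)
    (hi : O[{s}, N] ⊓ M ≠ ⊥) : O[{r}, M] ≤ N :=
  h.star hs hsr inf_le_left ((h.max.mem.pcore _).inf hM.mem).inv hi (hM.mem.pcore _)
    (norm_of_cent ((pcore_cent_pcore_of_ne hsr.symm M).trans (C_anti (h.inf_le_pcore hM hU hsr))))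

/-- an element acting nontrivially on a suitable subgroup of `N` has its `θ` inside `N`. -/
theorem good (ha : a ∈ A) (h1 : a ≠ 1) (hs : s.Prime) (hP : IsPi {s} P) (hPN : P ≤ N)
    (hAP : A ≤ N[P]) (hn : θ a ≤ N[P]) (ho : s ≠ 2 ∨ Abl P) (hU : U ≤ N[⁅P, zpowers a⁆])
    (hne : ¬ P ≤ C{a}) : θ a ≤ N := by
  have hNm := h.max.mem
  have hD := comm_le_pcore h.ce.prime hs (h.ce.pow ha) hNm.sol hNm.pi (hNm.inv ha) hPN hP ho
    (hAP ha) ((hNm.le a ha h1).trans hn)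
  have hAD : A ≤ N[⁅P, zpowers a⁆] := norm_comm hAP (h.ce.sf.abl.norm le_rfl (zp_le ha))
  have hD1 : ⁅P, zpowers a⁆ ≠ ⊥ := fun e => hne (le_C1_iff_comm.2 e)
  have hθ : θ a ≤ N[⁅P, zpowers a⁆] := norm_comm hn (norm_zpowers_of_cent (h.ce.sf.cent a ha h1))
  by_cases hsr : s = r
  · subst hsr
    exact h.star' ((hNm.pcore _).of_le hD hAD) hD1 hU
      (norm_of_cent ((pcore_compl_cent_pcore _ _).trans (C_anti hD))) (h.ce.mem ha h1) hθ
  · exact h.star hs hsr hD hAD hD1 (h.ce.mem ha h1) hθ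

theorem good_of_cent (hCB : sI B θ ≤ N) (hc : c ∈ B) (h1 : c ≠ 1) (hM : MaxM p A θ M)
    (hcM : θ c ≤ M) (hd : d ∈ B) (hn : d ∉ zpowers c) (hR : O[{r}, M] ≤ C{d}) : θ c ≤ N := by
  have hm := h.ce.mem (h.line.le hc) h1
  have hz : zpowers d ≤ A := zp_le (h.line.le hd)
  rw [← (coprime_cent_prod (hz.trans hm.inv) (hm.cop h.ce.sf hz) hm.sol).sup_eq, C_zpowers]
  refine sup_le (h.le_of_cent (hm.of_le (comm_le_left (hz.trans hm.inv))
    (norm_comm hm.inv (h.ce.sf.abl.norm le_rfl hz))) ?_) (le_trans ?_ hCB)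
  · exact (comm_le_C_of_right (hcM.trans (pcore_nml _ _).norm) (le_C1_iff.1 hR)).trans
      (C_anti (h.le_pcore hM.mem ((h.le_theta hc h1).trans hcM)))
  · refine le_trans (le_inf inf_le_left ?_) (hm.inf_C_le h.line.le)
    exact (inf_le_inf_right _ (h.ce.sf.cent c (h.line.le hc) h1)).trans
      (h.ce.C_line h.line hd hc h1 hn)

end Big

theorem le_C1_of_cent_compl (hp : p.Prime) (hr : r.Prime) (ha : a ^ p = 1) (hM : Sol M)
    (hMp : IsPi {p}ᶜ M) (haM : a ∈ N[M]) (hR : O[{r}, M] ≤ C{a}) (hT : T ≤ M) (hTr : IsPi {r} T)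
    (haT : a ∈ N[T]) (hc : T ≤ C[O[{r}ᶜ, M]]) : T ≤ C{a} := by
  have hn : T ≤ N[O[{r}, M]] := hT.trans (pcore_nml _ _).norm
  have hK := (pcore_pi {r} M).sup hTr hn
  have hKM : O[{r}, M] ⊔ T ≤ M := sup_le (pcore_le _ _) hT
  refine le_sup_right.trans (le_C1_of_stab hp ha (hK.nil hr) (hMp.of_le hKM)
    (zpowers_le.1 (norm_sup (zp_le (N_le_N_pcore _ _ haM)) (zp_le haT))) le_sup_left hR
    (le_trans ?_ hR))
  refine le_pcore_of_forall hM (inf_le_left.trans hKM) (hK.inf_left _) fun s hs => ?_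
  by_cases hsr : s = r
  · subst hsr; exact inf_le_right
  · exact inf_le_left.trans ((sup_le (pcore_cent_pcore_compl _ _) hc).trans
      (C_anti (pcore_le_compl hsr M)))

theorem C1_eq_of_mem_zp (hp : p.Prime) (hc : c ^ p = 1) (hd : d ∈ zpowers c) (h1 : d ≠ 1) :
    C{d} = C{c} := by
  have hc1 : c ≠ 1 := by rintro rfl; simp at hd; exact h1 hd
  rw [← C_zpowers, zpowers_eq_of_prime (by rw [card_zp hp hc hc1]; exact hp) hd h1, C_zpowers]

namespace Big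

variable (h : Big p A θ r B U N)
include h

theorem false_of_cent_fpf (hr2 : r ≠ 2) (hc : c ∈ B) (h1 : c ≠ 1) (hM : MaxM p A θ M)
    (hcM : θ c ≤ M) (hf : ∀ s, s.Prime → s ≠ r → O[{s}, N] ⊓ C{c} = ⊥)
    (hR : O[{r}, M] ≤ C{c}) : False := by
  have hcA := h.line.le hc
  have hp := h.ce.prime
  have hr := h.prime
  have hcp := h.ce.pow hcA
  have hNm := h.max.mem
  have hU : U ≤ M := (h.le_theta hc h1).trans hcM
  have hUR := h.le_pcore hM.mem hU
  have hZm := (hM.mem.pcore {r}).center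
  have hZN : Z[O[{r}, M]] ≤ N := h.le_of_cent hZm (inf_le_right.trans (C_anti hUR))
  have hTm := (hNm.pcore {r}).infC hZm.inv
  have h2 : O[{r}, N] ≤ C{c} := by
    refine le_C1_of_PxQ hp hr h.ne_p hcp ((pcore_pi {r} M).inf_left C[O[{r}, M]]) (pcore_pi _ _)
      (inf_le_left.trans hR) (hZN.trans (pcore_nml _ _).norm) ((hNm.pcore _).inv hcA) ?_
    refine le_C1_of_cent_compl hp hr hcp hM.mem.sol hM.mem.pi (hM.mem.inv hcA) hR
      (h.ce.le_of_nml hM (pcore_nml _ _).center hZm.inv (((pcore_pi _ _).nil hr).center_ne_bot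
        (h.pcore_ne_bot hM.mem hU)) hTm (norm_of_cent inf_le_right)) ((pcore_pi _ _).inf_left _)
      (hTm.inv hcA) ?_
    exact inf_le_left.trans ((pcore_cent_pcore_compl _ _).trans (C_anti (h.pcore_le_Y hM hU)))
  obtain ⟨T, hT, hAT, hUT⟩ := hNm.exists_syl h.ce.sf hr h.le_N h.pi h.inv
  have h3 : T ≤ C{c} := le_C1_of_pcores hp hr hr2 hcp hNm.sol hNm.pi (hNm.inv hcA) hT.le hT.pi
    (hAT hcA) h2 fun s hs hsr => Or.inr (Or.inl (hf s hs hsr))
  obtain ⟨S, hS, hle⟩ := exists_maxQ (hNm.of_le hT.le hAT) hT.pi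
  refine h.ce.false_of_maxQ_cent hr hcA h1 hS (ne_bot_of_le h.ne (hUT.trans hle)) ?_
  refine le_C1_of_stab hp hcp (hS.pi.nil hr) hS.mem.pi (hS.mem.inv hcA) (hUT.trans hle)
    (h.le_C1 hc h1) (le_trans ?_ h3)
  rw [← hT.eq_of_le (hS.pi.inf_left N) (le_inf hle hT.le) inf_le_right]
  exact le_inf inf_le_left (h.le_of_cent (hS.mem.infC h.inv) inf_le_right)

theorem R_le_of_bad (hr2 : r ≠ 2) (hCB : sI B θ ≤ N) (hc : c ∈ B) (h1 : c ≠ 1)
    (hM : MaxM p A θ M) (hcM : θ c ≤ M) (hbad : ¬ θ c ≤ N) : O[{r}, M] ≤ N := by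
  by_contra hRN
  have hcA := h.line.le hc
  have hp := h.ce.prime
  have hr := h.prime
  have hcp := h.ce.pow hcA
  have hNm := h.max.mem
  have hU : U ≤ M := (h.le_theta hc h1).trans hcM
  have hUR := h.le_pcore hM.mem hU
  have hRm := hM.mem.pcore {r}
  have hRr := pcore_pi {r} M
  have hf : ∀ s, s.Prime → s ≠ r → O[{s}, N] ⊓ C{c} = ⊥ := fun s hs hsr =>
    h.fpf hM hU hcA h1 hcM (by_contra fun hi => hRN (h.R_le_of_inf hM hU hs hsr hi))
  have hR1 := hRm.inf hNm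
  have hR2 := hRm.infN hR1.inv
  obtain ⟨d, hd, hd1, hT⟩ := h.ce.exists_cent1 (L := N) h.line (h.line.le.trans hR2.inv) hR2.pi
    fun hle => ((hRr.nil hr).proper_norm (inf_lt_left.2 hRN)).not_ge (le_inf inf_le_left hle)
  have hdA := h.line.le hd
  have hdp := h.ce.pow hdA
  have hTm := hR2.inf_left (h.ce.sf.norm_C1 hdA)
  have hTR : O[{r}, M] ⊓ N[O[{r}, M] ⊓ N] ⊓ C{d} ≤ O[{r}, M] := inf_le_left.trans inf_le_left
  by_cases hα : ∀ s, s.Prime → s ≠ r → O[{s}, N] ⊓ C{d} = ⊥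
  · have hle : ⁅O[{r}, M] ⊓ N, zpowers d⁆ ≤ O[{r}, M] ⊓ N := comm_le_left (zp_le (hR1.inv hdA))
    have hD : ⁅O[{r}, M] ⊓ N, zpowers d⁆ = ⊥ := by
      by_contra hD
      refine hT (h.star' (hR1.of_le hle (norm_comm hR1.inv (h.ce.sf.abl.norm le_rfl (zp_le hdA))))
        hD ((le_inf hUR h.le_N).trans (norm_comm_left _ _)) (norm_of_cent (cents_symm ?_)) hTm
        (norm_comm (inf_le_left.trans inf_le_right) (norm_zpowers_of_cent inf_le_right)))
      refine cent_compl_of_forall hNm.sol (norm_of_le (hle.trans inf_le_right))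
        ((pcore_pi _ _).coprime' ((hRr.inf_left _).of_le hle)) fun t ht htr => ?_
      exact comm_cent_of_fpf hp hr hdp (hRr.inf_left _) h.ne_p (Or.inl hr2)
        ((pcore_pi _ _).sol ht) (hNm.pcore _).pi ((pcore_pi _ _).compl_of_ne htr)
        (inf_le_right.trans (pcore_nml _ _).norm) ((hNm.pcore _).inv hdA) (hR1.inv hdA)
        (hα t ht htr)
    have hRd : O[{r}, M] ≤ C{d} := le_C1_of_PxQ hp hr h.ne_p hdp h.pi hRr (h.le_C1 hd hd1)
      (norm_of_le hUR) (hRm.inv hdA) ((le_inf inf_le_left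
        (h.le_of_cent (hRm.infC h.inv) inf_le_right)).trans (le_C1_iff_comm.2 hD))
    by_cases hdc : d ∈ zpowers c
    · exact h.false_of_cent_fpf hr2 hc h1 hM hcM hf (C1_eq_of_mem_zp hp hcp hdc hd1 ▸ hRd)
    · exact hbad (h.good_of_cent hCB hc h1 hM hcM hd hdc hRd)
  · push Not at hα
    obtain ⟨s, hs, hsr, hX⟩ := hα
    have hdc : d ∉ zpowers c := fun hdc => hX (C1_eq_of_mem_zp hp hcp hdc hd1 ▸ hf s hs hsr)
    obtain ⟨M', hM', hdM⟩ := exists_maxM (h.ce.mem hdA hd1)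
    have hU' : U ≤ M' := (h.le_theta hd hd1).trans hdM
    have hVm := hM'.mem.pcore {r}ᶜ
    have hXm := (hNm.pcore {s}).inf_left (h.ce.sf.norm_C1 hdA)
    have hXV : O[{s}, N] ⊓ C{d} ≤ O[{r}ᶜ, M'] := h.eq M' hM' hU' ▸
      le_inf (inf_le_left.trans (pcore_le_compl hsr N)) (((hNm.pcore _).le d hdA hd1).trans hdM)
    have hz : zpowers c ≤ A := zp_le hcA
    have h2 := comm_cent_of_fix hp hr hcp (hRr.of_le hTR) h.ne_p (Or.inl hr2) (hTm.inv hcA) _
      hVm.sol hVm.pi (pcore_pi _ _)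
      (((hR2.le d hdA hd1).trans hdM).trans (pcore_nml _ _).norm) (hVm.inv hcA) (by
        refine le_trans ?_ ((pcore_compl_cent_pcore {r} M).trans (C_anti hTR))
        rw [h.eq M hM hU]
        exact le_inf (inf_le_left.trans (h.pcore_le_Y hM' hU')) ((hVm.le c hcA h1).trans hcM))
    refine hT ?_
    rw [← (coprime_cent_prod (hz.trans hTm.inv) (hTm.cop h.ce.sf hz) hTm.sol).sup_eq, C_zpowers]
    refine sup_le (h.star hs hsr inf_le_left hXm.inv hX (hTm.of_le (comm_le_left (hz.trans hTm.inv))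
      (norm_comm hTm.inv (h.ce.sf.abl.norm le_rfl hz))) (norm_of_cent (h2.trans (C_anti hXV))))
      (le_trans ?_ hCB)
    refine le_trans (le_inf inf_le_left ?_) (hTm.inf_C_le h.line.le)
    exact (le_inf inf_le_right (inf_le_left.trans inf_le_right)).trans
      (h.ce.C_line h.line hd hc h1 hdc)

theorem bad_facts (hr2 : r ≠ 2) (hCB : sI B θ ≤ N) (hc : c ∈ B) (h1 : c ≠ 1)
    (hM : MaxM p A θ M) (hcM : θ c ≤ M) (hbad : ¬ θ c ≤ N) :
    O[{r}, N] ≤ C{c} ∧ O[{r}, M] ≤ C[O[{2}, N]] ∧ ∀ s, s.Prime → s ≠ r → s ≠ 2 →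
      O[{s}, N] ≤ C{c} ∨ O[{s}, N] ⊓ C{c} = ⊥ := by
  have hcA := h.line.le hc
  have hU : U ≤ M := (h.le_theta hc h1).trans hcM
  have h2 : ∀ s, s.Prime → s ≠ 2 → O[{s}, M] ≤ C{c} := by
    intro s hs hs2
    by_contra hne
    have hn : θ c ≤ N[O[{s}, M]] := hcM.trans (pcore_nml _ _).norm
    refine hbad (h.good hcA h1 hs (pcore_pi _ _) ?_ (hM.mem.pcore _).inv hn (Or.inl hs2)
      (norm_comm ((h.le_theta hc h1).trans hn) (norm_zpowers_of_cent (h.le_C1 hc h1))) hne)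
    by_cases hsr : s = r
    · subst hsr; exact h.R_le_of_bad hr2 hCB hc h1 hM hcM hbad
    · exact h.pcore_le_N hM hU hsr
  have h3 : O[{2}, M] ≠ ⊥ := by
    obtain ⟨s, hs, hne⟩ := h.ce.exists_pcore_not_le hcA h1 hM
    by_cases hs2 : s = 2
    · subst hs2; intro e; exact hne (e ▸ bot_le)
    · exact absurd (h2 s hs hs2) hne
  have h4 : O[{r}, N] ≤ C[O[{r}ᶜ, M]] :=
    (pcore_cent_pcore_compl _ _).trans (C_anti (h.pcore_le_Y hM hU))
  refine ⟨?_, (pcore_cent_pcore_of_ne hr2 M).trans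
    (C_anti (h.pcore_le_pcore hM hU Nat.prime_two hr2.symm h3)),
    fun s hs hsr hs2 => h.cent_or_fpf hM hU hcA h1 hcM hs hsr (h2 s hs hs2)⟩
  exact le_C1_of_cent_compl h.ce.prime h.prime (h.ce.pow hcA) hM.mem.sol hM.mem.pi (hM.mem.inv hcA)
    (h2 r h.prime hr2) (h.ce.le_of_pcore hM (ne_bot_of_le h3 (pcore_le_compl hr2.symm M))
      (h.max.mem.pcore _) (norm_of_cent h4)) (pcore_pi _ _) ((h.max.mem.pcore _).inv hcA) h4

theorem false_of_odd (hr2 : r ≠ 2) (hCB : sI B θ ≤ N) : False := by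
  by_cases hall : ∀ c ∈ B, c ≠ 1 → θ c ≤ N
  · exact h.ce.false_of_le h.line.le (h.ce.line_h2 h.line) h.max.mem hall
  push Not at hall
  obtain ⟨d, hd, hd1, hbad⟩ := hall
  have hdA := h.line.le hd
  refine h.ce.false_of_comm hdA hd1 h.line.le (h.ce.line_h2 h.line) h.max.mem fun c hc h1 => ?_
  have hcA := h.line.le hc
  by_cases hdc : d ∈ zpowers c
  · rw [le_C1_iff_comm.1 (C1_eq_of_mem_zp h.ce.prime (h.ce.pow hcA) hdc hd1 ▸
      h.ce.sf.cent c hcA h1)]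
    exact bot_le
  refine (comm_le_left (zp_le (h.ce.sf.inv c hcA h1 hdA))).trans (by_contra fun hbad' => ?_)
  obtain ⟨M, hM, hcM⟩ := exists_maxM (h.ce.mem hcA h1)
  obtain ⟨M', hM', hdM⟩ := exists_maxM (h.ce.mem hdA hd1)
  obtain ⟨-, f2, -⟩ := h.bad_facts hr2 hCB hc h1 hM hcM hbad'
  obtain ⟨g1, -, g3⟩ := h.bad_facts hr2 hCB hd hd1 hM' hdM hbad
  refine hbad' (h.good_of_cent hCB hc h1 hM hcM hd hdc ?_)
  refine le_C1_of_pcores h.ce.prime h.prime hr2 (h.ce.pow hdA) h.max.mem.sol h.max.mem.pi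
    (h.max.mem.inv hdA) (h.R_le_of_bad hr2 hCB hc h1 hM hcM hbad') (pcore_pi _ _)
    ((hM.mem.pcore _).inv hdA) g1 fun s hs hsr => ?_
  by_cases hs2 : s = 2
  · subst hs2; exact Or.inr (Or.inr f2)
  · exact (g3 s hs hsr hs2).imp id Or.inl

/-- if every `O_t(N)` is centralized by a noncyclic subgroup of `A`, we are done. -/
theorem false_of_lines (hl : ∀ t, t.Prime → t ≠ r → O[{t}, N] ≠ ⊥ →
    ∃ D ≤ A, p ^ 2 ≤ ♯D ∧ O[{t}, N] ≤ C[D]) : False := by
  have hNm := h.max.mem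
  refine h.ce.false_of_le h.line.le (h.ce.line_h2 h.line) hNm fun c hc h1 => ?_
  obtain ⟨M, hM, hcM⟩ := exists_maxM (h.ce.mem (h.line.le hc) h1)
  have hU : U ≤ M := (h.le_theta hc h1).trans hcM
  have hUR := h.le_pcore hM.mem hU
  have hRm := hM.mem.pcore {r}
  have hR1 := hRm.inf hNm
  have hR1r : IsPi {r} (O[{r}, M] ⊓ N) := (pcore_pi _ _).inf_left _
  have hU1 : U ≤ O[{r}, M] ⊓ N := le_inf hUR h.le_N
  have hK := hM.mem.infN hR1.inv
  have key : M ⊓ N[O[{r}, M] ⊓ N] ≤ N := by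
    refine h.ce.le_of_line hK.inv hK.pi fun L hL => ?_
    set Γ := M ⊓ N[O[{r}, M] ⊓ N] ⊓ C[L] with hΓ
    have hΓm : Mem p A θ Γ := hK.inf_left (h.ce.sf.norm_C hL.le)
    have hΓn : Γ ≤ N[O[{r}, M] ⊓ N] := inf_le_left.trans inf_le_right
    set D : Subgroup G := ⨆ g : Γ, cj (g : G) U with hD
    have hDR : D ≤ O[{r}, M] ⊓ N := iSup_le fun g => cj_le_of_mem_N hU1 (hΓn g.2)
    have hUD : U ≤ D := le_iSup_of_le (1 : Γ) (by simp)
    have hΓD : Γ ≤ N[D] := by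
      intro g hg
      refine mem_N_of_le_cj (iSup_le fun x => ?_)
      rw [le_cj_iff, ← cj_mul]
      exact le_iSup_of_le ⟨g⁻¹ * x, mul_mem (inv_mem hg) x.2⟩ le_rfl
    have hAD : A ≤ N[D] := by
      intro a ha
      refine mem_N_of_le_cj (iSup_le fun x => ?_)
      rw [le_cj_iff, ← cj_mul]
      refine le_iSup_of_le ⟨a⁻¹ * x * a, conj_mem' (hΓm.inv ha) x.2⟩ (le_of_eq ?_)
      rw [cj_mul (a⁻¹ * x) a, cj_of_mem_N (h.inv ha)]
    refine h.star' (hR1.of_le hDR hAD) (ne_bot_of_le h.ne hUD) (norm_of_le hUD)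
      (norm_of_cent (cents_symm ?_)) hΓm hΓD
    refine cent_compl_of_forall hNm.sol (norm_of_le (hDR.trans inf_le_right))
      ((pcore_pi _ _).coprime' (hR1r.of_le hDR)) fun t ht htr => ?_
    by_cases h0 : O[{t}, N] = ⊥
    · rw [h0, C_bot]; exact le_top
    obtain ⟨E, hE, hE2, hc⟩ := hl t ht htr h0
    obtain ⟨e, he, he1⟩ := exists_ne_one (ne_bot_of_card h.ce.prime one_pos
      (le_card_inf_hyp h.ce.prime h.ce.ea hE hE2 hL.le hL.idx))
    have heA : e ∈ A := hE he.2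
    have hOe : O[{t}, N] ≤ θ e := (hNm.pcore _).le_of_cent heA he1 (hc.trans (C_le_C1 he.2))
    have hΓe : Γ ≤ θ e := hΓm.le_of_cent heA he1 (inf_le_right.trans (C_le_C1 he.1))
    set V : Subgroup G := sSup {X | X ≤ θ e ∧ O[{r}, M] ⊓ N ≤ N[X]} with hV
    have hVn : O[{r}, M] ⊓ N ≤ N[V] := norm_sSup fun X hX => hX.2
    have hVm : Mem p A θ V := by
      refine (h.ce.mem heA he1).of_le (sSup_le fun X hX => hX.1) fun a ha => ?_
      refine mem_N_of_le_cj (sSup_le fun X hX => ?_)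
      rw [le_cj_iff]
      refine le_sSup ⟨cj_le_of_mem_N hX.1 (inv_mem (h.ce.sf.inv e heA he1 ha)), ?_⟩
      have := norm_cj hX.2 a⁻¹
      rwa [cj_of_mem_N (inv_mem (hR1.inv ha))] at this
    have hH := Mem.sup h.ce.sf hVm hR1 hVn
    have hUH := h.le_pcore hH (hU1.trans le_sup_right)
    refine iSup_le fun g => ?_
    have hn : O[{r}, M] ⊓ N ≤ N[cj (g : G)⁻¹ O[{t}, N]] := by
      have := norm_cj (inf_le_right.trans (pcore_nml {t} N).norm : O[{r}, M] ⊓ N ≤ _) (g : G)⁻¹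
      rwa [cj_of_mem_N (inv_mem (hΓn g.2))] at this
    have hXV : cj (g : G)⁻¹ O[{t}, N] ≤ V := le_sSup ⟨cj_le_of_mem hOe (inv_mem (hΓe g.2)), hn⟩
    rw [cj_le_iff, cj_C, ← comm_eq_bot, eq_bot_iff,
      ← IsPi.inf_eq_bot (pcore_pi {r} _) (((pcore_pi {t} N).cj (g : G)⁻¹).compl_of_ne htr)]
    exact le_inf ((comm_mono_left hUH).trans (comm_le_left
      ((hXV.trans le_sup_left).trans (pcore_nml _ _).norm))) (comm_le_right (hU1.trans hn))
  have e := ((pcore_pi {r} M).nil h.prime).eq_of_norm_le (K := O[{r}, M] ⊓ N) inf_le_left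
    (le_inf inf_le_left ((inf_le_inf_right _ (pcore_le _ _)).trans key))
  refine hcM.trans (le_trans (le_inf le_rfl ?_) key)
  rw [e]
  exact (pcore_nml _ _).norm

end Big

end H23
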