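import Mathlib
import Cfsg.Agent.H23.SigL
import Cfsg.Agent.H12.FF6

/-! # The holomorph of a subgroup, relative to its normalizer -/

set_option autoImplicit false
set_option linter.unusedSectionVars false
set_option linter.unusedVariables false

namespace H23

open Cfsg H24 Subgroup H26
open H25 hiding abl_iff cyc_zpowers cyc_bot exists_prime_dvd_card
open scoped commutatorElement

universe u v

variable {G : Type u} [Group G] [Finite G]

/-- `f : N(V) → Γ` has kernel `C(V)`, and `U ≤ Γ` is a copy of `V` on which `N(V)` acts through `f`. -/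
structure RHol (V : Subgroup G) {Γ : Type u} [Group Γ] (f : N[V] →* Γ) (U : Subgroup Γ) : Prop where
  ker : pre f ⊥ = C[V]
  card : ♯U = ♯V
  ea : ∀ r, IsElementaryAbelian r V → IsElementaryAbelian r U
  norm : ∀ X, img f X ≤ N[U]
  faith : ∀ X, img f X ⊓ C[U] = ⊥
  cardC : ∀ X ≤ N[V], ♯(U ⊓ C[img f X]) = ♯(V ⊓ C[X])

theorem exists_rhol (V : Subgroup G) : ∃ (Γ : Type u) (_ : Group Γ) (_ : Finite Γ)
    (f : N[V] →* Γ) (U : Subgroup Γ), RHol V f U := by
  haveI : (V.subgroupOf N[V]).Normal := (nml_N V).normal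
  obtain ⟨Γ, _, _, ι, ρ, h⟩ : ∃ (Γ : Type u) (_ : Group Γ) (_ : Finite Γ)
      (ι : V.subgroupOf N[V] →* Γ) (ρ : N[V] →* Γ), H12.Hol (V.subgroupOf N[V]) ι ρ :=
    ⟨_, _, inferInstance, _, _, H12.hol_semidirect (V.subgroupOf N[V])⟩
  refine ⟨Γ, inferInstance, inferInstance, ρ, ι.range, ⟨?_, ?_, fun r hr => ?_, fun X => ?_,
    fun X => ?_, fun X hX => ?_⟩⟩
  rotate_left
  · rw [h.card_range, card_subgroupOf_of_le (norm_self V)]
  · exact H12.Hol.ea (hr.subgroupOf _)
  · exact h.map_le_normalizer _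
  · exact h.map_inf_centralizer _
  · rw [img, h.card_range_inf_centralizer, ← card_map_of_injective N[V].subtype_injective,
      map_inf_C N[V].subtype_injective, map_subgroupOf' (norm_self V), map_subgroupOf' hX]
  · ext x
    rw [mem_pre_bot]
    constructor
    · rintro ⟨hx, h1⟩
      rw [ap_of_mem _ hx, ← MonoidHom.mem_ker, h.ker] at h1
      exact mem_C.2 fun v hv => congrArg Subtype.val (h1 ⟨v, norm_self V hv⟩ hv)
    · intro hx
      refine ⟨C_le_N V hx, ?_⟩
      rw [ap_of_mem _ (C_le_N V hx), ← MonoidHom.mem_ker, h.ker]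
      exact fun v hv => Subtype.ext (mem_C.1 hx v hv)

/-- coprime action: centralizers pass to homomorphic images. -/
theorem coprime_img_cent {G' : Type v} [Group G'] {D K A : Subgroup G} (f : D →* G') (hK : K ≤ D)
    (hA : A ≤ D) (hAK : A ≤ N[K]) (hcop : (♯K).Coprime ♯A) (hs : Sol K ∨ Sol A) :
    img f (K ⊓ C[A]) = img f K ⊓ C[img f A] := by
  refine le_antisymm (img_inf_C_le f K A) ?_
  rintro y ⟨hy, hc⟩
  obtain ⟨k, hk, rfl⟩ := (mem_img_of_le hK).1 hy
  obtain ⟨v, hv, h1⟩ := coprime_lift_cent (V := K ⊓ pre f ⊥) (A := A)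
    (norm_inf hAK (hA.trans (ker_nml f).2)) (hcop.coprime_dvd_left (card_dvd inf_le_left))
    (sol_or_of_le hs inf_le_left) (g := k) (fun a ha => mem_inf.2 ⟨mul_mem (conj_mem (hAK ha) hk) (inv_mem hk), by
      have haD := hA ha
      have hkD := hK hk
      refine mem_pre_bot.2 ⟨mul_mem (mul_mem (mul_mem haD hkD) (inv_mem haD)) (inv_mem hkD), ?_⟩
      rw [ap_mul f (mul_mem (mul_mem haD hkD) (inv_mem haD)) (inv_mem hkD), ap_conj f haD hkD,
        ap_inv f hkD, mem_C.1 hc _ (ap_mem_img f ha haD)]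
      group⟩)
  refine (mem_img_of_le (inf_le_left.trans hK)).2 ⟨v * k, ⟨mul_mem hv.1 hk, h1⟩, ?_⟩
  rw [ap_mul f (hK hv.1) (hK hk), (mem_pre_bot.1 hv.2).2, one_mul]

namespace RHol

variable {V X D : Subgroup G} {Γ : Type u} [Group Γ] [Finite Γ] {f : N[V] →* Γ} {U O : Subgroup Γ}
  {r : ℕ}

theorem ix (h : RHol V f U) (hX : X ≤ N[V]) : (C[img f X]).relIndex U = (C[X]).relIndex V := by
  have h1 := card_inf_mul_relIndex C[img f X] U
  have h2 := card_inf_mul_relIndex C[X] V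
  rw [inf_comm, h.cardC X hX, h.card, inf_comm, ← h2] at h1
  exact Nat.eq_of_mul_eq_mul_left (card_pos _) h1

theorem card_img (h : RHol V f U) (hX : X ≤ N[V]) : ♯(img f X) = (C[V]).relIndex X := by
  rw [H24.card_img f hX, h.ker]

theorem img_eq_bot (h : RHol V f U) (hX : X ≤ N[V]) : img f X = ⊥ ↔ X ≤ C[V] := by
  rw [H24.img_eq_bot hX, h.ker]

theorem ap_eq_one (h : RHol V f U) {x : G} (hx : x ∈ N[V]) : ap f x = 1 ↔ x ∈ C[V] := by
  rw [← h.ker, mem_pre_bot]; exact ⟨fun h1 => ⟨hx, h1⟩, fun h1 => h1.2⟩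

theorem ap_mem_N (h : RHol V f U) {x : G} (hx : x ∈ N[V]) : ap f x ∈ N[U] :=
  h.norm N[V] (ap_mem_img f hx hx)

/-- on a minimal `D`-invariant `r`-subgroup no `D`-invariant `r`-group acts nontrivially. -/
theorem eq_bot (h : RHol V f U) (hr : r.Prime) (hV : IsElementaryAbelian r V) (hm : MinNml V D)
    (hO : IsPi {r} O) (hOf : O ≤ img f X) (hn : img f D ≤ N[O]) : O = ⊥ := by
  have h1 : img f (pre f O) = O := img_pre_of_le_img hOf
  have h2 : D ≤ N[pre f O] := norm_pre hm.norm hn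
  have hU : U ≠ ⊥ := fun h0 => hm.ne_bot (card_eq_one'.1 (by rw [← h.card, h0, card_bot]))
  have h3 := IsPi.inf_C_ne_bot hr hO ((h.ea r hV).isPi hr) (hOf.trans (h.norm X)) hU
  have h4 : V ⊓ C[pre f O] ≠ ⊥ := fun h0 => h3 (card_eq_one'.1 (by
    rw [← h1, h.cardC _ (pre_le f O), h0, card_bot]))
  have h5 := hm.le_of_inf_ne_bot (norm_C h2) h4
  rw [← h1, h.img_eq_bot (pre_le f O)]
  exact cents_symm h5

end RHol

end H23
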