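import Mathlib
import Cfsg.Agent.H23.SigL
import Cfsg.Agent.H26.Abelem
import Cfsg.Agent.H12.PStable
import Cfsg.Agent.H1.Wielandt
import Cfsg.Agent.H25.PG

/-! # A rank bound for fixed points on elementary abelian groups (SSFT project) -/

set_option autoImplicit false
set_option linter.unusedSectionVars false
set_option linter.unusedVariables false

namespace H23

open Cfsg H24 Subgroup H26
open H25 hiding abl_iff cyc_zpowers cyc_bot exists_prime_dvd_card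
open scoped commutatorElement

universe u

variable {G : Type u} [Group G] [Finite G]

namespace RKa

variable {p r s : ℕ} {V W K E F R L D : Subgroup G} {a c t u x y : G}

theorem card_comm (hV : Abl V) (ha : a ∈ N[V]) : ♯⁅V, zpowers a⁆ = (C{a}).relIndex V := by
  haveI := hV
  rw [H12.card_commutator_zpowers_eq_relIndex V ha, C_zpowers]

theorem card_split (hV : Abl V) (ha : a ∈ N[V]) : ♯V = ♯(V ⊓ C{a}) * ♯⁅V, zpowers a⁆ := by
  rw [card_comm hV ha, inf_comm, card_inf_mul_relIndex]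

theorem mem_comm (hV : Abl V) (ha : a ∈ N[V]) :
    x ∈ ⁅V, zpowers a⁆ ↔ ∃ v ∈ V, a * v * a⁻¹ * v⁻¹ = x := by
  haveI := hV
  rw [← H12.range_commHom V a ha]
  exact ⟨fun ⟨v, hv⟩ => ⟨v, v.2, hv⟩, fun ⟨v, hv, e⟩ => ⟨⟨v, hv⟩, e⟩⟩

theorem comm_zp_le (ha : a ∈ N[L]) (h : ∀ v ∈ V, a * v * a⁻¹ * v⁻¹ ∈ L) :
    ⁅V, zpowers a⁆ ≤ L := by
  rw [zpowers_eq_closure]
  exact H12.commutator_closure_le (Set.singleton_subset_iff.2 ha) (by rintro _ rfl; exact h)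

theorem comm_zp_le_self (ha : a ∈ N[V]) : ⁅V, zpowers a⁆ ≤ V := comm_le_left (zp_le ha)

theorem mem_N_comm (a : G) (V : Subgroup G) : a ∈ N[⁅V, zpowers a⁆] :=
  norm_comm_right V _ (mem_zpowers a)

theorem comm_comm_two (hV : IsElementaryAbelian 2 V) (ha : a ∈ N[V]) :
    ⁅⁅V, zpowers a⁆, zpowers a⁆ = ⁅V, zpowers (a ^ 2)⁆ := by
  have key : ∀ v ∈ V, a * (a * v * a⁻¹ * v⁻¹) * a⁻¹ * (a * v * a⁻¹ * v⁻¹)⁻¹ =
      a ^ 2 * v * (a ^ 2)⁻¹ * v⁻¹ := by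
    intro v hv
    have h1 : a * v * a⁻¹ ∈ V := conj_mem ha hv
    have i1 : v⁻¹ = v := inv_eq_of_mul_eq_one_right (by rw [← sq]; exact hV.2 v hv)
    have i2 : (a * v * a⁻¹) * (a * v * a⁻¹) = 1 := by rw [← sq]; exact hV.2 _ h1
    have c1 := hV.abl.comm hv h1
    calc a * (a * v * a⁻¹ * v⁻¹) * a⁻¹ * (a * v * a⁻¹ * v⁻¹)⁻¹
        = a ^ 2 * v * (a ^ 2)⁻¹ * (a * v⁻¹ * a⁻¹) * v * (a * v⁻¹ * a⁻¹) := by rw [sq]; group
      _ = a ^ 2 * v * (a ^ 2)⁻¹ * (a * v * a⁻¹) * (v * (a * v * a⁻¹)) := by rw [i1]; group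
      _ = a ^ 2 * v * (a ^ 2)⁻¹ * ((a * v * a⁻¹) * (a * v * a⁻¹)) * v := by rw [c1]; group
      _ = _ := by rw [i2, i1, mul_one]
  ext x
  rw [mem_comm (hV.abl.of_le (comm_zp_le_self ha)) (mem_N_comm a V), mem_comm hV.1 (pow_mem ha 2)]
  constructor
  · rintro ⟨w, hw, rfl⟩
    obtain ⟨v, hv, rfl⟩ := (mem_comm hV.1 ha).1 hw
    exact ⟨v, hv, (key v hv).symm⟩
  · rintro ⟨v, hv, rfl⟩
    exact ⟨_, (mem_comm hV.1 ha).2 ⟨v, hv, rfl⟩, key v hv⟩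

theorem jordan {h : G} (hW : IsElementaryAbelian 2 W) (hh : h ∈ N[W]) (h4 : h ^ 4 = 1)
    (hle : (C{h}).relIndex W ≤ 16) : (C{h ^ 2}).relIndex W ∣ 2 ^ 2 := by
  set W1 := ⁅W, zpowers h⁆ with hW1
  set W2 := ⁅W1, zpowers h⁆ with hW2
  set W3 := ⁅W2, zpowers h⁆ with hW3
  have l1 : W1 ≤ W := comm_zp_le_self hh
  have l2 : W2 ≤ W1 := comm_zp_le_self (mem_N_comm _ _)
  have l3 : W3 ≤ W2 := comm_zp_le_self (mem_N_comm _ _)
  have e2 : W2 = ⁅W, zpowers (h ^ 2)⁆ := comm_comm_two hW hh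
  have e4 : ⁅W3, zpowers h⁆ = ⊥ := by
    rw [hW3, comm_comm_two (hW.mono (l2.trans l1)) (mem_N_comm _ _), e2,
      comm_comm_two hW (pow_mem hh 2), ← pow_mul, h4, zpowers_one_eq_bot, commutator_bot_right]
  have c1 := card_split (hW.abl.of_le l1) (mem_N_comm h W)
  have c2 := card_split (hW.abl.of_le (l2.trans l1)) (mem_N_comm h W1)
  have c3 := card_split (hW.abl.of_le (l3.trans (l2.trans l1))) (mem_N_comm h W2)
  rw [e4, card_bot, mul_one] at c3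
  have m1 : ♯(W2 ⊓ C{h}) ≤ ♯(W1 ⊓ C{h}) := card_le (inf_le_inf_right _ l2)
  have m2 : ♯(W3 ⊓ C{h}) ≤ ♯(W2 ⊓ C{h}) := card_le (inf_le_inf_right _ l3)
  rw [← card_comm hW.1 hh] at hle
  rw [← card_comm hW.1 (pow_mem hh 2), ← e2]
  obtain ⟨k, hk⟩ := ((hW.mono (l2.trans l1)).isPi Nat.prime_two).card_eq_pow Nat.prime_two
  rw [hk]
  refine pow_dvd_pow 2 (not_lt.1 fun h3 => ?_)
  have h8 : 2 ^ 3 ≤ ♯W2 := by rw [hk]; exact Nat.pow_le_pow_right two_pos h3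
  change ♯W1 = ♯(W1 ⊓ C{h}) * ♯W2 at c1
  change ♯W2 = ♯(W2 ⊓ C{h}) * ♯W3 at c2
  change ♯W3 = ♯(W3 ⊓ C{h}) at c3
  change ♯W1 ≤ 16 at hle
  have h5 : 3 ≤ ♯(W2 ⊓ C{h}) := by
    by_contra h6
    have : ♯(W2 ⊓ C{h}) * ♯(W3 ⊓ C{h}) ≤ 2 * 2 := Nat.mul_le_mul (by omega) (by omega)
    rw [← c3, ← c2] at this
    omega
  have : 3 * 2 ^ 3 ≤ ♯(W1 ⊓ C{h}) * ♯W2 := Nat.mul_le_mul (h5.trans m1) h8
  omega

theorem ix_conj (hg : x ∈ N[W]) (u : G) : (C{x * u * x⁻¹}).relIndex W = (C{u}).relIndex W := by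
  rw [← cj_C1, ← relIndex_cj x (C{u}) W, cj_of_mem_N hg]

theorem ix_dvd (hy : y ∈ zpowers u) : (C{y}).relIndex W ∣ (C{u}).relIndex W :=
  relIndex_dvd_of_le_left _ (C1_le_C1_of_mem_zpowers hy)

theorem exists_order (hr : r.Prime) (hx : PiElt {r} x) {k : ℕ} (h1 : x ^ r ^ k ≠ 1) :
    ∃ n, (x ^ n) ^ r ^ (k + 1) = 1 ∧ (x ^ n) ^ r ^ k ≠ 1 := by
  obtain ⟨m, hm⟩ := hx.exists_pow hr
  have hkm : k < m := by
    by_contra h2
    exact h1 (orderOf_dvd_iff_pow_eq_one.1 (hm ▸ pow_dvd_pow r (not_lt.1 h2)))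
  refine ⟨r ^ (m - (k + 1)), ?_, fun h2 => ?_⟩
  · rw [← pow_mul, ← pow_add, Nat.sub_add_cancel hkm, ← hm, pow_orderOf_eq_one]
  · rw [← pow_mul, ← pow_add, ← orderOf_dvd_iff_pow_eq_one, hm,
      Nat.pow_dvd_pow_iff_le_right hr.one_lt] at h2
    omega

theorem step1 (hp : p.Prime) (hr : r = 2 ∨ (r = 3 ∧ p ≠ 2)) (hrp : r ≠ p) (hc : c ^ p = 1)
    (hW : IsElementaryAbelian r W) (hF : Nil F) (hFr : IsPi {r}ᶜ F) (hFp : IsPi {p}ᶜ F)
    (hR : IsPi {r} R) (hRW : R ≤ N[W]) (hcW : c ∈ N[W]) (hRF : R ≤ N[F])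
    (hcF : c ∈ N[F]) (hcR : c ∈ N[R]) (hfix : F ⊓ C{c} ≤ C[R])
    (hRf : R ⊓ C[F] = ⊥) (ht : t ∈ R) (ht1 : t ≠ 1) (hs : (C{t}).relIndex W ∣ r ^ 2) :
    ∃ u ∈ R, u ≠ 1 ∧ u ^ r = 1 ∧ (C{u}).relIndex W ∣ r ^ 2 ∧ u ∈ C{c} := by
  have hr' : r.Prime := by rcases hr with rfl | ⟨rfl, -⟩ <;> norm_num
  obtain ⟨n, h1, h2⟩ := exists_order (k := 0) hr' (hR.piElt ht) (by simpa using ht1)
  rw [zero_add, pow_one] at h1
  rw [pow_zero, pow_one] at h2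
  have hs' := (ix_dvd (W := W) (npow_mem_zpowers t n)).trans hs
  have key : ∀ U ≤ R, c ∈ N[U] → (r ≠ 2 ∨ Abl U) → U ≤ C{c} := fun U hU hcU ho => by
    rw [le_C1_iff_comm, ← le_bot_iff, ← hRf]
    exact le_inf ((comm_zp_le_self hcU).trans hU) (comm_cent_of_fix hp hr' hc (hR.of_le hU) hrp ho
      hcU F hF.sol hFp hFr (hU.trans hRF) hcF (hfix.trans (C_anti hU)))
  rcases hr with rfl | ⟨rfl, -⟩
  swap
  · exact ⟨_, pow_mem ht n, h2, h1, hs', key R le_rfl hcR (Or.inl (by norm_num)) (pow_mem ht n)⟩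
  obtain ⟨U, hUR, ⟨hcU, u, hu, hu1, hu2, hu3⟩, hmin⟩ := exists_min (H := R)
    (P := fun U => c ∈ N[U] ∧ ∃ u ∈ U, u ≠ 1 ∧ u ^ 2 = 1 ∧ (C{u}).relIndex W ∣ 2 ^ 2)
    ⟨hcR, _, pow_mem ht n, h2, h1, hs'⟩
  by_cases hab : Abl U
  · exact ⟨u, hUR hu, hu1, hu2, hu3, key U hUR hcU (Or.inr hab) hu⟩
  exfalso
  let S : Set G := {v | v ∈ U ∧ v ^ 2 = 1 ∧ (C{v}).relIndex W ∣ 2 ^ 2}
  have hS : closure S = U := by
    refine hmin _ ⟨norm_closure (X := zpowers c) ?_ (mem_zpowers c), u,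
      subset_closure ⟨hu, hu2, hu3⟩, hu1, hu2, hu3⟩ ((closure_le _).2 fun v hv => hv.1)
    intro a ha v hv
    refine subset_closure ⟨conj_mem (zp_le hcU ha) hv.1, by rw [conj_pow, hv.2.1]; simp, ?_⟩
    rw [ix_conj (zp_le hcW ha)]
    exact hv.2.2
  obtain ⟨a, ha, b, hb, hne⟩ : ∃ a ∈ S, ∃ b ∈ S, a * b ≠ b * a := by
    by_contra h3
    push Not at h3
    refine hab (abl_iff.2 ?_)
    rw [← hS, centralizer_closure, closure_le]
    exact fun a ha b hb => h3 b hb a ha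
  have ia : a⁻¹ = a := inv_eq_of_mul_eq_one_right (by rw [← sq]; exact ha.2.1)
  have ib : b⁻¹ = b := inv_eq_of_mul_eq_one_right (by rw [← sq]; exact hb.2.1)
  have e : (a * b) ^ 2 = ⁅a, b⁆ := by rw [commutatorElement_def, ia, ib, sq]; group
  have hab' : a * b ∈ U := mul_mem ha.1 hb.1
  obtain ⟨m, h3, h4⟩ := exists_order (k := 1) Nat.prime_two (hR.piElt (hUR hab')) (by
    rw [pow_one, e, Ne, commutatorElement_eq_one_iff_mul_comm]; exact hne)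
  rw [pow_one] at h4
  have h5 : (C{(a * b) ^ m}).relIndex W ≤ 16 := by
    refine (Nat.le_of_dvd (relIndex_pos _ _) (ix_dvd (npow_mem_zpowers _ m))).trans ?_
    have h6 : C{a} ⊓ C{b} ≤ C{a * b} := fun x hx => mem_C1_comm.1
      (mul_mem (mem_C1_comm.1 hx.1) (mem_C1_comm.1 hx.2))
    refine (Nat.le_of_dvd (relIndex_pos _ _) (relIndex_dvd_of_le_left _ h6)).trans
      (relIndex_inf_le.trans ?_)
    exact Nat.mul_le_mul (Nat.le_of_dvd (by norm_num) ha.2.2) (Nat.le_of_dvd (by norm_num) hb.2.2)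
  have h6 := jordan hW (hRW (hUR (pow_mem hab' m))) h3 h5
  have h7 : ((a * b) ^ m) ^ 2 ∈ ⁅U, U⁆ := by
    rw [← pow_mul, mul_comm m, pow_mul, e]
    exact pow_mem (commutator_mem_commutator ha.1 hb.1) m
  have h8 := hmin ⁅U, U⁆ ⟨norm_der1 (zp_le hcU) (mem_zpowers c), _, h7, h4,
    by rw [← pow_mul]; exact h3, h6⟩ (der1_le U)
  exact (Sol.der1_lt ((hR.of_le hUR).sol Nat.prime_two) (ne_bot_of_mem hu hu1)).ne h8

theorem cent_of_small (hp : p.Prime) (hr : r.Prime) (hc : c ^ p = 1)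
    (hE : IsElementaryAbelian r E) (h2 : ♯E ∣ r ^ 2) (hcE : c ∈ N[E])
    (hn : ¬ p ∣ r * (r - 1) * (r ^ 2 - 1)) : c ∈ C[E] := by
  have h1 := quotient_cent_abelem2_dvd hr (zp_le hcE) hE h2
  have h3 : (C[E]).relIndex (zpowers c) ∣ p :=
    (relIndex_dvd_card _ _).trans (by rw [card_zpowers']; exact orderOf_dvd_of_pow_eq_one hc)
  rcases (Nat.dvd_prime hp).1 h3 with h4 | h4
  · exact relIndex_eq_one.1 h4 (mem_zpowers c)
  · exact absurd (h4 ▸ h1) hn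

structure Cfg (p r s : ℕ) (W K : Subgroup G) (c t : G) : Prop where
  hp : p.Prime
  hr : r.Prime
  hs : s.Prime
  rp : r ≠ p
  sr : s ≠ r
  sp : s ≠ p
  hc : c ^ p = 1
  ht : t ^ r = 1
  hW : IsElementaryAbelian r W
  hK : IsPi {s} K
  KW : K ≤ N[W]
  cW : c ∈ N[W]
  tW : t ∈ N[W]
  cK : c ∈ N[K]
  tK : t ∈ N[K]
  tc : t ∈ C{c}
  faith : K ⊓ C[W] = ⊥
  Kt : ⁅K, zpowers t⁆ = K
  Kc : ⁅K, zpowers c⁆ = K
  ne : K ≠ ⊥
  cls : ⁅K, K⁆ ≤ C[K]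
  dt : ⁅K, K⁆ ≤ C{t}
  small : (C{t}).relIndex W ∣ r ^ 2

theorem step2 (hp : p.Prime) (hr : r.Prime) (hrp : r ≠ p) (hc : c ^ p = 1)
    (hW : IsElementaryAbelian r W) (hF : Nil F) (hFr : IsPi {r}ᶜ F) (hFp : IsPi {p}ᶜ F)
    (hFW : F ≤ N[W]) (hcW : c ∈ N[W]) (htW : t ∈ N[W]) (htF : t ∈ N[F])
    (hcF : c ∈ N[F]) (hfix : F ⊓ C{c} ≤ C{t}) (hFf : F ⊓ C[W] = ⊥)
    (hn : ¬ F ≤ C{t}) (ht : t ^ r = 1) (hs : (C{t}).relIndex W ∣ r ^ 2) (htc : t ∈ C{c}) :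
    ∃ s K, Cfg p r s W K c t := by
  obtain ⟨s, hs', hsF, h1⟩ : ∃ s, s.Prime ∧ s ∣ ♯F ∧ ¬ O[{s}, F] ≤ C{t} := by
    by_contra h1
    push Not at h1
    exact hn (hF.le_of_pcore_le h1)
  obtain ⟨K, hKO, ⟨htK, hcK, hK⟩, hmin⟩ := exists_min (H := O[{s}, F])
    (P := fun K => t ∈ N[K] ∧ c ∈ N[K] ∧ ¬ K ≤ C{t})
    ⟨N_le_N_pcore _ _ htF, N_le_N_pcore _ _ hcF, h1⟩
  have hKF := hKO.trans (pcore_le _ _)
  have hKs := (pcore_pi {s} F).of_le hKO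
  have hsol := hKs.sol hs'
  have hct : c ∈ C{t} := mem_C1_comm.1 htc
  have hKt : ⁅K, zpowers t⁆ = K := by
    refine hmin _ ⟨mem_N_comm _ _, norm_comm (zp_le hcK) (norm_zpowers_of_cent (zp_le hct))
      (mem_zpowers c), fun h2 => hK ?_⟩ (comm_zp_le_self htK)
    exact le_C1_of_comm_le hr ht (hFr.of_le hKF) htK h2
  have hKc : ⁅K, zpowers c⁆ = K := by
    refine hmin _ ⟨norm_comm (zp_le htK) (norm_zpowers_of_cent (zp_le htc)) (mem_zpowers t),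
      mem_N_comm _ _, fun h2 => hK ?_⟩ (comm_zp_le_self hcK)
    rw [← (coprime_cent_prod (zp_le hcK) ((hFp.of_le hKF).coprime' (pi_zp hp hc)) hsol).sup_eq,
      C_zpowers]
    exact sup_le h2 ((inf_le_inf_right _ hKF).trans hfix)
  have hne : K ≠ ⊥ := by rintro rfl; exact hK bot_le
  have hdt : ⁅K, K⁆ ≤ C{t} := by
    by_contra h2
    exact (hsol.der1_lt hne).ne (hmin _ ⟨norm_der1 (zp_le htK) (mem_zpowers t),
      norm_der1 (zp_le hcK) (mem_zpowers c), h2⟩ (der1_le K))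
  refine ⟨s, K, hp, hr, hs', hrp, fun e => hFr.not_dvd' hs' (e ▸ rfl) hsF,
    fun e => hFp.not_dvd' hs' (e ▸ rfl) hsF, hc, ht, hW, hKs, hKF.trans hFW, hcW, htW, hcK, htK,
    htc, eq_bot_of_le hFf (inf_le_inf_right _ hKF), hKt, hKc, hne, ?_, hdt, hs⟩
  have h2 := three_subgroup (A := zpowers t) (B := ⁅K, K⁆) (K := K)
    (by rw [commC (zpowers t), le_C1_iff_comm.1 hdt, commutator_bot_left])
    (le_C1_iff_comm.1 ((comm_le_left (norm_der1 (norm_self K))).trans hdt))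
  rw [hKt] at h2
  exact comm_eq_bot'.1 h2

structure Key (W K V : Subgroup G) (t : G) : Prop where
  le : V ≤ W
  KV : K ≤ N[V]
  tV : t ∈ N[V]
  VK : ⁅V, K⁆ = V
  ne : V ≠ ⊥

namespace Cfg

variable (h : Cfg p r s W K c t)
include h

theorem cop : (♯W).Coprime ♯K := (h.hW.isPi h.hr).coprime_of_ne h.hK h.sr.symm

theorem exists_key (hL : L ≤ K) (h1 : L ≠ ⊥) (hKL : K ≤ N[L]) (htL : t ∈ N[L]) :
    ∃ V, Key W K V t ∧ V ⊓ C[L] = ⊥ := by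
  have hc : (♯W).Coprime ♯L := h.cop.coprime_dvd_right (card_dvd hL)
  have hLW := hL.trans h.KW
  have hn := norm_comm h.KW hKL
  refine ⟨⁅W, L⁆, ⟨comm_le_left hLW, hn, norm_comm (zp_le h.tW) (zp_le htL) (mem_zpowers t),
    le_antisymm (comm_le_left hn) ?_, fun h2 => h1 ?_⟩, coprime_abel_cent_TI hLW hc h.hW.abl⟩
  · exact (coprime_commGid hLW hc h.hW.abl.sol).ge.trans (comm_mono_right hL)
  · exact eq_bot_of_le h.faith (le_inf hL (comm_eq_bot'.1 h2))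

variable (k : Key W K V t)
include k

theorem notK : ¬ K ≤ C[V] := fun h1 => k.ne (k.VK.symm.trans (comm_eq_bot'.2 h1))

theorem not_t : t ∉ C[V] := fun h1 => h.notK k (h.Kt.ge.trans (comm_le_C_of_right k.KV (zp_le h1)))

theorem not_c : c ∉ C[V] := fun h1 => h.notK k (h.Kc.ge.trans (comm_le_C_of_right k.KV (zp_le h1)))

theorem ea : IsElementaryAbelian r V := h.hW.mono k.le

theorem m_dvd : ♯⁅V, zpowers t⁆ ∣ r ^ 2 :=
  (card_dvd (comm_mono_left k.le)).trans (by rw [card_comm h.hW.abl h.tW]; exact h.small)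

theorem m_le : ♯⁅V, zpowers t⁆ ≤ r ^ 2 := Nat.le_of_dvd (pow_pos h.hr.pos 2) (h.m_dvd k)

theorem normc (hc : c ∈ N[⁅V, zpowers t⁆]) : c ∈ N[V] := by
  have h1 : K ≤ N[V ⊓ cj c V] := norm_inf k.KV (by
    have := norm_cj k.KV c
    rwa [cj_of_mem_N h.cK] at this)
  have h2 : zpowers t ≤ N[V ⊓ cj c V] := norm_inf (zp_le k.tV) (by
    have := norm_cj (zp_le k.tV) c
    rwa [cj_zpowers, mem_C1_iff_conj.1 (mem_C1_comm.1 h.tc)] at this)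
  have h3 : V ≤ N[V ⊓ cj c V] := (h.ea k).abl.norm le_rfl inf_le_left
  have h4 : zpowers t ≤ centQ V (V ⊓ cj c V) := (le_centQ h3).2 ⟨h2, by
    rw [commC]
    exact le_inf (comm_zp_le_self k.tV) ((cj_of_mem_N hc).ge.trans
      (cj_mono c (comm_zp_le_self k.tV)))⟩
  have h5 : K ≤ centQ V (V ⊓ cj c V) := h.Kt.ge.trans
    ((comm_mono_right h4).trans (comm_le_right (norm_centQ k.KV h1)))
  have h6 := ((le_centQ h3).1 h5).2
  rw [commC, k.VK] at h6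
  exact mem_N_of_le_cj (h6.trans inf_le_right)

theorem le_of_sq (hr : r = 2) (hD : D ≤ V) (htD : t ∈ N[D]) :
    ♯⁅D, zpowers t⁆ ≤ ♯(D ⊓ C{t}) := by
  subst hr
  refine card_le (le_inf (comm_zp_le_self htD) (le_C1_iff_comm.2 ?_))
  rw [comm_comm_two ((h.ea k).mono hD) htD, h.ht, zpowers_one_eq_bot, commutator_bot_right]

theorem split (hc : c ∈ C[⁅W, zpowers t⁆]) :
    c ∈ N[V] ∧ c ∉ C[⁅V, zpowers c⁆] ∧ ∃ d, 0 < d ∧
      ♯V = ♯⁅V, zpowers c⁆ * (d * ♯⁅V, zpowers t⁆) ∧ (r = 2 → ♯⁅V, zpowers t⁆ ≤ d) := by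
  have hc' : c ∈ C[⁅V, zpowers t⁆] := C_anti (comm_mono_left k.le) hc
  have hcV := h.normc k (C_le_N _ hc')
  have hV := h.ea k
  have hcop : (♯V).Coprime ♯(zpowers c) :=
    (hV.isPi h.hr).coprime_of_ne (pi_zp h.hp h.hc) h.rp
  have hdp := coprime_abelian_cent_dprod (zp_le hcV) hcop hV.abl
  have htz : zpowers t ≤ N[zpowers c] := norm_zpowers_of_cent (zp_le h.tc)
  have h1 : ⁅V, zpowers c⁆ ≤ C[zpowers t] := by
    rw [← comm_eq_bot, ← le_bot_iff, ← hdp.inf]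
    refine le_inf (comm_le_left (norm_comm (zp_le k.tV) htz)) (le_inf
      ((comm_mono_left (comm_zp_le_self hcV)).trans (comm_zp_le_self k.tV)) ?_)
    exact (comm_mono_left (comm_zp_le_self hcV)).trans (cents_symm (zp_le hc'))
  have h2 := hdp.symm.isProd.comm_left_of_cent h1
  have htD : t ∈ N[V ⊓ C[zpowers c]] := norm_inf (zp_le k.tV) (norm_C htz) (mem_zpowers t)
  refine ⟨hcV, fun h3 => h.not_c k ?_, ♯(V ⊓ C[zpowers c] ⊓ C{t}), card_pos _, ?_, fun hr => ?_⟩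
  · exact coprime_commGG1P (zp_le hcV) hcop hV.abl.sol (comm_eq_bot'.2 (zp_le h3)) (mem_zpowers c)
  · rw [hdp.card, h2, ← card_split (hV.abl.of_le inf_le_left) htD]
  · rw [h2]
    exact h.le_of_sq k hr inf_le_left htD

theorem ix_eq (hy : y ∈ K) : (C{y * t * y⁻¹}).relIndex V = ♯⁅V, zpowers t⁆ := by
  rw [ix_conj (k.KV hy), card_comm (h.ea k).abl k.tV]

theorem bound2 (hy : y ∈ K) (hD : V ⊓ (C{t} ⊓ C{y * t * y⁻¹}) = ⊥) :
    ♯V ≤ ♯⁅V, zpowers t⁆ * ♯⁅V, zpowers t⁆ := by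
  rw [← card_inf_mul_relIndex (C{t} ⊓ C{y * t * y⁻¹}) V, inf_comm, hD, card_bot, one_mul]
  refine relIndex_inf_le.trans ?_
  rw [h.ix_eq k hy, card_comm (h.ea k).abl k.tV]

theorem bound3 (hx : x ∈ K) (hy : y ∈ K)
    (hD : V ⊓ (C{t} ⊓ C{x * t * x⁻¹} ⊓ C{y * t * y⁻¹}) = ⊥) :
    ♯V ≤ ♯⁅V, zpowers t⁆ * ♯⁅V, zpowers t⁆ * ♯⁅V, zpowers t⁆ := by
  rw [← card_inf_mul_relIndex (C{t} ⊓ C{x * t * x⁻¹} ⊓ C{y * t * y⁻¹}) V, inf_comm, hD, card_bot,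
    one_mul]
  refine relIndex_inf_le.trans (Nat.mul_le_mul (relIndex_inf_le.trans ?_) ?_)
  · rw [h.ix_eq k hx, card_comm (h.ea k).abl k.tV]
  · rw [h.ix_eq k hy]

omit k in
theorem cent_W (hn : ¬ p ∣ r * (r - 1) * (r ^ 2 - 1)) : c ∈ C[⁅W, zpowers t⁆] :=
  cent_of_small h.hp h.hr h.hc (h.hW.mono (comm_zp_le_self h.tW))
    (by rw [card_comm h.hW.abl h.tW]; exact h.small)
    (norm_comm (zp_le h.cW) (norm_zpowers_of_cent (zp_le (mem_C1_comm.1 h.tc))) (mem_zpowers c)) hn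

theorem fin_big (hn : ¬ p ∣ r * (r - 1) * (r ^ 2 - 1))
    (hb : ∀ e d, 0 < d → ♯V = e * (d * ♯⁅V, zpowers t⁆) → (r = 2 → ♯⁅V, zpowers t⁆ ≤ d) →
      e ≤ ♯⁅V, zpowers t⁆) : False := by
  obtain ⟨h1, h2, d, h3, h4, h5⟩ := h.split k (h.cent_W hn)
  have h6 := (hb _ d h3 h4 h5).trans (h.m_le k)
  have h7 := (h.ea k).mono (comm_zp_le_self h1)
  refine h2 (cent_of_small h.hp h.hr h.hc h7 ?_ (mem_N_comm _ _) hn)
  obtain ⟨n, hn⟩ := h7.exists_card h.hr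
  rw [hn] at h6 ⊢
  exact pow_dvd_pow r ((Nat.pow_le_pow_iff_right h.hr.one_lt).1 h6)

theorem fin2 (hn : ¬ p ∣ r * (r - 1) * (r ^ 2 - 1))
    (hb : ♯V ≤ ♯⁅V, zpowers t⁆ * ♯⁅V, zpowers t⁆) : False :=
  h.fin_big k hn fun e d h1 h2 _ => by
    rw [h2, ← mul_assoc] at hb
    exact (Nat.le_mul_of_pos_right e h1).trans (Nat.le_of_mul_le_mul_right hb (card_pos _))

theorem fin3 (hr : r = 2) (hn : ¬ p ∣ r * (r - 1) * (r ^ 2 - 1))
    (hb : ♯V ≤ ♯⁅V, zpowers t⁆ * ♯⁅V, zpowers t⁆ * ♯⁅V, zpowers t⁆) : False :=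
  h.fin_big k hn fun e d h1 h2 h3 => by
    rw [h2, ← mul_assoc] at hb
    exact Nat.le_of_mul_le_mul_right ((Nat.mul_le_mul_left e (h3 hr)).trans
      (Nat.le_of_mul_le_mul_right hb (card_pos _))) (card_pos _)

end Cfg

theorem comm_mem_CD (h1 : D ≤ C{t}) (h2 : D ≤ C{y * t * y⁻¹}) : ⁅t, y⁆ ∈ C[D] := by
  have e : ⁅t, y⁆ = t * (y * t * y⁻¹)⁻¹ := by rw [commutatorElement_def]; group
  rw [e]
  exact mul_mem (mem_C_iff_le_C1.2 h1) (inv_mem (mem_C_iff_le_C1.2 h2))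

theorem le_C_of_card (hs : s.Prime) (hK : IsPi {s} K) (h : ¬ s ∣ (C[V]).relIndex K) :
    K ≤ C[V] :=
  relIndex_eq_one.1 ((hK.relIndex _).eq_one ((piNat_compl_singleton hs).2 h))

namespace Cfg

variable (h : Cfg p r s W K c t)
include h

theorem comm_mem (hy : y ∈ K) : ⁅t, y⁆ ∈ K := mul_mem (conj_mem h.tK hy) (inv_mem hy)

theorem cover (hx : x ∈ K) : ∃ y ∈ K, ∃ z ∈ K, z ∈ C[K] ∧ x = ⁅t, y⁆ * z := by
  have hKZ : K ≤ N[Z[K]] := norm_Z (norm_self K)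
  have htZ : t ∈ N[Z[K]] := norm_Z (zp_le h.tK) (mem_zpowers t)
  have h1 := cs_mem_quo hx (hKZ hx)
  rw [← h.Kt, quo_comm (h.Kt.symm ▸ hKZ) (h.Kt.symm ▸ zp_le htZ), h.Kt, quo_zpowers htZ,
    mem_comm ((abl_quo hKZ).2 (le_inf (der1_le K) h.cls)) (cs_mem_N htZ h.tK)] at h1
  obtain ⟨v, hv, e⟩ := h1
  obtain ⟨y, hy, hy', rfl⟩ := mem_quo.1 hv
  have e2 : cs Z[K] ⁅t, y⁆ = cs Z[K] x := (ap_commutator _ htZ hy').trans e
  have h2 := (cs_eq_cs (hKZ (h.comm_mem hy)) (hKZ hx)).1 e2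
  exact ⟨y, hy, _, h2.1, h2.2, by group⟩

theorem key_of (hx : x ∈ ⁅K, K⁆) (h1 : x ≠ 1) : ∃ V, Key W K V t ∧ V ⊓ C{x} = ⊥ := by
  rw [← C_zpowers]
  exact h.exists_key (zp_le (der1_le K hx)) (ne_bot_of_mem (mem_zpowers x) h1)
    (norm_zpowers_of_cent (mem_C_iff_le_C1.1 (h.cls hx)))
    (norm_zpowers_of_cent (zp_le (mem_C1_comm.1 (h.dt hx))) (mem_zpowers t))

theorem five_le (hr : r = 2) (hp : p = 3) : 5 ≤ s := by
  have h1 := h.hs.two_le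
  have h2 := h.sr
  have h3 := h.sp
  by_contra h4
  have : s = 4 := by omega
  exact absurd (this ▸ h.hs) (by norm_num)

theorem case_abl (hpr : (r = 2 ∧ p = 3) ∨ ¬ p ∣ r * (r - 1) * (r ^ 2 - 1)) (ha : Abl K) :
    False := by
  obtain ⟨y, hy, h1⟩ : ∃ y ∈ K, ⁅t, y⁆ ≠ 1 := by
    by_contra h1
    push Not at h1
    refine h.ne (h.Kt.symm.trans (le_C1_iff_comm.1 fun y hy => mem_C1.2 ?_))
    exact (commutatorElement_eq_one_iff_mul_comm.1 (h1 y hy)).symm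
  set D := C{t} ⊓ C{y * t * y⁻¹} with hD
  obtain ⟨V, k, hV⟩ := h.exists_key (L := K ⊓ C[D]) inf_le_left
    (ne_bot_of_mem ⟨h.comm_mem hy, comm_mem_CD inf_le_left inf_le_right⟩ h1)
    (ha.norm le_rfl inf_le_left) (norm_inf (zp_le h.tK)
      (norm_of_le (zp_le (mem_C_iff_le_C1.2 inf_le_left))) (mem_zpowers t))
  have hb := h.bound2 k hy (eq_bot_of_le hV (inf_le_inf_left _ (cents_symm inf_le_right)))
  rcases hpr with ⟨hr, hp⟩ | hn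
  swap
  · exact h.fin2 k hn hb
  have h5 := h.five_le hr hp
  have hsp := h.le_of_sq k hr le_rfl k.tV
  have hm := h.m_dvd k
  subst hr hp
  have hea := h.ea k
  obtain ⟨n, hn⟩ := hea.exists_card Nat.prime_two
  have h8 : 2 ^ 3 ≤ ♯V := by
    rw [hn]
    refine Nat.pow_le_pow_right two_pos (not_lt.1 fun h3 => h.notK k (le_C_of_card h.hs h.hK
      fun hd => ?_))
    have h6 := hd.trans (quotient_cent_abelem2_dvd Nat.prime_two k.KV hea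
      (hn ▸ pow_dvd_pow 2 (by omega)))
    have h7 := Nat.le_of_dvd (by norm_num) h6
    have : s = 5 ∨ s = 6 := by norm_num at h7; omega
    rcases this with rfl | rfl
    · norm_num at h6
    · exact absurd h.hs (by norm_num)
  have hm4 : ♯⁅V, zpowers t⁆ = 4 := by
    have h6 := Nat.le_of_dvd (by norm_num) hm
    generalize ♯⁅V, zpowers t⁆ = m at *
    have h7 : m ≤ 4 := h6
    interval_cases m <;> omega
  have he : ⁅V, zpowers t⁆ = ⁅W, zpowers t⁆ := eq_of_card_ge (comm_mono_left k.le) (by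
    rw [hm4, card_comm h.hW.abl h.tW]; exact Nat.le_of_dvd (by norm_num) h.small)
  have hcV : c ∈ N[V] := h.normc k (he ▸ norm_comm (zp_le h.cW)
    (norm_zpowers_of_cent (zp_le (mem_C1_comm.1 h.tc))) (mem_zpowers c))
  have h16 : ♯V = 16 := by
    have h6 := card_split hea.abl k.tV
    rw [hm4] at h6 hb hsp
    omega
  have hc1 : c ≠ 1 := fun e => h.not_c k (e ▸ one_mem _)
  have hc3 := card_zp h.hp h.hc hc1
  have hcp := pi_zp h.hp h.hc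
  have hreg : Semireg K (zpowers c) := semireg_of_prime (hc3 ▸ h.hp) (by
    have := coprime_abel_cent_TI (zp_le h.cK) (h.hK.coprime_of_ne hcp h.sp) ha
    rwa [h.Kc] at this)
  have hw := H1.regular_Wielandt_fixpoint (zp_le h.cK) hreg k.KV (zp_le hcV)
    ((hea.isPi h.hr).coprime ((h.hK.compl_of_ne h.sr).sup (hcp.compl_of_ne h.rp.symm)
      (zp_le h.cK))) hea.abl.sol
  have hVK : V ⊓ C[K] = ⊥ := eq_bot_of_le hV (inf_le_inf_left _ (C_anti inf_le_left))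
  have hVK' : V ⊓ C[K ⊔ zpowers c] = ⊥ :=
    eq_bot_of_le hVK (inf_le_inf_left _ (C_anti le_sup_left))
  rw [hVK, hVK', card_bot, hc3, h16] at hw
  generalize ♯(V ⊓ C[zpowers c]) = m at hw
  rcases le_or_gt m 2 with h6 | h6
  · have := Nat.pow_le_pow_left h6 3
    omega
  · have := Nat.pow_le_pow_left (show 3 ≤ m from h6) 3
    omega

theorem comm_mul_left (hx : x ∈ K) (hy : y ∈ K) (hu : u ∈ K) : ⁅x * y, u⁆ = ⁅y, u⁆ * ⁅x, u⁆ := by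
  rw [commutatorElement_mul_left_eq_conj_mul,
    ← mem_C'.1 (h.cls (commutator_mem_commutator hy hu)) x hx, mul_inv_cancel_right]

theorem comm_mul_right (hx : x ∈ K) (hy : y ∈ K) (hu : u ∈ K) :
    ⁅u, x * y⁆ = ⁅u, x⁆ * ⁅u, y⁆ := by
  rw [commutatorElement_mul_right_eq_mul_conj, mul_assoc ⁅u, x⁆,
    ← mem_C'.1 (h.cls (commutator_mem_commutator hu hy)) x hx, mul_assoc, mul_inv_cancel_right]

theorem comm_cent_left {z : G} (hx : x ∈ K) (hz : z ∈ C[K]) (hu : u ∈ K) :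
    ⁅x * z, u⁆ = ⁅x, u⁆ := by
  rw [commutatorElement_mul_left_eq_conj_mul,
    commutatorElement_eq_one_iff_mul_comm.2 (mem_C'.1 hz u hu)]
  simp

theorem comm_cent_right {z : G} (hx : x ∈ K) (hz : z ∈ C[K]) (hu : u ∈ K) :
    ⁅u, x * z⁆ = ⁅u, x⁆ := by
  rw [← commutatorElement_inv, h.comm_cent_left hx hz hu, commutatorElement_inv]

theorem case_three (hr : r = 3) (hn : ¬ p ∣ r * (r - 1) * (r ^ 2 - 1)) (ha : ¬ Abl K) :
    False := by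
  subst hr
  have hτ : ∀ {x : G}, x ∈ K → t * x * t⁻¹ ∈ K := fun hx => conj_mem h.tK hx
  by_cases h1 : ∃ y ∈ K, ⁅⁅t, y⁆, t * ⁅t, y⁆ * t⁻¹⁆ ≠ 1
  · obtain ⟨y, hy, h1⟩ := h1
    obtain ⟨V, k, hV⟩ := h.key_of
      (commutator_mem_commutator (h.comm_mem hy) (hτ (h.comm_mem hy))) h1
    refine h.fin2 k hn (h.bound2 k hy (eq_bot_of_le hV (inf_le_inf_left _
      (mem_C_iff_le_C1.1 ?_))))
    have h2 := comm_mem_CD (D := C{t} ⊓ C{y * t * y⁻¹}) inf_le_left inf_le_right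
    have h3 : t ∈ C[C{t} ⊓ C{y * t * y⁻¹}] := mem_C_iff_le_C1.2 inf_le_left
    exact comm_le_of_le le_rfl le_rfl
      (commutator_mem_commutator h2 (mul_mem (mul_mem h3 h2) (inv_mem h3)))
  push Not at h1
  have q : ∀ x ∈ K, ⁅x, t * x * t⁻¹⁆ = 1 := by
    intro x hx
    obtain ⟨y, hy, z, hz, hz', rfl⟩ := h.cover hx
    have e : t * (⁅t, y⁆ * z) * t⁻¹ = t * ⁅t, y⁆ * t⁻¹ * (t * z * t⁻¹) := by group
    rw [h.comm_cent_left (h.comm_mem hy) hz' (hτ hx), e, h.comm_cent_right (hτ (h.comm_mem hy))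
      (conj_mem (norm_C (zp_le h.tK) (mem_zpowers t)) hz') (h.comm_mem hy), h1 y hy]
  have b : ∀ x ∈ K, ∀ y ∈ K, ⁅x, t * y * t⁻¹⁆ = ⁅t * x * t⁻¹, y⁆ := by
    intro x hx y hy
    have h2 := q _ (mul_mem hx hy)
    have e : t * (x * y) * t⁻¹ = t * x * t⁻¹ * (t * y * t⁻¹) := by group
    rw [e, h.comm_mul_left hx hy (mul_mem (hτ hx) (hτ hy)), h.comm_mul_right (hτ hx) (hτ hy) hy,
      h.comm_mul_right (hτ hx) (hτ hy) hx, q x hx, q y hy, mul_one, one_mul] at h2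
    rw [← commutatorElement_inv y]
    exact eq_inv_of_mul_eq_one_right h2
  have inv : ∀ x ∈ K, ∀ y ∈ K, ⁅t * x * t⁻¹, t * y * t⁻¹⁆ = ⁅x, y⁆ := by
    intro x hx y hy
    rw [← mem_C1_iff_conj.1 (mem_C1_comm.1 (h.dt (commutator_mem_commutator hx hy)))]
    simp only [commutatorElement_def]; group
  have t3 : ∀ x : G, t * (t * (t * x * t⁻¹) * t⁻¹) * t⁻¹ = x := fun x => by
    calc _ = t ^ 3 * x * (t ^ 3)⁻¹ := by rw [pow_succ, sq]; group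
      _ = x := by rw [h.ht]; group
  refine ha (abl_iff.2 (h.Kt.ge.trans (comm_zp_le (norm_C (zp_le h.tK) (mem_zpowers t))
    fun v hv => mem_C.2 fun x hx => ?_)))
  have hx' := hτ (hτ (inv_mem hx))
  have h2 := b _ hx' _ (hτ (inv_mem hv))
  rw [← inv _ hx' _ (hτ (hτ (inv_mem hv))), t3, t3] at h2
  simp only [commutatorElement_def, inv_inv] at h2
  have h3 : v⁻¹ * x * v = t * v⁻¹ * t⁻¹ * x * (t * v⁻¹ * t⁻¹)⁻¹ := by
    calc v⁻¹ * x * v = x * (x⁻¹ * v⁻¹ * x * v) := by group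
      _ = _ := by rw [h2]; group
  calc x * (t * v * t⁻¹ * v⁻¹)
      = (t * v * t⁻¹) * (t * v⁻¹ * t⁻¹ * x * (t * v⁻¹ * t⁻¹)⁻¹) * v⁻¹ := by group
    _ = _ := by rw [← h3]; group

theorem case_two (hr : r = 2) (hpr : p = 3 ∨ ¬ p ∣ r * (r - 1) * (r ^ 2 - 1)) (ha : ¬ Abl K) :
    False := by
  obtain ⟨x, hx, y, hy, h1⟩ : ∃ x ∈ K, ∃ y ∈ K, ⁅⁅t, x⁆, ⁅t, y⁆⁆ ≠ 1 := by
    by_contra h1
    push Not at h1
    refine ha (abl_iff.2 (le_C_iff.2 fun a ha b hb => commutatorElement_eq_one_iff_mul_comm.1 ?_))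
    obtain ⟨x, hx, z, hz, hz', rfl⟩ := h.cover ha
    obtain ⟨y, hy, w, hw, hw', rfl⟩ := h.cover hb
    rw [h.comm_cent_left (h.comm_mem hx) hz' hb, h.comm_cent_right (h.comm_mem hy) hw'
      (h.comm_mem hx), h1 x hx y hy]
  have hm := commutator_mem_commutator (h.comm_mem hx) (h.comm_mem hy)
  obtain ⟨V, k, hV⟩ := h.key_of hm h1
  have hb := h.bound3 k hx hy (eq_bot_of_le hV (inf_le_inf_left _ (mem_C_iff_le_C1.1
    (comm_le_of_le le_rfl le_rfl (commutator_mem_commutator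
      (comm_mem_CD (inf_le_left.trans inf_le_left) (inf_le_left.trans inf_le_right))
      (comm_mem_CD (inf_le_left.trans inf_le_left) inf_le_right))))))
  rcases hpr with hp | hn
  swap
  · exact h.fin3 k hr hn hb
  have h5 := h.five_le hr hp
  have hm4 := h.m_le k
  subst hr hp
  have hea := h.ea k
  obtain ⟨n, hn⟩ := hea.exists_card Nat.prime_two
  have h6 : n ≤ 6 := by
    rw [← Nat.pow_le_pow_iff_right one_lt_two, ← hn]
    exact hb.trans ((Nat.mul_le_mul (Nat.mul_le_mul hm4 hm4) hm4).trans (by norm_num))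
  have h7 := relIndex_C_abelem_dvd Nat.prime_two k.KV hea hn
  have h8 : (∏ i : Fin n, (2 ^ n - 2 ^ (i : ℕ))) ∣ 2 ^ 15 * 3 ^ 4 * 5 * 7 ^ 2 * 31 := by
    interval_cases n <;> simp [Fin.prod_univ_succ]
  obtain ⟨j, hj⟩ := (piNat_singleton h.hs (relIndex_ne_zero' C[V] K)).1 (h.hK.relIndex _)
  have h9 : s ^ 3 ∣ 2 ^ 15 * 3 ^ 4 * 5 * 7 ^ 2 * 31 := by
    refine dvd_trans ?_ (h7.trans h8)
    rw [hj]
    refine pow_dvd_pow s (not_lt.1 fun h3 => ?_)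
    have h10 : Abl (quo K C[V]) := abl_of_card_dvd_sq h.hs (by
      rw [card_quo (norm_C k.KV), hj]; exact pow_dvd_pow s (by omega))
    have h11 := (abl_quo (norm_C k.KV)).1 h10 hm
    exact k.ne (eq_bot_of_le hV (le_inf le_rfl (mem_C_iff_le_C1.1 h11)))
  have h10 := (dvd_pow_self s (by norm_num)).trans h9
  have hs := h.hs
  have e : ∀ q, q.Prime → s ∣ q → s = q := fun q hq => (Nat.prime_dvd_prime_iff_eq hs hq).1
  rcases (hs.dvd_mul).1 h10 with h11 | h11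
  · rcases (hs.dvd_mul).1 h11 with h11 | h11
    · rcases (hs.dvd_mul).1 h11 with h11 | h11
      · rcases (hs.dvd_mul).1 h11 with h11 | h11
        · have := e 2 (by norm_num) (hs.dvd_of_dvd_pow h11); omega
        · have := e 3 (by norm_num) (hs.dvd_of_dvd_pow h11); omega
      · rw [e 5 (by norm_num) h11] at h9; norm_num at h9
    · rw [e 7 (by norm_num) (hs.dvd_of_dvd_pow h11)] at h9; norm_num at h9
  · rw [e 31 (by norm_num) h11] at h9; norm_num at h9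

end Cfg

end RKa

theorem RK {p r : ℕ} (hp : p.Prime) (hr : r = 2 ∨ (r = 3 ∧ p ≠ 2)) (hrp : r ≠ p)
    {W F R : Subgroup G} {c t : G} (hc : c ^ p = 1)
    (hW : IsElementaryAbelian r W) (hF : Nil F) (hFr : IsPi {r}ᶜ F) (hFp : IsPi {p}ᶜ F)
    (hR : IsPi {r} R) (hFW : F ≤ N[W]) (hRW : R ≤ N[W]) (hcW : c ∈ N[W]) (hRF : R ≤ N[F])
    (hcF : c ∈ N[F]) (hcR : c ∈ N[R]) (hfix : F ⊓ C{c} ≤ C[R]) (hFf : F ⊓ C[W] = ⊥)
    (hRf : R ⊓ C[F] = ⊥) (ht : t ∈ R) (ht1 : t ≠ 1) : r ^ 3 ≤ (C{t}).relIndex W := by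
  have hr' : r.Prime := by rcases hr with rfl | ⟨rfl, -⟩ <;> norm_num
  obtain ⟨n, hn⟩ := (piNat_singleton hr' (relIndex_ne_zero' C{t} W)).1 ((hW.isPi hr').relIndex _)
  rw [hn]
  refine Nat.pow_le_pow_right hr'.pos (not_lt.1 fun h3 => ?_)
  obtain ⟨u, hu, hu1, hu2, hu3, hu4⟩ := RKa.step1 hp hr hrp hc hW hF hFr hFp hR hRW hcW hRF hcF hcR
    hfix hRf ht ht1 (hn ▸ pow_dvd_pow r (by omega))
  obtain ⟨s, K, h⟩ := RKa.step2 hp hr' hrp hc hW hF hFr hFp hFW hcW (hRW hu) (hRF hu) hcF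
    (hfix.trans (C_le_C1 hu)) hFf (fun h1 => hu1 (mem_bot.1 (hRf ▸ ⟨hu, mem_C_iff_le_C1.2 h1⟩)))
    hu2 hu3 hu4
  have e : ∀ q, q.Prime → p ∣ q → p = q := fun q hq => (Nat.prime_dvd_prime_iff_eq hp hq).1
  rcases hr with rfl | ⟨rfl, hp2⟩
  · have h1 : p = 3 ∨ ¬ p ∣ 2 * (2 - 1) * (2 ^ 2 - 1) := by
      refine or_iff_not_imp_left.2 fun h1 h2 => ?_
      rcases (hp.dvd_mul (m := 2) (n := 3)).1 h2 with h2 | h2
      · exact hrp (e 2 (by norm_num) h2).symm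
      · exact h1 (e 3 (by norm_num) h2)
    by_cases ha : Abl K
    · exact h.case_abl (h1.imp_left fun h2 => ⟨rfl, h2⟩) ha
    · exact h.case_two rfl h1 ha
  · have h1 : ¬ p ∣ 3 * (3 - 1) * (3 ^ 2 - 1) := fun h2 => by
      rcases (hp.dvd_mul (m := 2 ^ 4) (n := 3)).1 h2 with h2 | h2
      · exact hp2 (e 2 (by norm_num) (hp.dvd_of_dvd_pow h2))
      · exact hrp (e 3 (by norm_num) h2).symm
    by_cases ha : Abl K
    · exact h.case_abl (Or.inr h1) ha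
    · exact h.case_three rfl h1 ha

end H23
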