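import Mathlib
import Cfsg.Agent.H23.SigL
import Cfsg.Agent.H23.RK
import Cfsg.Agent.H23.RHol
import Cfsg.Agent.H12.FF6

/-! # No offenders under a coprime operator group with small fixed points (SSFT project) -/

set_option autoImplicit false
set_option linter.unusedSectionVars false
set_option linter.unusedVariables false

namespace H23

open Cfsg H24 Subgroup H26
open H25 hiding abl_iff cyc_zpowers cyc_bot exists_prime_dvd_card
open scoped commutatorElement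

universe u

variable {G : Type u} [Group G] [Finite G]

theorem NoOff_core {p r : ℕ} (hp : p.Prime) (hr : r.Prime) (hrp : r ≠ p) {A L T U : Subgroup G}
    (hA : IsElementaryAbelian p A) (hL : Sol L) (hLp : IsPi {p}ᶜ L) (hLr : IsPi {r}ᶜ L)
    (hT : IsPi {r} T) (hTL : T ≤ N[L]) (hAL : A ≤ N[L]) (hAT : A ≤ N[T])
    (hfix : L ⊓ C[A] ≤ N[T]) (hU : IsElementaryAbelian r U) (hKU : L ⊔ T ≤ N[U])
    (hAU : A ≤ N[U]) (hf : (L ⊔ T) ⊓ C[U] = ⊥) (hO : O[{r}, L ⊔ T] = ⊥) {t : G} (ht : t ∈ T)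
    (hto : orderOf t = r) : ¬ (C{t}).relIndex U ≤ r := by
  intro hix
  haveI : Fact r.Prime := ⟨hr⟩
  have hi : L ⊓ T = ⊥ := hLr.inf_eq_bot' hT
  have hsd : SD L T (L ⊔ T) := SD.mk_sup hTL hi
  have hOP : H12.OP r (L ⊔ T) = L := by
    rw [H12.OP, ← pcore_compl_singleton hr]
    exact hsd.pcore_eq hLr (by rwa [compl_compl])
  have hK : Sol (L ⊔ T) := hL.sup (hT.sol hr) hTL
  have hFL : F[L ⊔ T] ≤ L := by
    have h1 : IsPi {r}ᶜ F[L ⊔ T] := (isPi_compl_iff hr).2 fun hd =>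
      (pcore_ne_bot_iff_dvd_Fitting hr).2 hd hO
    exact (le_pcore_of_le_Fitting h1 le_rfl).trans (hsd.pcore_eq hLr (by rwa [compl_compl])).le
  have hFF : H12.FF r U (L ⊔ T) := ⟨hU, hKU, hf, by
    rw [hOP]
    exact ((inf_le_inf_left _ (C_anti hFL)).trans (cent_sub_Fitting hK)).trans hFL⟩
  have hc : ♯(zpowers t) = r := by rw [card_zpowers', hto]
  have ht1 : t ≠ 1 := ne_one_of_orderOf_prime (hto ▸ hr)
  have htU : t ∈ N[U] := hKU (mem_sup_right ht)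
  have hOff : H12.Off r U (L ⊔ T) (zpowers t) := by
    refine ⟨zp_le (mem_sup_right ht), ⟨fun B hB => ?_, ?_, fun a ha => ?_⟩, hc⟩
    · rcases H12.eq_bot_or_eq_of_card_prime (hc ▸ hr) hB with rfl | rfl
      · rw [C_bot, inf_top_eq, card_bot, one_mul, hc, C_zpowers, ← card_inf_mul_relIndex C{t} U,
          inf_comm, mul_comm]
        exact Nat.mul_le_mul_right _ hix
      · exact le_rfl
    · rw [der1_eq_bot.2 (abl_zpowers t)]; exact bot_le
    · rw [orderOf_dvd_iff_pow_eq_one.1 (hc ▸ orderOf_dvd_card' ha)]; exact one_mem _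
  obtain ⟨x, hx, hxt⟩ := hFF.exists_not_mem_centralizer hOff
  have he1 := hOff.comm_mem hx (mem_zpowers t)
  have he2 : x * t * x⁻¹ * t⁻¹ ∈ H12.EE r (L ⊔ T) (zpowers t) :=
    H12.pair_le_EE hx (H12.comm_mem_pair (mem_zpowers t) x)
  have he3 := hOff.comm_not_commute hx hxt (mem_zpowers t) ht1
  rw [hOP] at he1
  generalize x * t * x⁻¹ * t⁻¹ = e at he1 he2 he3
  have hKp : IsPi {p}ᶜ (L ⊔ T) := hLp.sup (hT.compl_of_ne hrp) hTL
  obtain ⟨ρ, ⟨hρ1, hρ2⟩, hy⟩ := hFF.exists_diag hOff hp ((isPi_compl_iff hp).1 hKp) hAU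
    (norm_sup hAL hAT) hA.2 he2
  have hfa := hFF.EE_faithful hOff.1
  have htE : t ∈ H12.EE r (L ⊔ T) (zpowers t) := mem_sup_right (mem_zpowers t)
  generalize H12.EE r (L ⊔ T) (zpowers t) = D at he2 hρ2 hfa htE
  obtain ⟨l, hl, s, hs, hls⟩ := (hsd.inf_C hAL hAT).isProd.mul _ hy
  have hlT : L ⊓ C[A] ≤ C[T] := comm_eq_bot.1 (eq_bot_of_le hi (le_inf
    ((comm_mono_left inf_le_left).trans (comm_le_left hTL)) (comm_le_right hfix)))
  have h1 : (e * ρ) ^ ♯T ∈ C[T] := by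
    rw [hls, (show Commute l s from comm_of_cent hlT hl hs.1).mul_pow,
      orderOf_dvd_iff_pow_eq_one.1 (orderOf_dvd_card' hs.1), mul_one]
    exact pow_mem (hlT hl) _
  have cm : ∀ {Y : Subgroup G} {a b : G}, a ∈ Y → b ∈ Y → ⁅a, b⁆ ∈ Y := fun ha hb =>
    mul_mem (mul_mem (mul_mem ha hb) (inv_mem ha)) (inv_mem hb)
  have hD : D ≤ N[C[⁅U, D⁆]] := norm_C (norm_comm_right U D)
  have hρN : ρ ∈ N[C[⁅U, D⁆]] := norm_self _ hρ2
  have h2 : ⁅e ^ ♯T, t⁆ ∈ C[⁅U, D⁆] := by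
    have heN := hD he2
    have htN := hD htE
    have h5 : ap (coset C[⁅U, D⁆]) (e * ρ) = ap (coset C[⁅U, D⁆]) e := by
      rw [ap_mul _ heN hρN, show ap (coset C[⁅U, D⁆]) ρ = 1 from cs_of_mem hρ2, mul_one]
    refine (cs_eq_one (cm (pow_mem heN _) htN)).1 ?_
    change ap _ _ = 1
    rw [ap_commutator _ (pow_mem heN _) htN, ap_pow _ heN, ← h5, ← ap_pow _ (mul_mem heN hρN),
      ← ap_commutator _ (pow_mem (mul_mem heN hρN) _) htN,
      commutatorElement_eq_one_iff_mul_comm.2 (mem_C'.1 h1 t ht), ap_one]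
  have h3 : ⁅e ^ ♯T, t⁆ = 1 := mem_bot.1 (hfa ▸ mem_inf.2
    ⟨cm (pow_mem he2 _) htE, h2⟩)
  have h4 : e ∈ zpowers (e ^ ♯T) := mem_zpowers_pow_iff.2
    ((hT.coprime hLr).coprime_dvd_right (orderOf_dvd_card' he1))
  exact he3 (mem_C1.1 (zp_le (mem_C1.2 (commutatorElement_eq_one_iff_mul_comm.1 h3)) h4))

theorem NoOff_ind {p r : ℕ} (hp : p.Prime) (hr : r.Prime) (hrp : r ≠ p) (n : ℕ) :
    ∀ (G : Type u) [Group G] [Finite G] {A L R T X E Q : Subgroup G}, ♯X = n →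
    IsElementaryAbelian p A → Sol L → IsPi {p}ᶜ L → IsPi {r} T → R ⊴ L → R ≤ T →
    PiNat {r}ᶜ (R.relIndex L) → T ≤ N[L] → A ≤ N[L] → A ≤ N[T] → L ⊓ C[A] ≤ N[T] →
    IsElementaryAbelian r X → L ≤ N[X] → T ≤ N[X] → A ≤ N[X] → E ≤ T →
    (C[E]).relIndex X ≤ r → Q ≤ ⁅L, E⁆ → IsPi {r}ᶜ Q → Q ≤ C[X] := by
  induction n using Nat.strong_induction_on with
  | _ n ih =>
  intro G _ _ A L R T X E Q hn hA hL hLp hT hRL hRT hidx hTL hAL hAT hfix hX hLX hTX hAX hE hEX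
    hQ hQr
  by_cases h0 : X = ⊥
  · rw [h0, C_bot]; exact le_top
  obtain ⟨V, hV, hVX⟩ := exists_minNml h0 (sup_le (sup_le hLX hTX) hAX)
  have hKV : L ⊔ T ≤ N[V] := le_sup_left.trans hV.norm
  have hLV : L ≤ N[V] := le_sup_left.trans hKV
  have hTV : T ≤ N[V] := le_sup_right.trans hKV
  have hAV : A ≤ N[V] := le_sup_right.trans hV.norm
  have hVe := hX.mono hVX
  have hEV : E ≤ C[V] := by
    by_contra hne
    obtain ⟨Γ, _, _, f, U, h⟩ := exists_rhol V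
    have hRH : Hall {r} L R := Hall.mk' hRL.1 (hT.of_le hRT) hidx
    have hR0 : img f R = ⊥ := h.eq_bot hr hVe hV ((hT.of_le hRT).img f) le_rfl
      (img_norm f (hRH.norm_of_nml hRL.2 (sup_le (sup_le (norm_self L) hTL) hAL)))
    have hLr : IsPi {r}ᶜ (img f L) := by
      refine hidx.dvd ?_
      rw [h.card_img hLV]
      exact relIndex_dvd_of_le_left _ ((h.img_eq_bot (hRL.1.trans hLV)).1 hR0)
    have hO : O[{r}, img f (L ⊔ T)] = ⊥ := h.eq_bot hr hVe hV (pcore_pi _ _) (pcore_le _ _)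
      (norm_pcore _ (img_norm f (sup_le (norm_self _) (norm_sup hAL hAT))))
    have hE0 : img f E ≠ ⊥ := fun h1 => hne ((h.img_eq_bot (hE.trans hTV)).1 h1)
    obtain ⟨t, ht, hto⟩ := exists_orderOf_eq hr (((hT.of_le hE).img f).dvd_card hE0)
    have hf := h.faith (L ⊔ T)
    have hKU := h.norm (L ⊔ T)
    rw [img_sup f hLV hTV] at hO hf hKU
    refine NoOff_core hp hr hrp (hA.img f) (hL.img f) (hLp.img f) hLr (hT.img f) (img_norm f hTL)
      (img_norm f hAL) (img_norm f hAT) ?_ (h.ea r hVe) hKU (h.norm A) hf hO (img_mono f hE ht) hto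
      ?_
    · rw [← coprime_img_cent f hLV hAV hAL (hLp.coprime' (hA.isPi hp)) (Or.inl hL)]
      exact img_norm f hfix
    · refine (relIndex_le_of_le_left (C_le_C1 ht) (relIndex_ne_zero' _ _)).trans ?_
      rw [h.ix (hE.trans hTV)]
      exact (relIndex_le_of_le_right hVX (relIndex_ne_zero' _ _)).trans hEX
  have hQV : Q ≤ C[V] := hQ.trans (comm_le_C_of_right hLV hEV)
  have hXV : X ≤ N[V] := hX.abl.norm le_rfl hVX
  have hlt : ♯(quo X V) < n := hn ▸ (Nml.card_quo_lt ⟨hVX, hXV⟩ hV.ne_bot)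
  have h1 : quo Q V ≤ C[quo X V] := by
    refine ih _ hlt (QN V) rfl (hA.img _) (hL.quo V) (hLp.quo V) (hT.quo V) (hRL.quo V)
      (quo_mono V hRT) (hidx.dvd (relIndex_img_dvd _ (hRL.1.trans hLV) hLV)) (quo_norm V hTL)
      (quo_norm V hAL) (quo_norm V hAT) ?_ (hX.img _) (quo_norm V hLX) (quo_norm V hTX)
      (quo_norm V hAX) (quo_mono V hE) ?_ ?_ (hQr.quo V)
    · rw [← coprime_img_cent _ hLV hAV hAL (hLp.coprime' (hA.isPi hp)) (Or.inl hL)]
      exact quo_norm V hfix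
    · refine (relIndex_le_of_le_left (quo_cent V (inf_le_left : C[E] ⊓ X ≤ _))
        (relIndex_ne_zero' _ _)).trans ((Nat.le_of_dvd (relIndex_pos _ _)
        (relIndex_img_dvd _ (inf_le_right.trans hXV) hXV)).trans ?_)
      rwa [inf_relIndex_right]
    · rw [← quo_comm hLV (hE.trans hTV)]; exact quo_mono V hQ
  refine stable_factor_cent hQV ?_ hVX ((hVe.isPi hr).coprime hQr) (Or.inl hVe.abl.sol)
  rw [commC]
  exact (quo_cents (norm_of_cent hQV) hXV).1 h1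

theorem NoOff {p r : ℕ} (hp : p.Prime) (hr : r.Prime) (hrp : r ≠ p)
    {A L R T X E Q : Subgroup G} (hA : IsElementaryAbelian p A) (hL : Sol L) (hLp : IsPi {p}ᶜ L)
    (hT : IsPi {r} T) (hRL : R ⊴ L) (hRT : R ≤ T) (hidx : PiNat {r}ᶜ (R.relIndex L))
    (hTL : T ≤ N[L]) (hAL : A ≤ N[L]) (hAT : A ≤ N[T]) (hfix : L ⊓ C[A] ≤ N[T])
    (hX : IsElementaryAbelian r X) (hLX : L ≤ N[X]) (hTX : T ≤ N[X]) (hAX : A ≤ N[X])
    (hE : E ≤ T) (hEX : (C[E]).relIndex X ≤ r) (hQ : Q ≤ ⁅L, E⁆) (hQr : IsPi {r}ᶜ Q) :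
    Q ≤ C[X] :=
  NoOff_ind hp hr hrp _ G rfl hA hL hLp hT hRL hRT hidx hTL hAL hAT hfix hX hLX hTX hAX hE hEX hQ
    hQr

end H23
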