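import Mathlib
import Cfsg.Agent.H23.SigL
import Cfsg.Agent.H23.RK
import Cfsg.Agent.H23.RHol
import Cfsg.Agent.H12.FF6

/-! # The rank bound for elementary abelian groups acting on a chief factor (SSFT project) -/

set_option autoImplicit false
set_option linter.unusedSectionVars false
set_option linter.unusedVariables false

namespace H23

open Cfsg H24 Subgroup H26
open H25 hiding abl_iff cyc_zpowers cyc_bot exists_prime_dvd_card
open scoped commutatorElement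

universe u

variable {G : Type u} [Group G] [Finite G]

theorem WK_core {r : ℕ} (hr : r.Prime) {W F R : Subgroup G} (hW : IsElementaryAbelian r W)
    (hFr : IsPi {r}ᶜ F) (hFW : F ≤ N[W]) (hRW : R ≤ N[W]) (hRF : R ≤ N[F])
    (hFf : F ⊓ C[W] = ⊥) (hRf : R ⊓ C[F] = ⊥)
    (hk : ∀ t ∈ R, t ≠ 1 → r ^ 3 ≤ (C{t}).relIndex W) (E : Subgroup G) :
    E ≤ R → IsElementaryAbelian r E → E ≠ ⊥ → r ^ 2 * ♯E ≤ (C[E]).relIndex W := by
  haveI : Fact r.Prime := ⟨hr⟩
  refine subgroup_ind (P := fun E => E ≤ R → IsElementaryAbelian r E → E ≠ ⊥ →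
    r ^ 2 * ♯E ≤ (C[E]).relIndex W) (fun E ih hER hE h1 => ?_) E
  obtain ⟨B, hBE, hB, hn⟩ : ∃ B ≤ E, B.relIndex E = r ∧ ¬ F ⊓ C[B] ≤ C[E] := by
    by_contra h
    push Not at h
    exact h1 (eq_bot_of_le hRf (le_inf hER (cents_symm
      (le_of_hyp hr hE h1 (hER.trans hRF) hFr h))))
  have hc := card_hyp hBE hB
  by_cases h0 : B = ⊥
  · subst h0
    rw [card_bot, one_mul] at hc
    obtain ⟨t, ht, ht1⟩ := exists_ne_one h1
    rw [C_eq_C1_of_prime (hc ▸ hr) ht ht1, ← hc, ← pow_succ]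
    exact hk t (hER ht) ht1
  have hlt : B < E := lt_of_le_of_ne hBE fun h => by
    rw [h, relIndex_self] at hB; exact hr.one_lt.ne hB
  have ih1 := ih B hlt (hBE.trans hER) (hE.mono hBE) h0
  have hEB : E ≤ C[B] := hE.abl.cents le_rfl hBE
  have h2 : ¬ W ⊓ C[B] ≤ C[E] := fun h => by
    have hEF : E ≤ N[F ⊓ C[B]] := norm_inf (hER.trans hRF) (norm_of_le hEB)
    have h3 : ⁅F ⊓ C[B], E⁆ ≤ F ⊓ C[B] := comm_le_left hEF
    have h4 : ⁅F ⊓ C[B], E⁆ ≤ C[W ⊓ C[B]] := comm_le_C_of_right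
      (norm_inf (inf_le_left.trans hFW) (norm_of_le inf_le_right)) (cents_symm h)
    have h5 := Thompson_PxQ hr ((hE.mono hBE).isPi hr) (hFr.of_le (h3.trans inf_le_left))
      (hW.isPi hr) (cents_symm (h3.trans inf_le_right)) (hBE.trans (hER.trans hRW))
      (h3.trans (inf_le_left.trans hFW)) (cents_symm h4)
    exact hn (comm_eq_bot.1 (eq_bot_of_le hFf (le_inf (h3.trans inf_le_left) h5)))
  have h3 : C[E] ⊓ W < C[B] ⊓ W := lt_of_le_of_ne (inf_le_inf_right _ (C_anti hBE)) fun h =>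
    h2 (by rw [inf_comm, ← h]; exact inf_le_left)
  have h4 := H12.mul_card_le_of_lt (((hW.isPi hr).inf_right C[B]).isPGroup hr) h3
  have h5 := card_inf_mul_relIndex C[E] W
  have h6 := card_inf_mul_relIndex C[B] W
  have h7 : r * (C[B]).relIndex W ≤ (C[E]).relIndex W := by
    refine Nat.le_of_mul_le_mul_left ?_ (card_pos (C[E] ⊓ W))
    rw [h5, ← h6, ← mul_assoc, mul_comm _ r]
    exact Nat.mul_le_mul_right _ h4
  rw [← hc]
  calc r ^ 2 * (♯B * r) = r * (r ^ 2 * ♯B) := by ring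
    _ ≤ r * (C[B]).relIndex W := Nat.mul_le_mul_left _ ih1
    _ ≤ _ := h7

theorem WK {p r : ℕ} (hp : p.Prime) (hr : r = 2 ∨ (r = 3 ∧ p ≠ 2)) (hrp : r ≠ p)
    {A H W R E : Subgroup G} {c : G} (hc : c ^ p = 1) (hH : Sol H) (hHp : IsPi {p}ᶜ H)
    (hcH : c ∈ N[H]) (hW : IsElementaryAbelian r W) (hcW : c ∈ N[W]) (hA : A ≤ N[H])
    (hmin : MinNml W (H ⊔ A)) (hR : IsPi {r} R) (hRH : R ≤ H) (hcR : c ∈ N[R])
    (hfix : H ⊓ C{c} ≤ N[R]) (hE : IsElementaryAbelian r E) (hER : E ≤ R ⊔ C[W])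
    (hne : ¬ E ≤ C[W]) : r ^ 2 * (C[W]).relIndex E ≤ (C[E]).relIndex W := by
  have hr' : r.Prime := by
    rcases hr with h | h
    · exact h ▸ Nat.prime_two
    · exact h.1 ▸ Nat.prime_three
  obtain ⟨Γ, _, _, f, U, h⟩ := exists_rhol W
  have hHW : H ≤ N[W] := le_sup_left.trans hmin.norm
  have hAW : A ≤ N[W] := le_sup_right.trans hmin.norm
  have hRW : R ≤ N[W] := hRH.trans hHW
  have hEW : E ≤ N[W] := hER.trans (sup_le hRW (C_le_N W))
  have hO : O[{r}, img f H] = ⊥ := h.eq_bot hr' hW hmin (pcore_pi _ _) (pcore_le _ _)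
    (norm_pcore _ (img_norm f (sup_le (norm_self H) hA)))
  have hFr : IsPi {r}ᶜ F[img f H] := (isPi_compl_iff hr').2 fun hd =>
    (pcore_ne_bot_iff_dvd_Fitting hr').2 hd hO
  have hRH' : img f R ≤ img f H := img_mono f hRH
  have hRF : img f R ≤ N[F[img f H]] := norm_Fitting (norm_of_le hRH')
  have hRf : img f R ⊓ C[F[img f H]] = ⊥ := eq_bot_of_le ((hR.img f).inf_eq_bot hFr)
    (le_inf inf_le_left ((inf_le_inf_right _ hRH').trans (cent_sub_Fitting (hH.img f))))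
  have hFf : F[img f H] ⊓ C[U] = ⊥ := eq_bot_of_le (h.faith H)
    (inf_le_inf_right _ (Fitting_le _))
  have hfix' : F[img f H] ⊓ C{ap f c} ≤ C[img f R] := by
    have h1 : img f H ⊓ C{ap f c} ≤ N[img f R] := by
      rw [← C_zpowers, ← img_zpowers f hcW, ← coprime_img_cent f hHW (zp_le hcW) (zp_le hcH)
        (hHp.coprime' (pi_zp hp hc)) (Or.inl hH), C_zpowers]
      exact img_norm f hfix
    have h2 : ⁅F[img f H] ⊓ C{ap f c}, img f R⁆ ≤ img f R ⊓ F[img f H] := le_inf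
      (comm_le_right ((inf_le_inf_right _ (Fitting_le _)).trans h1))
      ((comm_mono_left inf_le_left).trans (comm_le_left hRF))
    exact comm_eq_bot.1 (eq_bot_of_le ((hR.img f).inf_eq_bot hFr) h2)
  rw [← h.card_img hEW, ← h.ix hEW]
  refine WK_core hr' (h.ea r hW) hFr ((Fitting_le _).trans (h.norm H)) (h.norm R) hRF hFf hRf
    (fun t ht ht1 => ?_) _ ?_ (hE.img f) fun h0 => hne ((h.img_eq_bot hEW).1 h0)
  · refine RK hp hr hrp (c := ap f c) ?_ (h.ea r hW) (Fitting_nil _) hFr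
      ((hHp.img f).of_le (Fitting_le _)) (hR.img f) ((Fitting_le _).trans (h.norm H)) (h.norm R)
      (h.ap_mem_N hcW) hRF (N_le_N_Fitting _ (ap_mem_N f hcH hcW)) (ap_mem_N f hcR hcW) hfix' hFf
      hRf ht ht1
    rw [← ap_pow f hcW, hc, ap_one]
  · rw [img_le_img_iff hEW hRW, h.ker]; exact hER

end H23
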