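import Mathlib
import Cfsg.Agent.H23.WK
import Cfsg.Agent.H23.NoOff

/-! # The Thompson-subgroup normalization lemma for the primes 2 and 3 -/

set_option autoImplicit false
set_option linter.unusedSectionVars false
set_option linter.unusedVariables false

namespace H23

open Cfsg H24 Subgroup H26
open H25 hiding abl_iff cyc_zpowers cyc_bot exists_prime_dvd_card
open scoped commutatorElement

universe u

variable {G : Type u} [Group G] [Finite G]
variable {p q r : ℕ} {π : Set ℕ} {A B D E H K L M N P Q R S T U V W X Y : Subgroup G} {a b c g : G}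

/-- normal closure of `W` under `L` -/
def ncl (L W : Subgroup G) : Subgroup G := ⨆ g : L, cj (g : G) W

theorem cj_le_ncl (hg : g ∈ L) : cj g W ≤ ncl L W := le_iSup (fun g : L => cj (g : G) W) ⟨g, hg⟩

theorem le_ncl : W ≤ ncl L W := by simpa [cj_one] using cj_le_ncl (W := W) L.one_mem

theorem ncl_le (h : ∀ g ∈ L, cj g W ≤ K) : ncl L W ≤ K := iSup_le fun g => h g g.2

theorem cj_ncl_le (h : ∀ x ∈ L, cj g (cj x W) ≤ K) : cj g (ncl L W) ≤ K :=
  cj_le_iff.2 (ncl_le fun x hx => cj_le_iff.1 (h x hx))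

theorem norm_ncl_self : L ≤ N[ncl L W] := fun g hg =>
  mem_N_of_cj_le (cj_ncl_le fun x hx => by
    rw [← cj_mul]; exact cj_le_ncl (L.mul_mem hg hx))

theorem norm_ncl (hL : K ≤ N[L]) (hW : K ≤ N[W]) : K ≤ N[ncl L W] := fun g hg =>
  mem_N_of_cj_le (cj_ncl_le fun x hx => by
    have : g * x = g * x * g⁻¹ * g := by group
    rw [← cj_mul, this, cj_mul, cj_of_mem_N (hW hg)]
    exact cj_le_ncl (conj_mem (hL hg) hx))

theorem ea_ncl (hW : IsElementaryAbelian r W)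
    (h : ∀ x ∈ L, ∀ y ∈ L, cj x W ≤ C[cj y W]) : IsElementaryAbelian r (ncl L W) := by
  have hc : ncl L W ≤ C[ncl L W] :=
    ncl_le fun x hx => cents_symm (ncl_le fun y hy => h y hy x hx)
  have hle : ncl L W ≤ omegaOne r (ncl L W) := ncl_le fun x hx z hz =>
    H12.mem_omega (cj_le_ncl hx hz) ((hW.cj x).pow hz)
  exact (H12.ea_omega hc).mono hle

theorem comm_sSup_le {𝒮 : Set (Subgroup G)} (hn : ∀ X ∈ 𝒮, X ≤ N[L])
    (h : ∀ X ∈ 𝒮, ⁅L, X⁆ ≤ K) : ⁅L, sSup 𝒮⁆ ≤ K := by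
  set K₀ : Subgroup G := ⨆ X : 𝒮, ⁅L, (X : Subgroup G)⁆ with hK₀
  have hKL : K₀ ≤ L := iSup_le fun X => comm_le_left (hn _ X.2)
  have hLK : L ≤ N[K₀] := norm_iSup fun X => norm_comm_left _ _
  have hle : ∀ X ∈ 𝒮, ⁅L, X⁆ ≤ K₀ := fun X hX =>
    le_iSup (fun X : 𝒮 => ⁅L, (X : Subgroup G)⁆) ⟨X, hX⟩
  have : sSup 𝒮 ≤ centQ L K₀ := sSup_le fun X hX => (le_centQ hLK).2
    ⟨norm_of_comm_le_left ((comm_mono_left hKL).trans (hle X hX)), by rw [commC]; exact hle X hX⟩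
  rw [commC]
  exact ((le_centQ hLK).1 this).2.trans (iSup_le fun X => h _ X.2)

/-- commutators of a coprime elementary abelian operator group are generated on the
centralizers of hyperplanes -/
theorem comm_le_of_hyp (hr : r.Prime) : ∀ E : Subgroup G, IsElementaryAbelian r E → E ≠ ⊥ →
    ∀ Y : Subgroup G, IsPi {r}ᶜ Y → E ≤ N[Y] →
    (∀ B ≤ E, B.relIndex E = r → ⁅Y ⊓ C[B], E⁆ ≤ K) → ⁅Y, E⁆ ≤ K := by
  intro E
  induction E using subgroup_ind with
  | h E ih =>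
  intro hE h1 Y hY hEY hL
  by_cases h2 : r ^ 2 ≤ ♯E
  · refine comm_le_of_cent1 hr hE h2 hY hEY hE.le_cent hEY (hY.coprime' (hE.isPi hr))
      (Or.inr hE.abl.sol) fun b hb hb1 => ?_
    obtain ⟨E₁, hd⟩ := abelem_split_dprod hr hE (zp_le hb)
    have hcb : ♯(zpowers b) = r := card_zp hr (hE.pow hb) hb1
    have hcard := hd.card
    rw [hcb] at hcard
    have hE1 : E₁ ≠ ⊥ := by
      rintro rfl
      rw [card_bot, mul_one] at hcard
      rw [hcard] at h2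
      have := hr.one_lt
      nlinarith
    have hlt : E₁ < E := lt_of_card_lt hd.right_le (by
      rw [hcard]; have := hr.one_lt; have := card_pos E₁; nlinarith)
    have hYb : E ≤ N[Y ⊓ C{b}] := norm_inf hEY (norm_C1 (hE.le_cent.trans (C_le_C1 hb)))
    rw [hd.isProd.symm.comm_right_of_cent (le_C1_iff.1 inf_le_right)]
    refine ih E₁ hlt (hE.mono hd.right_le) hE1 _ (hY.inf_left _) (hd.right_le.trans hYb)
      fun B hB hBi => ?_
    have hBE : B ≤ E := hB.trans hd.right_le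
    have hcB : B ≤ C[zpowers b] := hE.abl.cents hBE hd.left_le
    have hi : zpowers b ⊓ B = ⊥ := eq_bot_of_le hd.inf (inf_le_inf_left _ hB)
    have hs := card_sup_of_inf (norm_of_cent hcB) hi
    have h3 := card_mul_relIndex hB
    have h4 := card_mul_relIndex (sup_le hd.left_le hBE)
    have hidx : (zpowers b ⊔ B).relIndex E = r := by
      rw [hs, hcard, hcb, ← h3, hBi] at h4
      have h5 : r * ♯B ≠ 0 := mul_ne_zero hr.ne_zero (card_ne_zero B)
      exact mul_left_cancel₀ h5 (by rw [h4]; ring)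
    refine le_trans ?_ (hL _ (sup_le hd.left_le hBE) hidx)
    refine commutator_mono ?_ hd.right_le
    rw [C_sup, C_zpowers, inf_assoc]
  · have hc : ♯E = r := by
      obtain ⟨n, hn⟩ := hE.exists_card hr
      rw [hn] at h2 ⊢
      have h0 : n ≠ 0 := by rintro rfl; exact h1 (card_eq_one'.1 (by simpa using hn))
      have h3 : n < 2 := by
        by_contra h4
        exact h2 (Nat.pow_le_pow_right hr.pos (by omega))
      have : n = 1 := by omega
      rw [this, pow_one]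
    have := hL ⊥ bot_le (by rw [relIndex_bot_left, hc])
    rwa [C_bot, inf_top_eq] at this

theorem quo_centQ (U V : Subgroup G) : quo (centQ U V) V = C[quo U V] := quo_coq _

theorem le_centQ_self (U V : Subgroup G) : V ≤ centQ U V := le_coq _

theorem isProd_comm_centQ (hr : r.Prime) (hRL : R ⊴ L) (hi : PiNat {r}ᶜ (R.relIndex L))
    (hE : IsPi {r} E) (hEL : E ≤ N[L]) (hER : E ≤ N[R]) :
    IsProd ⁅L, E⁆ (L ⊓ centQ E R) L := by
  have hP := coprime_cent_prod' (quo_norm R hEL)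
    (((isPi_quo_iff hRL.norm).2 hi).coprime' (hE.quo R)) (Or.inr ((hE.quo R).sol hr))
  refine ⟨comm_le_left hEL, inf_le_left, fun x hx => ?_⟩
  obtain ⟨k, hk, z, hz, e⟩ := hP.mul _ (cs_mem_quo hx (hRL.norm hx))
  rw [← quo_comm hRL.norm hER] at hk
  obtain ⟨y, hy, hyN, rfl⟩ := mem_quo.1 hk
  have hyL : y ∈ L := comm_le_left hEL hy
  refine ⟨y, hy, y⁻¹ * x, ⟨L.mul_mem (L.inv_mem hyL) hx, ?_⟩, by group⟩
  refine mem_coq.2 ⟨mul_mem (inv_mem hyN) (hRL.norm hx), ?_⟩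
  have e2 : cs R (y⁻¹ * x) = (cs R y)⁻¹ * cs R x :=
    (ap_mul _ (inv_mem hyN) (hRL.norm hx)).trans (by rw [ap_inv _ hyN])
  rw [e2, e, inv_mul_cancel_left]
  exact hz.2

theorem comm_le_of_hyp_mod (hr : r.Prime) (hRL : R ⊴ L) (hi : PiNat {r}ᶜ (R.relIndex L))
    (hE : IsElementaryAbelian r E) (hEL : E ≤ N[L]) (hER : E ≤ N[R]) (hRK : R ≤ K)
    (h : ∀ B ≤ E, E ⊓ R ≤ B → B.relIndex E = r → ⁅L ⊓ centQ B R, E⁆ ≤ K) : ⁅L, E⁆ ≤ K := by
  by_cases h1 : E ≤ R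
  · exact (comm_mono_right h1).trans ((comm_le_right hRL.norm).trans hRK)
  have hK : R ⊴ K ⊓ L := hRL.of_le (le_inf hRK hRL.le) inf_le_right
  refine (le_of_quo_le ((comm_le_left hEL).trans hRL.norm) hK ?_).trans inf_le_left
  rw [quo_comm hRL.norm hER]
  refine comm_le_of_hyp hr _ (hE.img _) (fun h0 => h1 ((quo_eq_bot hER).1 h0)) _
    ((isPi_quo_iff hRL.norm).2 hi) (quo_norm R hEL) fun B hB hBi => ?_
  have hq : quo (E ⊓ coq R B) R = B := by rw [quo_inf_coq]; exact inf_eq_right.2 hB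
  have h2 := h (E ⊓ coq R B) inf_le_left (inf_le_inf_left _ (le_coq _))
    (by rw [inf_relIndex_left, relIndex_coq _ hER, hBi])
  have h3 : quo L R ⊓ C[B] = quo (L ⊓ centQ (E ⊓ coq R B) R) R := by
    rw [centQ, quo_inf_coq, hq]
  rw [h3, ← quo_comm (inf_le_left.trans hRL.norm) hER]
  exact quo_mono _ (le_inf h2 ((comm_mono_left inf_le_left).trans (comm_le_left hEL)))

/-- the conclusion of the weak-closure estimate -/
def WKP (r : ℕ) (R V : Subgroup G) : Prop :=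
  ∀ E : Subgroup G, IsElementaryAbelian r E → E ≤ R ⊔ C[V] → ¬ E ≤ C[V] →
    r ^ 2 * (C[V]).relIndex E ≤ (C[E]).relIndex V

theorem WKP.cj (h : WKP r R V) (hg : g ∈ N[R]) : WKP r R (cj g V) := by
  intro E hE h1 h2
  have := h (H24.cj g⁻¹ E) (hE.cj _) (by
    rw [← le_cj_iff, cj_sup, cj_C, cj_of_mem_N hg]; exact h1) (by
    rw [← le_cj_iff, cj_C]; exact h2)
  rwa [← relIndex_cj g, ← relIndex_cj g _ V, cj_C, cj_C, cj_cj_inv] at this

theorem WKP.sym (hr : r.Prime) {V₀ V₁ E₀ E₁ : Subgroup G} (h₀ : WKP r R V₀) (h₁ : WKP r R V₁)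
    (hE₀ : IsElementaryAbelian r E₀) (hE₁ : IsElementaryAbelian r E₁) (l₀ : E₀ ≤ V₀)
    (l₁ : E₁ ≤ V₁) (i₀ : E₀.relIndex V₀ ≤ r) (i₁ : E₁.relIndex V₁ ≤ r)
    (c₀ : E₀ ≤ R ⊔ C[V₁]) (c₁ : E₁ ≤ R ⊔ C[V₀]) : E₁ ≤ C[V₀] := by
  have key : ∀ {V V' E E' : Subgroup G}, WKP r R V → IsElementaryAbelian r E' → E ≤ V →
      E.relIndex V ≤ r → E' ≤ R ⊔ C[V] → ¬ E' ≤ C[V] →
      r * (C[E]).relIndex E' ≤ (C[E']).relIndex E := by
    intro V V' E E' h hE' l i c hn
    have h1 := h E' hE' c hn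
    have h2 : (C[E]).relIndex E' ≤ (C[V]).relIndex E' :=
      relIndex_le_of_le_left (C_anti l) (relIndex_ne_zero' _ _)
    have h3 : (C[E']).relIndex V ≤ (C[E'] ⊓ E).relIndex V :=
      relIndex_le_of_le_left inf_le_left (relIndex_ne_zero' _ _)
    rw [← relIndex_mul_relIndex _ E V inf_le_right l, inf_relIndex_right] at h3
    have h4 : r * (r * (C[E]).relIndex E') ≤ r * (C[E']).relIndex E := by
      calc r * (r * (C[E]).relIndex E') = r ^ 2 * (C[E]).relIndex E' := by ring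
        _ ≤ r ^ 2 * (C[V]).relIndex E' := Nat.mul_le_mul_left _ h2
        _ ≤ (C[E']).relIndex E * E.relIndex V := h1.trans h3
        _ ≤ (C[E']).relIndex E * r := Nat.mul_le_mul_left _ i
        _ = r * (C[E']).relIndex E := by ring
    exact Nat.le_of_mul_le_mul_left h4 hr.pos
  by_contra hn
  have k1 := key (V' := V₁) h₀ hE₁ l₀ i₀ c₁ hn
  have p1 := relIndex_pos (C[E₀]) E₁
  have h1r := hr.one_lt
  have hn' : ¬ E₀ ≤ C[V₁] := fun hc => by
    have : (C[E₁]).relIndex E₀ = 1 := relIndex_eq_one.2 (hc.trans (C_anti l₁))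
    rw [this] at k1
    nlinarith
  have k2 := key (V' := V₀) h₁ hE₀ l₁ i₁ c₀ hn'
  nlinarith

theorem cj_le_sup_of_centQ (hER : E ≤ N[R]) (hg : g ∈ centQ E R) : cj g E ≤ R ⊔ E := by
  intro z hz
  obtain ⟨e, he, rfl⟩ := mem_cj'.1 hz
  have h1 := ((mem_centQ hER).1 hg).2 e he
  have : g * e * g⁻¹ = ⁅g, e⁆ * e := by rw [commutatorElement_def]; group
  rw [this]
  exact mul_mem (mem_sup_left h1) (mem_sup_right he)

theorem le_sup_cj_of_centQ (hER : E ≤ N[R]) (hg : g ∈ centQ E R) : E ≤ R ⊔ cj g E := by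
  have := cj_mono g (cj_le_sup_of_centQ hER (inv_mem hg))
  rwa [cj_cj_inv, cj_sup, cj_of_mem_N (centQ_le_N _ _ hg)] at this

theorem le_of_quad (hr : r.Prime) (hM : Sol M) (hO : O[{r}ᶜ, M] = ⊥)
    (hY : Y ≤ core2 {r} {r}ᶜ M) (h : ⁅⁅O[{r}, M], Y⁆, Y⁆ = ⊥) : Y ≤ O[{r}, M] := by
  have hYM : Y ≤ M := hY.trans (core2_le _ _ _)
  obtain ⟨Q, hQ⟩ := Hall_exists {r}ᶜ (hM.of_le hYM)
  have hQM : Q ≤ M := hQ.le.trans hYM
  have h1 : Q ≤ C[O[{r}, M]] := coprime_commGG1P' (hQM.trans (pcore_nml _ _).norm)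
    ((pcore_pi _ _).coprime hQ.pi) (Or.inl (hM.of_le (pcore_le _ _)))
    (eq_bot_of_le h (commutator_mono (comm_mono_right hQ.le) hQ.le))
  have h2 : Q ≤ O[{r}, M] := (le_inf hQM h1).trans (cent_sub_pcore hr hM hO)
  have h3 : Q = ⊥ := ((pcore_pi _ _).of_le h2).eq_bot hQ.pi
  have h4 := hQ.isPi_compl_of_eq_bot h3
  rw [compl_compl] at h4
  exact le_pcore_of_le_core2 hY h4

section
variable {r : ℕ} {M T W : Subgroup G}

/-- step (1): `W ≤ O_r(M)` -/
theorem TQ_le (hr : r.Prime) (hM : Sol M) (hO : O[{r}ᶜ, M] = ⊥) (hW : IsElementaryAbelian r W)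
    (hWM : W ≤ M) (hRW : O[{r}, M] ≤ N[W]) (hP : WKP r O[{r}, M] W) : W ≤ O[{r}, M] := by
  set R := O[{r}, M] with hR
  set L := core2 {r} {r}ᶜ M with hL
  have hRL : R ⊴ L := pcore_nml_core2 _ _ _
  have hMR : M ≤ N[R] := (pcore_nml _ _).norm
  have hML : M ≤ N[L] := (core2_nml _ _ _).norm
  have hLM : L ≤ M := core2_le _ _ _
  refine le_pcore_of_comm_core2 hM hWM (hW.isPi hr) ?_
  refine comm_le_of_hyp_mod hr hRL (core2_idx _ _ _) hW (hWM.trans hML) (hWM.trans hMR) le_rfl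
    fun B hB hBR hBi => ?_
  rw [commutator_le]
  intro x hx w hw
  have hxN : x ∈ N[R] := hMR (hLM hx.1)
  have hBN : B ≤ N[R] := hB.trans (hWM.trans hMR)
  have hBe := hW.mono hB
  have hP' := hP.cj hxN
  have c₀ : B ≤ R ⊔ C[cj x W] := (le_sup_cj_of_centQ hBN hx.2).trans
    (sup_le_sup_left ((cj_mono x hB).trans (hW.cj x).le_cent) _)
  have c₁ : cj x B ≤ R ⊔ C[W] := (cj_le_sup_of_centQ hBN hx.2).trans
    (sup_le_sup_left (hB.trans hW.le_cent) _)
  have i₁ : (cj x B).relIndex (cj x W) ≤ r := by rw [relIndex_cj, hBi]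
  have k₁ : cj x B ≤ C[W] := hP.sym hr hP' hBe (hBe.cj x) hB (cj_mono x hB) hBi.le i₁ c₀ c₁
  have k₀ : B ≤ C[cj x W] := hP'.sym hr hP (hBe.cj x) hBe (cj_mono x hB) hB i₁ hBi.le c₁ c₀
  have hD : B ⊔ cj x B ≤ C[W ⊔ cj x W] := sup_le (cents_sup (hB.trans hW.le_cent) k₀)
    (cents_sup k₁ ((cj_mono x hB).trans (hW.cj x).le_cent))
  have hRWB : ⁅R, W⁆ ≤ B := (le_inf (comm_le_right hRW) (comm_le_left (hWM.trans hMR))).trans hBR
  have hRWB' : ⁅R, cj x W⁆ ≤ cj x B := by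
    have := cj_mono x hRWB
    rwa [cj_comm, cj_of_mem_N hxN] at this
  have hRD : R ≤ N[B ⊔ cj x B] := norm_sup
    (norm_of_comm_le_right ((comm_mono_right hB).trans hRWB))
    (norm_of_comm_le_right ((comm_mono_right (cj_mono x hB)).trans hRWB'))
  have hL0 : W ⊔ cj x W ≤ centQ R (B ⊔ cj x B) := sup_le
    ((le_centQ hRD).2 ⟨le_sup_left.trans (norm_of_cent (cents_symm hD)),
      by rw [commC]; exact hRWB.trans le_sup_left⟩)
    ((le_centQ hRD).2 ⟨le_sup_right.trans (norm_of_cent (cents_symm hD)),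
      by rw [commC]; exact hRWB'.trans le_sup_right⟩)
  have hq : ⁅⁅R, W ⊔ cj x W⁆, W ⊔ cj x W⁆ = ⊥ := by
    rw [comm_eq_bot, commC]
    exact ((le_centQ hRD).1 hL0).2.trans hD
  have hY : (W ⊔ cj x W) ⊓ L ≤ R := le_of_quad hr hM hO inf_le_right
    (eq_bot_of_le hq (commutator_mono (comm_mono_right inf_le_left) inf_le_left))
  refine hY ⟨?_, comm_le_left (hWM.trans hML) (commutator_mem_commutator hx.1 hw)⟩
  rw [commutatorElement_def]
  exact mul_mem (mem_sup_right (conj_mem_cj x hw)) (mem_sup_left (inv_mem hw))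

end

theorem TQ {p r : ℕ} (hp : p.Prime) (hr : r = 2 ∨ (r = 3 ∧ p ≠ 2)) (hrp : r ≠ p)
    {A H M T W : Subgroup G} {c : G} (hA : IsElementaryAbelian p A) (hc : c ∈ A)
    (hM : Sol M) (hMp : IsPi {p}ᶜ M) (hAM : A ≤ N[M]) (hO : O[{r}ᶜ, M] = ⊥)
    (hT : IsPi {r} T) (hRT : O[{r}, M] ≤ T) (hTM : T ≤ M) (hAT : A ≤ N[T])
    (hCT : M ⊓ C[A] ≤ N[T]) (hH : Sol H) (hHp : IsPi {p}ᶜ H) (hAH : A ≤ N[H])
    (hMH : M ⊓ N[thompsonSubgroupOf r T] ≤ H) (hHc : H ⊓ C{c} ≤ M)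
    (hmin : MinNml W (H ⊔ A)) (hW : W ≤ omegaOne r Z[thompsonSubgroupOf r T]) :
    core2 {r} {r}ᶜ M ≤ N[W] := by
  have hr' : r.Prime := by
    rcases hr with rfl | ⟨rfl, -⟩
    · exact Nat.prime_two
    · exact Nat.prime_three
  set R := O[{r}, M] with hR
  set L := core2 {r} {r}ᶜ M with hL
  set J := thompsonSubgroupOf r T with hJ
  have hRL : R ⊴ L := pcore_nml_core2 _ _ _
  have hi : PiNat {r}ᶜ (R.relIndex L) := core2_idx _ _ _
  have hMR : M ≤ N[R] := (pcore_nml _ _).norm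
  have hML : M ≤ N[L] := (core2_nml _ _ _).norm
  have hLM : L ≤ M := core2_le _ _ _
  have hRr : IsPi {r} R := pcore_pi _ _
  have hWe : IsElementaryAbelian r W := (H12.ea_omega_center J).mono hW
  have hJT : J ≤ T := H12.J_le T
  have hWT : W ≤ T := hW.trans ((H12.omega_le _).trans (inf_le_left.trans hJT))
  have hTH : T ≤ H := (le_inf hTM (H12.le_normalizer_J T)).trans hMH
  have hHW : H ≤ N[W] := le_sup_left.trans hmin.norm
  have hAW : A ≤ N[W] := le_sup_right.trans hmin.norm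
  have hTW : T ≤ N[W] := hTH.trans hHW
  have hRW : R ≤ N[W] := hRT.trans hTW
  have hP : WKP r R W := fun E hE h1 h2 =>
    WK hp hr hrp (hA.pow hc) hH hHp (hAH hc) hWe (hAW hc) hAH hmin hRr (hRT.trans hTH)
      (norm_pcore _ hAM hc) (hHc.trans hMR) hE h1 h2
  have hPg : ∀ g ∈ L, WKP r R (cj g W) := fun g hg => hP.cj (hRL.norm hg)
  have hWR : W ≤ R := TQ_le hr' hM hO hWe (hWT.trans hTM) hRW hP
  have hWgR : ∀ g ∈ L, cj g W ≤ R := fun g hg => cj_le_of_mem_N hWR (hRL.norm hg)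
  have hcomm : ∀ x ∈ L, ∀ y ∈ L, cj x W ≤ C[cj y W] := fun x hx y hy =>
    (hPg y hy).sym hr' (hPg x hx) (hWe.cj y) (hWe.cj x) le_rfl le_rfl
      (by rw [relIndex_self]; exact hr'.pos) (by rw [relIndex_self]; exact hr'.pos)
      ((hWgR y hy).trans le_sup_left) ((hWgR x hx).trans le_sup_left)
  have hXe : IsElementaryAbelian r (ncl L W) := ea_ncl hWe hcomm
  have hXR : ncl L W ≤ R := ncl_le hWgR
  by_contra hn
  -- a maximal elementary abelian subgroup with `⁅L, A₀⁆ ≰ N(W)`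
  have hex : ∃ n, ∃ A₀, H12.MaxEA r T A₀ ∧ ¬ ⁅L, A₀⁆ ≤ N[W] ∧ R.relIndex A₀ = n := by
    by_contra h0
    push Not at h0
    have h1 : ⁅L, J⁆ ≤ N[W] := by
      rw [hJ, H12.J_eq_sSup]
      refine comm_sSup_le (fun X hX => hX.le.trans (hTM.trans hML)) fun X hX => ?_
      by_contra h2
      exact h0 _ X hX h2 rfl
    have hJN : J ≤ N[R] := hJT.trans (hTM.trans hMR)
    have h2 := isProd_comm_centQ hr' hRL hi (hT.of_le hJT) (hJT.trans (hTM.trans hML)) hJN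
    refine hn ?_
    rw [← h2.sup_eq]
    refine sup_le h1 (le_trans ?_ (hMH.trans hHW))
    refine le_inf (inf_le_left.trans hLM) fun x hx => ?_
    have h3 : thompsonSubgroupOf r (R ⊔ J) = J :=
      H12.J_eq_of_le le_sup_right (sup_le hRT hJT)
    rw [← h3]
    refine H12.normalizer_le_normalizer_J _ (mem_N_of_cj_le ?_)
    rw [cj_sup, cj_of_mem_N (hRL.norm hx.1)]
    exact sup_le le_sup_left (cj_le_sup_of_centQ hJN hx.2)
  classical
  obtain ⟨A₀, hA₀, hn₀, hmin₀⟩ := Nat.find_spec hex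
  have hmin' : ∀ A₁, H12.MaxEA r T A₁ → R.relIndex A₁ < R.relIndex A₀ → ⁅L, A₁⁆ ≤ N[W] := by
    intro A₁ h1 h2
    by_contra h3
    exact Nat.find_min hex (hmin₀ ▸ h2) ⟨A₁, h1, h3, rfl⟩
  have hWA : W ≤ A₀ := hW.trans hA₀.omega_center_J_le
  have hA₀L : A₀ ≤ N[L] := hA₀.le.trans (hTM.trans hML)
  have hA₀R : A₀ ≤ N[R] := hA₀.le.trans (hTM.trans hMR)
  -- claim a
  have ha : ∀ E ≤ A₀, E.relIndex A₀ = r → ∀ g ∈ L ⊓ centQ E R, E ≤ C[cj g W] := by
    intro E hE hEi g hg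
    by_contra h0
    have hEe := hA₀.ea.mono hE
    have h1 := hPg g hg.1 E hEe ((le_sup_cj_of_centQ (hE.trans hA₀R) hg.2).trans
      (sup_le_sup_left (cent_cj (hA₀.ea.abl.cents hE hWA) g) _)) h0
    have hDe : IsElementaryAbelian r (cj g W ⊔ (C[cj g W] ⊓ E)) :=
      elem_sup (hWe.cj g) (hEe.mono inf_le_right) (cents_symm inf_le_left)
    have h2 := hA₀.card_le (sup_le ((hWgR g hg.1).trans hRT) (inf_le_right.trans (hE.trans hA₀.le)))
      hDe
    have h3 := card_sup (A := cj g W) (B := C[cj g W] ⊓ E) (norm_of_cent inf_le_left)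
    have h4 : ♯(cj g W ⊓ (C[cj g W] ⊓ E)) ≤ ♯(C[E] ⊓ cj g W) :=
      card_le (le_inf (inf_le_right.trans (inf_le_right.trans hEe.le_cent)) inf_le_left)
    have h5 := card_inf_mul_relIndex C[E] (cj g W)
    have h6 := card_inf_mul_relIndex C[cj g W] E
    have h7 := card_mul_relIndex hE
    rw [hEi] at h7
    have p1 := card_pos (C[E] ⊓ cj g W)
    have p2 := card_pos (C[cj g W] ⊓ E)
    have p3 := relIndex_pos C[cj g W] E
    have p4 := hr'.one_lt
    generalize ♯(C[E] ⊓ cj g W) = u at *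
    generalize ♯(C[cj g W] ⊓ E) = v at *
    generalize (C[cj g W]).relIndex E = i at *
    generalize (C[E]).relIndex (cj g W) = j at *
    have h8 : u * j * v ≤ v * i * r * u := by
      rw [h5, h6, h7, ← h3]
      exact Nat.mul_le_mul h2 h4
    have h9 : j ≤ i * r := by
      have : (u * v) * j ≤ (u * v) * (i * r) := by nlinarith
      exact Nat.le_of_mul_le_mul_left this (Nat.mul_pos p1 p2)
    have h10 : r * (r * i) ≤ 1 * (r * i) := by nlinarith
    have := Nat.le_of_mul_le_mul_right h10 (Nat.mul_pos hr'.pos p3)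
    omega
  -- claim b
  have hb : ∃ E ≤ A₀, A₀ ⊓ R ≤ E ∧ E.relIndex A₀ = r ∧ ¬ A₀ ≤ C[ncl (L ⊓ centQ E R) W] := by
    by_contra h0
    push Not at h0
    refine hn₀ (comm_le_of_hyp_mod hr' hRL hi hA₀.ea hA₀L hA₀R hRW fun E hE hER hEi => ?_)
    refine le_trans ?_ (C_le_N W)
    rw [commutator_le]
    intro x hx a ha
    have h1 : a ∈ C[cj x⁻¹ W] := C_anti (cj_le_ncl (inv_mem hx)) (h0 E hE hER hEi ha)
    rw [← cj_C, mem_cj, inv_inv] at h1
    rw [commutatorElement_def]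
    exact mul_mem h1 (inv_mem (cents_symm (hWA.trans hA₀.ea.le_cent) ha))
  obtain ⟨E, hE, hER, hEi, hb⟩ := hb
  set Y := ncl (L ⊓ centQ E R) W with hY
  have hYX : Y ≤ ncl L W := ncl_le fun g hg => cj_le_ncl hg.1
  have hYe := hXe.mono hYX
  have hEe := hA₀.ea.mono hE
  have hEY : E ≤ C[Y] := cents_symm (ncl_le fun g hg => cents_symm (ha E hE hEi g hg))
  have hA₁e : IsElementaryAbelian r (E ⊔ Y) := elem_sup hEe hYe hEY
  have hA₁T : E ⊔ Y ≤ T := sup_le (hE.trans hA₀.le) (hYX.trans (hXR.trans hRT))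
  have hne : ¬ Y ≤ E := fun h => hb (cents_symm ((h.trans hE).trans hA₀.ea.le_cent))
  have h7 := card_mul_relIndex hE
  rw [hEi] at h7
  have h8 := card_mul_relIndex (le_sup_left : E ≤ E ⊔ Y)
  have hidx : r ≤ E.relIndex (E ⊔ Y) := by
    obtain ⟨k, hk⟩ := (piNat_singleton hr' (relIndex_ne_zero' E (E ⊔ Y))).1
      ((hA₁e.isPi hr').relIndex E)
    have : k ≠ 0 := by
      rintro rfl
      exact hne (le_sup_right.trans (relIndex_eq_one.1 (hk.trans (pow_zero r))))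
    rw [hk]
    exact Nat.le_self_pow this r
  have hA₁ : H12.MaxEA r T (E ⊔ Y) := hA₀.of_card_le hA₁T hA₁e (by
    rw [← h7, ← h8]; exact Nat.mul_le_mul_left _ hidx)
  have hlt : R.relIndex (E ⊔ Y) < R.relIndex A₀ := by
    have e1 : R.relIndex (E ⊔ Y) = R.relIndex E := by
      have hEN : E ≤ N[R] := hE.trans hA₀R
      rw [← relIndex_sup_of_norm (sup_le hEN ((hYX.trans hXR).trans (norm_self R))),
        ← relIndex_sup_of_norm hEN]
      congr 1
      exact le_antisymm (sup_le le_sup_left (sup_le le_sup_right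
        ((hYX.trans hXR).trans le_sup_left))) (sup_le_sup_left le_sup_left _)
    have e2 : R.relIndex A₀ = R.relIndex E * r := by
      rw [← inf_relIndex_left, ← relIndex_mul_relIndex _ E A₀ hER hE, hEi,
        ← inf_relIndex_left E R, ← inf_relIndex_left E (A₀ ⊓ R), ← inf_assoc, inf_eq_left.2 hE]
    rw [e1, e2]
    have := relIndex_pos R E
    have := hr'.one_lt
    nlinarith
  have hLE : ⁅L, E⁆ ≤ N[W] := (comm_mono_right le_sup_left).trans (hmin' _ hA₁ hlt)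
  have hXY : ncl L W ≤ Y := ncl_le fun g hg => by
    obtain ⟨l, hl, k, hk, rfl⟩ := (isProd_comm_centQ hr' hRL hi (hEe.isPi hr') (hE.trans hA₀L)
      (hE.trans hA₀R)).symm.mul g hg
    rw [cj_mul, cj_of_mem_N (hLE hk)]
    exact cj_le_ncl hl
  have hEX : (C[A₀]).relIndex (ncl L W) ≤ r := by
    rw [le_antisymm hXY hYX]
    refine (relIndex_le_of_le_left (hE.trans hA₀.ea.le_cent) (relIndex_ne_zero' _ _)).trans ?_
    rw [← relIndex_sup_of_norm (norm_of_cent (cents_symm hEY))]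
    have h9 := hA₀.card_eq hA₁
    rw [← h7, ← h8] at h9
    exact (Nat.eq_of_mul_eq_mul_left (card_pos E) h9).ge
  have hKL : ⁅L, A₀⁆ ≤ L := comm_le_left hA₀L
  obtain ⟨Q, hQ⟩ := Hall_exists {r}ᶜ ((hM.of_le hLM).of_le hKL)
  have hQX : Q ≤ C[ncl L W] := NoOff hp hr' hrp hA (hM.of_le hLM) (hMp.of_le hLM) hT hRL hRT hi
    (hTM.trans hML) (norm_core2 _ _ hAM) hAT ((inf_le_inf_right _ hLM).trans hCT) hXe norm_ncl_self
    (norm_ncl (hTM.trans hML) hTW) (norm_ncl (norm_core2 _ _ hAM) hAW) hA₀.le hEX hQ.le hQ.pi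
  have hH' : Hall {r} ⁅L, A₀⁆ (R ⊓ ⁅L, A₀⁆) := (Hall.mk' hRL.le hRr hi).nml_inf hRL.norm hKL
  refine hn₀ ?_
  rw [← (hH'.isProd hQ).sup_eq]
  exact sup_le (inf_le_left.trans hRW) ((hQX.trans (C_anti le_ncl)).trans (C_le_N W))

end H23
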