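import Mathlib
import Cfsg.Agent.H23.SigU
import Cfsg.Agent.H23.TQ
import Cfsg.Agent.H12.WS

/-! # The constrained case of a universal subgroup -/

set_option autoImplicit false
set_option linter.unusedSectionVars false
set_option linter.unusedVariables false

namespace H23

open Cfsg H24 Subgroup H26
open H25 hiding abl_iff cyc_zpowers cyc_bot exists_prime_dvd_card
open scoped commutatorElement

universe u

variable {G : Type u} [Group G] [Finite G]
variable {p q r s t : ℕ} {π : Set ℕ} {A B D H K L M N P Q R S T U V W X Y : Subgroup G}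
  {θ : G → Subgroup G} {a b c d : G}

local notation "sI" => signalizerInf

theorem pPrimeCore_eq_bot (hr : r.Prime) (h : O[{r}ᶜ, K] = ⊥) : pPrimeCore r K = ⊥ := by
  rw [pcore_compl_singleton hr] at h
  exact (map_eq_bot_iff_of_injective _ K.subtype_injective).1 h

theorem norm_WOf (hr : r.Prime) (hM : Sol M) (hO : O[{r}ᶜ, M] = ⊥)
    (h : 5 ≤ r ∨ (r ≠ 2 ∧ IsPi {2}ᶜ M)) (hT : Syl r M T) : M ≤ N[H12.WOf r T] := by
  have := Fact.mk hr
  have hs : H12.PSep r M := H12.pSep_of_isSolvable r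
  have hq : ¬ H12.QuadInvolved r M := by
    rcases h with h | ⟨h, h'⟩
    · exact H12.not_quadInvolved_of_pSep h hs
    · exact H12.not_quadInvolved_of_odd h
        (Nat.coprime_two_left.1 ((piNat_compl_iff_coprime Nat.prime_two).1 h'))
  obtain ⟨S, rfl⟩ := hT.exists_sylow hr
  have hn := H12.normal_WOf (H12.isActionPStable_of_not_quadInvolved hq)
    (hs.centralizer_pCore_le (pPrimeCore_eq_bot hr hO)) S
  rw [← H12.map_WOf (H12.inf_ker_eq_bot_of_injective M.subtype_injective _)]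
  exact (nml_map_subtype _).norm

/-- Thompson factorization under a coprime operator group -/
theorem core2_le_of_factor (hp : p.Prime) (hr : r.Prime) (hA : IsElementaryAbelian p A)
    (hM : Sol M) (hMp : IsPi {p}ᶜ M) (hAM : A ≤ N[M]) (hO : O[{r}ᶜ, M] = ⊥) (hT : IsPi {r} T)
    (hRT : O[{r}, M] ≤ T) (hTM : T ≤ M) (hAT : A ≤ N[T]) (hCT : M ⊓ C[A] ≤ N[T])
    (h1 : M ⊓ N[thompsonSubgroupOf r T] ≤ X) (h2 : M ⊓ C[omegaOne r Z[T]] ≤ X) :
    core2 {r} {r}ᶜ M ≤ X := by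
  have := Fact.mk hr
  set L := core2 {r} {r}ᶜ M with hL
  have hLM : L ≤ M := core2_le _ _ _
  have hTL : T ≤ N[L] := hTM.trans (core2_nml _ _ _).norm
  have hKM : L ⊔ T ≤ M := sup_le hLM hTM
  have hS : Syl r (L ⊔ T) T := by
    refine Hall.mk' le_sup_right hT ?_
    rw [sup_comm, relIndex_sup_of_norm' hTL]
    exact (core2_idx {r} {r}ᶜ M).dvd (relIndex_dvd_of_le_left _ hRT)
  have hRK : O[{r}, M] ⊴ L ⊔ T :=
    (pcore_nml _ _).of_le (hRT.trans le_sup_right) hKM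
  have hOK : O[{r}ᶜ, L ⊔ T] = ⊥ := by
    have h3 : O[{r}ᶜ, L ⊔ T] ≤ O[{r}, M] :=
      (le_inf ((pcore_le _ _).trans hKM) (pcore_compl_cents (pcore_pi _ _) hRK)).trans
        (cent_sub_pcore hr hM hO)
    exact ((pcore_pi _ _).of_le h3).eq_bot (pcore_pi _ _)
  have hsK : Sol (L ⊔ T) := hM.of_le hKM
  obtain ⟨S, hS'⟩ := hS.exists_sylow hr
  have hg := H12.operator_generation (norm_sup (norm_core2 _ _ hAM) hAT) hA hp
    ((isPi_compl_iff hp).1 (hMp.of_le hKM)) (H12.pSep_of_isSolvable r) (pPrimeCore_eq_bot hr hOK) S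
  have hi := (L ⊔ T).subtype_injective
  have hk := fun H => H12.inf_ker_eq_bot_of_injective hi H
  refine le_sup_left.trans (?_ : L ⊔ T ≤ X)
  rw [← map_subtype_top (L ⊔ T), ← hg, Subgroup.map_sup, Subgroup.map_sup]
  refine sup_le (sup_le ?_ ?_) ?_
  · refine le_trans (le_inf ((map_subtype_le' _).trans hKM) ?_) h1
    have := norm_map (le_refl N[thompsonSubgroupOf r (S : Subgroup ↥(L ⊔ T))]) (L ⊔ T).subtype
    rwa [H12.map_J (hk _), hS'] at this
  · refine le_trans (le_inf ((map_subtype_le' _).trans hKM) ?_) h2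
    have := cent_map (le_refl C[omegaOne r Z[(S : Subgroup ↥(L ⊔ T))]]) (L ⊔ T).subtype
    rwa [H12.map_omega (hk _), H12.map_inf_centralizer (hk _), hS'] at this
  · refine le_trans (le_inf ((map_subtype_le' _).trans hKM) ?_) h1
    rw [subgroupOf_map_subtype]
    exact (le_inf (inf_le_right.trans hKM) inf_le_left).trans
      (hCT.trans (H12.normalizer_le_normalizer_J T))

theorem CE.pcore_le_of_core2_le (h : CE p A θ) (hr : r.Prime) (hM : MaxM p A θ M)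
    (h1 : O[{r}, M] ≠ ⊥) (hN : Mem p A θ N) (hL : core2 {r} {r}ᶜ M ≤ N) :
    O[{r}, N] ≤ O[{r}, M] := by
  have hRN : O[{r}, M] ≤ N := (pcore_le_core2 _ _ _).trans hL
  have hRS : O[{r}, M] ≤ N[O[{r}, N]] := hRN.trans (pcore_nml _ _).norm
  have h2 : O[{r}, N] ⊓ M ≤ O[{r}, M] := by
    refine le_pcore_of_comm_core2 hM.mem.sol inf_le_right ((pcore_pi _ _).inf_left _) ?_
    refine le_pcore_of_le_core2 (comm_le_left (inf_le_right.trans (core2_nml _ _ _).norm)) ?_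
    exact (pcore_pi {r} N).of_le ((comm_mono_right inf_le_left).trans
      (comm_le_right (hL.trans (pcore_nml _ _).norm)))
  have h3 : O[{r}, N] ⊓ N[O[{r}, M]] ≤ O[{r}, M] :=
    (le_inf inf_le_left (h.le_of_pcore hM h1 ((hN.pcore _).infN (hM.mem.pcore _).inv)
      inf_le_right)).trans h2
  have h4 : O[{r}, M] = O[{r}, M] ⊔ O[{r}, N] :=
    (((pcore_pi _ _).sup' (pcore_pi _ _) hRS).nil hr).eq_of_norm_le le_sup_left (by
      rw [← group_modl' hRS (norm_self _)]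
      exact sup_le le_rfl h3)
  exact le_sup_right.trans h4.ge

theorem CE.eq_of_core2_le (h : CE p A θ) (hr : r.Prime) (hM : MaxM p A θ M)
    (h1 : O[{r}, M] ≠ ⊥) (hC : sI A θ ≤ M) (hN : MaxM p A θ N) (hO : O[{r}ᶜ, N] = ⊥)
    (hL : core2 {r} {r}ᶜ M ≤ N) : N = M := by
  have := Fact.mk hr
  have h2 := h.pcore_le_of_core2_le hr hM h1 hN.mem hL
  have hR := hM.mem.pcore {r}
  have hMR : M ≤ N[O[{r}, M]] := (pcore_nml _ _).norm
  have hRp := (pcore_pi {r} M).isPGroup hr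
  have h3 : core2 {r} {r}ᶜ N ≤ M := by
    refine core2_le_of_factor h.prime hr h.ea hN.mem.sol hN.mem.pi hN.mem.inv hO (pcore_pi _ _) h2
      ((pcore_le_core2 _ _ _).trans hL) hR.inv ((hN.mem.inf_C_le le_rfl).trans (hC.trans hMR)) ?_ ?_
    · have hA := hR.inv.trans (H12.normalizer_le_normalizer_J (p := r) _)
      exact h.le_of_norm hM (hR.of_le (H12.J_le _) hA) (H12.J_ne_bot hRp h1)
        (hMR.trans (H12.normalizer_le_normalizer_J _)) (hN.mem.infN hA) inf_le_right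
    · have hA := hR.inv.trans (H12.normalizer_le_normalizer_omega_center (p := r) _)
      exact h.le_of_norm hM (hR.of_le ((H12.omega_le _).trans inf_le_left) hA)
        (H12.omega_center_ne_bot hRp h1)
        (hMR.trans (H12.normalizer_le_normalizer_omega_center _)) (hN.mem.infC hA)
        (inf_le_right.trans (C_le_N _))
  have h4 : O[{r}, N] ≠ ⊥ := fun h0 =>
    Fitting_ne_bot hN.mem.sol (h.maxM_ne_bot hN) (by rw [Fitting_eq_pcore hr hO, h0])
  have h5 := h.pcore_le_of_core2_le hr hN h4 hM.mem h3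
  exact h.eq_of_norm hN hM hR h1 (le_antisymm h2 h5 ▸ (pcore_nml {r} N).norm) hMR

namespace Univ

variable (h : Univ p A θ r B U) (hO : ∀ M, MaxM p A θ M → U ≤ M → O[{r}ᶜ, M] = ⊥)
include h hO

theorem eq_of_stable (hr : 5 ≤ r ∨ (r ≠ 2 ∧ p = 2)) {M' : Subgroup G} (hM : MaxM p A θ M)
    (hU : U ≤ M) (hC : sI A θ ≤ M) (hM' : MaxM p A θ M') (hU' : U ≤ M') : M = M' := by
  have := Fact.mk h.prime
  have key : ∀ M, MaxM p A θ M → U ≤ M → ∃ T, MaxQ p A θ r T ∧ M ≤ N[H12.WOf r T] ∧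
      Mem p A θ (H12.WOf r T) ∧ H12.WOf r T ≠ ⊥ := by
    intro M hM hU
    obtain ⟨T, hT, hAT, hUT⟩ := hM.mem.exists_syl h.ce.sf h.prime hU h.pi h.inv
    have hn := norm_WOf h.prime hM.mem.sol (hO M hM hU)
      (hr.imp id fun ⟨h1, h2⟩ => ⟨h1, h2 ▸ hM.mem.pi⟩) hT
    have hTm := hM.mem.of_le hT.le hAT
    have hAW := hAT.trans (H12.normalizer_le_normalizer_WOf (p := r) T)
    have hW := hTm.of_le (H12.WOf_le T) hAW
    have h1 := H12.WOf_ne_bot (hT.pi.isPGroup h.prime) (ne_bot_of_le h.ne hUT)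
    refine ⟨T, ⟨hTm, hT.pi, fun Q hQ hQr hTQ => ?_⟩, hn, hW, h1⟩
    refine ((hQr.nil h.prime).eq_of_norm_le hTQ ?_).symm
    refine hT.le_of_norm (hQr.inf_left _) ?_ inf_le_right
    exact h.ce.le_of_norm hM hW h1 hn (hQ.infN hAT)
      (inf_le_right.trans (H12.normalizer_le_normalizer_WOf T))
  obtain ⟨T, hT, hn, hW, h1⟩ := key M hM hU
  obtain ⟨T', hT', hn', -, -⟩ := key M' hM' hU'
  obtain ⟨x, hx, rfl⟩ := transitivity h.ce.sf h.ce.h3 h.prime hT hT'
  rw [cj_eq_smul, ← H12.conj_WOf, ← cj_eq_smul, cj_of_mem_N (hn (hC hx))] at hn'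
  exact h.ce.eq_of_norm hM hM' hW h1 hn hn'

theorem eq_of_TQ (hr : r = 2 ∨ (r = 3 ∧ p ≠ 2)) (hc : c ∈ B) (h1 : c ≠ 1) (hM : MaxM p A θ M)
    (hcM : θ c ≤ M) (hT : IsPi {r} T) (hRT : O[{r}, M] ≤ T) (hTM : T ≤ M) (hAT : A ≤ N[T])
    (hCT : sI A θ ≤ N[T]) (hmin : MinNml W (HN p A θ (thompsonSubgroupOf r T) ⊔ A))
    (hW : W ≤ omegaOne r Z[thompsonSubgroupOf r T]) (hN : MaxM p A θ N)
    (hle : ∀ K, Mem p A θ K → K ≤ N[W] → K ≤ N) : N = M := by
  have := Fact.mk h.prime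
  have hU : U ≤ M := (h.le_theta hc h1).trans hcM
  have hR1 := h.pcore_ne_bot hM.mem hU
  have hAJ := hAT.trans (H12.normalizer_le_normalizer_J (p := r) _)
  have hJ := hM.mem.of_le ((H12.J_le (p := r) T).trans hTM) hAJ
  have hH := h.ce.mem_HN hJ (H12.J_ne_bot (hT.isPGroup h.prime) (ne_bot_of_le hR1 hRT))
  have hL := TQ h.ce.prime hr h.ne_p h.ce.ea (h.line.le hc) hM.mem.sol hM.mem.pi hM.mem.inv
    (hO M hM hU) hT hRT hTM hAT ((hM.mem.inf_C_le le_rfl).trans hCT) hH.sol hH.pi hH.inv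
    ((hM.mem.infN hAJ).le_HN inf_le_right) ((hH.le c (h.line.le hc) h1).trans hcM) hmin hW
  have hLN := hle _ (hM.mem.of_le (core2_le _ _ _) (norm_core2 _ _ hM.mem.inv)) hL
  exact h.ce.eq_of_core2_le h.prime hM hR1 ((sigInf_le (h.line.le hc) h1).trans hcM) hN
    (hO N hN (((h.le_pcore hM.mem hU).trans (pcore_le_core2 _ _ _)).trans hLN)) hLN

theorem exists_W (hT : Mem p A θ T) (hTr : IsPi {r} T) (h1 : T ≠ ⊥) :
    ∃ W N, MinNml W (HN p A θ (thompsonSubgroupOf r T) ⊔ A) ∧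
      W ≤ omegaOne r Z[thompsonSubgroupOf r T] ∧ MaxM p A θ N ∧
      ∀ K, Mem p A θ K → K ≤ N[W] → K ≤ N := by
  have := Fact.mk h.prime
  have hJr := (hTr.of_le (H12.J_le (p := r) T)).isPGroup h.prime
  obtain ⟨W, hmin, hW⟩ := exists_minNml (A := HN p A θ (thompsonSubgroupOf r T) ⊔ A)
    (H12.omega_center_ne_bot hJr (H12.J_ne_bot (hTr.isPGroup h.prime) h1))
    ((sup_le HN_le (hT.inv.trans (H12.normalizer_le_normalizer_J _))).trans
      (H12.normalizer_le_normalizer_omega_center _))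
  obtain ⟨N, hN, hle⟩ := h.ce.exists_maxM_norm (hT.of_le (hW.trans ((H12.omega_le _).trans
    (inf_le_left.trans (H12.J_le T)))) (le_sup_right.trans hmin.norm)) hmin.ne_bot
  exact ⟨W, N, hmin, hW, hN, hle⟩

theorem le_of_TQ (hr : r = 2 ∨ (r = 3 ∧ p ≠ 2)) (hc : c ∈ B) (h1 : c ≠ 1) (hM : MaxM p A θ M)
    (hcM : θ c ≤ M) (hP : Mem p A θ P) (hPr : IsPi {r} P) (hRP : O[{r}, M] ≤ P)
    (hCP : sI A θ ≤ N[P]) : P ≤ M := by
  have hU : U ≤ M := (h.le_theta hc h1).trans hcM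
  have hR1 := h.pcore_ne_bot hM.mem hU
  have hT := hP.inf hM.mem
  have hRT : O[{r}, M] ≤ P ⊓ M := le_inf hRP (pcore_le _ _)
  obtain ⟨W, N, hmin, hW, hN, hle⟩ := h.exists_W hO hT (hPr.inf_left _) (ne_bot_of_le hR1 hRT)
  have e := h.eq_of_TQ hO hr hc h1 hM hcM (hPr.inf_left _) hRT inf_le_right hT.inv
    (norm_inf hCP (norm_of_le ((sigInf_le (h.line.le hc) h1).trans hcM))) hmin hW hN hle
  subst e
  have h2 : P ⊓ N = P := (hPr.nil h.prime).eq_of_norm_le inf_le_left (le_inf inf_le_left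
    (hle _ (hP.infN hT.inv) (((hP.infN hT.inv).le_HN (inf_le_right.trans
      (H12.normalizer_le_normalizer_J _))).trans (le_sup_left.trans hmin.norm))))
  exact h2.ge.trans inf_le_right

theorem eq_of_small (hr : r = 2 ∨ (r = 3 ∧ p ≠ 2)) {M' : Subgroup G} {c' : G} (hc : c ∈ B)
    (h1 : c ≠ 1) (hM : MaxM p A θ M) (hcM : θ c ≤ M) (hc' : c' ∈ B) (h1' : c' ≠ 1)
    (hM' : MaxM p A θ M') (hcM' : θ c' ≤ M') : M = M' := by
  have hC : sI A θ ≤ M := (sigInf_le (h.line.le hc) h1).trans hcM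
  have hC' : sI A θ ≤ M' := (sigInf_le (h.line.le hc') h1').trans hcM'
  obtain ⟨hX, hXr⟩ := h.ce.mem_XP_prime h.prime
  have hPX : O[{r}, M] ⊔ O[{r}, M'] ≤ XP p A θ {r} :=
    sup_le (hM.mem.pcore_le_XP (norm_of_le hC) _) (hM'.mem.pcore_le_XP (norm_of_le hC') _)
  have hP := hX.of_le hPX (norm_sup (hM.mem.pcore _).inv (hM'.mem.pcore _).inv)
  have hPr := hXr.of_le hPX
  have hCP : sI A θ ≤ N[O[{r}, M] ⊔ O[{r}, M']] :=
    norm_sup (hC.trans (pcore_nml _ _).norm) (hC'.trans (pcore_nml _ _).norm)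
  have k := h.le_of_TQ hO hr hc h1 hM hcM hP hPr le_sup_left hCP
  have k' := h.le_of_TQ hO hr hc' h1' hM' hcM' hP hPr le_sup_right hCP
  obtain ⟨W, N, hmin, hW, hN, hle⟩ := h.exists_W hO hP hPr
    (ne_bot_of_le (h.pcore_ne_bot hM.mem ((h.le_theta hc h1).trans hcM)) le_sup_left)
  rw [← h.eq_of_TQ hO hr hc h1 hM hcM hPr le_sup_left k hP.inv hCP hmin hW hN hle,
    ← h.eq_of_TQ hO hr hc' h1' hM' hcM' hPr le_sup_right k' hP.inv hCP hmin hW hN hle]

theorem false_of_constrained : False := by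
  obtain ⟨c, hc, h1⟩ := exists_ne_one (h.ce.line_ne_bot h.line)
  obtain ⟨M, hM, hcM⟩ := exists_maxM (h.ce.mem (h.line.le hc) h1)
  refine h.ce.false_of_le h.line.le (h.ce.line_h2 h.line) hM.mem fun c' hc' h1' => ?_
  obtain ⟨M', hM', hcM'⟩ := exists_maxM (h.ce.mem (h.line.le hc') h1')
  suffices M = M' from this ▸ hcM'
  by_cases hr : r = 2 ∨ (r = 3 ∧ p ≠ 2)
  · exact h.eq_of_small hO hr hc h1 hM hcM hc' h1' hM' hcM'
  · refine h.eq_of_stable hO ?_ hM ((h.le_theta hc h1).trans hcM)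
      ((sigInf_le (h.line.le hc) h1).trans hcM) hM' ((h.le_theta hc' h1').trans hcM')
    push Not at hr
    by_cases h3 : r = 3
    · exact Or.inr ⟨hr.1, hr.2 h3⟩
    · exact Or.inl (h.prime.five_le_of_ne_two_of_ne_three hr.1 h3)

end Univ

end H23
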