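import Mathlib
import Cfsg.Agent.H23.SigCU

/-! # There is no minimal incomplete solvable signalizer functor -/

set_option autoImplicit false
set_option linter.unusedSectionVars false
set_option linter.unusedVariables false

namespace H23

open Cfsg H24 Subgroup H26
open H25 hiding abl_iff cyc_zpowers cyc_bot exists_prime_dvd_card
open scoped commutatorElement

universe u

variable {G : Type u} [Group G] [Finite G]
variable {p q r s t : ℕ} {π : Set ℕ} {A B D H K L M N P Q R S T U V W X Y : Subgroup G}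
  {θ : G → Subgroup G} {a b c d : G}

local notation "sI" => signalizerInf

theorem Univ.false_of_ne_two (h : Univ p A θ r B U) (hr : r ≠ 2) : False := by
  set U' : Subgroup G := ⨅ c : {c // c ∈ B ∧ c ≠ 1}, O[{r}, θ c.1] with hU'
  have h' : Univ p A θ r B U' :=
    ⟨h.ce, h.line, h.prime,
      norm_iInf fun c => ((h.ce.mem (h.line.le c.2.1) c.2.2).pcore _).inv,
      ne_bot_of_le h.ne (le_iInf fun c => h.le _ c.2.1 c.2.2),
      fun c hc h1 => iInf_le (fun c : {c // c ∈ B ∧ c ≠ 1} => O[{r}, θ c.1]) ⟨c, hc, h1⟩⟩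
  rcases h'.big_or with ⟨N, hN⟩ | hO
  · exact hN.false_of_odd hr (hN.le_of _ (h.ce.sf.mem_sigInf h.line.le (h.ce.line_ne_bot h.line))
      (norm_iInf fun c => (sigInf_le c.2.1 c.2.2).trans (pcore_nml _ _).norm))
  · exact h'.false_of_constrained hO

theorem CE.exists_univ (h : CE p A θ) (hs : s.Prime) (hb : b ∈ A) (h1 : b ≠ 1)
    (hP : Mem p A θ P) (hPs : IsPi {s} P) (hn : θ b ≤ N[P]) (ho : s ≠ 2 ∨ Abl P)
    (hne : ¬ P ≤ C{b}) : ∃ B, Univ p A θ s B ⁅P ⊓ C[B], zpowers b⁆ := by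
  obtain ⟨B, hB, hn'⟩ := h.exists_line hP.inv hP.pi hne
  refine ⟨B, h, hB, hs, norm_comm (norm_inf hP.inv (h.sf.norm_C hB.le))
    (norm_zpowers_of_cent (h.sf.le_C1 hb)), fun h0 => hn' (le_C1_iff_comm.2 h0), fun c hc hc1 => ?_⟩
  have hm := h.mem (hB.le hc) hc1
  refine (comm_mono_left (le_inf inf_le_left
    ((inf_le_inf_left _ (C_le_C1 hc)).trans (hP.le c (hB.le hc) hc1)))).trans ?_
  exact comm_le_pcore h.prime hs (h.pow hb) hm.sol hm.pi (hm.inv hb) inf_le_right (hPs.inf_left _)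
    (ho.imp id fun h => h.of_le inf_le_left) ((hP.inf hm).inv hb)
    (norm_inf ((hm.le b hb h1).trans hn) (norm_of_le inf_le_left))

theorem CE.pcore_le_C1 (h : CE p A θ) (hs : s.Prime) (hs2 : s ≠ 2) (hb : b ∈ A) (h1 : b ≠ 1)
    (hM : Mem p A θ M) (hbM : θ b ≤ M) : O[{s}, M] ≤ C{b} := by
  by_contra hne
  obtain ⟨B, hB⟩ := h.exists_univ hs hb h1 (hM.pcore _) (pcore_pi _ _)
    (hbM.trans (pcore_nml _ _).norm) (Or.inl hs2) hne
  exact hB.false_of_ne_two hs2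

theorem Big.le_C1_of_ne (h : Big p A θ 2 B U N) (ht : t.Prime) (ht2 : t ≠ 2) (ha : a ∈ A)
    (h1 : a ≠ 1) (hU : U ≤ θ a) (hne : ¬ O[{t}, N] ⊓ C{a} ≤ ⊥) : O[{t}, N] ≤ C{a} := by
  obtain ⟨M, hM, haM⟩ := exists_maxM (h.ce.mem ha h1)
  exact (h.cent_or_fpf hM (hU.trans haM) ha h1 haM ht ht2
    (h.ce.pcore_le_C1 ht ht2 ha h1 hM.mem haM)).resolve_right fun h0 => hne h0.le

theorem Univ.false_of_cent (h : Univ p A θ 2 B U) (hc : U ≤ C[A]) : False := by
  rcases h.big_or with ⟨N, hN⟩ | hO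
  · refine hN.false_of_lines fun t ht ht2 h1 => ?_
    have hm := hN.max.mem.pcore {t}
    obtain ⟨D, hD, hne⟩ := h.ce.exists_line (L := ⊥) hm.inv hm.pi fun h0 => h1 (le_bot_iff.1 h0)
    refine ⟨D, hD.le, h.ce.line_h2 hD, le_C_of_forall fun d hd hd1 => ?_⟩
    exact hN.le_C1_of_ne ht ht2 (hD.le hd) hd1
      (h.mem.le_of_cent (hD.le hd) hd1 (hc.trans (C_le_C1 (hD.le hd))))
      fun h0 => hne ((inf_le_inf_left _ (C_le_C1 hd)).trans h0)
  · exact h.false_of_constrained hO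

theorem CE.le_C1_of_abl (h : CE p A θ) (hb : b ∈ A) (h1 : b ≠ 1) (hP : Mem p A θ P)
    (hP2 : IsPi {2} P) (hn : θ b ≤ N[P]) (ha : Abl P) : P ≤ C{b} := by
  by_contra hne
  obtain ⟨B, hB⟩ := h.exists_univ Nat.prime_two hb h1 hP hP2 hn (Or.inr ha) hne
  have hUP : ⁅P ⊓ C[B], zpowers b⁆ ≤ P :=
    (comm_mono_left inf_le_left).trans (comm_le_left (zp_le (hP.inv hb)))
  rcases hB.big_or with ⟨N, hN⟩ | hO
  · have hPN : P ≤ N := hN.le_of_cent hP (ha.cents le_rfl hUP)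
    have hbN : θ b ≤ N := hN.good hb h1 Nat.prime_two hP2 hPN hP.inv hn (Or.inr ha)
      (ha.norm hUP (comm_le_left (zp_le (hP.inv hb)))) hne
    have hbB : b ∉ B := fun hbB => hB.ne (le_C1_iff_comm.1 (inf_le_right.trans (C_le_C1 hbB)))
    refine hN.false_of_lines fun t ht ht2 h0 => ?_
    have hm := hN.max.mem.pcore {t}
    obtain ⟨c, hc, hc1, hne'⟩ := h.exists_cent1 (L := ⊥) hB.line (hB.line.le.trans hm.inv) hm.pi
      fun h2 => h0 (le_bot_iff.1 h2)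
    have hcA := hB.line.le hc
    refine ⟨zpowers b ⊔ zpowers c, sup_le (zp_le hb) (zp_le hcA), ?_, cents_sup ?_ ?_⟩
    · rw [card_sup_of_inf (h.sf.abl.norm (zp_le hcA) (zp_le hb))
        (inf_eq_bot_of_card_prime h.prime (card_zp h.prime (h.pow hb) h1)
          fun h2 => hbB ((h2.trans (zp_le hc)) (mem_zpowers b))),
        card_zp h.prime (h.pow hb) h1, card_zp h.prime (h.pow hcA) hc1, sq]
    · rw [C_zpowers]; exact h.pcore_le_C1 ht ht2 hb h1 hN.max.mem hbN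
    · rw [C_zpowers]; exact hN.le_C1_of_ne ht ht2 hcA hc1 (hB.le_theta hc hc1) hne'
  · exact hB.false_of_constrained hO

theorem CE.pcore_two_ne_bot (h : CE p A θ) (ha : a ∈ A) (h1 : a ≠ 1) (hM : MaxM p A θ M)
    (haM : θ a ≤ M) : O[{2}, M] ≠ ⊥ := by
  obtain ⟨s, hs, hne⟩ := h.exists_pcore_not_le ha h1 hM
  by_cases hs2 : s = 2
  · subst hs2
    exact fun h0 => hne (h0 ▸ bot_le)
  · exact absurd (h.pcore_le_C1 hs hs2 ha h1 hM.mem haM) hne

theorem MaxQ.center_le_Opp (h : CE p A θ) (hq : q.Prime) (hS : MaxQ p A θ q S)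
    (hH : Mem p A θ H) (hC : sI A θ ≤ H) (hZ : Z[S] ≤ H) : Z[S] ≤ Opp q H :=
  le_Opp_of_cent_syl hq hH.sol (hS.syl_of_norm h.sf h.h3 hq hH (norm_of_le hC)) hZ
    (inf_le_right.trans (C_anti inf_le_left))

theorem MaxQ.center_le_C (h : CE p A θ) (hS : MaxQ p A θ 2 S) : Z[S] ≤ C[A] := by
  refine le_C_of_forall fun a ha h1 => ?_
  obtain ⟨M, hM, haM⟩ := exists_maxM (h.mem ha h1)
  have hC : sI A θ ≤ M := (sigInf_le ha h1).trans haM
  have hR := hM.mem.pcore {2}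
  have hRS : O[{2}, M] ≤ S := hS.le_of_norm h Nat.prime_two hR (pcore_pi _ _)
    (hC.trans (pcore_nml _ _).norm)
  have hZ := hS.mem.center
  have hZR : Z[S] ≤ C[O[{2}, M]] := inf_le_right.trans (C_anti hRS)
  have hZM : Z[S] ≤ M := h.le_of_pcore hM (h.pcore_two_ne_bot ha h1 hM haM) hZ (norm_of_cent hZR)
  have hZ1 : ⁅Z[S], zpowers a⁆ ≤ Z[S] := comm_le_left (zp_le (hZ.inv ha))
  have haY : zpowers a ≤ C[O[{2}ᶜ, M]] := cent_compl_of_forall hM.mem.sol (zp_le (hM.mem.inv ha))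
    ((hM.mem.pcore _).cop h.sf (zp_le ha)) fun t ht ht2 =>
      le_C1_iff.1 (h.pcore_le_C1 ht ht2 ha h1 hM.mem haM)
  have h2 : ⁅Z[S], zpowers a⁆ ≤ O[{2}, M] := le_pcore_of_le_Opp_cent Nat.prime_two
    (hZ1.trans (hS.center_le_Opp h Nat.prime_two hM.mem hC hZM))
    (hS.pi.of_le (hZ1.trans inf_le_left))
    (comm_le_C_of_right (hZM.trans (pcore_nml _ _).norm) haY)
  refine le_C1_of_comm_le h.prime (h.pow ha) hZ.pi (hZ.inv ha) ?_
  refine (le_inf h2 (hZ1.trans hZR)).trans ?_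
  exact h.le_C1_of_abl ha h1 hR.center ((pcore_pi _ _).inf_left _)
    (norm_Z (haM.trans (pcore_nml _ _).norm)) (abl_center _)

theorem MaxQ.center_le_sI (h : CE p A θ) (hS : MaxQ p A θ 2 S) : Z[S] ≤ sI A θ :=
  (le_inf le_rfl (hS.center_le_C h)).trans (hS.mem.center.inf_C_le le_rfl)

theorem MaxQ.norm_comm_XP (h : CE p A θ) (hS : MaxQ p A θ 2 S) (hX : Mem p A θ (XP p A θ {2}ᶜ))
    (hX2 : IsPi {2}ᶜ (XP p A θ {2}ᶜ)) : S ≤ N[⁅XP p A θ {2}ᶜ, Z[S]⁆] := by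
  refine h.le_of_line hS.mem.inv hS.mem.pi fun B hB => ?_
  have hZC := hS.center_le_sI h
  have hZ2 : IsPi {2} Z[S] := hS.pi.inf_left _
  have e : ⁅XP p A θ {2}ᶜ, Z[S]⁆ = ⨆ c : {c // c ∈ B ∧ c ≠ 1}, ⁅O[{2}ᶜ, θ c.1], Z[S]⁆ := by
    refine le_antisymm ?_ (iSup_le fun c => comm_mono_left
      ((h.mem (hB.le c.2.1) c.2.2).pcore_le_XP (norm_of_le (sigInf_le (hB.le c.2.1) c.2.2)) _))
    refine comm_le_of_cent1 h.prime (h.ea.mono hB.le) (h.line_h2 hB) hX.pi (hB.le.trans hX.inv)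
      ((hS.center_le_C h).trans (C_anti hB.le)) (hZC.trans norm_XP) (hX2.coprime' hZ2)
      (Or.inl hX.sol) fun c hc h1 => ?_
    have hcA := hB.le hc
    have hm := h.mem hcA h1
    have hC : sI A θ ≤ θ c := sigInf_le hcA h1
    have hn : Z[S] ≤ N[XP p A θ {2}ᶜ ⊓ C{c}] := norm_inf (hZC.trans norm_XP)
      (norm_C1 ((hS.center_le_C h).trans (C_le_C1 hcA)))
    have h2 : ⁅XP p A θ {2}ᶜ ⊓ C{c}, Z[S]⁆ ≤ O[{2}ᶜ, θ c] := le_pcore_of_le_Opp
      ((comm_mono_right (hS.center_le_Opp h Nat.prime_two hm hC (hZC.trans hC))).trans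
        (comm_le_right ((hX.le c hcA h1).trans (core2_nml _ _ _).norm)))
      (hX2.of_le ((comm_le_left hn).trans inf_le_left))
    rw [← coprime_commGid hn ((hX2.inf_left _).coprime' hZ2) (hX.sol.of_le inf_le_left)]
    exact (comm_mono_left h2).trans
      (le_iSup (fun c : {c // c ∈ B ∧ c ≠ 1} => ⁅O[{2}ᶜ, θ c.1], Z[S]⁆) ⟨c, hc, h1⟩)
  rw [e]
  exact norm_iSup fun c => norm_comm
    (((inf_le_inf_left _ (C_le_C1 c.2.1)).trans (hS.mem.le _ (hB.le c.2.1) c.2.2)).trans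
      (pcore_nml _ _).norm) (inf_le_left.trans (center_nml S).norm)

theorem CE.false (h : CE p A θ) : False := by
  obtain ⟨a, ha, h1⟩ := exists_ne_one h.ne_bot
  obtain ⟨M, hM, haM⟩ := exists_maxM (h.mem ha h1)
  obtain ⟨S, hS, hRS⟩ := exists_maxQ (hM.mem.pcore {2}) (pcore_pi _ _)
  have hS1 : S ≠ ⊥ := ne_bot_of_le (h.pcore_two_ne_bot ha h1 hM haM) hRS
  obtain ⟨hX, hX2⟩ := h.mem_XP_compl hS.mem hS.pi hS1
  set X := XP p A θ {2}ᶜ with hXd
  set J : Subgroup G := ⨆ S : {S // MaxQ p A θ 2 S}, ⁅X, Z[S.1]⁆ with hJ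
  have hle : ∀ S, MaxQ p A θ 2 S → ⁅X, Z[S]⁆ ≤ J := fun S hS =>
    le_iSup (fun S : {S // MaxQ p A θ 2 S} => ⁅X, Z[S.1]⁆) ⟨S, hS⟩
  by_cases hJ0 : J = ⊥
  · obtain ⟨B, hB, -⟩ := h.exists_line (L := ⊥) hS.mem.inv hS.mem.pi fun h0 => hS1 (le_bot_iff.1 h0)
    have hU : Univ p A θ 2 B Z[S] := ⟨h, hB, Nat.prime_two, hS.mem.center.inv,
      (hS.pi.nil Nat.prime_two).center_ne_bot hS1, fun c hc hc1 => by
        have hcA := hB.le hc
        have hm := h.mem hcA hc1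
        have hC : sI A θ ≤ θ c := sigInf_le hcA hc1
        exact le_pcore_of_le_Opp_cent Nat.prime_two
          (hS.center_le_Opp h Nat.prime_two hm hC ((hS.center_le_sI h).trans hC))
          (hS.pi.inf_left _) (cents_of_le (comm_eq_bot'.1 (eq_bot_of_le hJ0 (hle S hS)))
            (hm.pcore_le_XP (norm_of_le hC) _))⟩
    exact hU.false_of_cent (hS.center_le_C h)
  have hJX : J ≤ X := iSup_le fun S => comm_le_left ((S.2.center_le_sI h).trans norm_XP)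
  have hJm : Mem p A θ J := hX.of_le hJX (norm_iSup fun S => norm_comm hX.inv S.2.mem.center.inv)
  obtain ⟨N, hN, hNle⟩ := h.exists_maxM_norm hJm hJ0
  have hXN : X ≤ N := hNle _ hX (norm_iSup fun S => norm_comm_left _ _)
  have hCN : sI A θ ≤ N := hNle _ h.memC fun x hx => mem_N_of_cj_le (cj_le_iff.2 (iSup_le fun S =>
    cj_le_iff.1 (by
      rw [cj_comm, cj_of_mem_N (norm_XP hx), cj_inf, cj_C]
      exact hle _ (S.2.conj h.sf hx))))
  have hXs : ∀ s, s.Prime → XP p A θ {s} ≤ N := fun s hs => by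
    obtain ⟨h2, h3⟩ := h.mem_XP_prime hs
    by_cases hs2 : s = 2
    · subst hs2
      exact hNle _ h2 (norm_iSup fun S =>
        (S.2.le_of_norm h hs h2 h3 norm_XP).trans (S.2.norm_comm_XP h hX hX2))
    · exact (h2.le_XP (h3.compl_of_ne hs2) norm_XP).trans hXN
  have hO : O[{2}ᶜ, N] ≠ ⊥ := fun h0 => hJ0 (le_bot_iff.1 (iSup_le fun S => by
    have h2 := S.2.center_le_Opp h Nat.prime_two hN.mem hCN ((S.2.center_le_sI h).trans hCN)
    rw [Opp, core2_of_pcore_eq_bot _ h0] at h2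
    rw [← hX2.inf_eq_bot' (pcore_pi {2} N)]
    exact le_inf (comm_le_left ((S.2.center_le_sI h).trans norm_XP))
      ((comm_mono_right h2).trans (comm_le_right (hXN.trans (pcore_nml _ _).norm)))))
  obtain ⟨t, ht, ht1⟩ := exists_pcore_ne_bot (hN.mem.sol.of_le (pcore_le _ _)) hO
  have ht2 : t ≠ 2 := by
    rintro rfl
    exact ht1 (pcore_pi {2}ᶜ N).pcore_eq_bot
  rw [pcore_pcore_compl ht2] at ht1
  obtain ⟨hXt, hXt'⟩ := h.mem_XP_prime ht
  have hV := (hN.mem.pcore {t}).infC hXt.inv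
  have hV1 : O[{t}, N] ⊓ C[XP p A θ {t}] ≠ ⊥ :=
    hXt'.inf_C_ne_bot ht (pcore_pi _ _) ((hXs t ht).trans (pcore_nml _ _).norm) ht1
  obtain ⟨B, hB, hne⟩ := h.exists_line (L := ⊥) hV.inv hV.pi fun h0 => hV1 (le_bot_iff.1 h0)
  have hU : Univ p A θ t B (O[{t}, N] ⊓ C[XP p A θ {t}] ⊓ C[B]) :=
    ⟨h, hB, ht, norm_inf hV.inv (h.sf.norm_C hB.le), fun h0 => hne h0.le, fun c hc hc1 => by
      have hcA := hB.le hc
      have hm := h.mem hcA hc1
      have hC : sI A θ ≤ θ c := sigInf_le hcA hc1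
      have hUc := (inf_le_inf_left _ (C_le_C1 hc)).trans (hV.le c hcA hc1)
      refine le_pcore_of_forall hm.sol hUc (((pcore_pi _ _).inf_left _).inf_left _)
        fun s hs => ?_
      have h2 : O[{s}, θ c] ≤ XP p A θ {s} := hm.pcore_le_XP (norm_of_le hC) _
      by_cases hst : s = t
      · subst hst
        exact inf_le_left.trans (inf_le_right.trans (C_anti h2))
      · rw [← comm_eq_bot, eq_bot_iff,
          ← inf_eq_bot_of_cop ((pcore_pi {t} N).coprime_of_ne (pcore_pi {s} (θ c)) (Ne.symm hst))]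
        exact le_inf ((comm_mono_left (inf_le_left.trans inf_le_left)).trans
          (comm_le_left ((h2.trans (hXs s hs)).trans (pcore_nml _ _).norm)))
          (comm_le_right (hUc.trans (pcore_nml _ _).norm))⟩
  exact hU.false_of_ne_two ht2

end H23
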