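import Mathlib
import Cfsg.Agent.H23.SigF

/-! # The solvable signalizer functor theorem -/

set_option autoImplicit false
set_option linter.unusedSectionVars false
set_option linter.unusedVariables false

namespace H23

open Cfsg H24 Subgroup H26
open H25 hiding abl_iff cyc_zpowers cyc_bot exists_prime_dvd_card
open scoped commutatorElement

universe u

variable {G : Type u} [Group G] [Finite G]
variable {p : ℕ} {A M U : Subgroup G} {θ : G → Subgroup G} {a b : G}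

/-- the pairs counted in the induction -/
def pairs (A : Subgroup G) (θ : G → Subgroup G) : Set (G × G) :=
  {z | z.1 ∈ A ∧ z.1 ≠ 1 ∧ z.2 ∈ θ z.1}

/-- the functor induced on `N(U)/U` -/
def thetaQ (A : Subgroup G) (θ : G → Subgroup G) (U : Subgroup G) (x : QN U) : Subgroup (QN U) :=
  ⨆ a : {a // a ∈ A ∧ cs U a = x}, quo (θ a.1) U

theorem Mem.cs_inj (hθ : SF p A θ) (hU : Mem p A θ U) (ha : a ∈ A) (hb : b ∈ A)
    (h : cs U a = cs U b) : a = b := by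
  have h1 := (cs_eq_cs (hU.inv ha) (hU.inv hb)).1 h
  have h2 : a⁻¹ * b ∈ A ⊓ U := ⟨A.mul_mem (A.inv_mem ha) hb, h1⟩
  rw [hθ.piA.inf_eq_bot hU.pi, mem_bot] at h2
  exact (inv_mul_eq_one.1 h2)

theorem Mem.thetaQ_cs (hθ : SF p A θ) (hU : Mem p A θ U) (ha : a ∈ A) :
    thetaQ A θ U (cs U a) = quo (θ a) U :=
  le_antisymm (iSup_le fun b => by rw [hU.cs_inj hθ b.2.1 ha b.2.2])
    (le_iSup (fun b : {b // b ∈ A ∧ cs U b = cs U a} => quo (θ b.1) U) ⟨a, ha, rfl⟩)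

theorem Mem.cs_ne_one (hθ : SF p A θ) (hU : Mem p A θ U) (ha : a ∈ A) (h1 : a ≠ 1) :
    cs U a ≠ 1 := fun h => h1 (hU.cs_inj hθ ha A.one_mem (h.trans (ap_one _).symm))

theorem exists_of_mem_quo {x : QN U} (hx : x ∈ quo A U) (h1 : x ≠ 1) :
    ∃ a ∈ A, a ≠ 1 ∧ cs U a = x := by
  obtain ⟨a, ha, -, rfl⟩ := mem_quo.1 hx
  exact ⟨a, ha, fun h => h1 (by rw [h]; exact ap_one _), rfl⟩

theorem Mem.sf_quo (hθ : SF p A θ) (hU : Mem p A θ U) (hn : ∀ a ∈ A, a ≠ 1 → θ a ≤ N[U]) :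
    SF p (quo A U) (thetaQ A θ U) := by
  refine ⟨hθ.prime, hθ.ea.img _, fun x hx h1 => ?_, fun x hx h1 => ?_, fun x hx h1 => ?_,
    fun x hx h1 y hy h1' => ?_, fun x hx h1 => ?_⟩ <;>
    obtain ⟨a, ha, ha1, rfl⟩ := exists_of_mem_quo hx h1 <;> rw [hU.thetaQ_cs hθ ha]
  · exact img_cent1 _ (hθ.cent a ha ha1) (hU.inv ha)
  · exact (hθ.pi a ha ha1).quo _
  · exact quo_norm _ (hθ.inv a ha ha1)
  · obtain ⟨b, hb, hb1, rfl⟩ := exists_of_mem_quo hy h1'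
    rw [hU.thetaQ_cs hθ hb, ← coprime_quo_cent1 (hθ.inv a ha ha1 hb) (hU.inv hb) (hn a ha ha1)
      (by rw [← card_zpowers']; exact hU.cop hθ (zp_le hb))]
    exact quo_mono _ (hθ.bal a ha ha1 b hb hb1)
  · exact (hθ.sol a ha ha1).quo _

theorem Mem.cmp_of_quo (hθ : SF p A θ) (hU : Mem p A θ U) (hn : ∀ a ∈ A, a ≠ 1 → θ a ≤ N[U])
    (h : Cmp p (quo A U) (thetaQ A θ U)) : Cmp p A θ := by
  obtain ⟨M, hM, hle⟩ := h
  refine ⟨coq U M, ⟨hU.sol.coq hM.sol, hU.pi.coq hM.pi, norm_coq hU.inv hM.inv,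
    fun a ha h1 => ?_⟩, fun a ha h1 => ?_⟩
  · have h2 := hM.le _ (cs_mem_quo ha (hU.inv ha)) (hU.cs_ne_one hθ ha h1)
    rw [hU.thetaQ_cs hθ ha] at h2
    have h3 : coq U M ⊓ C{a} ≤ θ a ⊔ U := by
      rw [← quo_le_quo_iff (inf_le_left.trans (coq_le_N _)) (hn a ha h1)]
      refine le_trans (le_inf ?_ (img_cent1 _ inf_le_right (hU.inv ha))) h2
      exact (quo_mono _ inf_le_left).trans (quo_coq M).le
    refine (le_inf h3 inf_le_right).trans ?_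
    rw [← group_modl' (hn a ha h1) (hθ.cent a ha h1)]
    exact sup_le le_rfl (hU.le a ha h1)
  · have h2 := hle _ (cs_mem_quo ha (hU.inv ha)) (hU.cs_ne_one hθ ha h1)
    rw [hU.thetaQ_cs hθ ha] at h2
    exact (quo_le_iff (hn a ha h1)).1 h2

theorem Mem.ncard_quo_lt (hθ : SF p A θ) (h2 : p ^ 2 ≤ ♯A) (hU : Mem p A θ U) (h1 : U ≠ ⊥) :
    (pairs (quo A U) (thetaQ A θ U)).ncard < (pairs A θ).ncard := by
  have : ∃ a ∈ A, a ≠ 1 ∧ ¬ U ⊓ θ a ≤ ⊥ := by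
    by_contra h0
    push Not at h0
    exact h1 (le_bot_iff.1 (hU.le_of_theta hθ le_rfl h2 h0))
  obtain ⟨a, ha, ha1, hne⟩ := this
  obtain ⟨u, hu, hu1⟩ := exists_ne_one fun h0 => hne h0.le
  have hs : pairs (quo A U) (thetaQ A θ U) ⊆
      (fun z : G × G => (cs U z.1, cs U z.2)) '' (pairs A θ \ {(a, u)}) := by
    rintro ⟨x, y⟩ ⟨hx, hx1, hy⟩
    obtain ⟨b, hb, hb1, rfl⟩ := exists_of_mem_quo hx hx1
    rw [hU.thetaQ_cs hθ hb] at hy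
    obtain ⟨z, hz, -, rfl⟩ := mem_quo.1 hy
    by_cases e : (b, z) = (a, u)
    · obtain ⟨rfl, rfl⟩ := Prod.mk.inj e
      refine ⟨(b, 1), ⟨⟨hb, hb1, one_mem _⟩, fun h => hu1 (Prod.mk.inj h).2.symm⟩, ?_⟩
      simp only [cs_of_mem hu.1, cs_of_mem U.one_mem]
    · exact ⟨(b, z), ⟨⟨hb, hb1, hz⟩, e⟩, rfl⟩
  refine lt_of_le_of_lt ((Set.ncard_le_ncard hs).trans (Set.ncard_image_le (Set.toFinite _))) ?_
  exact Set.ncard_sdiff_singleton_lt_of_mem ⟨ha, ha1, hu.2⟩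

theorem cmp_three (p : ℕ) (n : ℕ) : ∀ (G : Type u) [Group G] [Finite G] (A : Subgroup G)
    (θ : G → Subgroup G), (pairs A θ).ncard = n → SF p A θ → ♯A = p ^ 3 → Cmp p A θ := by
  induction n using Nat.strong_induction_on with
  | _ n ih =>
  intro G _ _ A θ hn hθ hc
  by_contra inc
  refine CE.false ⟨hθ, hc, fun θ' h' hle ⟨a, ha, h1, hne⟩ => ?_, fun U hU h1 => ?_, inc⟩
  · refine ih _ ?_ G A θ' rfl h' hc
    rw [← hn]
    obtain ⟨x, hx, hx'⟩ := SetLike.not_le_iff_exists.1 hne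
    exact Set.ncard_lt_ncard ⟨fun z hz => ⟨hz.1, hz.2.1, hle _ hz.1 hz.2.1 hz.2.2⟩,
      fun hs => hx' (hs (show (a, x) ∈ pairs A θ from ⟨ha, h1, hx⟩)).2.2⟩
  · by_contra h0
    push Not at h0
    refine inc (hU.cmp_of_quo hθ h0 (ih _ ?_ _ _ _ rfl (hU.sf_quo hθ h0) ?_))
    · rw [← hn]
      exact hU.ncard_quo_lt hθ ((Nat.pow_le_pow_right hθ.prime.pos (by norm_num)).trans hc.ge) h1
    · rw [card_quo_of_inf hU.inv (hU.pi.inf_eq_bot' hθ.piA), hc]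

/-- **The solvable signalizer functor theorem.** -/
theorem ssft (hθ : SF p A θ) (h3 : p ^ 3 ≤ ♯A) :
    ∃ M, Mem p A θ M ∧ ∀ a ∈ A, a ≠ 1 → θ a ≤ M := by
  obtain ⟨n, hn⟩ := hθ.ea.exists_card hθ.prime
  obtain ⟨B, hB, hc⟩ := exists_le_card_pow (H := A) (n := 3) hθ.prime
    (hn ▸ pow_dvd_pow _ ((Nat.pow_le_pow_iff_right hθ.prime.one_lt).1 (hn ▸ h3)))
  obtain ⟨M, hM, hle⟩ := cmp_three p _ G B θ rfl (hθ.mono hB) hc
  have h2 : p ^ 2 ≤ ♯B := (Nat.pow_le_pow_right hθ.prime.pos (by norm_num)).trans hc.ge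
  set J : Subgroup G := ⨆ a : {a // a ∈ B ∧ a ≠ 1}, θ a.1 with hJ
  have hJM : J ≤ M := iSup_le fun a => hle _ a.2.1 a.2.2
  have hAJ : A ≤ N[J] := norm_iSup fun a => hθ.inv _ (hB a.2.1) a.2.2
  refine ⟨J, ⟨hM.sol.of_le hJM, hM.pi.of_le hJM, hAJ, fun b hb h1 => ?_⟩, fun b hb h1 => ?_⟩
  · refine le_of_cent1 hθ.prime (hθ.ea.mono hB) h2 (hB.trans (norm_inf hAJ (hθ.norm_C1 hb)))
      ((hM.pi.of_le hJM).inf_left _) fun a ha ha1 => ?_
    refine le_trans (le_inf ?_ (inf_le_left.trans inf_le_right)) (hθ.bal a (hB ha) ha1 b hb h1)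
    exact (inf_le_inf_right _ (inf_le_left.trans hJM)).trans (hM.le a ha ha1)
  · exact (hθ.mem hb h1).le_of_theta' hθ hB h2 fun a ha ha1 =>
      le_iSup (fun a : {a // a ∈ B ∧ a ≠ 1} => θ a.1) ⟨a, ha, ha1⟩

end H23
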