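import Mathlib
import Cfsg.Prelude.Def_ClassificationK
import Cfsg.Prelude.Def_LieTypeChar
import Cfsg.Prelude.Def_Spor_Mathieu
import Cfsg.Prelude.Def_Spor_J1
import Cfsg.Prelude.Def_Spor_J2
import Cfsg.Prelude.Def_LieTwisted
import Cfsg.Agent.H2.ZDefs

/-!
# Standard subgroup `L₂(2^a)` with cyclic Sylow `2`-subgroups in its centraliser: vocabulary
-/

set_option autoImplicit false

namespace H23.L2

open Cfsg H24 Subgroup
open H2.SZ (St DD Goal)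
open scoped MatrixGroups

variable {G : Type*} [Group G] {F : Type*} [Field F] [Fintype F]

/-- Coordinates in a subgroup `L ≅ L₂(q)`, `q = |F|` even, and all facts on `L` and `Aut(L)` that
are used. `φ g` is the field automorphism induced by `g ∈ N(L)`. -/
structure LD (F : Type*) [Field F] [Fintype F] (L : Subgroup G) where
  two : (2 : F) = 0
  four : 4 ≤ Fintype.card F
  z : F → G
  h : Fˣ →* G
  w : G
  φ : G → RingAut F
  z_mem : ∀ b, z b ∈ L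
  h_mem : ∀ k, h k ∈ L
  w_mem : w ∈ L
  z_mul : ∀ a b, z a * z b = z (a + b)
  z_inj : ∀ {a b}, z a = z b → a = b
  h_z : ∀ (k : Fˣ) b, h k * z b * (h k)⁻¹ = z (k * b)
  card : ♯L = Fintype.card F * (Fintype.card F ^ 2 - 1)
  simple : IsSimpleGroup L
  ti : ∀ g ∈ L, ∀ b c, b ≠ 0 → g * z b * g⁻¹ = z c → ∃ a k, g = z a * h k
  bru : ∀ g ∈ L, (∃ a k, g = z a * h k) ∨ ∃ a k b, g = z a * h k * w * z b
  wn : ∀ b c, b ≠ 0 → w * z b * w⁻¹ ≠ z c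
  w_h : ∀ k, w * h k * w⁻¹ = h k⁻¹
  φ_mul : ∀ g ∈ N[L], ∀ g' ∈ N[L], φ (g * g') = φ g * φ g'
  φ_ker : ∀ g ∈ N[L], φ g = 1 ↔ ∃ l ∈ L, ∃ k ∈ C[L], g = l * k
  act : ∀ g ∈ N[L], (∀ b, ∃ c, g * z b * g⁻¹ = z c) →
    ∃ c : F, c ≠ 0 ∧ ∀ b, g * z b * g⁻¹ = z (c * φ g b)

namespace LD
variable {L : Subgroup G} (X : LD F L)

include X in
theorem add_self (x : F) : x + x = 0 := by linear_combination x * X.two
include X in
theorem eq_of_add {x y : F} (h : x + y = 0) : x = y := by linear_combination h - y * X.two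
include X in
theorem charP : CharP F 2 := CharTwo.of_one_ne_zero_of_two_eq_zero one_ne_zero X.two
theorem z_zero : X.z 0 = 1 := by
  have := X.z_mul 0 0
  rw [add_zero] at this
  exact mul_left_cancel (this.trans (mul_one _).symm)
theorem z_sq (a : F) : X.z a * X.z a = 1 := by rw [X.z_mul, X.add_self, X.z_zero]
theorem z_inv (a : F) : (X.z a)⁻¹ = X.z a := inv_eq_of_mul_eq_one_right (X.z_sq a)
theorem z_eq_one {a : F} : X.z a = 1 ↔ a = 0 :=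
  ⟨fun h => X.z_inj (h.trans X.z_zero.symm), fun h => h ▸ X.z_zero⟩
theorem z1 : X.z 1 ≠ 1 := fun e => one_ne_zero (X.z_eq_one.1 e)
theorem z_comm (a b : F) : X.z a * X.z b = X.z b * X.z a := by rw [X.z_mul, X.z_mul, add_comm]
theorem h_comm (k l : Fˣ) : X.h k * X.h l = X.h l * X.h k := by rw [← map_mul, mul_comm, map_mul]
include X in
theorem exists_ne (a b c : F) : ∃ x, x ≠ a ∧ x ≠ b ∧ x ≠ c := by
  classical
  by_contra h
  have : (Finset.univ : Finset F) ⊆ {a, b, c} := fun x _ => by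
    by_contra hx
    exact h ⟨x, by simpa [not_or] using hx⟩
  have h1 := (Finset.card_le_card this).trans Finset.card_le_three
  have := X.four
  rw [Finset.card_univ] at h1
  omega
include X in
theorem exists_unit : ∃ k : Fˣ, k ≠ 1 := by
  obtain ⟨x, h0, h1, -⟩ := X.exists_ne 0 1 1
  exact ⟨Units.mk0 x h0, fun e => h1 (congrArg Units.val e)⟩
/-- the torus is transitive on the non-identity elements of `V` -/
theorem exists_h {a b : F} (ha : a ≠ 0) (hb : b ≠ 0) : ∃ k, X.h k * X.z a * (X.h k)⁻¹ = X.z b :=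
  ⟨Units.mk0 (b / a) (div_ne_zero hb ha), by rw [X.h_z, Units.val_mk0, div_mul_cancel₀ _ ha]⟩

/-- the Sylow `2`-subgroup of `L` -/
def V : Subgroup G where
  carrier := {g | ∃ b, g = X.z b}
  mul_mem' := by rintro _ _ ⟨a, rfl⟩ ⟨c, rfl⟩; exact ⟨_, X.z_mul ..⟩
  one_mem' := ⟨0, X.z_zero.symm⟩
  inv_mem' := by rintro _ ⟨a, rfl⟩; exact ⟨_, X.z_inv _⟩

theorem mem_V {g : G} : g ∈ X.V ↔ ∃ b, g = X.z b := Iff.rfl
theorem z_V (b : F) : X.z b ∈ X.V := ⟨b, rfl⟩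
theorem V_le : X.V ≤ L := by rintro _ ⟨b, rfl⟩; exact X.z_mem b
theorem card_V : ♯X.V = Fintype.card F := by
  rw [← Nat.card_eq_fintype_card]
  exact (Nat.card_congr (Equiv.ofBijective (fun b => (⟨X.z b, X.z_V b⟩ : X.V))
    ⟨fun _ _ e => X.z_inj (congrArg Subtype.val e), by rintro ⟨_, b, rfl⟩; exact ⟨b, rfl⟩⟩)).symm

/-- `E = ⟨t⟩ × V` -/
def E (t : G) : Subgroup G := zpowers t ⊔ X.V

theorem t_E (t : G) : t ∈ X.E t := mem_sup_left (mem_zpowers t)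
theorem V_E (t : G) : X.V ≤ X.E t := le_sup_right

/-- an involution normalising `L` and `V` that induces a field automorphism -/
structure Out (f : G) : Prop where
  nL : f ∈ N[L]
  nV : f ∈ N[X.V]
  sq : f * f = 1
  ne : X.φ f ≠ 1

end LD

/-- the involution `f` acts freely on `A` -/
def Fr (A : Subgroup G) (f : G) : Prop :=
  ♯(A ⊓ C{f}) ^ 2 = ♯A ∧ ∀ a ∈ A, f * a * (f * a) = 1 → ∃ c ∈ A, f * a = c * f * c⁻¹

/-- elementary abelian `2`-subgroup -/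
def El (A : Subgroup G) : Prop := ∀ a ∈ A, a * a = 1

/-- the exceptional groups -/
def Exc (q : ℕ) (H : Type*) [Group H] : Prop :=
  (q = 4 ∧ (Spor.IsoM12 H ∨ Spor.IsoJ1 H ∨ Nonempty (H ≃* alternatingGroup (Fin 7)) ∨
    (∃ (E : Type) (_ : Field E) (_ : Fintype E), Fintype.card E = 25 ∧
      (Nonempty (H ≃* PSL(2, E)) ∨ Nonempty (H ≃* PSU 3 E 5))) ∨
    ∃ (E : Type) (_ : Field E) (_ : Fintype E), Fintype.card E = 5 ∧ Nonempty (H ≃* PSL(3, E)))) ∨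
  (q = 8 ∧ ∃ (E : Type) (_ : Field E) (_ : Fintype E), Fintype.card E = 3 ∧
    Nonempty (H ≃* Lie.chevG2.group E))

/-- the conclusion -/
def Gl (q : ℕ) (G0 : Subgroup G) : Prop := IsLieTypeChar 2 G0 ∨ Exc q G0

/-- `St` with `G = G0⟨t⟩` and cyclic Sylow `2`-subgroups of `C(L)`. -/
structure St2 (L G0 : Subgroup G) (t : G) : Prop extends St L G0 t where
  gen : ∀ g, g ∈ G0 ∨ g * t ∈ G0
  cyc : ∀ R ≤ C[L], IsPi {2} R → IsCyclic R

variable {L : Subgroup G}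

/-- `T` is a Sylow `2`-subgroup of `C(t)` over `V`. -/
structure Lb (X : LD F L) (G0 : Subgroup G) (t : G) (T : Subgroup G) : Prop
    extends St2 L G0 t where
  syl : Syl 2 C{t} T
  V_T : X.V ≤ T

/-- `C(L) ∩ C(t) = ⟨t⟩ × D` with `D` of odd order. -/
structure Lc (X : LD F L) (G0 : Subgroup G) (t : G) (D T : Subgroup G) : Prop
    extends Lb X G0 t T where
  odd : IsPi {2}ᶜ D
  D_L : D ≤ C[L]
  D_t : D ≤ C{t}
  dec : ∀ k ∈ C[L], k * t = t * k → k ∈ D ∨ k * t ∈ D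

/-- the conjugates of `t` in `E` are the elements of `tV`, and `N(E)` moves `t`. -/
structure Lz (X : LD F L) (G0 : Subgroup G) (t : G) (D T : Subgroup G) : Prop
    extends Lc X G0 t D T where
  zn : ∀ b, ¬ DD t (X.z b)
  dd : ∀ b, DD t (t * X.z b)
  mv : ∃ g ∈ N[X.V] ⊓ N[X.E t], g * t * g⁻¹ ≠ t

/-- a level of the tower -/
structure Tw (X : LD F L) (G0 : Subgroup G) (t : G) (D T B : Subgroup G) : Prop
    extends Lz X G0 t D T where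
  pi : IsPi {2} B
  abl : Abl B
  V_B : X.V ≤ B
  om : ∀ b ∈ B, b * b = 1 → b ∈ X.V
  hB : ∀ k, X.h k ∈ N[B]
  TB : T ≤ N[B]
  BD : B ≤ C[D]

/-- `B` is homocyclic of exponent `2 ^ n`; `π` is the coordinate of `B / B²`. -/
structure Th (X : LD F L) (G0 : Subgroup G) (t : G) (D T B : Subgroup G) (n : ℕ) (π : G → F) : Prop
    extends Tw X G0 t D T B where
  pos : 1 ≤ n
  cardB : ♯B = Fintype.card F ^ n
  pw : ∀ b ∈ B, b ^ 2 ^ (n - 1) = X.z (π b)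
  onto : ∀ c, ∃ b ∈ B, π b = c
  ker : ∀ b ∈ B, π b = 0 → ∃ a ∈ B, b = a * a

/-- the group `M = N(B) ∩ N(B⟨t⟩)` -/
def Mx (B : Subgroup G) (t : G) : Subgroup G := N[B] ⊓ N[B ⊔ zpowers t]

/-- the exceptional configuration: `M` induces `GL₃(2)` on `V` and no translations on `tB / B²`. -/
structure Ex (X : LD F L) (G0 : Subgroup G) (t : G) (D T B : Subgroup G) (n : ℕ) (π : G → F) : Prop
    extends Th X G0 t D T B n π where
  q8 : Fintype.card F = 8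
  sur : ∀ α : F ≃+ F, ∃ m ∈ Mx B t, ∀ c, m * X.z c * m⁻¹ = X.z (α c)
  ntr : ∀ m ∈ Mx B t, m ∈ C[X.V] → ∃ c ∈ B, m * t * m⁻¹ = c * t * c⁻¹
  mov : ∃ m ∈ Mx B t, ∀ c ∈ B, m * t * m⁻¹ ≠ c * t * c⁻¹

/-- the next floor `R` of the tower, `R / B ≅ F` via `s`. -/
structure Rz (X : LD F L) (G0 : Subgroup G) (t : G) (D T B : Subgroup G) (n : ℕ) (π : G → F)
    (R : Subgroup G) (s : G → F) : Prop extends Th X G0 t D T B n π where
  piR : IsPi {2} R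
  B_R : B ≤ R
  RB : R ≤ N[B]
  RV : R ≤ C[X.V]
  RD : R ≤ C[D]
  hR : ∀ k, X.h k ∈ N[R]
  TR : T ≤ N[R]
  spec : ∀ r ∈ R, ∃ b ∈ B, r * t * r⁻¹ = t * b ∧ π b = s r
  s_onto : ∀ y, ∃ r ∈ R, s r = y
  s_ker : ∀ r ∈ R, s r = 0 → r ∈ B
  sq : ∀ r ∈ R, r * r ∈ B
  inv : ∀ b ∈ B, t * b * t = b⁻¹

/-- the case of `L₃(q)`, `U₃(q)` -/
structure Fz (X : LD F L) (G0 : Subgroup G) (t : G) (D T B : Subgroup G) (π : G → F)
    (R : Subgroup G) (s : G → F) : Prop extends Rz X G0 t D T B 2 π R s where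
  sqV : ∀ r ∈ R, r * r ∈ X.V
  cb : ∀ r ∈ R, r ∉ B → ∀ b ∈ B, r * b = b * r → b ∈ X.V

/-- the case of `L₂(q²)`: `Q` is elementary abelian of order `q²`. -/
structure C0 (X : LD F L) (G0 : Subgroup G) (t : G) (D T Q : Subgroup G) (s : G → F) : Prop
    extends Lz X G0 t D T where
  el : El Q
  V_Q : X.V ≤ Q
  QD : Q ≤ C[D]
  hQ : ∀ k, X.h k ∈ N[Q]
  TQ : T ≤ N[Q]
  spec : ∀ r ∈ Q, r * t * r⁻¹ = t * X.z (s r)
  s_onto : ∀ y, ∃ r ∈ Q, s r = y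
  s_ker : ∀ r ∈ Q, s r = 0 → r ∈ X.V

/-- the transvection `(x, y) ↦ (x + y, y)` -/
def tau (F : Type*) [Field F] : Equiv.Perm (F × F) where
  toFun p := (p.1 + p.2, p.2)
  invFun p := (p.1 - p.2, p.2)
  left_inv p := by simp
  right_inv p := by simp

/-- the scalars -/
def scal {F : Type*} [Field F] (k : Fˣ) : Equiv.Perm (F × F) where
  toFun p := (k * p.1, k * p.2)
  invFun p := ((k⁻¹ : Fˣ) * p.1, (k⁻¹ : Fˣ) * p.2)
  left_inv p := by simp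
  right_inv p := by simp

omit [Fintype F] in
theorem tau_apply (p : F × F) : tau F p = (p.1 + p.2, p.2) := rfl
omit [Fintype F] in
theorem scal_apply (k : Fˣ) (p : F × F) : scal k p = (k * p.1, k * p.2) := rfl

/-- the number of vectors fixed by `A` -/
noncomputable def fx {W : Type*} (A : Subgroup (Equiv.Perm W)) : ℕ :=
  Nat.card {w : W // ∀ g ∈ A, g w = w}

/-- the group induced on `Q ≅ F × F` by `N(Q)`, and a `2`-subgroup `S` of it containing `τ` -/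
structure YD (F : Type*) [Field F] [Fintype F] (Y S : Subgroup (Equiv.Perm (F × F))) :
    Prop where
  two : (2 : F) = 0
  four : 4 ≤ Fintype.card F
  add : ∀ g ∈ Y, ∀ p r, g (p + r) = g p + g r
  sc : ∀ k : Fˣ, scal k ∈ Y
  cen : ∀ g ∈ Y, g * tau F = tau F * g → ∃ (c m : F) (σ : RingAut F), c ≠ 0 ∧
    (∀ p, g p = (c * σ p.1 + m * σ p.2, c * σ p.2)) ∧ (σ = 1 → m = 0 ∨ m = c)
  le : S ≤ Y
  pi : IsPGroup 2 S
  tS : tau F ∈ S

/-- `τ` is not central in `S`, and `f` is the central involution of `S` -/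
structure YF (F : Type*) [Field F] [Fintype F] (Y S : Subgroup (Equiv.Perm (F × F)))
    (f : Equiv.Perm (F × F)) : Prop extends YD F Y S where
  fS : f ∈ S
  ff : f * f = 1
  f1 : f ≠ 1
  ft : f ≠ tau F
  zf : ∀ g ∈ S, g * f = f * g
  nz : ∃ g ∈ S, g * tau F ≠ tau F * g

/-- `A` contains a quaternion group of order `8` -/
def Q8 (A : Subgroup G) : Prop :=
  ∃ i ∈ A, ∃ j ∈ A, i * i = j * j ∧ i * i ≠ 1 ∧ i * i * (i * i) = 1 ∧ i * j = i * i * (j * i)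

/-- the coordinates `e` of `Q` and the action `ρ` of `N(Q)` -/
structure Rho (X : LD F L) (t : G) (Q : Subgroup G) (e : F × F → G)
    (ρ : G → Equiv.Perm (F × F)) : Prop where
  e_mul : ∀ a b, e (a + b) = e a * e b
  e_inj : Function.Injective e
  mem : ∀ g, g ∈ Q ↔ ∃ a, g = e a
  e_z : ∀ c, e (c, 0) = X.z c
  spec : ∀ g ∈ N[Q], ∀ a, e (ρ g a) = g * e a * g⁻¹
  ρ_t : ρ t = tau F
  ρ_h : ∀ k, ρ (X.h k) = scal k

/-- the image in `Perm (F × F)` of a subgroup of `N(Q)` -/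
def im {W : Type*} (ρ : G → Equiv.Perm W) (A : Subgroup G) : Subgroup (Equiv.Perm W) :=
  Subgroup.closure (ρ '' A)

/-- the local data of `G₂(3)` -/
structure GD (X : LD F L) (G0 : Subgroup G) (t : G) (D T S Q : Subgroup G) (ρ z : G) : Prop
    extends Lz X G0 t D T where
  q8 : Fintype.card F = 8
  tG : t ∉ G0
  sylS : Syl 2 G0 S
  cardS : ♯S = 64
  zV : z ∈ X.V
  z1 : z ≠ 1
  Sz : S ≤ C{z}
  V_Q : X.V ≤ Q
  Q_S : Q ≤ S
  cardQ : ♯Q = 32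
  tS : t ∈ N[S]
  tQ : t ∈ N[Q]
  ρG : ρ ∈ G0
  ρt : ρ * t = t * ρ
  ρz : ρ * z = z * ρ
  ρQ : ρ ∈ N[Q]
  ρS : ρ ∉ N[S]
  ρ3 : PiElt {3} ρ
  ρφ : X.φ ρ ≠ 1
  ρC : ρ ^ 3 ∈ C[Q]
  cm : ⁅Q, Q⁆ ≤ zpowers z
  sqQ : ∀ x ∈ Q, x * x ∈ zpowers z
  ZQ : Q ⊓ C[Q] ≤ zpowers z
  fpf : ∀ x ∈ Q, ρ * x * ρ⁻¹ * x⁻¹ ∈ zpowers z → x ∈ zpowers z
  tfix : ∀ x ∈ Q, t * x * t⁻¹ * x⁻¹ ∈ zpowers z → x ∈ X.V
  free : ∀ x ∈ S, x ∉ Q → ∀ A ≤ Q, (∀ a ∈ A, x * a * x⁻¹ * a⁻¹ ∈ zpowers z) → ♯A ≤ 8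
  one : ∀ s ∈ G0, s * s = 1 → s ≠ 1 → ∃ g ∈ G0, s = g * z * g⁻¹

/-- the data of `L ≅ SL₂(5)` with centre `⟨t⟩`; `⟨i, j⟩` is a Sylow `2`-subgroup. -/
structure SD (L G0 : Subgroup G) (t i j ρ : G) : Prop extends St2 L G0 t where
  iL : i ∈ L
  jL : j ∈ L
  ρL : ρ ∈ L
  ii : i * i = t
  jj : j * j = t
  ij : i * j = t * (j * i)
  ρi : ρ * i * ρ⁻¹ = j
  ρj : ρ * j * ρ⁻¹ = i * j
  cardL : ♯L = 120
  pf : ⁅L, L⁆ = L
  zl : ∀ g ∈ L, g ∈ C[L] → g = 1 ∨ g = t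
  nm : ∀ K ≤ L, L ≤ N[K] → K ≤ C[L] ∨ K = L
  idx : ∀ g ∈ N[L], ∀ g' ∈ N[L], g ∈ L ⊔ C[L] ∨ g' ∈ L ⊔ C[L] ∨ g * g' ∈ L ⊔ C[L]
  out : ∀ g ∈ N[L], PiElt {2} g → (g * i * g⁻¹ = i ∨ g * i * g⁻¹ = t * i) →
    (g * j * g⁻¹ = j ∨ g * j * g⁻¹ = t * j) → g ∈ L ⊔ C[L]

/-- an involution centraliser with derived group inside `SL₂(q)` -/
def M3 (H : Type*) [Group H] (q : ℕ) : Prop :=
  ∃ (K : Type) (_ : Field K) (_ : Fintype K) (κ : SL(2, K) →* H), Fintype.card K = q ∧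
    Function.Injective κ ∧ ⁅C{κ (-1)}, C{κ (-1)}⁆ ≤ κ.range

end H23.L2
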