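import Mathlib
import Cfsg.Agent.H26.GBase

/-!
# A family of conjugates acting quadratically on an elementary abelian group
-/

set_option autoImplicit false
set_option linter.unusedVariables false
set_option linter.unusedSectionVars false

namespace H23.F3

open Cfsg H24 H26 H26.Gold Subgroup
open scoped commutatorElement

universe u

variable {G : Type u} [Group G] [Finite G] {A B D N V Q Z Z' Z'' : Subgroup G}
  {a b c g h u v w : G} {q : ℕ}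

theorem idx_aux {C : Subgroup G} (f : G → G) (hf : ∀ b ∈ A, f b ∈ V)
    (hi : ∀ b ∈ A, ∀ b' ∈ A, (f b)⁻¹ * f b' ∈ C → b⁻¹ * b' ∈ Q) :
    ∃ F : A ⧸ Q.subgroupOf A → V ⧸ C.subgroupOf V, Function.Injective F ∧
      ∀ x, ∃ b, ∃ hb : b ∈ A, F x = QuotientGroup.mk ⟨f b, hf b hb⟩ := by
  refine ⟨fun x => QuotientGroup.mk ⟨f (x.out : A), hf _ x.out.2⟩, ?_, fun x => ⟨_, x.out.2, rfl⟩⟩
  intro x y e
  have e1 := QuotientGroup.eq.1 e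
  rw [mem_subgroupOf] at e1
  have e2 := hi _ x.out.2 _ y.out.2 e1
  rw [← x.out_eq, ← y.out_eq]
  exact QuotientGroup.eq.2 (mem_subgroupOf.2 e2)

theorem idx_le {C : Subgroup G} (f : G → G) (hf : ∀ b ∈ A, f b ∈ V)
    (hi : ∀ b ∈ A, ∀ b' ∈ A, (f b)⁻¹ * f b' ∈ C → b⁻¹ * b' ∈ Q) :
    Q.relIndex A ≤ C.relIndex V := by
  obtain ⟨F, hF, -⟩ := idx_aux f hf hi
  exact Nat.card_le_card_of_injective F hF

theorem idx_surj {C : Subgroup G} (f : G → G) (hf : ∀ b ∈ A, f b ∈ V)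
    (hi : ∀ b ∈ A, ∀ b' ∈ A, (f b)⁻¹ * f b' ∈ C → b⁻¹ * b' ∈ Q)
    (he : C.relIndex V ≤ Q.relIndex A) (hv : v ∈ V) : ∃ b ∈ A, (f b)⁻¹ * v ∈ C := by
  obtain ⟨F, hF, h2⟩ := idx_aux f hf hi
  have hb : Function.Bijective F := by
    rw [Nat.bijective_iff_injective_and_card]
    exact ⟨hF, le_antisymm (Nat.card_le_card_of_injective F hF) he⟩
  obtain ⟨x, hx⟩ := hb.2 (QuotientGroup.mk ⟨v, hv⟩)
  obtain ⟨b, hb, e⟩ := h2 x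
  rw [e] at hx
  have e1 := QuotientGroup.eq.1 hx
  rw [mem_subgroupOf] at e1
  exact ⟨b, hb, e1⟩

theorem le_of_idx {C : Subgroup G} (h : B ≤ C) (he : B.relIndex V ≤ C.relIndex V) (hv : v ∈ V)
    (hc : v ∈ C) : v ∈ B := by
  have e1 := relIndex_mul_relIndex (B ⊓ V) (C ⊓ V) V (inf_le_inf_right _ h) inf_le_right
  rw [inf_relIndex_right, inf_relIndex_right] at e1
  have h0 := relIndex_pos C V
  have h1 := relIndex_pos (B ⊓ V) (C ⊓ V)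
  have : (B ⊓ V).relIndex (C ⊓ V) = 1 := by nlinarith
  exact (relIndex_eq_one.1 this ⟨hc, hv⟩).1

theorem dih0 {X : Type*} [Group X] {x y : X} (hx : x * x = 1) (hy : y * y = 1) {k : ℕ}
    (h : (x * y) ^ (2 * k + 1) = 1) : (x * y) ^ k * x * ((x * y) ^ k)⁻¹ = y := by
  have ix : x⁻¹ = x := inv_eq_of_mul_eq_one_right hx
  have iy : y⁻¹ = y := inv_eq_of_mul_eq_one_right hy
  have e1 : x * (x * y)⁻¹ * x⁻¹ = x * y := by rw [mul_inv_rev, iy]; rw [ix]; rw [mul_assoc, mul_assoc, hx, mul_one]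
  have e2 : x * ((x * y) ^ k)⁻¹ * x⁻¹ = (x * y) ^ k := by
    rw [← inv_pow, ← conj_pow, e1]
  have e3 : x * ((x * y) ^ k)⁻¹ = (x * y) ^ k * x := mul_inv_eq_iff_eq_mul.1 e2
  rw [mul_assoc, e3, ← mul_assoc, ← pow_add]
  have e4 : (x * y) ^ (k + k) * (x * y) = 1 := by rw [← pow_succ, ← h]; congr 1; ring
  rw [← mul_assoc] at e4
  rw [eq_inv_of_mul_eq_one_left e4, iy]

theorem mem_of_odd {H : Subgroup G} {m : ℕ} (hm : Odd m) (h1 : g ^ m ∈ H) (h2 : g * g ∈ H) :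
    g ∈ H := by
  obtain ⟨k, rfl⟩ := hm
  have : g = ((g * g) ^ k)⁻¹ * g ^ (2 * k + 1) := by rw [← sq, ← pow_mul, pow_succ]; group
  rw [this]; exact mul_mem (inv_mem (pow_mem h2 k)) h1

/-- `A / Q` acts quadratically on `V` -/
structure St (V Q A Z : Subgroup G) : Prop where
  ea : EA V
  VQ : V ≤ Q
  QC : Q ≤ C[V]
  QA : Q ≤ A
  norm : A ≤ N[V]
  sq : ∀ x ∈ A, x * x ∈ Q
  cm : ∀ a ∈ A, ∀ v ∈ V, ⁅a, v⁆ ∈ Z
  ZV : Z ≤ V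
  ZC : Z ≤ C[A]
  ex : ∃ a ∈ A, a ∉ Q

/-- products of elements outside `Q` have odd order on `V` -/
def Pr (V Q A B : Subgroup G) : Prop := ∀ a ∈ A, a ∉ Q → ∀ b ∈ B, b ∉ Q →
  (∃ m, Odd m ∧ (a * b) ^ m ∈ C[V]) ∧ a * b ∉ C[V]

theorem Pr.symm (hA : St V Q A Z) (h : Pr V Q A B) : Pr V Q B A := by
  intro b hb hbQ a ha haQ
  obtain ⟨⟨m, hm, h1⟩, h2⟩ := h a ha haQ b hb hbQ
  have hn : a ∈ N[C[V]] := norm_C hA.norm ha
  refine ⟨⟨m, hm, ?_⟩, fun h3 => h2 ?_⟩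
  · have : (b * a) ^ m = a⁻¹ * (a * b) ^ m * a := by
      have e : b * a = a⁻¹ * (a * b) * a⁻¹⁻¹ := by group
      rw [e, conj_pow, inv_inv]
    rw [this]; exact conj_mem' hn h1
  · have : a * b = a * (b * a) * a⁻¹ := by group
    rw [this]; exact conj_mem hn h3

theorem St.conj (h : St V Q A Z) (hV : g ∈ N[V]) (hQ : g ∈ N[Q]) :
    St V Q (cj g A) (cj g Z) where
  ea := h.ea
  VQ := h.VQ
  QC := h.QC
  QA := by rw [← cj_of_mem_N hQ]; exact cj_mono g h.QA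
  norm := by have := norm_cj h.norm g; rwa [cj_of_mem_N hV] at this
  sq := fun x hx => by
    obtain ⟨y, hy, rfl⟩ := mem_cj'.1 hx
    have : g * y * g⁻¹ * (g * y * g⁻¹) = g * (y * y) * g⁻¹ := by group
    rw [this]; exact conj_mem hQ (h.sq y hy)
  cm := fun x hx v hv => by
    obtain ⟨y, hy, rfl⟩ := mem_cj'.1 hx
    have : ⁅g * y * g⁻¹, v⁆ = g * ⁅y, g⁻¹ * v * g⁆ * g⁻¹ := by
      simp only [commutatorElement_def]; group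
    rw [this]; exact conj_mem_cj g (h.cm y hy _ (conj_mem' hV hv))
  ZV := cj_le_of_mem_N h.ZV hV
  ZC := cent_cj h.ZC g
  ex := by
    obtain ⟨a, ha, hq⟩ := h.ex
    exact ⟨_, conj_mem_cj g ha, fun e => hq ((conj_mem_iff hQ).1 e)⟩

theorem Pr.conj (h : Pr V Q A B) (hV : g ∈ N[V]) (hQ : g ∈ N[Q]) :
    Pr V Q (cj g A) (cj g B) := by
  intro a ha haQ b hb hbQ
  obtain ⟨a, ha', rfl⟩ := mem_cj'.1 ha
  obtain ⟨b, hb', rfl⟩ := mem_cj'.1 hb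
  obtain ⟨⟨m, hm, h1⟩, h2⟩ := h a ha' (fun e => haQ (conj_mem hQ e)) b hb'
    (fun e => hbQ (conj_mem hQ e))
  have hn : g ∈ N[C[V]] := N_le_NC V hV
  have e : g * a * g⁻¹ * (g * b * g⁻¹) = g * (a * b) * g⁻¹ := by group
  rw [e]
  exact ⟨⟨m, hm, by rw [conj_pow]; exact conj_mem hn h1⟩, fun h3 => h2 ((conj_mem_iff hn).1 h3)⟩

theorem St.hom (h : St V Q B Z') (hb : b ∈ B) (hc : c ∈ B) (hv : v ∈ V) :
    ⁅b, v⁆⁻¹ * ⁅c, v⁆ = ⁅b⁻¹ * c, v⁆ := by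
  have hd := h.ZC (h.cm _ (mul_mem (inv_mem hb) hc) v hv)
  have e1 : ⁅c, v⁆ = b * ⁅b⁻¹ * c, v⁆ * b⁻¹ * ⁅b, v⁆ := by
    simp only [commutatorElement_def]; group
  have hm : ⁅b, v⁆ ∈ B := h.QA (h.VQ (h.ZV (h.cm b hb v hv)))
  rw [e1, mem_C.1 hd b hb, mul_inv_cancel_right, ← mem_C.1 hd _ hm, inv_mul_cancel_left]

theorem St.fix (h : St V Q A Z) (ha : a ∈ A) (hz : w ∈ Z) : a ∈ C{w} :=
  mem_C1.2 (mem_C.1 (h.ZC hz) a ha)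

section
variable (hA : St V Q A Z) (hB : St V Q B Z') (hP : Pr V Q A B)
include hA hB hP

theorem swap (ha : a ∈ A) (haQ : a ∉ Q) (hb : b ∈ B) (hbQ : b ∉ Q) (hw : w ∈ V) (h1 : a ∈ C{w})
    (h2 : a ∈ C{b * w * b⁻¹}) : b ∈ C{w} := by
  obtain ⟨⟨m, hm, h3⟩, -⟩ := hP a ha haQ b hb hbQ
  have h4 : b⁻¹ * a * b ∈ C{w} := by rw [← cj_C1, mem_cj] at h2; exact h2
  have h5 : b * b ∈ C{w} := C_le_C1 hw (hB.QC (hB.sq b hb))
  have h6 : a * b ∈ C{w} := by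
    refine mem_of_odd hm (C_le_C1 hw h3) ?_
    have : a * b * (a * b) = a * (b * b) * (b⁻¹ * a * b) := by group
    rw [this]; exact mul_mem (mul_mem h1 h5) h4
  have : b = a⁻¹ * (a * b) := by group
  rw [this]; exact mul_mem (inv_mem h1) h6

theorem dih (ha : a ∈ A) (haQ : a ∉ Q) (hb : b ∈ B) (hbQ : b ∉ Q) :
    ∃ σ ∈ zpowers (a * b), ∀ v ∈ V, ⁅b, v⁆ = ⁅σ * a * σ⁻¹, v⁆ := by
  obtain ⟨⟨m, ⟨k, rfl⟩, h3⟩, -⟩ := hP a ha haQ b hb hbQ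
  have := (C_nml_N V).normal
  let π := QuotientGroup.mk' (C[V].subgroupOf N[V])
  have hk : ∀ x : N[V], π x = 1 ↔ (x : G) ∈ C[V] := fun x => by
    simp only [π, QuotientGroup.mk'_apply, QuotientGroup.eq_one_iff, mem_subgroupOf]
  let a' : N[V] := ⟨a, hA.norm ha⟩
  let b' : N[V] := ⟨b, hB.norm hb⟩
  have e := dih0 (x := π a') (y := π b') (k := k)
    (by rw [← map_mul, hk]; exact hA.QC (hA.sq a ha))
    (by rw [← map_mul, hk]; exact hB.QC (hB.sq b hb))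
    (by rw [← map_mul, ← map_pow, hk]; exact h3)
  have e2 : π (b'⁻¹ * ((a' * b') ^ k * a' * ((a' * b') ^ k)⁻¹)) = 1 := by
    simp only [map_mul, map_inv, map_pow]; rw [e]; simp
  rw [hk] at e2
  have e3 : b⁻¹ * ((a * b) ^ k * a * ((a * b) ^ k)⁻¹) ∈ C[V] := by simpa [a', b'] using e2
  refine ⟨(a * b) ^ k, pow_mem (mem_zpowers _) k, fun v hv => ?_⟩
  have e4 := conj_eq_of_mem_C e3 hv
  set s := (a * b) ^ k * a * ((a * b) ^ k)⁻¹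
  have : ⁅s, v⁆ = b * (b⁻¹ * s * v * (b⁻¹ * s)⁻¹) * b⁻¹ * v⁻¹ := by
    simp only [commutatorElement_def]; group
  rw [this, e4, commutatorElement_def]

theorem c1a (ha : a ∈ A) (haQ : a ∉ Q) (hb : b ∈ B) (hbQ : b ∉ Q) (hu : u ∈ V)
    (h1 : b ∈ C{⁅a, u⁆}) : ⁅a, u⁆ ∈ Z' := by
  obtain ⟨σ, hσ, e⟩ := dih hA hB hP ha haQ hb hbQ
  have h2 : σ ∈ C{⁅a, u⁆} := zpowers_le.2 (mul_mem (hA.fix ha (hA.cm a ha u hu)) h1) hσ
  have h3 : σ ∈ N[V] := zpowers_le.2 (mul_mem (hA.norm ha) (hB.norm hb)) hσ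
  have h4 := hB.cm b hb _ (conj_mem h3 hu)
  rw [e _ (conj_mem h3 hu), ← conjugate_commutatorElement, mem_C1_iff_conj.1 h2] at h4
  exact h4

theorem c1b (ha : a ∈ A) (haQ : a ∉ Q) : ∃ u ∈ V, ⁅a, u⁆ ∉ Z' := by
  obtain ⟨b, hb, hbQ⟩ := hB.ex
  by_contra hc
  push Not at hc
  obtain ⟨σ, hσ, e⟩ := dih hA hB hP ha haQ hb hbQ
  obtain ⟨⟨m, hm, h3⟩, h4⟩ := hP a ha haQ b hb hbQ
  have hσV : σ ∈ N[V] := zpowers_le.2 (mul_mem (hA.norm ha) (hB.norm hb)) hσ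
  refine h4 (mem_C_iff_le_C1.2 fun u hu => mem_C1_comm.1 (mem_of_odd hm (C_le_C1 hu h3) ?_))
  have hu' := conj_mem' hσV hu
  have h2 : σ ∈ C{⁅a, σ⁻¹ * u * σ⁆} :=
    zpowers_le.2 (mul_mem (hA.fix ha (hA.cm a ha _ hu')) (hB.fix hb (hc _ hu'))) hσ
  have h5 : ⁅b, u⁆ ∈ Z := by
    have : ⁅σ * a * σ⁻¹, u⁆ = σ * ⁅a, σ⁻¹ * u * σ⁆ * σ⁻¹ := by
      simp only [commutatorElement_def]; group
    rw [e u hu, this, mem_C1_iff_conj.1 h2]; exact hA.cm a ha _ hu'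
  have e1 : ⁅a * b, u⁆ = ⁅b, u⁆ * ⁅a, u⁆ := by
    have : ⁅a * b, u⁆ = a * ⁅b, u⁆ * a⁻¹ * ⁅a, u⁆ := by simp only [commutatorElement_def]; group
    rw [this, mem_C1_iff_conj.1 (hA.fix ha h5)]
  have hd : ⁅a * b, u⁆ ∈ Z := e1 ▸ mul_mem h5 (hA.cm a ha u hu)
  have hd' : ⁅a * b, u⁆ ∈ Z' := e1 ▸ mul_mem (hB.cm b hb u hu) (hc u hu)
  have h6 := mem_C1_iff_conj.1 (mul_mem (hA.fix ha hd) (hB.fix hb hd'))
  have h7 := hA.ea.sq (hA.ZV hd)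
  rw [mem_C1_iff_conj]
  set ρ := a * b
  have : ρ * ρ * u * (ρ * ρ)⁻¹ = (ρ * ⁅ρ, u⁆ * ρ⁻¹) * ⁅ρ, u⁆ * u := by
    simp only [commutatorElement_def]; group
  rw [this, h6, h7, one_mul]

theorem inj : ∃ v ∈ Z, ∀ a ∈ A, a ∉ Q → ∀ c ∈ B, ⁅c, v⁆ ∈ C{a} → c ∈ Q := by
  obtain ⟨a0, ha0, hq0⟩ := hA.ex
  obtain ⟨u, hu, h1⟩ := c1b hA hB hP ha0 hq0
  have hz := hA.cm a0 ha0 u hu
  refine ⟨_, hz, fun a ha haQ c hc h2 => ?_⟩
  by_contra hcQ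
  refine h1 (c1a hA hB hP ha0 hq0 hc hcQ hu (swap hA hB hP ha haQ hc hcQ (hA.ZV hz)
    (hA.fix ha hz) ?_))
  set v := ⁅a0, u⁆
  have : c * v * c⁻¹ = ⁅c, v⁆ * v := by simp only [commutatorElement_def]; group
  rw [this, mem_C1_comm]
  exact mul_mem h2 (mem_C1_comm.1 (hA.fix ha hz))

theorem idx1 (ha : a ∈ A) (haQ : a ∉ Q) : Q.relIndex B ≤ C{a}.relIndex V := by
  obtain ⟨v, hv, h⟩ := inj hA hB hP
  refine idx_le (fun b => ⁅b, v⁆) (fun b hb => hB.ZV (hB.cm b hb v (hA.ZV hv))) ?_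
  intro b hb b' hb' e
  rw [hB.hom hb hb' (hA.ZV hv)] at e
  exact h a ha haQ _ (mul_mem (inv_mem hb) hb') e

end

/-- the numerical case -/
structure Sn (V Q A Z : Subgroup G) (q : ℕ) : Prop extends St V Q A Z where
  nd : ∀ a ∈ A, a ∉ Q → ∀ v ∈ V, v ∈ C{a} → v ∈ Z
  iA : Q.relIndex A = q
  iV : Z.relIndex V = q

theorem Sn.conj (h : Sn V Q A Z q) (hV : g ∈ N[V]) (hQ : g ∈ N[Q]) :
    Sn V Q (cj g A) (cj g Z) q where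
  toSt := h.toSt.conj hV hQ
  nd := fun a ha haQ v hv hc => by
    obtain ⟨a, ha', rfl⟩ := mem_cj'.1 ha
    rw [← cj_C1, mem_cj] at hc
    exact mem_cj.2 (h.nd a ha' (fun e => haQ (conj_mem hQ e)) _ (conj_mem' hV hv) hc)
  iA := by rw [← h.iA, ← relIndex_cj g Q A, cj_of_mem_N hQ]
  iV := by rw [← h.iV, ← relIndex_cj g Z V, cj_of_mem_N hV]

theorem Sn.exV (h : Sn V Q A Z q) : ∃ v ∈ V, v ∉ Z := by
  by_contra hc
  push Not at hc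
  obtain ⟨a, ha, hq⟩ := h.ex
  have h1 : Z.relIndex V = 1 := relIndex_eq_one.2 hc
  rw [h.iV, ← h.iA] at h1
  exact hq (relIndex_eq_one.1 h1 ha)

section
variable (hA : Sn V Q A Z q) (hB : Sn V Q B Z' q) (hP : Pr V Q A B)
include hA hB hP

theorem cov (hv : v ∈ V) : ∃ b ∈ B, ∃ u ∈ V, ∃ z ∈ Z, v = ⁅b, u⁆ * z := by
  obtain ⟨u, hu, h⟩ := inj hA.toSt hB.toSt hP
  obtain ⟨a, ha, haQ⟩ := hA.ex
  obtain ⟨b, hb, e⟩ := idx_surj (A := B) (V := V) (Q := Q) (C := Z) (fun b => ⁅b, u⁆)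
    (fun b hb => hB.ZV (hB.cm b hb u (hA.ZV hu))) (by
      intro b hb b' hb' e
      rw [hB.toSt.hom hb hb' (hA.ZV hu)] at e
      exact h a ha haQ _ (mul_mem (inv_mem hb) hb') (mem_C1_comm.1 (hA.toSt.fix ha e)))
    (by rw [hA.iV, hB.iA]) hv
  exact ⟨b, hb, u, hA.ZV hu, _, e, by group⟩

theorem dis (ha : a ∈ A) (hw : w ∈ V) (h : ⁅a, w⁆ ∈ Z') : a ∈ Q ∨ w ∈ Z := by
  by_cases haQ : a ∈ Q
  · exact Or.inl haQ
  right
  obtain ⟨b, hb, u, hu, z, hz, rfl⟩ := cov hA hB hP hw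
  have hz' := hB.cm b hb u hu
  set z' := ⁅b, u⁆
  have e : ⁅a, z' * z⁆ = ⁅a, z'⁆ := by
    have : ⁅a, z' * z⁆ = a * z' * a⁻¹ * (a * z * a⁻¹) * z⁻¹ * z'⁻¹ := by
      simp only [commutatorElement_def]; group
    rw [this, mem_C1_iff_conj.1 (hA.toSt.fix ha hz), commutatorElement_def]; group
  rw [e] at h
  obtain ⟨b0, hb0, hq0⟩ := hB.ex
  have h1 : a ∈ C{z'} := by
    refine swap hB.toSt hA.toSt (hP.symm hA.toSt) hb0 hq0 ha haQ (hB.ZV hz')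
      (hB.toSt.fix hb0 hz') (hB.toSt.fix hb0 ?_)
    have : a * z' * a⁻¹ = ⁅a, z'⁆ * z' := by simp only [commutatorElement_def]; group
    rw [this]; exact mul_mem h hz'
  exact mul_mem (hA.nd a ha haQ _ (hB.ZV hz') (mem_C1_comm.1 h1)) hz

theorem injZ (hw : w ∈ V) (hwZ : w ∉ Z) : ∀ a ∈ A, ∀ a' ∈ A, ⁅a, w⁆⁻¹ * ⁅a', w⁆ ∈ Z' →
    a⁻¹ * a' ∈ Q := by
  intro a ha a' ha' e
  rw [hA.toSt.hom ha ha' hw] at e
  exact (dis hA hB hP (mul_mem (inv_mem ha) ha') hw e).resolve_right hwZ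

theorem idxZ : Z'.relIndex Z ≤ q := by
  rw [← hB.iV]; exact relIndex_le_of_le_right hA.ZV (relIndex_ne_zero' _ _)

theorem surjZ (hw : w ∈ V) (hwZ : w ∉ Z) {z : G} (hz : z ∈ Z) : ∃ a ∈ A, ⁅a, w⁆⁻¹ * z ∈ Z' :=
  idx_surj (A := A) (V := Z) (Q := Q) (C := Z') (fun a => ⁅a, w⁆) (fun a ha => hA.cm a ha w hw)
    (injZ hA hB hP hw hwZ) (by rw [hA.iA]; exact idxZ hA hB hP) hz

theorem cover (hw : w ∈ V) : w ∈ Z ∨ ∃ a ∈ A, w ∈ cj a Z' := by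
  obtain ⟨b, hb, u, hu, z, hz, rfl⟩ := cov hA hB hP hw
  have hz' := hB.cm b hb u hu
  set z' := ⁅b, u⁆
  by_cases h : z' ∈ Z
  · exact Or.inl (mul_mem h hz)
  right
  obtain ⟨a, ha, e⟩ := surjZ hA hB hP (hB.ZV hz') h hz
  have hd := hA.cm a ha _ (hB.ZV hz')
  have hr : ⁅a, z'⁆⁻¹ * z ∈ Z := mul_mem (inv_mem hd) hz
  refine ⟨a, ha, mem_cj'.2 ⟨z' * (⁅a, z'⁆⁻¹ * z), mul_mem hz' e, ?_⟩⟩
  have e1 : a * (z' * (⁅a, z'⁆⁻¹ * z)) * a⁻¹ =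
      (⁅a, z'⁆ * z') * (a * (⁅a, z'⁆⁻¹ * z) * a⁻¹) := by
    simp only [commutatorElement_def]; group
  rw [e1, mem_C1_iff_conj.1 (hA.toSt.fix ha hr), hA.ea.comm (hA.ZV hd) (hB.ZV hz')]
  group

end

/-- a family of conjugates -/
structure Fm (N V Q A Z : Subgroup G) (q : ℕ) : Prop extends Sn V Q A Z q where
  NV : N ≤ N[V]
  NQ : N ≤ N[Q]
  AN : A ≤ N
  pr : ∀ g ∈ N, cj g Z ≠ Z → Pr V Q A (cj g A)

section
variable (H : Fm N V Q A Z q)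
include H

theorem Fm.sn (hg : g ∈ N) : Sn V Q (cj g A) (cj g Z) q := H.toSn.conj (H.NV hg) (H.NQ hg)

theorem Fm.pr2 (hg : g ∈ N) (hh : h ∈ N) (hne : cj h Z ≠ cj g Z) : Pr V Q (cj g A) (cj h A) := by
  have h1 := (H.pr (g⁻¹ * h) (mul_mem (inv_mem hg) hh) (fun e => hne (by
    have := congrArg (cj g) e
    rwa [← cj_mul, mul_inv_cancel_left] at this))).conj (H.NV hg) (H.NQ hg)
  rwa [← cj_mul, mul_inv_cancel_left] at h1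

theorem Fm.third (hg : g ∈ N) (hne : cj g Z ≠ Z) (hh : h ∈ N) :
    cj h Z = Z ∨ ∃ a ∈ A, cj h Z = cj (a * g) Z := by
  by_contra hc
  push Not at hc
  have hS := H.sn hh
  obtain ⟨c, hc1, hcQ⟩ := hS.ex
  obtain ⟨u, hu, huZ⟩ := hS.exV
  have hd := hS.ZV (hS.cm c hc1 u hu)
  rcases cover H.toSn (H.sn hg) (H.pr g hg hne) hd with h1 | ⟨a, ha, h1⟩
  · have := dis hS H.toSn ((H.pr h hh hc.1).symm H.toSt) hc1 hu h1
    tauto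
  · have hag : a * g ∈ N := mul_mem (H.AN ha) hg
    rw [← cj_mul] at h1
    have := dis hS (H.sn hag) (H.pr2 hh hag (hc.2 a ha).symm) hc1 hu h1
    tauto

theorem Fm.inf_le (hg : g ∈ N) (hne : cj g Z ≠ Z) (hh : h ∈ N) : Z ⊓ cj g Z ≤ C[cj h A] := by
  refine le_trans ?_ (H.sn hh).ZC
  rcases H.third hg hne hh with e | ⟨a, ha, e⟩
  · rw [e]; exact inf_le_left
  · rw [e, cj_mul]
    intro z hz
    have := conj_mem_cj a hz.2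
    rwa [mem_C1_iff_conj.1 (H.toSt.fix ha hz.1)] at this

end

end H23.F3
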