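import Mathlib
import Cfsg.Agent.H24.Base5
import Cfsg.Agent.H4.Misc

/-! Traces on the `λ`-isotypic component of a character, `λ` a linear character of a subgroup. -/

set_option autoImplicit false
set_option linter.unusedSectionVars false

namespace H23.WR

open H24 Cfsg Subgroup H4
open scoped ComplexConjugate Classical

variable {G : Type*} [Group G] [Fintype G] {A B P X : Subgroup G} {f : G → ℂ} {x g : G}

/-- the trace of `x` on the `l`-component -/
noncomputable def tr (f : G → ℂ) {A : Subgroup G} (l : A →* ℂˣ) (x : G) : ℂ :=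
  (♯A : ℂ)⁻¹ * ∑ a : A, f (a * x) * conj (l a : ℂ)

/-- the stabiliser of a linear character -/
def stab {A : Subgroup G} (l : A →* ℂˣ) : Subgroup G where
  carrier := {g | g ∈ N[A] ∧ ∀ a ∈ A, ap l (g * a * g⁻¹) = ap l a}
  one_mem' := ⟨one_mem _, fun a _ => by simp⟩
  mul_mem' := by
    rintro g h ⟨hg, eg⟩ ⟨hh, eh⟩
    refine ⟨mul_mem hg hh, fun a ha => ?_⟩
    rw [show g * h * a * (g * h)⁻¹ = g * (h * a * h⁻¹) * g⁻¹ by group, eg _ (conj_mem hh ha), eh a ha]
  inv_mem' := by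
    rintro g ⟨hg, eg⟩
    refine ⟨inv_mem hg, fun a ha => ?_⟩
    rw [← eg _ (conj_mem (inv_mem hg) ha)]; congr 1; group

theorem mem_stab {l : A →* ℂˣ} :
    g ∈ stab l ↔ g ∈ N[A] ∧ ∀ a ∈ A, ap l (g * a * g⁻¹) = ap l a := Iff.rfl

theorem stab_le (l : A →* ℂˣ) : stab l ≤ N[A] := fun _ h => h.1

theorem stab_one : stab (1 : A →* ℂˣ) = N[A] := by
  refine le_antisymm (stab_le _) fun g hg => ⟨hg, fun a ha => ?_⟩
  rw [ap_of_mem _ ha, ap_of_mem _ (conj_mem hg ha)]; rfl

theorem tr_one (f : G → ℂ) (l : A →* ℂˣ) :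
    tr f l 1 = classInner (fun a : A => f a) (fun a => (l a : ℂ)) := by
  simp [tr, classInner]

theorem tr_nat (hf : IsCharacter G f) (l : A →* ℂˣ) : ∃ m : ℕ, tr f l 1 = m := by
  rw [tr_one]
  exact (hf.restrict A).inner_nat (isIrrCharacter_linear l).isCharacter

theorem tr_semi (hf : IsCharacter G f) {l : A →* ℂˣ} (hP : P ≤ stab l) (μ : P →* ℂˣ) :
    ∃ n : ℕ, ∑ p : P, tr f l p * conj (μ p : ℂ) = ♯P * n := by
  let φ : P →* MulAut A := A.normalizerMonoidHom.comp (inclusion (hP.trans (stab_le l)))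
  have hφ : ∀ (p : P) (a : A), ((φ p a : A) : G) = p * a * (p : G)⁻¹ := fun p a => rfl
  let π : A ⋊[φ] P →* G := SemidirectProduct.lift A.subtype P.subtype (fun p => by
    ext a; simp [hφ])
  let lh : A ⋊[φ] P →* ℂˣ := SemidirectProduct.lift l μ (fun p => by
    ext a
    have := (hP p.2).2 a a.2
    rw [ap_coe, ← hφ, ap_coe] at this
    simp [this])
  let _ : Fintype (A ⋊[φ] P) := Fintype.ofEquiv _ SemidirectProduct.equivProd.symm
  obtain ⟨n, hn⟩ := (hf.comp π).inner_nat (isIrrCharacter_linear lh).isCharacter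
  refine ⟨n, ?_⟩
  rw [← hn, classInner_def, ← SemidirectProduct.equivProd.symm.sum_comp, Fintype.sum_prod_type_right,
    Nat.card_congr SemidirectProduct.equivProd, Nat.card_prod, Nat.cast_mul, mul_inv, ← mul_assoc,
    mul_left_comm (♯P : ℂ), mul_inv_cancel₀ (card_ne_zero P), mul_one, Finset.mul_sum]
  refine Finset.sum_congr rfl fun p _ => ?_
  rw [tr, mul_assoc, Finset.sum_mul]
  congr 1
  refine Finset.sum_congr rfl fun a _ => ?_
  have e1 : π (SemidirectProduct.equivProd.symm (a, p)) = a * p := by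
    simp [π, SemidirectProduct.equivProd, SemidirectProduct.lift]
  have e2 : lh (SemidirectProduct.equivProd.symm (a, p)) = l a * μ p := by
    simp [lh, SemidirectProduct.equivProd, SemidirectProduct.lift]
  rw [e1, e2, Units.val_mul, map_mul, mul_assoc]

theorem card_dvd_of_tr (hf : IsCharacter G f) {l : A →* ℂˣ} (hP : P ≤ stab l) {m : ℕ}
    (hm : tr f l 1 = m) (h0 : ∀ p ∈ P, p ≠ 1 → tr f l p = 0) : ♯P ∣ m := by
  obtain ⟨n, hn⟩ := tr_semi hf hP 1
  rw [Finset.sum_eq_single (1 : P) (fun p _ hp => by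
    rw [h0 p p.2 (by simpa using hp), zero_mul]) (by simp)] at hn
  simp only [OneMemClass.coe_one, hm, Units.val_one, map_one, mul_one] at hn
  exact ⟨n, by exact_mod_cast hn⟩

theorem tr_invol (hf : IsCharacter G f) {l : A →* ℂˣ} (hx : x ∈ stab l) (ho : orderOf x = 2) :
    ∃ a b : ℕ, tr f l 1 = a + b ∧ tr f l x = a - b := by
  have hP : zpowers x ≤ stab l := zpowers_le.2 hx
  have hc : ♯(zpowers x) = 2 := by rw [Nat.card_zpowers, ho]
  have h1 : x ≠ 1 := by rintro rfl; simp at ho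
  let y : zpowers x := ⟨x, mem_zpowers x⟩
  have hy : (1 : zpowers x) ≠ y := fun h => h1 (congrArg Subtype.val h).symm
  have hu : (Finset.univ : Finset (zpowers x)) = {1, y} := by
    refine (Finset.eq_of_subset_of_card_le (Finset.subset_univ _) ?_).symm
    rw [Finset.card_pair hy, Finset.card_univ, ← Nat.card_eq_fintype_card, hc]
  have hyy : y * y = 1 := Subtype.ext (by
    have := pow_orderOf_eq_one x
    rw [ho, sq] at this; exact this)
  have hcase : ∀ p : zpowers x, p = 1 ∨ p = y := fun p => by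
    have := Finset.mem_univ p
    rw [hu] at this; simpa using this
  let μ : zpowers x →* ℂˣ :=
    { toFun := fun p => if p = 1 then 1 else -1
      map_one' := if_pos rfl
      map_mul' := fun p q => by
        rcases hcase p with rfl | rfl <;> rcases hcase q with rfl | rfl <;> simp [hy.symm, hyy] }
  have hμ : μ y = -1 := if_neg hy.symm
  obtain ⟨a, ha⟩ := tr_semi hf hP 1
  obtain ⟨b, hb⟩ := tr_semi hf hP μ
  rw [hu, Finset.sum_pair hy, hc] at ha hb
  rw [hμ] at hb
  simp only [OneMemClass.coe_one, MonoidHom.one_apply, Units.val_one, map_one, mul_one,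
    Units.val_neg, map_neg, y, Nat.cast_ofNat] at ha hb
  exact ⟨a, b, by linear_combination (ha + hb) / 2, by linear_combination (ha - hb) / 2⟩

/-- restriction of a linear character -/
def res (l : A →* ℂˣ) (h : B ≤ A) : B →* ℂˣ := l.comp (inclusion h)

theorem res_apply (l : A →* ℂˣ) (h : B ≤ A) (b : B) : res l h b = ap l b := by
  rw [ap_of_mem _ (h b.2)]; rfl

theorem sum_avg (hx : x ∈ N[A]) (hc : (orderOf x).Coprime ♯A) (F : G → ℂ) :
    (♯(A ⊓ C{x}) : ℂ) * ∑ a : A, F a =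
      ∑ p : A × ↥(A ⊓ C{x}), F (p.1 * p.2 * x * (p.1 : G)⁻¹ * x⁻¹) := by
  let Φ : A × ↥(A ⊓ C{x}) → A := fun p => ⟨p.1 * p.2 * x * (p.1 : G)⁻¹ * x⁻¹, by
    have := mul_mem (mul_mem p.1.2 p.2.2.1) (conj_mem hx (inv_mem p.1.2))
    simpa [mul_assoc] using this⟩
  have hle : ∀ a : A, (Finset.univ.filter fun p => Φ p = a).card ≤ ♯(A ⊓ C{x}) := by
    intro a
    rcases (Finset.univ.filter fun p => Φ p = a).eq_empty_or_nonempty with h | ⟨p₀, h₀⟩
    · rw [h]; simp
    have key : ∀ p, Φ p = a → ((p₀.1 : G)⁻¹ * p.1) ∈ A ⊓ C{x} := by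
      intro p hp
      refine mem_inf.2 ⟨mul_mem (inv_mem p₀.1.2) p.1.2, ?_⟩
      have e : Φ p = Φ p₀ := hp.trans (Finset.mem_filter.1 h₀).2.symm
      have e' : (p.1 : G) * p.2 * x * (p.1 : G)⁻¹ * x⁻¹ = p₀.1 * p₀.2 * x * (p₀.1 : G)⁻¹ * x⁻¹ :=
        congrArg Subtype.val e
      obtain ⟨n, hn1, hn2⟩ := Nat.chineseRemainder hc 1 0
      have hpow : ∀ c : ↥(A ⊓ C{x}), ((c : G) * x) ^ n = x := fun c => by
        have hcx : Commute (c : G) x := mem_C1.1 c.2.2
        rw [hcx.mul_pow, (orderOf_dvd_iff_pow_eq_one.1 ((A.orderOf_dvd_natCard c.2.1).trans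
          ((Nat.modEq_zero_iff_dvd).1 hn2))), one_mul]
        conv_rhs => rw [← pow_one x]
        exact pow_eq_pow_iff_modEq.2 hn1
      have e2 : ((p₀.1 : G)⁻¹ * p.1) * (p.2 * x) * ((p₀.1 : G)⁻¹ * p.1)⁻¹ = p₀.2 * x := by
        calc _ = (p₀.1 : G)⁻¹ * (p.1 * p.2 * x * (p.1 : G)⁻¹ * x⁻¹) * x * p₀.1 := by group
          _ = _ := by rw [e']; group
      have e3 := congrArg (· ^ n) e2
      simp only [conj_pow, hpow] at e3
      exact mem_C1_iff_conj.2 e3
    rw [Nat.card_eq_fintype_card, ← Finset.card_univ]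
    refine Finset.card_le_card_of_injOn
      (fun p => if h : Φ p = a then ⟨_, key p h⟩ else 1) (fun _ _ => Finset.mem_univ _) ?_
    intro p hp q hq e
    have hp' : Φ p = a := (Finset.mem_filter.1 hp).2
    have hq' : Φ q = a := (Finset.mem_filter.1 hq).2
    simp only [hp', hq', dif_pos, Subtype.mk.injEq, mul_right_inj] at e
    have e' : (p.1 : G) * p.2 * x * (p.1 : G)⁻¹ * x⁻¹ = q.1 * q.2 * x * (q.1 : G)⁻¹ * x⁻¹ :=
      congrArg Subtype.val (hp'.trans hq'.symm)
    rw [e] at e'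
    exact Prod.ext (Subtype.ext e) (Subtype.ext (by simpa using e'))
  have htot : ∑ a : A, (Finset.univ.filter fun p => Φ p = a).card = ∑ _a : A, ♯(A ⊓ C{x}) := by
    rw [← Finset.card_eq_sum_card_fiberwise (fun _ _ => Finset.mem_univ _)]
    simp [Nat.card_eq_fintype_card]
  have heq := (Finset.sum_eq_sum_iff_of_le fun a _ => hle a).1 htot
  rw [← Finset.sum_fiberwise (s := Finset.univ) (g := Φ), Finset.mul_sum]
  refine Finset.sum_congr rfl fun a ha => ?_
  rw [Finset.sum_congr rfl (g := fun _ => F a) fun p hp => by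
    rw [← (Finset.mem_filter.1 hp).2], Finset.sum_const, heq a ha, nsmul_eq_mul]

theorem tr_avg (hf : IsClassFunction G f) {l : A →* ℂˣ} (hx : x ∈ stab l)
    (hc : (orderOf x).Coprime ♯A) :
    tr f l x = tr f (res l (inf_le_left : A ⊓ C{x} ≤ A)) x := by
  have h := sum_avg hx.1 hc (fun a => f (a * x) * conj ((ap l a : ℂˣ) : ℂ))
  have e : ∀ p : A × ↥(A ⊓ C{x}), f (p.1 * p.2 * x * (p.1 : G)⁻¹ * x⁻¹ * x) *
      conj ((ap l (p.1 * p.2 * x * (p.1 : G)⁻¹ * x⁻¹) : ℂˣ) : ℂ) =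
        f (p.2 * x) * conj ((ap l p.2 : ℂˣ) : ℂ) := by
    intro p
    congr 1
    · rw [← hf (p.2 * x) p.1]; congr 1; group
    · rw [show (p.1 : G) * p.2 * x * (p.1 : G)⁻¹ * x⁻¹ = p.1 * p.2 * (x * (p.1 : G)⁻¹ * x⁻¹) by group,
        ap_mul _ (mul_mem p.1.2 p.2.2.1) (conj_mem hx.1 (inv_mem p.1.2)), hx.2 _ (inv_mem p.1.2),
        ap_mul _ p.1.2 p.2.2.1, ap_inv _ p.1.2, mul_inv_cancel_comm]
  simp only [e, Fintype.sum_prod_type, Finset.sum_const, Finset.card_univ, nsmul_eq_mul,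
    ← Nat.card_eq_fintype_card, ap_coe] at h
  simp only [tr, res_apply]
  have h1 := H4.card_ne_zero A
  have h2 := H4.card_ne_zero ↥(A ⊓ C{x})
  field_simp
  linear_combination h

theorem tr_const (l : A →* ℂˣ) (x : G) : tr (fun _ => 1) l x = if l = 1 then 1 else 0 := by
  have h : tr (fun _ => 1) l x = classInner (fun _ => 1) (fun a => (l a : ℂ)) := by
    simp [tr, classInner]
  rw [h, isIrrCharacter_one.inner_eq_ite (isIrrCharacter_linear l)]
  congr 1
  refine propext ⟨fun h => MonoidHom.ext fun a => Units.ext (congrFun h a).symm, ?_⟩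
  rintro rfl; rfl

theorem tr_of_const {l : A →* ℂˣ} {z : ℂ} (h : ∀ a ∈ A, f (a * x) = z) :
    tr f l x = z * tr (fun _ => 1) l x := by
  simp only [tr, one_mul]
  rw [mul_left_comm, Finset.mul_sum _ _ z]
  congr 1
  exact Finset.sum_congr rfl fun a _ => by rw [h a a.2]

theorem res_eq_one_iff {l : A →* ℂˣ} (hx : x ∈ stab l) (hc : (orderOf x).Coprime ♯A) :
    res l (inf_le_left : A ⊓ C{x} ≤ A) = 1 ↔ l = 1 := by
  have := tr_avg (isClassFunction_const 1) hx hc
  rw [tr_const, tr_const] at this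
  by_cases h1 : l = 1 <;> by_cases h2 : res l (inf_le_left : A ⊓ C{x} ≤ A) = 1 <;> simp_all

/-- the trace when `f` is constant on `C_A(x) x` -/
theorem tr_eq_ite (hf : IsClassFunction G f) {l : A →* ℂˣ} (hx : x ∈ stab l)
    (hc : (orderOf x).Coprime ♯A) (h : ∀ a ∈ A ⊓ C{x}, f (a * x) = f x) :
    tr f l x = if l = 1 then f x else 0 := by
  rw [tr_avg hf hx hc, tr_of_const h, tr_const]
  simp only [res_eq_one_iff hx hc]
  split_ifs <;> simp

/-- conjugate character -/
def cjc (l : A →* ℂˣ) (g : N[A]) : A →* ℂˣ :=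
  l.comp (A.normalizerMonoidHom g).toMonoidHom

theorem cjc_apply (l : A →* ℂˣ) (g : N[A]) (a : A) : cjc l g a = ap l (g * a * (g : G)⁻¹) := by
  rw [ap_of_mem _ (conj_mem g.2 a.2)]; rfl

theorem tr_cjc (hf : IsClassFunction G f) (l : A →* ℂˣ) (g : N[A]) :
    tr f (cjc l g) 1 = tr f l 1 := by
  simp only [tr, mul_one]
  congr 1
  rw [← (A.normalizerMonoidHom g).toEquiv.sum_comp (fun a : A => f a * conj (l a : ℂ))]
  refine Finset.sum_congr rfl fun a _ => ?_
  congr 1
  exact (hf a g).symm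

theorem cjc_eq_one {l : A →* ℂˣ} {g : N[A]} (h : cjc l g = 1) : l = 1 := by
  ext a
  have := DFunLike.congr_fun h ((A.normalizerMonoidHom g).symm a)
  simpa [cjc] using this

theorem sum_le (hf : IsCharacter G f) (𝓢 : Finset (A →* ℂˣ)) (m : (A →* ℂˣ) → ℕ)
    (hm : ∀ l ∈ 𝓢, tr f l 1 = m l) {F : ℕ} (hF : f 1 = F) :
    ∑ l ∈ 𝓢, m l ≤ F ∧ (F ≤ ∑ l ∈ 𝓢, m l → ∀ a ∈ A, (∀ l ∈ 𝓢, ap l a = 1) → f a = f 1) := by
  let φ : A → ℂ := (fun a : A => f a) - ∑ l ∈ 𝓢, (m l : ℂ) • (fun a => (l a : ℂ))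
  have hφ : IsCharacter A φ := by
    refine ((hf.restrict A).classFun.sub (isClassFunction_sum _ _ fun l _ =>
      (isIrrCharacter_linear l).classFun.smul _)).isCharacter_of_inner_nat ?_
    intro ψ hψ
    rw [classInner_sub_left, classInner_sum_left]
    simp only [classInner_smul_left]
    by_cases h : ∃ l ∈ 𝓢, (fun a => (l a : ℂ)) = ψ
    · obtain ⟨l, hl, rfl⟩ := h
      refine ⟨0, ?_⟩
      rw [Finset.sum_eq_single l, (isIrrCharacter_linear l).inner_self, ← tr_one, hm l hl]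
      · simp
      · intro l' _ hne
        rw [(isIrrCharacter_linear l').inner_of_ne hψ, mul_zero]
        exact fun e => hne (MonoidHom.ext fun a => Units.ext (congrFun e a))
      · exact fun h => absurd hl h
    · obtain ⟨n, hn⟩ := (hf.restrict A).inner_nat hψ.isCharacter
      refine ⟨n, ?_⟩
      rw [hn, Finset.sum_eq_zero, sub_zero]
      intro l hl
      rw [(isIrrCharacter_linear l).inner_of_ne hψ (fun e => h ⟨l, hl, e⟩), mul_zero]
  have h1 : φ 1 = F - (∑ l ∈ 𝓢, m l : ℕ) := by simp [φ, hF]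
  obtain ⟨k, hk⟩ := hφ.exists_nat_apply_one
  have h2 : F = ∑ l ∈ 𝓢, m l + k := by
    have : (F : ℂ) = (∑ l ∈ 𝓢, m l : ℕ) + k := by linear_combination hk - h1
    exact_mod_cast this
  refine ⟨by omega, fun h a ha hl => ?_⟩
  have h3 : k = 0 := by omega
  have h4 := congrFun (hφ.eq_zero_of_apply_one (by rw [hk, h3, Nat.cast_zero])) ⟨a, ha⟩
  simp only [φ, Pi.sub_apply, Finset.sum_apply, Pi.smul_apply, smul_eq_mul, Pi.zero_apply] at h4
  rw [Finset.sum_congr rfl (g := fun l => (m l : ℂ)) fun l hl' => by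
    rw [← ap_of_mem, hl l hl', Units.val_one, mul_one]] at h4
  rw [hF, h2, h3, add_zero, Nat.cast_sum]
  linear_combination h4

/-- the orbit bound -/
theorem orbit_bound (hf : IsCharacter G f) {l : A →* ℂˣ} (hl : l ≠ 1) (hX : X ≤ N[A])
    {m m₁ F : ℕ} (hm : tr f l 1 = m) (hm₁ : tr f (1 : A →* ℂˣ) 1 = m₁) (hF : f 1 = F) :
    m₁ + (stab l).relIndex X * m ≤ F ∧ (F ≤ m₁ + (stab l).relIndex X * m →
      ∀ a ∈ A, (∀ g ∈ X, ap l (g * a * g⁻¹) = 1) → f a = f 1) := by
  let Q := X ⧸ (stab l).subgroupOf X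
  let _ : Fintype Q := Fintype.ofFinite Q
  let j : Q → (A →* ℂˣ) := fun q => cjc l ⟨(q.out : G)⁻¹, inv_mem (hX q.out.2)⟩
  have hj : Function.Injective j := by
    intro q q' e
    rw [← q.out_eq, ← q'.out_eq]
    refine Quotient.sound (QuotientGroup.leftRel_apply.2 (mem_subgroupOf.2 ⟨?_, fun a ha => ?_⟩))
    · exact hX (mul_mem (inv_mem q.out.2) q'.out.2)
    · have := DFunLike.congr_fun e ⟨_, conj_mem (hX q'.out.2) ha⟩
      simp only [j, cjc_apply] at this
      convert this using 2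
      · simp [mul_assoc]
      · group
  have hn : (1 : A →* ℂˣ) ∉ Finset.univ.image j := by
    simp only [Finset.mem_image, not_exists, not_and]
    exact fun q _ h => hl (cjc_eq_one h)
  have hs : ∑ l' ∈ insert 1 (Finset.univ.image j), (if l' = 1 then m₁ else m) =
      m₁ + (stab l).relIndex X * m := by
    rw [Finset.sum_insert hn, if_pos rfl, Finset.sum_congr rfl (g := fun _ => m) fun l' hl' =>
      if_neg (by rintro rfl; exact hn hl'), Finset.sum_const, Finset.card_image_of_injective _ hj,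
      Finset.card_univ, ← Nat.card_eq_fintype_card, smul_eq_mul]
    rfl
  obtain ⟨h1, h2⟩ := sum_le hf (insert 1 (Finset.univ.image j)) (fun l' => if l' = 1 then m₁ else m)
    (fun l' hl' => by
      split_ifs with h
      · rw [h, hm₁]
      · obtain ⟨q, -, rfl⟩ := Finset.mem_image.1 ((Finset.mem_insert.1 hl').resolve_left h)
        rw [tr_cjc hf.classFun, hm]) hF
  rw [hs] at h1 h2
  refine ⟨h1, fun h a ha hg => h2 h a ha fun l' hl' => ?_⟩
  rcases Finset.mem_insert.1 hl' with rfl | hl'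
  · rw [ap_of_mem _ ha]; rfl
  · obtain ⟨q, -, rfl⟩ := Finset.mem_image.1 hl'
    rw [ap_of_mem _ ha, cjc_apply]
    exact hg _ (inv_mem q.out.2)

/-- a nontrivial linear constituent -/
theorem exists_ne_one (hf : IsCharacter G f) (hA : Abl A) {a : G} (ha : a ∈ A) (h : f a ≠ f 1) :
    ∃ l : A →* ℂˣ, l ≠ 1 ∧ tr f l 1 ≠ 0 := by
  let φ : A → ℂ := (fun a : A => f a) - tr f (1 : A →* ℂˣ) 1 • (fun _ => 1)
  have hφ : IsClassFunction A φ := (hf.restrict A).classFun.sub ((isClassFunction_const 1).smul _)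
  have h0 : φ ≠ 0 := fun e => h (by
    have h1 := congrFun e ⟨a, ha⟩
    have h2 := congrFun e 1
    simp only [φ, Pi.sub_apply, Pi.smul_apply, smul_eq_mul, Pi.zero_apply, OneMemClass.coe_one] at h1 h2
    linear_combination h1 - h2)
  obtain ⟨χ, hχ, hi⟩ := hφ.exists_irr_inner_ne_zero h0
  obtain ⟨l, rfl⟩ := hχ.isCharacter.exists_linear
    (hχ.apply_one_of_comm fun a b => Subtype.ext (hA.comm a.2 b.2))
  rw [classInner_sub_left, classInner_smul_left, ← tr_one] at hi
  have e : classInner (fun _ => 1) (fun a => (l a : ℂ)) = tr (fun _ => 1) l 1 := by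
    simp [tr, classInner]
  rw [e, tr_const] at hi
  have h1 : l ≠ 1 := by rintro rfl; simp at hi
  exact ⟨l, h1, by simpa [h1] using hi⟩

/-- a linear character separating an element from a subgroup containing the commutators -/
theorem exists_sep (hB : B ≤ A) (hc : ⁅A, A⁆ ≤ B) (hx : x ∈ A) (hx' : x ∉ B) :
    ∃ l : A →* ℂˣ, (∀ b ∈ B, ap l b = 1) ∧ ap l x ≠ 1 := by
  have hn : (B.subgroupOf A).Normal := ⟨fun b hb a => mem_subgroupOf.2 (by
    have h1 := hc (commutator_mem_commutator a.2 b.2)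
    have := mul_mem h1 (mem_subgroupOf.1 hb)
    simpa [commutatorElement_def] using this)⟩
  let Q := A ⧸ B.subgroupOf A
  have hQ : ∀ a b : Q, a * b = b * a := by
    intro a b
    obtain ⟨a, rfl⟩ := QuotientGroup.mk_surjective a
    obtain ⟨b, rfl⟩ := QuotientGroup.mk_surjective b
    rw [← QuotientGroup.mk_mul, ← QuotientGroup.mk_mul, QuotientGroup.eq, mem_subgroupOf]
    have := hc (commutator_mem_commutator (inv_mem b.2) (inv_mem a.2))
    simpa [commutatorElement_def, mul_assoc] using this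
  have h1 : (QuotientGroup.mk ⟨x, hx⟩ : Q) ≠ 1 := by
    rw [Ne, QuotientGroup.eq_one_iff, mem_subgroupOf]; exact hx'
  by_contra! h
  refine h1 (eq_one_of_forall_irr fun χ hχ => ?_)
  obtain ⟨l, rfl⟩ := hχ.isCharacter.exists_linear (hχ.apply_one_of_comm hQ)
  have := h (l.comp (QuotientGroup.mk' _)) fun b hb => by
    rw [ap_of_mem _ (hB hb), MonoidHom.comp_apply, QuotientGroup.mk'_apply,
      (QuotientGroup.eq_one_iff _).2 (mem_subgroupOf.2 hb), map_one]
  rw [ap_of_mem _ hx] at this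
  simpa using this

end H23.WR
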