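import Mathlib
import Cfsg.Agent.H13.WPD
import Cfsg.Agent.H23.WR1

/-! Wreathed case: subgroups of `C(t)` avoiding `t`, and the orbit bound for abelian groups. -/

set_option autoImplicit false
set_option linter.unusedSectionVars false

namespace H23.WR

open H24 H26 Cfsg Subgroup H4 H13.W H13.Dih
open H22 (WR WA Bj hh sw)
open scoped ComplexConjugate Classical commutatorElement

universe u

variable {G : Type u} [Group G] [Fintype G] {c : WC G} {A P X : Subgroup G} {f : G → ℂ}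
  {x v : G}

theorem t_mem_of_diag {a : WA c.n} (ha : c.E.r a ∈ P) (h0 : a ≠ 0) (h : a.1 = a.2 ∨ a.1 = -a.2) :
    c.t ∈ P := by
  have h1 : zpowers (c.E.r a) ≤ c.E0 := zpowers_le.2 (c.r_mem a)
  obtain ⟨z, hz, ho⟩ := exists_two_of_pi (c.E0_pi.of_le h1)
    (by rw [Ne, zpowers_eq_bot, c.E.r_eq_one]; exact h0)
  have hzP : z ∈ P := zpowers_le.2 ha hz
  obtain ⟨k, hk⟩ := c.E.mem_zpowers_r.1 hz
  rcases c.mem_V.1 (c.mem_V_iff.2 ⟨h1 hz, sq_of ho⟩) with e | e | e | e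
  · exact absurd e (ne_one_of ho)
  · rwa [← e]
  · exfalso
    rw [e, WC.u, c.E.r_inj, Prod.ext_iff] at hk
    simp only [Prod.smul_fst, Prod.smul_snd] at hk
    rcases h with h | h
    · exact c.hh0 (by rw [← hk.1, h, hk.2])
    · exact c.hh0 (by rw [← hk.1, h, smul_neg, hk.2, neg_zero])
  · exfalso
    rw [e, c.tu_eq, c.E.r_inj, Prod.ext_iff] at hk
    simp only [Prod.smul_fst, Prod.smul_snd] at hk
    rcases h with h | h
    · exact c.hh0 (by rw [← hk.2, ← h, hk.1])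
    · refine c.hh0 (neg_eq_zero.1 ?_)
      rw [← hk.2, ← smul_neg, ← h, hk.1]

theorem cyc_of_le_S (M : Mod c) (hP : P ≤ c.S) (ht : c.t ∉ P) : Cyc P := by
  by_cases h : P ≤ c.E0
  · refine cyc_of_img (f := M.κ) (hP.trans c.S_le_H) ?_ ?_
    · refine eq_bot_iff.2 fun y hy => ?_
      obtain ⟨a, rfl⟩ := c.mem_E0.1 (h hy.2)
      have h1 := (mem_pre_bot.1 hy.1).2
      rw [M.κ_r, ← orderOf_dvd_iff_pow_eq_one, M.d.ord_e] at h1
      have h2 : a.1 - a.2 = 0 := by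
        rw [← ZMod.natCast_zmod_val (a.1 - a.2)]; exact (ZMod.natCast_eq_zero_iff _ _).2 h1
      by_contra h3
      exact ht (t_mem_of_diag hy.2 (fun e => h3 (by rw [e, c.E.r_zero]; exact one_mem _))
        (Or.inl (sub_eq_zero.1 h2)))
    · exact (cyc_zpowers M.d.e).of_le ((img_mono _ h).trans M.img_E0.le)
  · obtain ⟨y, hy, hy'⟩ := SetLike.not_le_iff_exists.1 h
    obtain ⟨d, rfl⟩ := (c.E.cases (hP hy)).resolve_left (by
      rintro ⟨a, rfl⟩; exact hy' (c.r_mem a))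
    have key : ∀ a, c.E.r a ∈ P → a = 0 := by
      intro a ha
      have h1 := mul_mem ha (inv_mem (mul_mem (mul_mem hy ha) (inv_mem hy)))
      rw [c.E.s_conj_r, c.E.r_inv, c.E.r_mul_r] at h1
      have h2 : a + -sw c.n a = 0 := by
        by_contra h2
        exact ht (t_mem_of_diag h1 h2 (Or.inr (by simp)))
      by_contra h3
      refine ht (t_mem_of_diag ha h3 (Or.inl ?_))
      have := congrArg Prod.fst h2
      simpa [add_neg_eq_zero] using this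
    refine (cyc_zpowers (c.E.s d)).of_le fun g hg => ?_
    rcases c.E.cases (hP hg) with ⟨a, rfl⟩ | ⟨a, rfl⟩
    · rw [key a hg, c.E.r_zero]; exact one_mem _
    · have h1 := mul_mem hg (inv_mem hy)
      rw [c.E.s_mul_s_inv] at h1
      rw [sub_eq_zero.1 (key _ h1)]; exact mem_zpowers _

theorem cyc_of_not_t (M : Mod c) (hP : P ≤ c.H) (h2 : IsPi {2} P) (ht : c.t ∉ P) : Cyc P := by
  obtain ⟨g, hg, h⟩ := Sylow_Jsub Nat.prime_two (c.S_syl_of c.S_le_H) h2 hP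
  refine cyc_cj.1 (cyc_of_le_S M h fun h1 => ht ?_)
  rw [← mem_C1_iff_conj.1 hg] at h1
  exact conj_mem_cj_iff.1 h1

theorem exists_sd (M : Mod c) (hX : X ≤ c.H) (ht : c.t ∉ X) :
    ∃ P, Syl 2 X P ∧ Cyc P ∧ SD 𝒪[X] P X := by
  obtain ⟨P, hP⟩ := Sylow_exists Nat.prime_two X
  have hc := cyc_of_not_t M (hP.le.trans hX) hP.pi fun h => ht (hP.le h)
  refine ⟨P, hP, hc, ?_⟩
  rcases Nat.even_or_odd ♯X with h | h
  · have e : (♯X).minFac = 2 := (Nat.minFac_eq_two_iff _).2 h.two_dvd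
    have := cyclic_pdiv_normal_complement (M := X) (S := P) (by rwa [e]) hc
    rwa [e] at this
  · have : P = ⊥ := by
      by_contra h1
      obtain ⟨z, hz, ho⟩ := exists_two_of_pi hP.pi h1
      have := odd_orderOf h (hP.le hz)
      rw [ho] at this; exact absurd this (by decide)
    subst this
    rw [le_antisymm (pcore_le _ _) (le_O h (Nml.refl X))]
    exact SD.bot_right X

theorem inv_invol (hf : IsClassFunction G f)
    (hinv : ∀ g, c.t ∈ zpowers g → ∀ o ∈ c.O, f (g * o) = f g) (hv : v ∈ zpowers x)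
    (ho : orderOf v = 2) {o : G} (h : o ∈ 𝒪[C{v}]) : f (o * x) = f x := by
  obtain ⟨g, hg⟩ := c.invol_G ho
  have h1 : c.t ∈ zpowers (g * x * g⁻¹) := by
    obtain ⟨k, rfl⟩ := hv
    exact ⟨k, by rw [← hg]; exact conj_zpow⟩
  have h2 : g * o * g⁻¹ ∈ c.O := by
    have := conj_mem_cj g h
    rwa [← pcore_cj, cj_C1, hg] at this
  rw [hf.mul_comm, ← hf (x * o) g, ← hf x g, ← hinv _ h1 _ h2]
  congr 1; group

theorem cent_le_O (hN : c.H ≤ N[A]) (hu : A ⊓ C{c.u} ≤ 𝒪[C{c.u}]) (hv : v ∈ c.H)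
    (ho : orderOf v = 2) (h1 : v ≠ c.t) : A ⊓ C{v} ≤ 𝒪[C{v}] := by
  obtain ⟨g, hg, e⟩ := c.invol_H hv ho h1
  rw [← cj_le_cj (g := g), cj_inf, ← pcore_cj, cj_C1, e, cj_of_mem_N (hN hg)]
  exact hu

theorem q_eq (M : Mod c) (hε : M.d.N.ε = 1) : M.Q = M.d.N.q := by rw [Mod.Q, hε, one_mul]

theorem F_eq (M : Mod c) (hε : M.d.N.ε = 1) :
    (M.F : ℂ) = (M.d.N.q ^ 2 + M.d.N.q + 1 : ℕ) := by
  rw [Mod.F, q_eq M hε]; push_cast; rfl

theorem three_le (M : Mod c) : 3 ≤ M.d.N.q := by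
  have h1 := M.d.N.hp.two_le
  have h2 := M.d.N.p_ne
  have h3 := Nat.le_self_pow M.d.N.f_pos.ne' M.d.N.p
  rw [← M.d.N.hq] at h3
  omega

theorem eq_one_of_val [IsSimpleGroup G] (M : Mod c) (hε : M.d.N.ε = 1) {fe fo : G → ℂ}
    (h : M.Chi fe fo) (hx : fe x = fe 1) : x = 1 := by
  refine h.irr_e.eq_one_of_apply_eq_of_simple (fun e => ?_) hx
  have h1 := h.deg_e
  rw [e, F_eq M hε] at h1
  have h2 : 1 = M.d.N.q ^ 2 + M.d.N.q + 1 := by
    have h3 : (1 : ℂ) = _ := h1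
    exact_mod_cast h3
  have := three_le M
  nlinarith

theorem le_m₁ (M : Mod c) (hε : M.d.N.ε = 1) {fe fo : G → ℂ} (h : M.Chi fe fo) (hA : Odd ♯A)
    (hN : c.t ∈ N[A]) (ht : A ⊓ c.H ≤ c.O) {m₁ : ℕ} (hm : tr fe (1 : A →* ℂˣ) 1 = m₁) :
    M.d.N.q + 2 ≤ m₁ := by
  have h1 : c.t ∈ stab (1 : A →* ℂˣ) := by rwa [stab_one]
  obtain ⟨a, b, ha, hb⟩ := tr_invol h.irr_e.isCharacter h1 c.ht
  rw [tr_eq_ite h.irr_e.classFun h1 (by rw [c.ht]; exact Nat.coprime_two_left.2 hA)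
    (fun o ho => inv_invol h.irr_e.classFun h.inv_e (mem_zpowers _) c.ht (ht ho)), if_pos rfl,
    h.val_e, q_eq M hε] at hb
  have h2 : m₁ = a + b := by exact_mod_cast hm.symm.trans ha
  have h3 : M.d.N.q + 2 + b = a := by
    have : ((M.d.N.q + 2 + b : ℕ) : ℂ) = a := by push_cast at hb ⊢; linear_combination hb
    exact_mod_cast this
  omega

theorem t_not_mem_stab {l : A →* ℂˣ} (hl : l ≠ 1) (hA : Odd ♯A)
    (h : ∀ a ∈ A ⊓ c.H, ap l a = 1) : c.t ∉ stab l := fun h1 =>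
  hl ((res_eq_one_iff h1 (by rw [c.ht]; exact Nat.coprime_two_left.2 hA)).1
    (MonoidHom.ext fun a => by rw [res_apply]; exact h a a.2))

theorem big_stab [IsSimpleGroup G] (M : Mod c) (hε : M.d.N.ε = 1) {fe fo : G → ℂ}
    (h : M.Chi fe fo) {H₁ : Subgroup G} (hA : Odd ♯A) (hab : Abl A) (hne : A ≠ ⊥)
    (hN : c.H ≤ N[A]) (ht : A ⊓ c.H = ⊥) (hu : A ⊓ C{c.u} ≤ O[{2}ᶜ, C{c.u}]) (hH : H₁ ≤ c.H) :
    ∃ A' < A, ∃ J ≤ H₁, Odd ♯J ∧ ⁅A, J⁆ ≤ A' ∧ ♯H₁ ≤ ♯J * (M.d.N.q ^ 2 - 1) := by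
  have hf := h.irr_e.isCharacter
  obtain ⟨a, ha, ha1⟩ := (Subgroup.bot_or_exists_ne_one A).resolve_left hne
  obtain ⟨l, hl, hl0⟩ := exists_ne_one hf hab ha fun e => ha1 (eq_one_of_val M hε h e)
  obtain ⟨m, hm⟩ := tr_nat hf l
  obtain ⟨m₁, hm₁⟩ := tr_nat hf (1 : A →* ℂˣ)
  have h1 := le_m₁ M hε h hA (hN c.t_mem_H) (ht.le.trans bot_le) hm₁
  have h2 := (orbit_bound hf hl (hH.trans hN) hm hm₁ (h.deg_e.trans (F_eq M hε))).1
  have h3 : c.t ∉ stab l := t_not_mem_stab hl hA fun a ha => by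
    rw [ht, mem_bot] at ha; rw [ha, ap_one]
  obtain ⟨P, hP, -, sd⟩ := exists_sd M (X := stab l ⊓ H₁) (inf_le_right.trans hH) fun e => h3 e.1
  have hPl : P ≤ stab l := hP.le.trans inf_le_left
  have h4 : ♯P ∣ m := card_dvd_of_tr hf hPl hm fun p hp hp1 => by
    have h5 : zpowers p ≤ P := zpowers_le.2 hp
    obtain ⟨v, hv, ho⟩ := exists_two_of_pi (hP.pi.of_le h5) (by rwa [Ne, zpowers_eq_bot])
    have h6 := cent_le_O hN hu (hH (hP.le (h5 hv)).2) ho fun e => h3 (e ▸ hPl (h5 hv))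
    rw [tr_eq_ite hf.classFun (hPl hp) ?_ fun o ho' => inv_invol hf.classFun h.inv_e hv ho
      (h6 ⟨ho'.1, ?_⟩), if_neg hl]
    · have := (cop2 hA (hP.pi.of_le h5)).symm
      rwa [Nat.card_zpowers] at this
    · exact C1_le_C1_of_mem_zpowers hv ho'.2
  have hm0 : m ≠ 0 := by rintro rfl; exact hl0 (by simpa using hm)
  refine ⟨pre l ⊥, lt_of_le_of_ne (pre_le _ _) fun e => hl ?_, 𝒪[stab l ⊓ H₁],
    (pcore_le _ _).trans inf_le_right, odd_pcore _, ?_, ?_⟩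
  · ext x
    have := (mem_pre_bot.1 (e.ge x.2)).2
    rw [ap_coe] at this; simp [this]
  · refine commutator_le.2 fun x hx g hg => ?_
    have hg' := (pcore_le _ _ hg).1
    have e : ⁅x, g⁆ = x * (g * x⁻¹ * g⁻¹) := by rw [commutatorElement_def]; group
    have h5 := H24.conj_mem hg'.1 (inv_mem hx)
    rw [e, mem_pre_bot, ap_mul _ hx h5, hg'.2 _ (inv_mem hx), ap_inv _ hx, mul_inv_cancel]
    exact ⟨mul_mem hx h5, rfl⟩
  · have h5 : ♯(stab l ⊓ H₁) * (stab l).relIndex H₁ = ♯H₁ := by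
      rw [← inf_relIndex_right]; exact card_mul_relIndex inf_le_right
    rw [← h5, sd.card, mul_assoc]
    refine Nat.mul_le_mul_left _ ?_
    have h6 := Nat.mul_le_mul_left ((stab l).relIndex H₁) (Nat.le_of_dvd (Nat.pos_of_ne_zero hm0) h4)
    rw [mul_comm]
    omega

end H23.WR
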