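import Mathlib
import Cfsg.Agent.H22.SuzII1
import Cfsg.Agent.H23.WR2

/-! Wreathed case: rooted sections. -/

set_option autoImplicit false
set_option linter.unusedSectionVars false

namespace H23.WR

open H24 H26 Cfsg Subgroup H4 H13.W H13.Dih
open H22 (WR WA Bj hh sw)
open scoped ComplexConjugate Classical commutatorElement

universe u

variable {G : Type u} [Group G] [Fintype G] {c : WC G} {A P X : Subgroup G} {f : G → ℂ}
  {x v : G}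

theorem û_two (M : Mod c) : orderOf (M.d.e ^ 2 ^ (c.n - 1)) = 2 := by
  refine two_of ?_ (M.d.û_ne c.hn)
  rw [← M.κ_u, ← ap_mul _ c.u_mem_H c.u_mem_H, sq_of c.hu, ap_one]

theorem stab_index (M : Mod c) {U : Subgroup M.Γ} (R : Roots M.d U) (hX : X ≤ c.H) (ht : c.t ∉ X)
    (hu : c.u ∈ X) : (C{c.u}).relIndex X ≤ c.k * M.d.N.q := by
  obtain ⟨P, hP, hc, -⟩ := exists_sd M hX ht
  have hJ := R.invol (img M.κ X) fun a ha b hb h1 h2 h3 => by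
    by_contra! h
    have h4 : Four a b := ⟨two_of h1 h.1, two_of h2 h.2.1, h.2.2.symm, h3.symm⟩
    obtain ⟨g, -, hg⟩ := Sylow_Jsub Nat.prime_two (hP.img M.κ hX) h4.V_pi (Four.V_le.2 ⟨ha, hb⟩)
    exact h4.V_ncyc (cyc_cj.1 ((hc.img _).of_le hg))
  let Y := pre M.κ C{M.d.e ^ 2 ^ (c.n - 1)} ⊓ X
  have h1 : Y.relIndex X ≤ M.d.N.q := by
    rw [inf_relIndex_right, relIndex_pre _ _ hX, H22.relIndex_centralizer]
    refine le_trans (Set.ncard_le_ncard ?_ (Set.toFinite _)) hJ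
    rintro _ ⟨g, hg, rfl⟩
    refine ⟨mem_inf.2 ⟨mul_mem (mul_mem hg ?_) (inv_mem hg),
      M.d.L_nml.conj_mem _ (M.d.û_mem c.hn) g⟩, two_conj (û_two M) g⟩
    rw [← M.κ_u]; exact ap_mem_img _ hu c.u_mem_H
  have h2 : (C{c.u}).relIndex Y ≤ c.k := by
    rw [WC.k, inf_relIndex_left, H22.relIndex_centralizer, H22.relIndex_centralizer]
    refine Set.ncard_le_ncard ?_ (Set.toFinite _)
    rintro _ ⟨y, hy, rfl⟩
    have hyH := hX hy.2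
    have h3 : y * c.u * y⁻¹ ∈ c.H := mul_mem (mul_mem hyH c.u_mem_H) (inv_mem hyH)
    have h4 : ap M.κ (y * c.u * y⁻¹) = ap M.κ c.u := by
      rw [ap_conj _ hyH c.u_mem_H, M.κ_u]; exact mem_C1_iff_conj.1 (mem_pre.1 hy.1).2
    rcases M.eq_mod h3 c.u_mem_H h4 (M.det_conj hyH c.u_mem_H) with h | h
    · obtain ⟨o, ho, e⟩ := conj_of_coset c.odd_O (sq_of c.hu) (sq_of (two_conj c.hu y)) h
      exact ⟨o⁻¹, inv_mem ho, by nth_rewrite 1 [← e]; group⟩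
    · exfalso
      have h5 : y * c.u * y⁻¹ * c.u⁻¹ ∈ X :=
        mul_mem (mul_mem (mul_mem hy.2 hu) (inv_mem hy.2)) (inv_mem hu)
      have h6 := mem_zpowers_of_comm c.ht (odd_orderOf c.odd_O h) (mem_C1.1 (c.O_le_H h)).symm
      rw [← mem_C1.1 (c.O_le_H h), mul_assoc, sq_of c.ht, mul_one] at h6
      exact ht (zpowers_le.2 h5 h6)
  have h3 : C{c.u} ⊓ Y = C{c.u} ⊓ X := by
    refine le_antisymm (inf_le_inf_left _ inf_le_right) fun y hy => ⟨hy.1, mem_pre.2 ⟨hX hy.2, ?_⟩, hy.2⟩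
    rw [← M.κ_u, mem_C1, ← ap_mul _ (hX hy.2) c.u_mem_H, ← ap_mul _ c.u_mem_H (hX hy.2),
      mem_C1.1 hy.1]
  rw [← inf_relIndex_right, ← h3, ← relIndex_mul_relIndex _ Y X inf_le_right inf_le_right,
    inf_relIndex_right]
  exact Nat.mul_le_mul h2 h1

theorem mem_Cu : x ∈ C{c.u} ↔ c.w⁻¹ * x * c.w ∈ c.H := by rw [← c.w_t, ← c.cj_H, mem_cj]

theorem mem_Ou : x ∈ 𝒪[C{c.u}] ↔ c.w⁻¹ * x * c.w ∈ c.O := by rw [← c.w_t, ← c.cj_O, mem_cj]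

/-- `κ` transported to `C(u)` -/
def ψ (M : Mod c) : C{c.u} →* M.Γ :=
  M.κ.comp (((MulAut.conj c.w⁻¹).toMonoidHom.comp (C{c.u}).subtype).codRestrict c.H
    fun x => by simpa using mem_Cu.1 x.2)

theorem ap_ψ (M : Mod c) (hx : x ∈ C{c.u}) : ap (ψ M) x = ap M.κ (c.w⁻¹ * x * c.w) := by
  rw [ap_of_mem _ hx, ap_of_mem _ (mem_Cu.1 hx)]
  simp [ψ]

theorem ψ_eq_one (M : Mod c) (hx : x ∈ C{c.u}) (ho : Odd (orderOf x)) :
    ap (ψ M) x = 1 ↔ x ∈ 𝒪[C{c.u}] := by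
  rw [ap_ψ M hx, mem_Ou]
  refine ⟨fun h => M.mem_O (mem_Cu.1 hx) h ?_, M.κ_O⟩
  have := H24.orderOf_conj c.w⁻¹ x
  rw [inv_inv] at this
  rwa [this]

theorem C_le_img (M : Mod c) : C{M.d.e} ≤ img (ψ M) c.D := by
  rw [← M.img_D]
  intro z hz
  obtain ⟨d, hd, -, rfl⟩ := mem_img.1 hz
  have h1 : c.w * d * c.w⁻¹ ∈ c.D := H24.conj_mem (c.NE0_le_ND c.w_mem_NE0) hd
  refine mem_img.2 ⟨_, h1, h1.2, ?_⟩
  rw [ap_ψ M h1.2]; congr 1; group

/-- the properties of a root group that are used -/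
structure Rt {Γ : Type} [Group Γ] {n : ℕ} (d : PD Γ n) (U : Subgroup Γ) : Prop where
  card : ♯U = d.N.q
  norm : d.T ≤ N[U]
  fpf : ∀ c ∈ d.T, ∀ x ∈ U, c * x * c⁻¹ = x → c = 1 ∨ x = 1
  fix : ∀ x ∈ U, x ≠ 1 → Nat.card (MulAction.fixedBy d.Ω x) = 1

theorem rt_of {Γ : Type} [Group Γ] [Finite Γ] {n : ℕ} {d : PD Γ n} {U X : Subgroup Γ}
    (R : Roots d U) (hX : IsPi {d.N.p} X) (hN : C{d.e} ≤ N[X]) (h : X ≠ ⊥) : Rt d X := by
  rcases (R.inv_sub X hX hN).resolve_left h with rfl | rfl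
  · exact ⟨R.card, d.T_le_C.trans hN, R.fpf, R.fix⟩
  · refine ⟨(card_cj _ _).trans R.card, d.T_le_C.trans hN, fun τ hτ x hx e => ?_, fun x hx h1 => ?_⟩
    · obtain ⟨y, hy, rfl⟩ := mem_cj'.1 hx
      have h1 := d.s_inv τ hτ
      have h2 : τ = d.s * τ⁻¹ * d.s⁻¹ := by rw [d.s_inv _ (inv_mem hτ), inv_inv]
      have h3 : τ⁻¹ * y * τ⁻¹⁻¹ = y := by
        rw [h2] at e
        have : d.s * (τ⁻¹ * y * τ⁻¹⁻¹) * d.s⁻¹ = d.s * y * d.s⁻¹ := by rw [← e]; group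
        simpa using this
      rcases R.fpf _ (inv_mem hτ) y hy h3 with h | h
      · exact Or.inl (inv_eq_one.1 h)
      · exact Or.inr (by simp [h])
    · obtain ⟨y, hy, rfl⟩ := mem_cj'.1 hx
      rw [← MulAction.smul_fixedBy, ← R.fix y hy (by rintro rfl; simp at h1)]
      exact Nat.card_congr (Equiv.Set.image _ _ (MulAction.injective d.s)).symm

theorem D_index (M : Mod c) (hR : Rt M.d (img (ψ M) (A ⊓ C{c.u})))
    {l : A →* ℂˣ} (hl : res l (inf_le_left : A ⊓ C{c.u} ≤ A) ≠ 1)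
    (h0 : ∀ x ∈ A ⊓ C{c.u}, ap (ψ M) x = 1 → ap l x = 1) : M.d.N.m ≤ (stab l).relIndex c.D := by
  have hD : c.D ≤ C{c.u} := inf_le_right
  have key : stab l ⊓ (pre (ψ M) M.d.T ⊓ c.D) ≤ pre (ψ M) ⊥ := by
    rintro d ⟨hd, hT, hdD⟩
    refine mem_pre_bot.2 ⟨hD hdD, ?_⟩
    have hτ := (mem_pre.1 hT).2
    set τ := ap (ψ M) d with hτd
    by_contra hne
    let F : img (ψ M) (A ⊓ C{c.u}) → img (ψ M) (A ⊓ C{c.u}) := fun y =>
      ⟨τ * y * τ⁻¹ * (y : M.Γ)⁻¹, mul_mem (H24.conj_mem (hR.norm hτ) y.2) (inv_mem y.2)⟩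
    have hF : Function.Injective F := by
      intro y y' e
      have e' : τ * y * τ⁻¹ * (y : M.Γ)⁻¹ = τ * y' * τ⁻¹ * (y' : M.Γ)⁻¹ := congrArg Subtype.val e
      have h1 := hR.fpf τ hτ _ (mul_mem (inv_mem y'.2) y.2) (by
        calc τ * ((y' : M.Γ)⁻¹ * y) * τ⁻¹
            = (τ * y' * τ⁻¹)⁻¹ * (τ * y * τ⁻¹ * (y : M.Γ)⁻¹) * y := by group
          _ = (y' : M.Γ)⁻¹ * y := by rw [e']; group)
      exact Subtype.ext (inv_mul_eq_one.1 (h1.resolve_left hne)).symm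
    refine hl (MonoidHom.ext fun x' => ?_)
    obtain ⟨⟨y, hy⟩, e⟩ := Finite.injective_iff_surjective.1 hF ⟨_, ap_mem_img _ x'.2 x'.2.2⟩
    obtain ⟨x, hx, -, rfl⟩ := mem_img.1 hy
    have e' : τ * ap (ψ M) x * τ⁻¹ * (ap (ψ M) x)⁻¹ = ap (ψ M) x' := congrArg Subtype.val e
    have h1 : d * x * d⁻¹ ∈ A ⊓ C{c.u} :=
      mem_inf.2 ⟨H24.conj_mem hd.1 hx.1, mul_mem (mul_mem (hD hdD) hx.2) (inv_mem (hD hdD))⟩
    have h2 := mul_mem h1 (inv_mem hx)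
    have h3 := h0 _ (mul_mem (inv_mem h2) x'.2) (by
      rw [ap_mul _ (inv_mem h2.2) x'.2.2, ap_inv _ h2.2, ap_mul _ h1.2 (inv_mem hx.2),
        ap_inv _ hx.2, ap_conj _ (hD hdD) hx.2, e', inv_mul_cancel])
    rw [ap_mul _ (inv_mem h2.1) x'.2.1, ap_inv _ h2.1, ap_mul _ h1.1 (inv_mem hx.1),
      ap_inv _ hx.1, hd.2 x hx.1, mul_inv_cancel, inv_one, one_mul] at h3
    rw [res_apply, h3]; rfl
  have h1 : img (ψ M) (pre (ψ M) M.d.T ⊓ c.D) = M.d.T := by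
    rw [inf_comm, img_inf_pre, inf_eq_right]
    exact M.d.T_le_C.trans (C_le_img M)
  rw [← M.d.card_T, ← h1, card_img _ (inf_le_right.trans hD)]
  refine le_trans ?_ (relIndex_le_of_le_right (inf_le_right : pre (ψ M) M.d.T ⊓ c.D ≤ c.D)
    (relIndex_ne_zero' _ _))
  rw [← inf_relIndex_right (stab l)]
  exact relIndex_le_of_le_left key (relIndex_ne_zero' _ _)

theorem tr_diff (M : Mod c) (hε : M.d.N.ε = 1) {fe fo : G → ℂ} (h : M.Chi fe fo) (hA : Odd ♯A)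
    (hR : Rt M.d (img (ψ M) (A ⊓ C{c.u}))) {l : A →* ℂˣ} (hu : c.u ∈ stab l) (hl : l ≠ 1)
    (h0 : ∀ x ∈ A ⊓ C{c.u}, ap (ψ M) x = 1 → ap l x = 1) : tr fe l c.u - tr fo l c.u = 2 := by
  have hc : (orderOf c.u).Coprime ♯A := by rw [c.hu]; exact Nat.coprime_two_left.2 hA
  have h1 := tr_const (res l (inf_le_left : A ⊓ C{c.u} ≤ A)) 1
  rw [if_neg (mt (res_eq_one_iff hu hc).1 hl)] at h1
  have h2 := card_img_mul (ψ M) (inf_le_right : A ⊓ C{c.u} ≤ _)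
  rw [hR.card] at h2
  have h3 : ∀ x : ↥(A ⊓ C{c.u}), fe (x * c.u) - fo (x * c.u) =
      2 + 2 * M.d.N.q * if ap (ψ M) x = 1 then 1 else 0 := by
    intro x
    have e : ∀ {f : G → ℂ}, IsClassFunction G f → f (x * c.u) = f (c.t * (c.w⁻¹ * x * c.w)) := by
      intro f hf
      rw [hf.mul_comm, ← hf _ c.w⁻¹]; congr 1
      generalize (x : G) = y
      rw [← c.w_t]; group
    have ho : Odd (orderOf (c.w⁻¹ * x * c.w)) := by
      have := H24.orderOf_conj c.w⁻¹ (x : G)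
      rw [inv_inv] at this
      rw [this]; exact odd_orderOf hA x.2.1
    rw [e h.irr_e.classFun, e h.irr_o.classFun, h.diff _ (mem_Cu.1 x.2.2) ho, Mod.St, hε,
      ← ap_ψ M x.2.2]
    split_ifs with h4
    · rw [h4, MulAction.fixedBy_one_eq_univ, Nat.card_univ, Nat.card_eq_fintype_card, M.d.cardΩ]
      push_cast; ring
    · rw [hR.fix _ (ap_mem_img _ x.2 x.2.2) h4]; push_cast; ring
  have h4 : ∑ x : ↥(A ⊓ C{c.u}), (if ap (ψ M) x = 1 then (1 : ℂ) else 0) *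
      conj (res l (inf_le_left : A ⊓ C{c.u} ≤ A) x : ℂ) = ♯(pre (ψ M) ⊥ ⊓ (A ⊓ C{c.u})) := by
    rw [Finset.sum_congr rfl
      (g := fun x : ↥(A ⊓ C{c.u}) => if ap (ψ M) x = 1 then (1 : ℂ) else 0) fun x _ => by
      split_ifs with h5
      · rw [res_apply, h0 x x.2 h5]; simp
      · simp, Finset.sum_boole, ← Fintype.card_subtype, ← Nat.card_eq_fintype_card]
    congr 1
    exact Nat.card_congr ⟨fun x => ⟨x.1, mem_pre_bot.2 ⟨x.1.2.2, x.2⟩, x.1.2⟩,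
      fun x => ⟨⟨x.1, x.2.2⟩, (mem_pre_bot.1 x.2.1).2⟩, fun _ => rfl, fun _ => rfl⟩
  rw [tr_avg h.irr_e.classFun hu hc, tr_avg h.irr_o.classFun hu hc]
  simp only [tr, one_mul] at h1 ⊢
  rw [← mul_sub, ← Finset.sum_sub_distrib]
  simp only [← sub_mul, h3, add_mul, mul_assoc]
  rw [Finset.sum_add_distrib, ← Finset.mul_sum, ← Finset.mul_sum, ← Finset.mul_sum, h4, mul_add,
    mul_left_comm, h1, ← h2]
  have h5 := H4.card_ne_zero ↥(pre (ψ M) ⊥ ⊓ (A ⊓ C{c.u}))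
  have h6 : (M.d.N.q : ℂ) ≠ 0 := by have := three_le M; exact_mod_cast (by omega)
  push_cast
  field_simp
  ring

theorem rooted [IsSimpleGroup G] (M : Mod c) (hε : M.d.N.ε = 1) {fe fo : G → ℂ} (h : M.Chi fe fo)
    (hi : (c.H ⊓ C{c.u}).relIndex c.H = c.k * (M.d.N.q * M.d.N.n))
    {A₀ A₁ : Subgroup G} (hp : IsPi {M.d.N.p} A₁) (h01 : A₀ ≤ A₁) (hN0 : c.H ≤ N[A₀])
    (hN1 : c.H ≤ N[A₁]) (hab : ⁅A₁, A₁⁆ ≤ A₀) (ht : A₁ ⊓ c.H ≤ A₀ ⊓ c.O)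
    (h0 : A₀ ⊓ C{c.u} ≤ O[{2}ᶜ, C{c.u}]) (h1 : ¬ A₁ ⊓ C{c.u} ≤ O[{2}ᶜ, C{c.u}]) : A₀ = ⊥ := by
  obtain ⟨U, R⟩ := M.roots hε
  have hA := odd_of_pi M.d.N.p_ne hp
  obtain ⟨x, hx, hx'⟩ := SetLike.not_le_iff_exists.1 h1
  have hxo := odd_orderOf hA hx.1
  have hR : Rt M.d (img (ψ M) (A₁ ⊓ C{c.u})) := by
    refine rt_of R ((hp.inf_left _).img _) ((C_le_img M).trans (img_norm _
      (norm_inf (c.D_le_H.trans hN1) (norm_of_le inf_le_right)))) fun e => hx' ?_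
    exact (ψ_eq_one M hx.2 hxo).1 (mem_bot.1 (e ▸ ap_mem_img _ hx hx.2))
  obtain ⟨l₀, hB, hl₀⟩ := exists_sep (A := A₁) (B := A₀ ⊔ A₁ ⊓ 𝒪[C{c.u}]) (x := x * x)
    (sup_le h01 inf_le_left) (hab.trans le_sup_left) (mul_mem hx.1 hx.1) fun e => by
      obtain ⟨a, ha, b, hb, e'⟩ :=
        (mem_sup_of_norm (inf_le_left.trans (norm_of_der1_le hab h01))).1 e
      have h2 : a ∈ C{c.u} := by
        rw [eq_mul_inv_of_mul_eq e'.symm]
        exact mul_mem (mul_mem hx.2 hx.2) (inv_mem (pcore_le _ _ hb.2))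
      exact hx' (zpowers_le.2 (e' ▸ mul_mem (h0 ⟨ha, h2⟩) hb.2) (mem_zpowers_sq hxo))
  have hu1 := hN1 c.u_mem_H
  let l : A₁ →* ℂˣ := l₀ * cjc l₀ ⟨c.u, hu1⟩
  have hl : ∀ a ∈ A₁, ap l a = ap l₀ a * ap l₀ (c.u * a * c.u⁻¹) := fun a ha => by
    rw [ap_of_mem _ ha, ap_of_mem _ ha, MonoidHom.mul_apply, cjc_apply]
  have hu : c.u ∈ stab l := ⟨hu1, fun a ha => by
    rw [hl _ (H24.conj_mem hu1 ha), hl a ha, mul_comm]
    congr 2
    calc c.u * (c.u * a * c.u⁻¹) * c.u⁻¹ = c.u * c.u * a * (c.u * c.u)⁻¹ := by group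
      _ = a := by rw [sq_of c.hu]; group⟩
  have hl1 : l ≠ 1 := fun e => hl₀ (by
    have := hl x hx.1
    rw [mem_C1_iff_conj.1 (mem_C1_comm.1 hx.2), ← ap_mul _ hx.1 hx.1, e, ap_of_mem _ hx.1] at this
    exact this.symm)
  have hl0 : ∀ a ∈ A₀, ap l a = 1 := fun a ha => by
    rw [hl a (h01 ha), hB a (mem_sup_left ha),
      hB _ (mem_sup_left (H24.conj_mem (hN0 c.u_mem_H) ha)), one_mul]
  have hlψ : ∀ y ∈ A₁ ⊓ C{c.u}, ap (ψ M) y = 1 → ap l y = 1 := fun y hy e => by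
    rw [hl y hy.1, mem_C1_iff_conj.1 (mem_C1_comm.1 hy.2), hB y (mem_sup_right
      ⟨hy.1, (ψ_eq_one M hy.2 (odd_orderOf hA hy.1)).1 e⟩), one_mul]
  have htl : c.t ∉ stab l := t_not_mem_stab hl1 hA fun a ha => hl0 a (ht ha).1
  have hm : (M.d.N.m : ℤ) = M.d.N.q - 1 := by rw [M.d.N.hm, hε]
  have hn : M.d.N.n = M.d.N.q + 1 := by have := M.d.N.hn; rw [hε] at this; exact_mod_cast this
  have hq := three_le M
  have hr : M.d.N.q ^ 2 ≤ (stab l).relIndex c.H + 1 := by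
    have i1 := stab_index M R (X := stab l ⊓ c.H) inf_le_right (fun e => htl e.1) ⟨hu, c.u_mem_H⟩
    have i2 := D_index M hR (mt (res_eq_one_iff hu
      (by rw [c.hu]; exact Nat.coprime_two_left.2 hA)).1 hl1) hlψ
    have i3 := relIndex_mul_relIndex (C{c.u} ⊓ (stab l ⊓ c.H)) (stab l ⊓ c.H) c.H inf_le_right
      inf_le_right
    have i4 := relIndex_mul_relIndex (stab l ⊓ c.D) c.D c.H inf_le_right c.D_le_H
    have i5 : C{c.u} ⊓ (stab l ⊓ c.H) = stab l ⊓ c.D := by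
      rw [inf_left_comm, inf_comm C{c.u}]; rfl
    rw [inf_relIndex_right, inf_relIndex_right, i5, ← i4, inf_relIndex_right,
      show c.D.relIndex c.H = _ from hi, hn] at i3
    have hk : 0 < c.k * M.d.N.q := Nat.mul_pos (Nat.pos_of_ne_zero (relIndex_ne_zero' _ _)) (by omega)
    have i6 : c.k * M.d.N.q * (M.d.N.m * (M.d.N.q + 1)) ≤ c.k * M.d.N.q * (stab l).relIndex c.H := by
      refine le_trans ?_ (Nat.mul_le_mul_right _ i1)
      rw [i3]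
      calc _ = M.d.N.m * (c.k * (M.d.N.q * (M.d.N.q + 1))) := by ring
        _ ≤ _ := Nat.mul_le_mul_right _ i2
    have i7 := Nat.le_of_mul_le_mul_left i6 hk
    zify at i7 ⊢
    rw [hm] at i7
    linarith
  obtain ⟨a, b, ha, hb⟩ := tr_invol h.irr_e.isCharacter hu c.hu
  obtain ⟨a', b', ha', hb'⟩ := tr_invol h.irr_o.isCharacter hu c.hu
  have hd := tr_diff M hε h hA hR hu hl1 hlψ
  have hd' : a + b' = a' + b + 2 := by
    have : ((a + b' : ℕ) : ℂ) = (a' + b + 2 : ℕ) := by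
      rw [hb, hb'] at hd; push_cast; linear_combination hd
    exact_mod_cast this
  obtain ⟨m₁, hm₁⟩ := tr_nat h.irr_e.isCharacter (1 : A₁ →* ℂˣ)
  obtain ⟨m₂, hm₂⟩ := tr_nat h.irr_o.isCharacter (1 : A₁ →* ℂˣ)
  have b1 := le_m₁ M hε h hA (hN1 c.t_mem_H) (ht.trans inf_le_right) hm₁
  have b2 := (orbit_bound h.irr_e.isCharacter hl1 hN1 (m := a + b) (by rw [ha, Nat.cast_add]) hm₁
    (h.deg_e.trans (F_eq M hε))).2
  have b3 := (orbit_bound h.irr_o.isCharacter hl1 hN1 (m := a' + b') (by rw [ha', Nat.cast_add]) hm₂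
    (h.deg_o.trans (F_eq M hε))).1
  rcases Nat.eq_zero_or_pos (a + b) with h2 | h2
  · exfalso
    have h3 := Nat.mul_le_mul_left ((stab l).relIndex c.H) (show 2 ≤ a' + b' by omega)
    nlinarith
  · refine eq_bot_iff.2 fun y hy => eq_one_of_val M hε h (b2 ?_ y (h01 hy) fun g hg =>
      hl0 _ (H24.conj_mem (hN0 hg) hy))
    have h3 := Nat.mul_le_mul_left ((stab l).relIndex c.H) h2
    omega

end H23.WR
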