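import Mathlib
import Cfsg.Agent.H16.YD
import Cfsg.Agent.H25.Sympl
import Cfsg.Agent.H3.Critical
import Cfsg.Agent.H3.Extraspecial

/-!
# P. Hall's theorem on groups of symplectic type: the part inside the `2`-group
-/

set_option autoImplicit false
set_option linter.unusedVariables false
set_option linter.unusedSectionVars false

open Cfsg Subgroup H16.SY H25.Sym
open scoped commutatorElement

namespace H23.Y0

variable {T : Type*} [Group T] [Finite T] {A H R U Z : Subgroup T} {z b x y q r a k : T}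

theorem cyc_mem (hA : IsCyclic A) (hx : x ∈ A) (hy : y ∈ A) (h : x ^ orderOf y = 1) :
    x ∈ zpowers y := by
  classical
  have := Fintype.ofFinite A
  have h0 : 0 < orderOf y := orderOf_pos y
  have h1 := IsCyclic.card_pow_eq_one_le (α := A) h0
  let s : Finset A := Finset.univ.filter fun a : A => (a : T) ∈ zpowers y
  have h2 : s ⊆ Finset.univ.filter fun a : A => a ^ orderOf y = 1 := by
    intro a ha
    simp only [s, Finset.mem_filter, Finset.mem_univ, true_and] at ha ⊢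
    obtain ⟨i, hi⟩ := ha
    apply Subtype.ext
    simp only [SubgroupClass.coe_pow, OneMemClass.coe_one]
    rw [← hi, ← zpow_natCast, ← zpow_mul, mul_comm, zpow_mul, zpow_natCast, pow_orderOf_eq_one,
      one_zpow]
  have h3 : s.card = orderOf y := by
    rw [← Nat.card_zpowers, ← H24.card_subgroupOf_of_le (zpowers_le.2 hy), Nat.card_eq_fintype_card,
      Fintype.card_subtype]
    rfl
  have h4 := Finset.eq_of_subset_of_card_le h2 (h3 ▸ h1)
  have h5 : (⟨x, hx⟩ : A) ∈ s := by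
    rw [h4]; simp only [Finset.mem_filter, Finset.mem_univ, true_and]; exact Subtype.ext h
  simpa [s] using h5

theorem ord4 (hz : orderOf z = 2) (hb : b * b = z) : orderOf b = 4 := by
  have h1 : z ≠ 1 := by rintro rfl; simp at hz
  have : orderOf b = 2 ^ (1 + 1) := orderOf_eq_prime_pow (by rwa [pow_one, sq, hb])
    (by rw [show 2 ^ (1 + 1) = 2 * 2 from rfl, pow_mul, sq b, hb, sq, sq2 hz])
  exact this

theorem exists_level (h2 : ∃ n, x ^ 2 ^ n = 1) {j : ℕ} (h : x ^ 2 ^ j ≠ 1) :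
    ∃ y ∈ zpowers x, y ^ 2 ^ j ≠ 1 ∧ y ^ 2 ^ (j + 1) = 1 := by
  classical
  have h3 : ∃ n, x ^ 2 ^ (j + n) = 1 := by
    obtain ⟨n, hn⟩ := h2
    exact ⟨n, by rw [add_comm, pow_add, pow_mul, hn, one_pow]⟩
  have h4 := Nat.find_spec h3
  obtain ⟨m, hm⟩ : ∃ m, Nat.find h3 = m + 1 := Nat.exists_eq_succ_of_ne_zero fun e => h (by
    rwa [e] at h4)
  have h5 := Nat.find_min h3 (m := m) (by omega)
  refine ⟨x ^ 2 ^ m, pow_mem (mem_zpowers x) _, ?_, ?_⟩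
  · rwa [← pow_mul, ← pow_add, add_comm]
  · rw [← pow_mul, ← pow_add, ← h4, hm]; congr 2; ring

theorem odd_fix {u : T} {n : ℕ} (ho : Odd (orderOf x)) (h2 : u ^ 2 ^ n = 1)
    (h : x * y * x⁻¹ = u * y) (hu : Commute x u) : Commute x y := by
  have key : ∀ m : ℕ, x ^ m * y * (x ^ m)⁻¹ = u ^ m * y := by
    intro m
    induction m with
    | zero => simp
    | succ m ih =>
      calc x ^ (m + 1) * y * (x ^ (m + 1))⁻¹ = x * (x ^ m * y * (x ^ m)⁻¹) * x⁻¹ := by group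
        _ = (x * u ^ m) * y * x⁻¹ := by rw [ih]; group
        _ = u ^ m * (x * y * x⁻¹) := by rw [(hu.pow_right m).eq]; group
        _ = _ := by rw [h, pow_succ, mul_assoc]
  have h3 := key (orderOf x)
  rw [pow_orderOf_eq_one, one_mul, inv_one, mul_one, right_eq_mul] at h3
  have h1 : u = 1 := orderOf_eq_one_iff.1 (Nat.eq_one_of_dvd_coprimes
    ((Nat.coprime_two_right.2 ho).pow_right n) (orderOf_dvd_of_pow_eq_one h3)
    (orderOf_dvd_of_pow_eq_one h2))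
  rw [h1, one_mul] at h
  exact mul_inv_eq_iff_eq_mul.1 h

theorem cyc_of (hT : IsOfSymplecticType T) {S : Set T} (hS : ∀ φ : T ≃* T, ∀ x ∈ S, φ x ∈ S)
    (hc : ∀ x ∈ S, ∀ y ∈ S, x * y = y * x) : IsCyclic (closure S) := by
  refine hT.2 _ (characteristic_iff_le_comap.2 fun φ => (closure_le _).2 fun x hx =>
    subset_closure (hS φ x hx)) (isMulCommutative_closure hc)

theorem rep (hzz : z * z = 1) (hc : ∀ x ∈ R, ∀ y ∈ R, x * y * x⁻¹ = y ∨ x * y * x⁻¹ = y * z)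
    (hz : ∀ x ∈ R, Commute x z) (hZ : ∀ x ∈ R, (∀ y ∈ R, Commute x y) → x ∈ Z) (hZR : Z ≤ R)
    (hq : ∀ r ∈ R, q * r * q⁻¹ = r ∨ q * r * q⁻¹ = r * z) (hqZ : ∀ a ∈ Z, Commute q a) :
    ∃ y ∈ R, ∀ r ∈ R, Commute (y⁻¹ * q) r := by
  by_cases h0 : ∀ r ∈ R, Commute q r
  · exact ⟨1, one_mem _, by simpa using h0⟩
  push Not at h0
  obtain ⟨r1, hr1, h1⟩ := h0
  have h2 : ¬ ∀ y ∈ R, (∀ t ∈ R ⊓ centralizer {q}, Commute y t) → Commute y r1 := fun h =>
    h1 (mem_centralizer_singleton_iff.1 (perp_perp' (U := R ⊓ centralizer {q}) hzz hc hz hZ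
      inf_le_left (fun a ha => ⟨hZR ha, mem_centralizer_singleton_iff.2 (hqZ a ha).symm⟩)
      hr1 h).2).symm
  push Not at h2
  obtain ⟨y, hy, h3, h4⟩ := h2
  have e1 := (hq r1 hr1).resolve_left fun e => h1 (mul_inv_eq_iff_eq_mul.1 e)
  refine ⟨y, hy, fun r hr => ?_⟩
  by_cases h5 : Commute q r
  · exact (h3 r ⟨hr, mem_centralizer_singleton_iff.2 h5.symm⟩).inv_left.mul_left h5
  have e2 := (hq r hr).resolve_left fun e => h5 (mul_inv_eq_iff_eq_mul.1 e)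
  have h6 : Commute q (r * r1) := by
    have e3 : q * (r * r1) * q⁻¹ = (q * r * q⁻¹) * (q * r1 * q⁻¹) := by group
    rw [e1, e2, mul_assoc r, ← mul_assoc z, ← (hz r1 hr1).eq, mul_assoc r1, hzz, mul_one] at e3
    exact mul_inv_eq_iff_eq_mul.1 e3
  have h7 := h3 _ ⟨mul_mem hr hr1, mem_centralizer_singleton_iff.2 h6.symm⟩
  have e4 := (hc y hy r hr).resolve_left fun e => h4 (by
    have := (show Commute y r from mul_inv_eq_iff_eq_mul.1 e).inv_right.mul_right h7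
    rwa [inv_mul_cancel_left] at this)
  have : y⁻¹ * q * r * (y⁻¹ * q)⁻¹ = y⁻¹ * (q * r * q⁻¹) * y := by group
  rw [e2, ← e4] at this
  exact mul_inv_eq_iff_eq_mul.1 (this.trans (by group))

/-- a critical subgroup of a group of symplectic type -/
structure Cr (z : T) (A H : Subgroup T) : Prop where
  hT : IsOfSymplecticType T
  hz : orderOf z = 2
  hc : z ∈ center T
  cA : A.Characteristic
  cH : H.Characteristic
  AH : A ≤ H
  HC : H ≤ centralizer (A : Set T)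
  sq : ∀ x ∈ H, x ^ 2 ∈ A
  cm : ∀ x ∈ H, ∀ g, ⁅x, g⁆ ∈ A
  CH : centralizer (H : Set T) = A

theorem csq1 (h : Commute x ⁅x, y⁆) : ⁅x * x, y⁆ = ⁅x, y⁆ * ⁅x, y⁆ := by
  have : ⁅x * x, y⁆ = (x * ⁅x, y⁆) * x⁻¹ * ⁅x, y⁆ := by simp only [commutatorElement_def]; group
  rw [this, h.eq]; group

namespace Cr

variable (h : Cr z A H)
include h

theorem zz : z * z = 1 := sq2 h.hz
theorem z1 : z ≠ 1 := by rintro rfl; simpa using h.hz
theorem cz (x : T) : Commute x z := mem_center_iff.1 h.hc x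
theorem comm (hx : x ∈ H) (ha : a ∈ A) : Commute x a := (mem_centralizer_iff.1 (h.HC hx) a ha).symm
theorem memA (hx : ∀ k ∈ H, Commute x k) : x ∈ A :=
  h.CH ▸ mem_centralizer_iff.2 fun k hk => (hx k hk).symm
theorem zA : z ∈ A := h.memA fun k _ => (h.cz k).symm
theorem cyc : IsCyclic A :=
  h.hT.2 A h.cA ⟨⟨fun a b => Subtype.ext (h.comm (h.AH a.2) b.2)⟩⟩
theorem two (ha : a ∈ A) (e : a * a = 1) : a = 1 ∨ a = z := cyc_two h.cyc h.hz h.zA ha e
theorem fixz (φ : T ≃* T) : φ z = z :=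
  (h.two (characteristic_iff_le_comap.1 h.cA φ h.zA) (by rw [← map_mul, h.zz, map_one])).resolve_left
    fun e => h.z1 (φ.injective (e.trans (map_one φ).symm))
theorem nA (g : T) (ha : a ∈ A) : g * a * g⁻¹ ∈ A := by
  have := h.cA; exact Normal.conj_mem inferInstance a ha g
theorem cases (hx : x ∈ H) (e : ⁅x * x, y⁆ = 1) : ⁅x, y⁆ = 1 ∨ ⁅x, y⁆ = z :=
  h.two (h.cm x hx y) (by rw [← csq1 (h.comm hx (h.cm x hx y)), e])
theorem of_cases (e : ⁅x, y⁆ = 1 ∨ ⁅x, y⁆ = z) : x * y * x⁻¹ = y ∨ x * y * x⁻¹ = y * z := by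
  have e1 : x * y * x⁻¹ = ⁅x, y⁆ * y := by simp only [commutatorElement_def]; group
  rw [e1]
  rcases e with e | e <;> rw [e]
  · exact Or.inl (one_mul _)
  · exact Or.inr (h.cz y).eq.symm
theorem cases_symm (e : ⁅x, y⁆ = 1 ∨ ⁅x, y⁆ = z) : ⁅y, x⁆ = 1 ∨ ⁅y, x⁆ = z := by
  rw [← commutatorElement_inv]
  rcases e with e | e <;> rw [e]
  · exact Or.inl inv_one
  · exact Or.inr (inv_eq_of_mul_eq_one_right h.zz)
theorem hH (hx : x ∈ H) (hy : y ∈ H) : ⁅x, y⁆ = 1 ∨ ⁅x, y⁆ = z :=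
  h.cases hx (commutatorElement_eq_one_iff_commute.2 (h.comm hy (by rw [← pow_two]; exact h.sq x hx)).symm)
theorem hH' : ∀ x ∈ H, ∀ y ∈ H, x * y * x⁻¹ = y ∨ x * y * x⁻¹ = y * z := fun x hx y hy =>
  h.of_cases (h.hH hx hy)
theorem mul_sq (hx : x ∈ H) (hy : y ∈ H) :
    x * y * (x * y) = x * x * (y * y) ∨ x * y * (x * y) = x * x * (y * y) * z := by
  have e : x * y * (x * y) = x * (y * x * y⁻¹) * (y * y) := by group
  rw [e]
  rcases h.hH' y hy x hx with e | e <;> rw [e]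
  · exact Or.inl rfl
  · right; rw [← mul_assoc x, mul_assoc _ z, ← (h.cz (y * y)).eq, ← mul_assoc]

/-- if `q` acts on `H` like an element of `H` then `q ∈ H` -/
theorem memH (hq : ∀ k ∈ H, ⁅k * k, q⁆ = 1) (hqA : ∀ a ∈ A, Commute q a) : q ∈ H := by
  obtain ⟨y, hy, e⟩ := rep (Z := A) (q := q) h.zz h.hH' (fun x _ => h.cz x)
    (fun x _ hx => h.memA hx) h.AH
    (fun r hr => h.of_cases (h.cases_symm (h.cases hr (hq r hr)))) hqA
  exact (mul_mem_cancel_left (inv_mem hy)).1 (h.AH (h.memA e))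

theorem xs_of (h1 : ∀ x y : T, ⁅x, y⁆ = 1 ∨ ⁅x, y⁆ = z) (h2 : ∀ x : T, x * x = 1 ∨ x * x = z)
    (h3 : ∀ x : T, (∀ y, Commute x y) → x * x = 1) : H3.XS 2 z ⊤ :=
  ⟨h.hz, mem_top _, fun x _ => (h.cz x).symm, fun x _ y _ => (mem_zp h.zz).2 (h1 x y),
    fun x _ => (mem_zp h.zz).2 (by rw [pow_two]; exact h2 x), fun x _ hx => (mem_zp h.zz).2
      (h.two (h.memA fun k _ => hx k (mem_top _)) (h3 x fun y => hx y (mem_top _)))⟩

theorem case2 (h2 : ∀ a ∈ A, a * a = 1) : H3.XS 2 z ⊤ := by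
  have hc : ∀ a ∈ A, ∀ q, Commute q a := fun a ha q => by
    rcases h.two ha (h2 a ha) with rfl | rfl
    exacts [Commute.one_right _, h.cz q]
  have hq : ∀ q, q ∈ H := fun q => h.memH (fun k hk => commutatorElement_eq_one_iff_commute.2
    (hc _ (by rw [← pow_two]; exact h.sq k hk) q).symm) fun a ha => hc a ha q
  have hs : ∀ x, x * x ∈ A := fun x => by rw [← pow_two]; exact h.sq x (hq x)
  exact h.xs_of (fun x y => h.hH (hq x) (hq y)) (fun x => h.two (hs x) (h2 _ (hs x)))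
    fun x hx => h2 x (h.memA fun k _ => hx k)

/-- the elements of `H` with square in `⟨z⟩` -/
def RR : Subgroup T where
  carrier := {k | k ∈ H ∧ (k * k = 1 ∨ k * k = z)}
  one_mem' := ⟨one_mem _, Or.inl (mul_one _)⟩
  mul_mem' := by
    rintro x y ⟨hx, e1⟩ ⟨hy, e2⟩
    refine ⟨mul_mem hx hy, ?_⟩
    have := h.zz
    rcases h.mul_sq hx hy with e | e <;> rw [e] <;> rcases e1 with e1 | e1 <;>
      rcases e2 with e2 | e2 <;> simp [e1, e2, this]
  inv_mem' := by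
    rintro x ⟨hx, e⟩
    refine ⟨inv_mem hx, ?_⟩
    rw [← mul_inv_rev]
    rcases e with e | e <;> rw [e]
    · exact Or.inl inv_one
    · exact Or.inr (inv_eq_of_mul_eq_one_right h.zz)

theorem mem_RR : x ∈ h.RR ↔ x ∈ H ∧ (x * x = 1 ∨ x * x = z) := Iff.rfl

theorem map_RR (φ : T ≃* T) (hx : x ∈ h.RR) : φ x ∈ h.RR :=
  ⟨characteristic_iff_le_comap.1 h.cH φ hx.1, by
    rw [← map_mul]
    rcases hx.2 with e | e <;> rw [e]
    · exact Or.inl (map_one φ)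
    · exact Or.inr (h.fixz φ)⟩

theorem pow4 (hx : x ∈ h.RR) : x ^ 4 = 1 := by
  rw [show 4 = 2 * 2 from rfl, pow_mul, pow_two x, pow_two]
  rcases hx.2 with e | e <;> rw [e]
  · exact mul_one _
  · exact h.zz

variable (hb : b ∈ A) (hbb : b * b = z)
include hb hbb

theorem bR : b ∈ h.RR := ⟨h.AH hb, Or.inr hbb⟩

theorem four (ha : a ∈ A) (e : a ^ 4 = 1) : a ∈ zpowers b :=
  cyc_mem h.cyc ha hb (by rwa [ord4 h.hz hbb])

/-- the centre of an invariant subgroup of `R` containing `b` -/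
theorem cenU (hU : U ≤ h.RR) (hφ : ∀ φ : T ≃* T, ∀ x ∈ U, φ x ∈ U) (hbU : b ∈ U) (hr : r ∈ U)
    (hc : ∀ s ∈ U, Commute r s) : r ∈ zpowers b := by
  have h1 := cyc_of h.hT (S := {x | x ∈ U ∧ ∀ s ∈ U, Commute x s}) (fun φ x hx =>
    ⟨hφ φ x hx.1, fun s hs => by
      have := (hx.2 _ (hφ φ.symm s hs)).map φ
      rwa [MulEquiv.apply_symm_apply] at this⟩) fun x hx y hy => hx.2 y hy.1
  exact cyc_mem h1 (subset_closure ⟨hr, hc⟩)
    (subset_closure ⟨hbU, fun s hs => (h.comm (hU hs).1 hb).symm⟩)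
    (by rw [ord4 h.hz hbb]; exact h.pow4 (hU hr))

theorem cen (hr : r ∈ h.RR) (hc : ∀ s ∈ h.RR, Commute r s) : r ∈ zpowers b :=
  h.cenU hb hbb le_rfl (fun φ x hx => h.map_RR φ hx) (h.bR hb hbb) hr hc

theorem dec (hk : k ∈ H) : ∃ r ∈ h.RR, ∃ a ∈ A, k = r * a := by
  obtain ⟨β, hβ, e⟩ := H24.Cyc.exists_gen h.cyc
  have hRH : h.RR ≤ H := fun x hx => hx.1
  have hn : A ≤ normalizer (h.RR : Set T) :=
    H24.norm_of_cent (H24.cents_symm (hRH.trans h.HC))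
  have s1 : ∀ x ∈ H, ∀ a ∈ A, x * x = a * a → x ∈ h.RR ⊔ A := fun x hx a ha e1 => by
    have : x * a⁻¹ ∈ h.RR := ⟨mul_mem hx (inv_mem (h.AH ha)), Or.inl (by
      calc x * a⁻¹ * (x * a⁻¹) = x * (a⁻¹ * x) * a⁻¹ := by group
        _ = x * x * (a * a)⁻¹ := by rw [← (h.comm hx ha).inv_right.eq]; group
        _ = 1 := by rw [e1]; group)⟩
    exact (mul_mem_cancel_right (inv_mem (mem_sup_right ha))).1 (mem_sup_left this)
  have s2 : ∀ x ∈ H, x ∉ h.RR ⊔ A → ∃ j : ℤ, x * x = β ^ (2 * j + 1) := fun x hx hx' => by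
    have h1 := h.sq x hx
    rw [← e, pow_two] at h1
    obtain ⟨i, hi⟩ := h1
    rcases Int.even_or_odd' i with ⟨j, rfl | rfl⟩
    · exact absurd (s1 x hx (β ^ j) (zpow_mem hβ j) (by
        rw [← hi, ← zpow_add, two_mul])) hx'
    · exact ⟨j, hi.symm⟩
  have s3 : ∀ x ∈ H, x ∉ h.RR ⊔ A → ∀ y ∈ H, y ∉ h.RR ⊔ A → x * y ∈ h.RR ⊔ A := by
    intro x hx hx' y hy hy'
    obtain ⟨i, hi⟩ := s2 x hx hx'
    obtain ⟨j, hj⟩ := s2 y hy hy'
    have e1 : x * x * (y * y) = β ^ (i + j + 1) * β ^ (i + j + 1) := by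
      rw [hi, hj, ← zpow_add, ← zpow_add]; congr 1; ring
    have hm := zpow_mem hβ (i + j + 1)
    rcases h.mul_sq hx hy with e2 | e2
    · exact s1 _ (mul_mem hx hy) _ hm (e2.trans e1)
    · refine s1 _ (mul_mem hx hy) _ (mul_mem hm hb) ?_
      rw [e2, e1, ← hbb]
      calc _ = β ^ (i + j + 1) * (β ^ (i + j + 1) * b) * b := by group
        _ = β ^ (i + j + 1) * (b * β ^ (i + j + 1)) * b := by rw [(h.comm (h.AH hm) hb).eq]
        _ = _ := by simp only [mul_assoc]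
  refine (H24.mem_sup_of_norm hn).1 ?_
  by_contra hk'
  have h2 : ¬ ∀ y ∈ H, (∀ t ∈ h.RR ⊔ A, Commute y t) → Commute y k := fun h2 =>
    hk' (perp_perp' (Z := A) h.zz h.hH' (fun x _ => h.cz x) (fun x _ hx => h.memA hx)
      (sup_le hRH h.AH) le_sup_right hk h2)
  push Not at h2
  obtain ⟨y, hy, h3, h4⟩ := h2
  have h5 : y ∈ h.RR ⊔ A := by
    by_contra h5
    have := (Commute.refl y).inv_right.mul_right (h3 _ (s3 y hy h5 k hk hk'))
    exact h4 (by rwa [inv_mul_cancel_left] at this)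
  obtain ⟨r, hr, a, ha, rfl⟩ := (H24.mem_sup_of_norm hn).1 h5
  have h6 : r ∈ A := zpowers_le.2 hb (h.cen hb hbb hr fun s hs => by
    have := (h3 s (mem_sup_left hs)).mul_left (h.comm hs.1 ha).symm.inv_left
    rwa [mul_inv_cancel_right] at this)
  exact h4 (h.comm hk (mul_mem h6 ha)).symm

theorem memA' (h1 : ∀ r ∈ h.RR, Commute x r) (h2 : ∀ a ∈ A, Commute x a) : x ∈ A :=
  h.memA fun k hk => by
    obtain ⟨r, hr, a, ha, rfl⟩ := h.dec hb hbb hk
    exact (h1 r hr).mul_right (h2 a ha)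

theorem nb (φ : T ≃* T) : φ b = b ∨ φ b = b⁻¹ := by
  have h1 : φ b ∈ A := characteristic_iff_le_comap.1 h.cA φ hb
  have h2 : φ b * b⁻¹ * (φ b * b⁻¹) = 1 := by
    calc _ = φ b * (b⁻¹ * φ b) * b⁻¹ := by group
      _ = φ (b * b) * (b * b)⁻¹ := by rw [← (h.comm (h.AH h1) hb).inv_right.eq, map_mul]; group
      _ = 1 := by rw [hbb, h.fixz]; group
  rcases h.two (mul_mem h1 (inv_mem hb)) h2 with e | e
  · exact Or.inl (mul_inv_eq_one.1 e)
  · right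
    rw [mul_inv_eq_iff_eq_mul.1 e, eq_inv_iff_mul_eq_one, mul_assoc, hbb, h.zz]

theorem case4 (h4 : ∀ a ∈ A, a ^ 4 = 1) : H3.XS 2 z ⊤ ∨ h.RR = ⊤ := by
  have hA : ∀ a ∈ A, a ∈ zpowers b := fun a ha => h.four hb hbb ha (h4 a ha)
  have hAR : A ≤ h.RR := fun a ha => zpowers_le.2 (h.bR hb hbb) (hA a ha)
  have hHR : ∀ k ∈ H, k ∈ h.RR := fun k hk => by
    obtain ⟨r, hr, a, ha, rfl⟩ := h.dec hb hbb hk
    exact mul_mem hr (hAR ha)
  have c1 : ∀ q, Commute q b → q ∈ H := fun q hq => h.memH (fun k hk => by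
    rw [commutatorElement_eq_one_iff_commute]
    rcases (hHR k hk).2 with e | e <;> rw [e]
    exacts [Commute.one_left _, (h.cz q).symm]) fun a ha => by
      obtain ⟨i, rfl⟩ := hA a ha; exact hq.zpow_right i
  by_cases h0 : ∀ q, q ∈ H
  · exact Or.inr (eq_top_iff.2 fun q _ => hHR q (h0 q))
  left
  push Not at h0
  obtain ⟨q, hq⟩ := h0
  have inv : ∀ x, x ∉ H → x * b * x⁻¹ = b⁻¹ := fun x hx =>
    (h.nb hb hbb (MulAut.conj x)).resolve_left fun e => hx (c1 x (mul_inv_eq_iff_eq_mul.1 e))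
  have inv' : ∀ x, x ∉ H → ∀ a ∈ A, Commute x a → a * a = 1 := fun x hx a ha hc => by
    obtain ⟨i, rfl⟩ := hA a ha
    have e1 : x * b ^ i * x⁻¹ = (b ^ i)⁻¹ := by rw [← conj_zpow, inv x hx, inv_zpow]
    rw [hc.eq, mul_inv_cancel_right] at e1
    exact mul_eq_one_iff_eq_inv.2 e1
  have c2 : ∀ x, x ∉ H → ∀ y, y ∉ H → x⁻¹ * y ∈ H := fun x hx y hy => c1 _ (by
    have : x⁻¹ * y * b * (x⁻¹ * y)⁻¹ = x⁻¹ * (y * b * y⁻¹) * x := by group
    rw [inv y hy, ← inv x hx] at this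
    exact mul_inv_eq_iff_eq_mul.1 (this.trans (by group)))
  have hm : ∀ x ∈ H, ∀ y ∈ H, ⁅x * y, q⁆ = ⁅y, q⁆ * ⁅x, q⁆ := fun x hx y hy => by
    have : ⁅x * y, q⁆ = x * ⁅y, q⁆ * x⁻¹ * ⁅x, q⁆ := by simp only [commutatorElement_def]; group
    rw [this, (h.comm hx (h.cm y hy q)).eq, mul_inv_cancel_right]
  have Z2c : ∀ x, (∀ y, ⁅x, y⁆ = 1 ∨ ⁅x, y⁆ = z) → x ∈ Z2 z h.zz h.hc := fun x hx y => by
    rw [← (h.cz y).eq]; exact h.of_cases (hx y)
  have Z2c' : ∀ x ∈ Z2 z h.zz h.hc, ∀ y, ⁅x, y⁆ = 1 ∨ ⁅x, y⁆ = z := fun x hx y => by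
    rw [commutatorElement_def]
    rcases hx y with e | e <;> rw [e] <;> simp
  have c3 : ∀ x ∈ H, ⁅x, q⁆ * ⁅x, q⁆ = 1 → x ∈ Z2 z h.zz h.hc := fun x hx e => Z2c x fun y => by
    by_cases hy : y ∈ H
    · exact h.hH hx hy
    have e1 : ⁅x, y⁆ = ⁅x, q⁆ * (q * ⁅x, q⁻¹ * y⁆ * q⁻¹) := by
      simp only [commutatorElement_def]; group
    have := h.zz
    rw [e1]
    rcases h.hH hx (c2 q hq y hy) with e2 | e2 <;> rcases h.two (h.cm x hx q) e with e3 | e3 <;>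
      simp [e2, e3, (h.cz q).eq, this]
  have c4 : ∀ x ∈ H, x ∈ Z2 z h.zz h.hc := by
    by_contra hc
    push Not at hc
    obtain ⟨r1, hr1, h1⟩ := hc
    have hAZ : A ≤ H ⊓ Z2 z h.zz h.hc := fun a ha => zpowers_le.2
      (⟨h.AH hb, c3 b (h.AH hb) (by
        rw [← csq1 (h.comm (h.AH hb) (h.cm b (h.AH hb) q)), hbb,
          commutatorElement_eq_one_iff_commute]
        exact (h.cz q).symm)⟩ : b ∈ H ⊓ Z2 z h.zz h.hc) (hA a ha)
    have h2 : ¬ ∀ y ∈ H, (∀ t ∈ H ⊓ Z2 z h.zz h.hc, Commute y t) → Commute y r1 := fun h2 =>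
      h1 (perp_perp' (Z := A) h.zz h.hH' (fun x _ => h.cz x) (fun x _ hx => h.memA hx)
        inf_le_left hAZ hr1 h2).2
    push Not at h2
    obtain ⟨y, hy, h3, h5⟩ := h2
    have s : ∀ x ∈ H, x ∉ Z2 z h.zz h.hc → ⁅x, q⁆ * ⁅x, q⁆ = z := fun x hx hx' =>
      (hAR (h.cm x hx q)).2.resolve_left fun e => hx' (c3 x hx e)
    have h6 : y ∈ Z2 z h.zz h.hc := by
      by_contra h6
      have h7 : y * r1 ∈ Z2 z h.zz h.hc := c3 _ (mul_mem hy hr1) (by
        rw [hm y hy r1 hr1]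
        calc _ = ⁅r1, q⁆ * (⁅y, q⁆ * ⁅r1, q⁆) * ⁅y, q⁆ := by group
          _ = ⁅r1, q⁆ * ⁅r1, q⁆ * (⁅y, q⁆ * ⁅y, q⁆) := by
            rw [(h.comm (h.AH (h.cm y hy q)) (h.cm r1 hr1 q)).eq]; group
          _ = 1 := by rw [s y hy h6, s r1 hr1 h1, h.zz])
      have := (Commute.refl y).inv_right.mul_right (h3 _ ⟨mul_mem hy hr1, h7⟩)
      exact h5 (by rwa [inv_mul_cancel_left] at this)
    have h7 := h.cenU hb hbb (U := H ⊓ Z2 z h.zz h.hc) (fun x hx => hHR x hx.1)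
      (fun φ x hx => ⟨characteristic_iff_le_comap.1 h.cH φ hx.1, Z2c _ fun y => by
        have := Z2c' x hx.2 (φ.symm y)
        rw [← φ.apply_symm_apply y, ← map_commutatorElement]
        rcases this with e | e <;> rw [e]
        exacts [Or.inl (map_one φ), Or.inr (h.fixz φ)]⟩) (hAZ hb) ⟨hy, h6⟩ h3
    exact h5 (h.comm hr1 (zpowers_le.2 hb h7)).symm
  have c5 : ∀ x y : T, ⁅x, y⁆ = 1 ∨ ⁅x, y⁆ = z := fun x y => by
    by_cases hx : x ∈ H
    · exact Z2c' x (c4 x hx) y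
    by_cases hy : y ∈ H
    · exact h.cases_symm (Z2c' y (c4 y hy) x)
    have e1 : ⁅x, y⁆ = x * ⁅x, x⁻¹ * y⁆ * x⁻¹ := by simp only [commutatorElement_def]; group
    rw [e1]
    rcases h.cases_symm (Z2c' _ (c4 _ (c2 x hx y hy)) x) with e | e <;> simp [e, (h.cz x).eq]
  refine h.xs_of c5 (fun x => ?_) fun x hx => inv' q hq x (h.memA fun k _ => hx k) (hx q).symm
  by_cases hx : x ∈ H
  · exact (hHR x hx).2
  have h1 : x * x ∈ A := h.memA fun k _ => by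
    rw [← commutatorElement_eq_one_iff_commute]
    rcases c5 x k with e | e
    · rw [csq1 (by rw [e]; exact Commute.one_right _), e, one_mul]
    · rw [csq1 (by rw [e]; exact h.cz x), e, h.zz]
  exact h.two h1 (inv' x hx _ h1 ((Commute.refl x).mul_right (Commute.refl x)))

theorem b3 (hR : ∀ r ∈ h.RR, r ∈ zpowers b) (hq : q * q = 1) (hc : Commute q b) :
    q = 1 ∨ q = z := by
  obtain ⟨β, hβ, e⟩ := H24.Cyc.exists_gen h.cyc
  have cA : ∀ x, Commute x β → x ∈ A := fun x hx => by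
    have h1 : ∀ a ∈ A, Commute x a := fun a ha => by
      rw [← e] at ha; obtain ⟨i, rfl⟩ := ha; exact hx.zpow_right i
    exact h.memA' hb hbb (fun r hr => h1 r (zpowers_le.2 hb (hR r hr))) h1
  have cmA : ∀ x, ∀ a ∈ A, ⁅x, a⁆ ∈ A := fun x a ha => mul_mem (h.nA x ha) (inv_mem ha)
  have iq : q⁻¹ = q := inv_eq_of_mul_eq_one_right hq
  have s4 : ∀ a ∈ A, a ^ 4 = 1 → Commute q a := fun a ha e4 => by
    obtain ⟨i, rfl⟩ := h.four hb hbb ha e4; exact hc.zpow_right i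
  have d1 : ∀ a ∈ A, ⁅q, a⁆ = 1 ∨ ⁅q, a⁆ = z := fun a ha => by
    refine h.two (cmA q a ha) ?_
    by_contra h1
    obtain ⟨y, ⟨i, rfl⟩, h2, h3⟩ := exists_level (x := ⁅q, a⁆) (j := 1) (h.hT.1 _)
      (by rwa [pow_one, pow_two])
    have e1 : q * ⁅q, a⁆ * q⁻¹ = ⁅q, a⁆⁻¹ := by
      have c := (h.comm (h.AH ha) (h.nA q (inv_mem ha))).eq
      calc _ = q * q * a * q⁻¹ * a⁻¹ * q⁻¹ := by simp only [commutatorElement_def]; group
        _ = a * (q * a⁻¹ * q⁻¹) := by rw [hq, iq]; group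
        _ = _ := by simp only [commutatorElement_def]; group
    have e2 : q * ⁅q, a⁆ ^ i * q⁻¹ = (⁅q, a⁆ ^ i)⁻¹ := by rw [← conj_zpow, e1, inv_zpow]
    rw [(s4 _ (zpow_mem (cmA q a ha) i) h3).eq, mul_inv_cancel_right] at e2
    exact h2 (by rw [pow_one, pow_two]; exact mul_eq_one_iff_eq_inv.2 e2)
  by_cases hqA : q ∈ A
  · exact h.two hqA hq
  have d2 : ∀ x, x ∉ A → (∀ a ∈ A, ⁅x, a⁆ = 1 ∨ ⁅x, a⁆ = z) → x * β * x⁻¹ = β * z :=
    fun x hx h1 => (h.of_cases (h1 β hβ)).resolve_left fun e1 =>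
      hx (cA x (mul_inv_eq_iff_eq_mul.1 e1))
  have d3 : ∀ x, (∀ a ∈ A, ⁅x, a⁆ = 1 ∨ ⁅x, a⁆ = z) → x * x = 1 →
      ∃ a, (a = 1 ∨ a = z) ∧ (x = a ∨ x = a * q) := fun x h1 h2 => by
    by_cases hx : x ∈ A
    · exact ⟨x, h.two hx h2, Or.inl rfl⟩
    have h3 : q⁻¹ * x ∈ A := cA _ (by
      have : q⁻¹ * x * β * (q⁻¹ * x)⁻¹ = q⁻¹ * (x * β * x⁻¹) * q := by group
      rw [d2 x hx h1, ← d2 q hqA d1] at this
      exact mul_inv_eq_iff_eq_mul.1 (this.trans (by group)))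
    set a := q⁻¹ * x with ha
    have e0 : x = q * a := by rw [ha]; group
    have e1 : q * a * q⁻¹ * a = 1 := by rw [iq, mul_assoc, ← e0, h2]
    have e4 : a ^ 4 = 1 := by
      rw [show 4 = 2 * 2 from rfl, pow_mul, pow_two a, pow_two]
      rcases h.of_cases (d1 a h3) with e2 | e2 <;> rw [e2] at e1
      · rw [e1, one_mul]
      · rw [mul_assoc, ← (h.cz a).eq, ← mul_assoc, mul_eq_one_iff_eq_inv] at e1
        rw [e1, ← mul_inv_rev, h.zz, inv_one]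
    have c := s4 a h3 e4
    rw [c.eq, mul_inv_cancel_right] at e1
    exact ⟨a, h.two h3 e1, Or.inr (e0.trans c.eq)⟩
  have h1 := cyc_of h.hT (S := {x | (∀ a ∈ A, ⁅x, a⁆ = 1 ∨ ⁅x, a⁆ = z) ∧ x * x = 1})
    (fun φ x hx => ⟨fun a ha => by
      have := hx.1 _ (characteristic_iff_le_comap.1 h.cA φ.symm ha)
      rw [← φ.apply_symm_apply a, ← map_commutatorElement]
      rcases this with e | e
      · left; exact (congrArg φ e).trans (map_one φ)
      · right; exact (congrArg φ e).trans (h.fixz φ), by rw [← map_mul, hx.2, map_one]⟩)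
    (fun x hx y hy => by
      obtain ⟨a, ha, e1⟩ := d3 x hx.1 hx.2
      obtain ⟨a', ha', e2⟩ := d3 y hy.1 hy.2
      have c : ∀ u : T, (u = 1 ∨ u = z) → ∀ v, Commute u v := by
        rintro u (rfl | rfl) v
        exacts [Commute.one_left _, (h.cz v).symm]
      rcases e1 with rfl | rfl
      · exact c _ ha _
      rcases e2 with rfl | rfl
      · exact (c _ ha' _).symm
      · exact (c _ ha _).mul_left ((c _ ha' _).symm.mul_right (Commute.refl q)))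
  exact cyc_two h1 h.hz (subset_closure ⟨fun a _ => Or.inl
    (commutatorElement_eq_one_iff_commute.2 (h.cz a).symm), h.zz⟩) (subset_closure ⟨d1, hq⟩) hq

end Cr

theorem pure (hT : IsOfSymplecticType T) (hz : orderOf z = 2) (hc : z ∈ center T) :
    H3.XS 2 z ⊤ ∨ ∃ (A H : Subgroup T) (h : Cr z A H), ∃ b ∈ A, b * b = z ∧
      (h.RR = ⊤ ∨ ∃ β ∈ A, β * β = b) := by
  obtain ⟨A, H, h1, h2, h3, h4, h5, h6, h7⟩ := H3.exists_critical' hT.1
  have h : Cr z A H := ⟨hT, hz, hc, h1, h2, h3, h4, h5, h6, h7⟩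
  by_cases c2 : ∀ a ∈ A, a * a = 1
  · exact Or.inl (h.case2 c2)
  by_cases c4 : ∀ a ∈ A, a ^ 4 = 1
  · push Not at c2
    obtain ⟨b, hb, e⟩ := c2
    have hbb : b * b = z := (h.two (mul_mem hb hb) (by rw [← c4 b hb]; simp [pow_succ, mul_assoc])).resolve_left e
    exact (h.case4 hb hbb c4).imp id fun e => ⟨A, H, h, b, hb, hbb, Or.inl e⟩
  · push Not at c4
    obtain ⟨a, ha, e⟩ := c4
    obtain ⟨β, hβ, e1, e2⟩ := exists_level (x := a) (j := 2) (hT.1 a) e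
    have hβA : β ∈ A := zpowers_le.2 ha hβ
    have hb := mul_mem hβA hβA
    refine Or.inr ⟨A, H, h, β * β, hb, (h.two (mul_mem hb hb) ?_).resolve_left
      fun e3 => e1 ?_, Or.inr ⟨β, hβA, rfl⟩⟩
    · rw [← e2]; simp [pow_succ, mul_assoc]
    · rw [← e3]; simp [pow_succ, mul_assoc]

end H23.Y0
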