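import Mathlib
import Cfsg.Agent.H23.LDefs
import Cfsg.Agent.S1741

set_option autoImplicit false
set_option linter.unusedVariables false
set_option linter.unusedSectionVars false

namespace H23.L2

open Cfsg H24 Subgroup
open H2.SZ (St DD Goal)
open scoped MatrixGroups commutatorElement

universe u

variable {G : Type u} [Group G] [Finite G] {F : Type*} [Field F] [Fintype F]
  {L G0 D T B R Q S S1 A P N M H : Subgroup G} {t f g i j ρ z u : G} {X : LD F L} {n : ℕ}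
  {π s : G → F}

/-! ### MM -/

namespace MMx

open H25.Tw

theorem lx : ∀ s : S0, (x0 * s).n % 4 = (s.n % 4 + 1) % 4 ∧ (x0 * s).n / 4 % 4 = s.n / 4 % 4 ∧
    (x0 * s).n / 16 % 2 = s.n / 16 % 2 ∧ (x0 * s).n / 32 = s.n / 32 := by decide +kernel
theorem ly : ∀ s : S0, (y0 * s).n % 4 = s.n % 4 ∧ (y0 * s).n / 4 % 4 = (s.n / 4 % 4 + 1) % 4 ∧
    (y0 * s).n / 16 % 2 = s.n / 16 % 2 ∧ (y0 * s).n / 32 = s.n / 32 := by decide +kernel
theorem lt : ∀ s : S0, (t0 * s).n % 4 = 3 * (s.n % 4) % 4 ∧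
    (t0 * s).n / 4 % 4 = 3 * (s.n / 4 % 4) % 4 ∧
    (t0 * s).n / 16 % 2 = (s.n / 16 % 2 + 1) % 2 ∧ (t0 * s).n / 32 = s.n / 32 := by decide +kernel
theorem le : ∀ s : S0, (e0 * s).n % 4 = s.n / 4 % 4 ∧ (e0 * s).n / 4 % 4 = s.n % 4 ∧
    (e0 * s).n / 16 % 2 = s.n / 16 % 2 ∧ (e0 * s).n / 32 = (s.n / 32 + 1) % 2 := by decide +kernel
theorem nf : ∀ s : S0, s = x0 ^ (s.n % 4) * y0 ^ (s.n / 4 % 4) * t0 ^ (s.n / 16 % 2) *
    e0 ^ (s.n / 32) := by decide +kernel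

/-- the normal form -/
def fm (x y t e : G) (s : S0) : G :=
  x ^ (s.n % 4) * y ^ (s.n / 4 % 4) * t ^ (s.n / 16 % 2) * e ^ (s.n / 32)

theorem hom {x y e : G} (xy : x * y = y * x) (x4 : x ^ 4 = 1) (tt : t * t = 1)
    (ee : e * e = 1) (te : t * e = e * t) (tx : t * x * t = x⁻¹) (ex : e * x * e = y) :
    ∃ φ : S0 →* G, φ x0 = x ∧ φ y0 = y ∧ φ t0 = t ∧ φ e0 = e := by
  have ti : t⁻¹ = t := inv_eq_of_mul_eq_one_right tt
  have ei : e⁻¹ = e := inv_eq_of_mul_eq_one_right ee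
  have ex' : e * x * e⁻¹ = y := by rwa [ei]
  have ey : e * y * e⁻¹ = x := by
    rw [← ex', ← mul_assoc, ← mul_assoc, ee, one_mul, ei, mul_assoc, ee, mul_one]
  have y4 : y ^ 4 = 1 := by rw [← ex', conj_pow, x4]; simp
  have x3 : x⁻¹ = x ^ 3 := inv_eq_of_mul_eq_one_right (by rw [← pow_succ', x4])
  have tx' : t * x * t⁻¹ = x ^ 3 := by rw [ti, tx, x3]
  have ty : t * y * t⁻¹ = y ^ 3 := by
    calc _ = t * e * x * (t * e)⁻¹ := by rw [← ex']; group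
      _ = e * (t * x * t⁻¹) * e⁻¹ := by rw [te]; group
      _ = _ := by rw [tx', ← ex', conj_pow]
  have t2 : t ^ 2 = 1 := by rw [sq, tt]
  have e2 : e ^ 2 = 1 := by rw [sq, ee]
  have cxy : Commute x y := xy
  have cte : Commute t e := te
  have f1 : fm x y t e 1 = 1 := by change x ^ 0 * y ^ 0 * t ^ 0 * e ^ 0 = 1; simp
  have fx : fm x y t e x0 = x := by change x ^ 1 * y ^ 0 * t ^ 0 * e ^ 0 = _; simp
  have fy : fm x y t e y0 = y := by change x ^ 0 * y ^ 1 * t ^ 0 * e ^ 0 = _; simp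
  have ft : fm x y t e t0 = t := by change x ^ 0 * y ^ 0 * t ^ 1 * e ^ 0 = _; simp
  have fe : fm x y t e e0 = e := by change x ^ 0 * y ^ 0 * t ^ 0 * e ^ 1 = _; simp
  let P : Submonoid S0 :=
    { carrier := {a | ∀ b, fm x y t e (a * b) = fm x y t e a * fm x y t e b}
      one_mem' := fun b => by rw [one_mul, f1, one_mul]
      mul_mem' := fun {a c} ha hc b => by rw [mul_assoc, ha, hc, ha, mul_assoc] }
  have px : x0 ∈ P := fun b => by
    obtain ⟨h1, h2, h3, h4⟩ := lx b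
    rw [fx, fm, fm, h1, h2, h3, h4, ← pow_eq_pow_mod _ x4]
    group
  have py : y0 ∈ P := fun b => by
    obtain ⟨h1, h2, h3, h4⟩ := ly b
    rw [fy, fm, fm, h1, h2, h3, h4, ← pow_eq_pow_mod (_ + 1) y4, pow_succ' y, ← mul_assoc,
      (cxy.pow_left _).eq]
    simp only [mul_assoc]
  have pt : t0 ∈ P := fun b => by
    obtain ⟨h1, h2, h3, h4⟩ := lt b
    rw [ft, fm, fm, h1, h2, h3, h4, ← pow_eq_pow_mod (3 * _) x4, ← pow_eq_pow_mod (3 * _) y4,
      ← pow_eq_pow_mod (_ + 1) t2, pow_mul, pow_mul, ← tx', ← ty, conj_pow, conj_pow, pow_succ' t]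
    simp only [mul_assoc, inv_mul_cancel_left]
  have pe : e0 ∈ P := fun b => by
    obtain ⟨h1, h2, h3, h4⟩ := le b
    rw [fe, fm, fm, h1, h2, h3, h4, ← pow_eq_pow_mod (_ + 1) e2, pow_succ' e,
      (cxy.pow_pow (b.n / 4 % 4) _).eq, ← mul_assoc, mul_assoc _ _ e, (cte.pow_left _).eq]
    have a1 : ∀ k : ℕ, y ^ k = e * x ^ k * e⁻¹ := fun k => by rw [← ex', conj_pow]
    have a2 : ∀ k : ℕ, x ^ k = e * y ^ k * e⁻¹ := fun k => by rw [← ey, conj_pow]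
    rw [a1 (b.n % 4), a2 (b.n / 4 % 4)]
    simp only [mul_assoc, inv_mul_cancel_left]
  refine ⟨MonoidHom.mk' (fm x y t e) fun a => ?_, fx, fy, ft, fe⟩
  have : a ∈ P := nf a ▸ mul_mem (mul_mem (mul_mem (pow_mem px _) (pow_mem py _)) (pow_mem pt _))
    (pow_mem pe _)
  exact this

end MMx

theorem mm [IsSimpleGroup G] (hS : Syl 2 ⊤ S) (h64 : ♯S = 64) {x y e : G}
    (gen : S ≤ closure {x, y, t, e}) (xy : x * y = y * x) (x4 : x ^ 4 = 1) (tt : t * t = 1)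
    (ee : e * e = 1) (te : t * e = e * t) (tx : t * x * t = x⁻¹) (ex : e * x * e = y)
    (h2 : ∃ a b : G, orderOf a = 2 ∧ orderOf b = 2 ∧ ¬ IsConj a b) : Spor.IsoM12 G := by
  obtain ⟨φ, e1, e2, e3, e4⟩ := MMx.hom xy x4 tt ee te tx ex
  have le : S ≤ φ.range := gen.trans ((closure_le _).2 (by
    rintro _ (rfl | rfl | rfl | rfl)
    exacts [⟨_, e1⟩, ⟨_, e2⟩, ⟨_, e3⟩, ⟨_, e4⟩]))
  have c : ♯φ.range ≤ Nat.card H25.Tw.S0 :=
    Nat.card_le_card_of_surjective _ φ.rangeRestrict_surjective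
  have eq : S = φ.range := eq_of_card_ge le (by rwa [h64, ← H25.Tw.card_S0])
  have bij : Function.Bijective φ.rangeRestrict := φ.rangeRestrict_surjective.bijective_of_nat_card_le
    (by rw [← eq, h64, H25.Tw.card_S0])
  obtain ⟨T, hT⟩ := hS.exists_sylow_top Nat.prime_two
  obtain ⟨P⟩ : Nonempty (Sylow 2 Spor.M12) := inferInstance
  obtain ⟨k⟩ := H25.Tw.exists_equiv P
  exact Cfsg.Agent.S1741.result T P ⟨((MulEquiv.subgroupCongr (hT.trans eq)).trans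
    (MulEquiv.ofBijective _ bij).symm).trans k⟩ h2


end H23.L2
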