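import Mathlib
import Cfsg.Agent.H23.LDefs

set_option autoImplicit false
set_option linter.unusedVariables false
set_option linter.unusedSectionVars false

namespace H23.L2

open Cfsg H24 Subgroup
open H2.SZ (St DD Goal)
open scoped MatrixGroups commutatorElement

universe u

variable {G : Type u} [Group G] [Finite G] {F : Type*} [Field F] [Fintype F]
  {L G0 D T B R Q S S1 A P N M H : Subgroup G} {t f g i j ρ z u : G} {X : LD F L} {n : ℕ}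
  {π s : G → F}

/-! ### PU -/
theorem El.abl (h : El A) : Abl A := abl_iff.2 fun x hx => mem_C.2 fun y hy => by
  have h1 := h _ (mul_mem hy hx)
  rw [← inv_eq_of_mul_eq_one_right h1, mul_inv_rev, inv_eq_of_mul_eq_one_right (h x hx),
    inv_eq_of_mul_eq_one_right (h y hy)]

theorem El.pi (h : El A) : IsPi {2} A := isPi_iff_piElt.2 fun x hx =>
  piElt_of_pow_eq_one (piNat_self Nat.prime_two) (by rw [sq, h x hx])

namespace PUx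

theorem cnt {Γ : Type*} [Group Γ] (φ : G → Γ) (A K : Subgroup G) (I : Subgroup Γ)
    (mul : ∀ a ∈ A, ∀ b ∈ A, φ (a * b) = φ a * φ b) (hK : ∀ x, x ∈ K ↔ x ∈ A ∧ φ x = 1)
    (hI : ∀ y, y ∈ I ↔ ∃ a ∈ A, φ a = y) : ♯A = ♯K * ♯I := by
  let ψ : A →* Γ := MonoidHom.mk' (fun a => φ a) fun a b => mul a a.2 b b.2
  have h1 : ψ.ker = K.subgroupOf A := by
    ext x; rw [MonoidHom.mem_ker, mem_subgroupOf, hK]; exact ⟨fun h => ⟨x.2, h⟩, fun h => h.2⟩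
  have h2 : ψ.range = I := by
    ext y; rw [hI]; exact ⟨fun ⟨a, e⟩ => ⟨a, a.2, e⟩, fun ⟨a, ha, e⟩ => ⟨⟨a, ha⟩, e⟩⟩
  rw [← ψ.ker.card_mul_index, index_ker, h1, h2, card_subgroupOf_of_le fun x hx => ((hK x).1 hx).1]

/-- `[f, a]` -/
def cm (f a : G) : G := f * a * f⁻¹ * a⁻¹

theorem cm_mem (fA : f ∈ N[A]) {a : G} (ha : a ∈ A) : cm f a ∈ A := mul_mem (H24.conj_mem fA ha) (inv_mem ha)

theorem cm_mul (hA : El A) (fA : f ∈ N[A]) {a b : G} (ha : a ∈ A) (hb : b ∈ A) :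
    cm f (a * b) = cm f a * cm f b := by
  have := hA.abl.comm (inv_mem ha) (cm_mem fA hb)
  rw [cm, cm, mul_assoc (f * a * f⁻¹), this, cm]; group

theorem cm_one {a : G} : cm f a = 1 ↔ a ∈ C{f} := by
  rw [cm, mul_inv_eq_one, mul_inv_eq_iff_eq_mul, mem_C1, eq_comm]

/-- `[f, A]` -/
def Im (hA : El A) (fA : f ∈ N[A]) : Subgroup G where
  carrier := {y | ∃ a ∈ A, cm f a = y}
  one_mem' := ⟨1, one_mem _, by simp [cm]⟩
  mul_mem' := by rintro _ _ ⟨a, ha, rfl⟩ ⟨b, hb, rfl⟩; exact ⟨_, mul_mem ha hb, cm_mul hA fA ha hb⟩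
  inv_mem' := by
    rintro _ ⟨a, ha, rfl⟩
    exact ⟨a, ha, (inv_eq_of_mul_eq_one_right (hA _ (cm_mem fA ha))).symm⟩

theorem card_Im (hA : El A) (fA : f ∈ N[A]) : ♯A = ♯(A ⊓ C{f} : Subgroup G) * ♯(Im hA fA) :=
  cnt (cm f) _ _ _ (fun a ha b hb => cm_mul hA fA ha hb) (fun x => by rw [cm_one]; rfl) fun y => Iff.rfl

theorem Im_le (hA : El A) (fA : f ∈ N[A]) (ff : f * f ∈ C[A]) : Im hA fA ≤ A ⊓ C{f} := by
  rintro _ ⟨a, ha, rfl⟩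
  refine ⟨cm_mem fA ha, mem_C1_comm.1 (mem_C1_iff_conj.2 ?_)⟩
  have h1 := mem_C.1 ff a ha
  have h2 := hA.abl.comm ha (H24.conj_mem fA ha)
  have h3 := inv_eq_of_mul_eq_one_right (hA a ha)
  rw [cm, h3, ← h2, show f * (a * (f * a * f⁻¹)) * f⁻¹ = f * a * f⁻¹ * (f * f * a * (f * f)⁻¹) by group, ← h1,
    mul_inv_cancel_right, h2]

theorem join (hS : Syl 2 H S) (wc : ∀ g ∈ H, cj g A ≤ S → cj g A = A) (hA : IsPi {2} A) (hg : g ∈ H)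
    (MH : M ≤ H) (h1 : cj g A ≤ M) (h2 : P ≤ M) (hP : IsPi {2} P) :
    ∃ k ∈ H, ∃ n ∈ M, cj k A = cj n (cj g A) ∧ cj k⁻¹ P ≤ S := by
  obtain ⟨R, hR, PR⟩ := Sylow_superset Nat.prime_two hP h2
  obtain ⟨n, hn, h3⟩ := Sylow_Jsub Nat.prime_two hR (hA.cj g) h1
  obtain ⟨k, hk, h4⟩ := Sylow_Jsub Nat.prime_two hS hR.pi (hR.le.trans MH)
  have := wc (k * (n * g)) (mul_mem hk (mul_mem (MH hn) hg)) (by
    rw [cj_mul, cj_mul]; exact (cj_mono k h3).trans h4)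
  refine ⟨k⁻¹, inv_mem hk, n, hn, ?_, by rw [inv_inv]; exact (cj_mono k PR).trans h4⟩
  rw [cj_mul, cj_mul, cj_eq_iff] at this
  exact this.symm

end PUx

theorem sc (hS : Syl 2 H S) (AS : A ≤ S) (hA : El A) (wc : ∀ g ∈ H, cj g A ≤ S → cj g A = A)
    {a : G} (ha : a ∈ A) (hg : g ∈ H) (h1 : g * a * g⁻¹ ∈ S) (h2 : g * a * g⁻¹ ∉ A) :
    ∃ g ∈ H, ∃ u ∈ cj g A, ∃ A1 ≤ A, u ∈ S ∧ u ∉ A ∧ u ∉ C[A] ∧ cj g⁻¹ A1 ≤ S ∧ A ⊓ C{u} ≤ A1 ∧
      ♯(A ⊓ cj g A : Subgroup G) * ♯A ≤ ♯A1 * ♯(A ⊓ C{u} : Subgroup G) := by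
  classical
  have SH := hS.le
  have SA : S ≤ N[A] := fun s hs => mem_N_iff_cj.2 (wc s (SH hs) (cj_le_of_mem AS hs))
  have hu0 : g * a * g⁻¹ ∈ cj g A := conj_mem_cj g ha
  generalize g * a * g⁻¹ = u at h1 h2 hu0
  have uu : u * u = 1 := by
    obtain ⟨b, hb, rfl⟩ := mem_cj'.1 hu0
    rw [show g * b * g⁻¹ * (g * b * g⁻¹) = g * (b * b) * g⁻¹ by group, hA b hb]; simp
  have el : ∀ g, El (cj g A) := fun g x hx => by
    obtain ⟨b, hb, rfl⟩ := mem_cj'.1 hx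
    rw [show g * b * g⁻¹ * (g * b * g⁻¹) = g * (b * b) * g⁻¹ by group, hA b hb]; simp
  have cH : ∀ g ∈ H, cj g A ≤ H := fun g hg => cj_le_of_mem (AS.trans SH) hg
  have h3 : u ∉ C[A] := fun h => by
    obtain ⟨k, hk, n, hn, e, h4⟩ := PUx.join hS wc hA.pi hg (M := H ⊓ C{u}) inf_le_left
      (le_inf (cH g hg) fun x hx => mem_C1.2 ((el g).abl.comm hx hu0))
      (le_inf (AS.trans SH) (mem_C_iff_le_C1.1 h)) hA.pi
    have e2 := wc _ (inv_mem hk) h4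
    rw [cj_eq_iff, inv_inv, e] at e2
    exact h2 (e2 ▸ (mem_C1_iff_conj.1 hn.2) ▸ conj_mem_cj n hu0)
  obtain ⟨g, ⟨hg, hu⟩, mx⟩ := Set.exists_max_image {g | g ∈ H ∧ u ∈ cj g A} (fun g => ♯(A ⊓ cj g A : Subgroup G))
    (Set.toFinite _) ⟨g, hg, hu0⟩
  have uA := SA h1
  let A1 : Subgroup G :=
    { carrier := {x | x ∈ A ∧ PUx.cm u x ∈ cj g A}
      one_mem' := ⟨one_mem _, by simp [PUx.cm]⟩
      mul_mem' := fun {x y} hx hy => ⟨mul_mem hx.1 hy.1, PUx.cm_mul hA uA hx.1 hy.1 ▸ mul_mem hx.2 hy.2⟩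
      inv_mem' := fun {x} hx => by rwa [inv_eq_of_mul_eq_one_right (hA x hx.1)] }
  have A1A : A1 ≤ A := fun x hx => hx.1
  let J : Subgroup G := (A ⊓ cj g A) ⊔ zpowers u
  have JB : J ≤ cj g A := sup_le inf_le_right (zpowers_le.2 hu)
  have nJ : A1 ≤ N[J] := fun x hx => mem_N_of_cj_le (by
    rw [cj_sup, cj_zpowers, cj_of_mem_N (hA.abl.norm le_rfl inf_le_left hx.1)]
    refine sup_le le_sup_left (zpowers_le.2 ?_)
    rw [show x * u * x⁻¹ = (PUx.cm u x)⁻¹ * u by rw [PUx.cm]; group]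
    exact mul_mem (inv_mem (mem_sup_left ⟨PUx.cm_mem uA hx.1, hx.2⟩)) (mem_sup_right (mem_zpowers u)))
  obtain ⟨k, hk, n, hn, e, h4⟩ := PUx.join hS wc hA.pi hg (M := H ⊓ N[J]) inf_le_left
    (le_inf (cH g hg) ((el g).abl.norm le_rfl JB)) (le_inf (A1A.trans (AS.trans SH)) nJ) (hA.pi.of_le A1A)
  have Jk : J ≤ cj k A := by rw [e, ← cj_of_mem_N hn.2]; exact cj_mono n JB
  have uk : u ∈ cj k A := Jk (mem_sup_right (mem_zpowers u))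
  have e2 : A ⊓ cj g A = A ⊓ cj k A :=
    eq_of_card_ge (le_inf inf_le_left (le_sup_left.trans Jk)) (mx k ⟨hk, uk⟩)
  refine ⟨k, hk, u, uk, A1, A1A, h1, h2, h3, h4, fun x hx => ⟨hx.1, PUx.cm_one.2 hx.2 ▸ one_mem _⟩, ?_⟩
  have c1 := PUx.card_Im hA uA
  have c2 : ♯A1 = ♯(A ⊓ C{u} : Subgroup G) * ♯(PUx.Im hA uA ⊓ (A ⊓ cj g A) : Subgroup G) :=
    PUx.cnt (PUx.cm u) _ _ _ (fun a ha b hb => PUx.cm_mul hA uA ha.1 hb.1)
      (fun x => ⟨fun hx => ⟨⟨hx.1, PUx.cm_one.2 hx.2 ▸ one_mem _⟩, PUx.cm_one.2 hx.2⟩,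
        fun hx => ⟨hx.1.1, PUx.cm_one.1 hx.2⟩⟩)
      fun y => ⟨fun ⟨⟨a, ha, e⟩, hy⟩ => ⟨a, ⟨ha, e ▸ hy.2⟩, e⟩,
        fun ⟨a, ha, e⟩ => e ▸ ⟨⟨a, ha.1, rfl⟩, PUx.cm_mem uA ha.1, ha.2⟩⟩
  have i1 := PUx.Im_le hA uA (uu ▸ one_mem _)
  have i2 : A ⊓ cj g A ≤ A ⊓ C{u} := fun x hx => ⟨hx.1, mem_C1.2 ((el g).abl.comm hx.2 hu)⟩
  have c3 := card_sup (hA.abl.norm (inf_le_left : A ⊓ cj g A ≤ A) (i1.trans inf_le_left))
  have c4 := card_le (sup_le i1 i2)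
  rw [← e2, c2]
  calc _ = ♯(A ⊓ C{u} : Subgroup G) * (♯(PUx.Im hA uA) * ♯(A ⊓ cj g A : Subgroup G)) := by
        rw [c1]; ring
    _ ≤ _ := by
        rw [← c3, mul_assoc, mul_comm (♯(PUx.Im hA uA ⊓ _ : Subgroup G))]; gcongr

theorem sc2 (hS : Syl 2 H S) (AS : A ≤ S) (hA : El A) (SA : S ≤ N[A]) (m : ℕ)
    (h1 : ∀ g ∈ H, ∀ A' ≤ cj g A, A' ≤ S → ♯A' ≤ m * ♯(A' ⊓ A : Subgroup G))
    (h2 : ∀ g ∈ H, ∀ u ∈ cj g A, u ∈ S → u ∉ A → m * ♯(A ⊓ C{u} : Subgroup G) < ♯A) :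
    ∀ a ∈ A, ∀ g ∈ H, g * a * g⁻¹ ∈ S → g * a * g⁻¹ ∈ A := by
  have wc : ∀ g ∈ H, cj g A ≤ S → cj g A = A := fun g hg hS' => by
    by_contra hne
    obtain ⟨u, hu, uA⟩ : ∃ u ∈ cj g A, u ∉ A := by
      by_contra hc
      push Not at hc
      exact hne (eq_of_card_eq hc (card_cj g A))
    have c1 := h1 g hg _ le_rfl hS'
    have c2 := h2 g hg u hu (hS' hu) uA
    have c3 : ♯(cj g A ⊓ A : Subgroup G) ≤ ♯(A ⊓ C{u} : Subgroup G) :=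
      card_le fun x hx => ⟨hx.2, mem_C1.2 ((hA.abl.cj g).comm hx.1 hu)⟩
    rw [card_cj] at c1
    exact absurd (c1.trans (Nat.mul_le_mul_left m c3)) c2.not_ge
  intro a ha g hg hs
  by_contra hn
  obtain ⟨k, hk, u, hu, A1, A1A, uS, uA, -, h4, -, h5⟩ := sc hS AS hA wc ha hg hs hn
  have c1 := h1 _ (inv_mem hk) _ (cj_mono _ A1A) h4
  have c2 := h2 k hk u hu uS uA
  have c3 : ♯(cj k⁻¹ A1 ⊓ A : Subgroup G) ≤ ♯(A ⊓ cj k A : Subgroup G) := by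
    rw [← card_cj k, cj_inf, cj_cj_inv]; exact card_le (inf_le_inf_right _ A1A)
  rw [card_cj] at c1
  have c4 := card_pos (A ⊓ cj k A)
  have c5 := h5.trans (Nat.mul_le_mul_right _ (c1.trans (Nat.mul_le_mul_left m c3)))
  nlinarith

theorem fr_bot : Fr ⊥ f := ⟨by simp, fun a ha _ => ⟨1, one_mem _, by rw [mem_bot.1 ha]; simp⟩⟩

theorem PUx.dec (h : Fr A f) (ff : f * f = 1) (h1 : g * f * g⁻¹ * f ∈ A) (fA : f ∈ N[A]) :
    ∃ a ∈ A, a⁻¹ * g ∈ C{f} := by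
  have fi := inv_eq_of_mul_eq_one_right ff
  have e : f * (f * (g * f * g⁻¹ * f) * f⁻¹) = g * f * g⁻¹ := by
    rw [← mul_assoc, ← mul_assoc, ff]; group
  obtain ⟨c, hc, e2⟩ := h.2 _ (H24.conj_mem fA h1) (by
    rw [e, show g * f * g⁻¹ * (g * f * g⁻¹) = g * (f * f) * g⁻¹ by group, ff]; simp)
  refine ⟨c, hc, mem_C1_iff_conj.2 ?_⟩
  rw [show c⁻¹ * g * f * (c⁻¹ * g)⁻¹ = c⁻¹ * (g * f * g⁻¹) * c by group, ← e, e2]; group

theorem fr_ext (two : (2 : F) = 0) (h1 : N ≤ A) (h2 : A ≤ N[N]) (fA : f ∈ N[A]) (fN : f ∈ N[N])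
    (ff : f * f = 1) (h3 : Fr N f) (mul : ∀ a ∈ A, ∀ b ∈ A, s (a * b) = s a + s b)
    (ker : ∀ a ∈ A, s a = 0 ↔ a ∈ N) (onto : ∀ y, ∃ a ∈ A, s a = y) {c : F} {σ : RingAut F}
    (h4 : ∀ a ∈ A, s (f * a * f⁻¹) = c * σ (s a)) (h5 : σ ≠ 1) : Fr A f := by
  have : CharP F 2 := CharTwo.of_one_ne_zero_of_two_eq_zero one_ne_zero two
  have s1 : s 1 = 0 := (ker 1 (one_mem _)).2 (one_mem _)
  have si : ∀ a ∈ A, s a⁻¹ = s a := fun a ha => by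
    have := mul a ha _ (inv_mem ha)
    rw [mul_inv_cancel, s1] at this; grind
  have ψψ : ∀ y, c * σ (c * σ y) = y := fun y => by
    obtain ⟨a, ha, rfl⟩ := onto y
    rw [← h4 a ha, ← h4 _ (H24.conj_mem fA ha), show f * (f * a * f⁻¹) * f⁻¹ = f * f * a * (f * f)⁻¹ by group, ff]
    simp
  obtain ⟨e, he⟩ : ∃ e, σ e ≠ e := by
    by_contra hc
    push Not at hc
    exact h5 (RingEquiv.ext hc)
  have he' : e + σ e ≠ 0 := fun h => he (by grind)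
  have cc : c * σ c = 1 := by simpa using ψψ 1
  have σσ : σ (σ e) = e := by
    have := ψψ e
    rwa [map_mul, ← mul_assoc, cc, one_mul] at this
  have sur : ∀ y, c * σ y = y → ∃ x, x + c * σ x = y := fun y hy => ⟨y * e / (e + σ e), by
    rw [map_div₀, map_mul, map_add, σσ, add_comm (σ e), ← mul_div_assoc, ← mul_assoc, hy]
    field_simp⟩
  let I : Subgroup (Multiplicative F) :=
    { carrier := {y | c * σ y.toAdd = y.toAdd}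
      one_mem' := by simp
      mul_mem' := fun {x y} (hx : _ = _) (hy : _ = _) => by
        show _ = _
        rw [toAdd_mul, map_add, mul_add, hx, hy]
      inv_mem' := fun {x} (hx : _ = _) => by
        show _ = _
        rw [toAdd_inv, map_neg, mul_neg, hx] }
  have c1 : ♯A = ♯N * ♯(⊤ : Subgroup (Multiplicative F)) :=
    PUx.cnt (fun a => Multiplicative.ofAdd (s a)) _ _ _ (fun a ha b hb => congrArg _ (mul a ha b hb))
      (fun x => ⟨fun hx => ⟨h1 hx, congrArg _ ((ker x (h1 hx)).2 hx)⟩, fun hx => (ker x hx.1).1 hx.2⟩)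
      fun y => ⟨fun _ => onto y.toAdd, fun _ => trivial⟩
  have c2 : ♯(⊤ : Subgroup (Multiplicative F)) = ♯I * ♯I :=
    PUx.cnt (fun y => Multiplicative.ofAdd (y.toAdd + c * σ y.toAdd)) _ _ _
      (fun a _ b _ => by rw [← ofAdd_add, toAdd_mul, σ.map_add]; exact congrArg _ (by ring))
      (fun x => ⟨fun (hx : _ = _) => ⟨trivial, by rw [hx, CharTwo.add_self_eq_zero]; rfl⟩,
        fun hx => (CharTwo.add_eq_zero.1 (show x.toAdd + c * σ x.toAdd = 0 from hx.2)).symm⟩)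
      fun y => ⟨fun hy => let ⟨x, hx⟩ := sur _ hy; ⟨Multiplicative.ofAdd x, trivial, congrArg _ hx⟩, by
        rintro ⟨x, -, rfl⟩
        show c * σ (_ + _) = _ + _
        rw [map_add, mul_add, ψψ, add_comm]⟩
  have c3 : ♯(A ⊓ C{f} : Subgroup G) = ♯(N ⊓ C{f} : Subgroup G) * ♯I :=
    PUx.cnt (fun a => Multiplicative.ofAdd (s a)) _ _ _ (fun a ha b hb => congrArg _ (mul a ha.1 b hb.1))
      (fun x => ⟨fun hx => ⟨⟨h1 hx.1, hx.2⟩, congrArg _ ((ker x (h1 hx.1)).2 hx.1)⟩,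
        fun hx => ⟨(ker x hx.1.1).1 hx.2, hx.1.2⟩⟩)
      fun y => ⟨fun (hy : _ = _) => by
        obtain ⟨a, ha, e⟩ := onto y.toAdd
        have m : a * (f * a⁻¹ * f⁻¹) ∈ N := (ker _ (mul_mem ha (H24.conj_mem fA (inv_mem ha)))).1 (by
          rw [mul _ ha _ (H24.conj_mem fA (inv_mem ha)), h4 _ (inv_mem ha), si a ha, e, hy, CharTwo.add_self_eq_zero])
        obtain ⟨b, hb, h6⟩ := PUx.dec (g := a) h3 ff (by
          simpa only [inv_eq_of_mul_eq_one_right ff, mul_assoc] using m) fN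
        refine ⟨b⁻¹ * a, ⟨A.mul_mem (A.inv_mem (h1 hb)) ha, h6⟩, ?_⟩
        show Multiplicative.ofAdd _ = _
        rw [mul _ (inv_mem (h1 hb)) _ ha, (ker _ (inv_mem (h1 hb))).2 (inv_mem hb), zero_add, e]; rfl, by
        rintro ⟨a, ha, rfl⟩
        show c * σ (s a) = s a
        rw [← h4 a ha.1, mem_C1_iff_conj.1 (mem_C1_comm.1 ha.2)]⟩
  refine ⟨by rw [c3, c1, c2, mul_pow, h3.1, sq], fun a ha haa => ?_⟩
  have fi := inv_eq_of_mul_eq_one_right ff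
  have e1 : f * a * f⁻¹ = a⁻¹ := by rw [fi]; exact eq_inv_of_mul_eq_one_left (by rw [← haa]; group)
  obtain ⟨x, hx⟩ := sur (s a) (by rw [← h4 a ha, e1, si a ha])
  obtain ⟨b, hb, rfl⟩ := onto x
  have m1 := H24.conj_mem fA (inv_mem hb)
  have m : f * b⁻¹ * f⁻¹ * a * b ∈ N := (ker _ (mul_mem (mul_mem m1 ha) hb)).1 (by
    rw [mul _ (mul_mem m1 ha) _ hb, mul _ m1 _ ha, h4 _ (inv_mem hb), si b hb, ← hx]; grind)
  have e2 : f * (f * b⁻¹ * f⁻¹ * a * b) = b⁻¹ * (f * a) * b := by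
    rw [fi, ← mul_assoc, ← mul_assoc, ← mul_assoc, ← mul_assoc, ff]; group
  obtain ⟨d, hd, e3⟩ := h3.2 _ m (by
    rw [e2, show b⁻¹ * (f * a) * b * (b⁻¹ * (f * a) * b) = b⁻¹ * (f * a * (f * a)) * b by group, haa]; simp)
  refine ⟨b * d, mul_mem hb (h1 hd), ?_⟩
  rw [show b * d * f * (b * d)⁻¹ = b * (d * f * d⁻¹) * b⁻¹ by group, ← e3, e2]; group

theorem fr_of_le (hA : El A) (fA : f ∈ N[A]) (ff : f * f = 1)
    (h : ♯(A ⊓ C{f} : Subgroup G) ^ 2 ≤ ♯A) : Fr A f := by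
  have c1 := PUx.card_Im hA fA
  have i1 := PUx.Im_le hA fA (ff ▸ one_mem _)
  have e : PUx.Im hA fA = A ⊓ C{f} := eq_of_card_ge i1 (by
    rw [c1, sq] at h; exact Nat.le_of_mul_le_mul_left h (card_pos _))
  refine ⟨by rw [sq]; rw [e] at c1; exact c1.symm, fun a ha haa => ?_⟩
  have fi := inv_eq_of_mul_eq_one_right ff
  obtain ⟨c, hc, rfl⟩ : a ∈ PUx.Im hA fA := e ▸ ⟨ha, mem_C1.2 (by
    rw [← inv_eq_of_mul_eq_one_right haa, mul_inv_rev, fi, inv_eq_of_mul_eq_one_right (hA a ha)])⟩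
  exact ⟨c, hc, by rw [PUx.cm, fi, ← mul_assoc, ← mul_assoc, ← mul_assoc, ff, one_mul]⟩

theorem le_fix_sq (hA : El A) (fA : f ∈ N[A]) (ff : f * f ∈ C[A]) :
    ♯A ≤ ♯(A ⊓ C{f} : Subgroup G) ^ 2 := by
  rw [PUx.card_Im hA fA, sq]; exact Nat.mul_le_mul_left _ (card_le (PUx.Im_le hA fA ff))

theorem Fr.dec (h : Fr A f) (ff : f * f = 1) (h1 : g * f * g⁻¹ * f ∈ A) (fA : f ∈ N[A]) :
    ∃ a ∈ A, a⁻¹ * g ∈ C{f} := PUx.dec h ff h1 fA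

theorem Fr.card (h : Fr A f) (ff : f * f = 1) (AS : A ≤ S) (SA : S ≤ N[A]) (fS : f ∈ S)
    (h1 : ∀ g ∈ S, g * f * g⁻¹ * f ∈ A) :
    ♯S * ♯(A ⊓ C{f} : Subgroup G) = ♯(S ⊓ C{f} : Subgroup G) * ♯A := by
  have p : IsProd A (S ⊓ C{f}) S := ⟨AS, inf_le_left, fun g hg => by
    obtain ⟨a, ha, h2⟩ := h.dec ff (h1 g hg) (SA fS)
    exact ⟨a, ha, a⁻¹ * g, ⟨S.mul_mem (S.inv_mem (AS ha)) hg, h2⟩, by group⟩⟩
  have := p.card
  rwa [← inf_assoc, inf_eq_left.2 AS, mul_comm ♯A] at this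

theorem bil (two : (2 : F) = 0) (β : F → F → F) (h1 : ∀ x x' y, β (x + x') y = β x y + β x' y)
    (h2 : ∀ x y y', β x (y + y') = β x y + β x y')
    (h3 : ∀ (k : Fˣ) x y, β (k * x) (k * y) = k * β x y) : ∃ c, ∀ x y, β x y ^ 2 = c * x * y := by
  have : CharP F 2 := CharTwo.of_one_ne_zero_of_two_eq_zero one_ne_zero two
  have h3' : ∀ k, k ≠ 0 → ∀ x y, β (k * x) (k * y) = k * β x y := fun k hk => h3 (Units.mk0 k hk)
  have z1 : ∀ y, β 0 y = 0 := fun y => by have := h1 0 0 y; rw [add_zero] at this; exact left_eq_add.1 this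
  have z2 : ∀ x, β x 0 = 0 := fun x => by have := h2 x 0 0; rw [add_zero] at this; exact left_eq_add.1 this
  have k1 : ∀ u, u ≠ 0 → β u 1 = u * β 1 u⁻¹ := fun u hu => by
    rw [← h3' u hu, mul_one, mul_inv_cancel₀ hu]
  have k2 : ∀ u, β (u * u) 1 = u * β 1 1 := fun u => by
    by_cases h0 : u = 0
    · rw [h0, zero_mul, zero_mul, z1]
    by_cases h1' : u + 1 = 0
    · rw [CharTwo.add_eq_zero.1 h1', one_mul, one_mul]
    have e : (u * (u + 1))⁻¹ = u⁻¹ + (u + 1)⁻¹ := by field_simp; grind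
    have a := k1 _ (mul_ne_zero h0 h1')
    rw [e, h2, mul_add u, mul_one, h1] at a
    have b := k1 u h0
    have c := k1 _ h1'
    rw [h1] at c
    grind
  refine ⟨β 1 1 ^ 2, fun x y => ?_⟩
  by_cases hy : y = 0
  · rw [hy, z2]; simp
  obtain ⟨v, hv⟩ := (Finite.injective_iff_surjective.1 (frobenius_inj F 2)) (x / y)
  have := h3' y hy (v * v) 1
  rw [k2, ← sq, show v ^ 2 = x / y from hv, mul_one, mul_div_cancel₀ _ hy] at this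
  rw [this, mul_pow, mul_pow, show v ^ 2 = x / y from hv]; field_simp



end H23.L2
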