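import Mathlib
import Cfsg.Agent.H23.LDefs
import Cfsg.Agent.H23.PU
import Cfsg.Agent.H2.ZL
import Cfsg.Agent.H21.FieldAut

set_option autoImplicit false
set_option linter.unusedVariables false
set_option linter.unusedSectionVars false

namespace H23.L2

open Cfsg H24 Subgroup
open H2.SZ (St DD Goal)
open scoped MatrixGroups commutatorElement

universe u

variable {G : Type u} [Group G] [Finite G] {F : Type*} [Field F] [Fintype F]
  {L G0 D T B R Q S S1 A P N M H : Subgroup G} {t f g i j ρ z u : G} {X : LD F L} {n : ℕ}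
  {π s : G → F}

/-! ### LB -/

namespace LBx

theorem cyc_two {K : Type*} [Group K] [Finite K] [IsCyclic K] {a b : K} (h1 : a * a = 1)
    (h2 : b * b = 1) (h3 : a ≠ 1) (h4 : b ≠ 1) : a = b := by
  classical
  have := Fintype.ofFinite K
  by_contra hne
  have h := IsCyclic.card_pow_eq_one_le (α := K) two_pos
  have h5 : ({1, a, b} : Finset K) ⊆ Finset.univ.filter (fun x => x ^ 2 = 1) := by
    intro x hx
    simp only [Finset.mem_insert, Finset.mem_singleton] at hx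
    rcases hx with rfl | rfl | rfl <;> simp [sq, *]
  have h6 := Finset.card_le_card h5
  rw [Finset.card_eq_three.2 ⟨1, a, b, h3.symm, h4.symm, hne, rfl⟩] at h6
  omega

theorem two_of {k : ℕ} (h : Fintype.card F = 2 ^ k) : (2 : F) = 0 := by
  have := FiniteField.cast_card_eq_zero F
  rw [h, Nat.cast_pow, Nat.cast_ofNat] at this
  exact eq_zero_of_pow_eq_zero this

theorem card_le_two (f : G) (h : ∀ a ∈ A, a ∈ B ∨ f * a ∈ B) : ♯A ≤ 2 * ♯B := by
  classical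
  have e : Nat.card (Bool × B) = 2 * ♯B := by rw [Nat.card_prod, Nat.card_eq_fintype_card]; rfl
  rw [← e]
  refine Nat.card_le_card_of_injective (fun a : A => if ha : (a : G) ∈ B then (true, ⟨a, ha⟩) else
    (false, ⟨f * a, (h a a.2).resolve_left ha⟩)) fun a b hab => ?_
  by_cases ha : (a : G) ∈ B <;> by_cases hb : (b : G) ∈ B <;> simp only [ha, hb, dite_true,
    dite_false, Prod.mk.injEq, Subtype.mk.injEq, true_and, mul_right_inj] at hab
  · exact Subtype.ext hab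
  · exact absurd hab.1 (by simp)
  · exact absurd hab.1 (by simp)
  · exact Subtype.ext hab

theorem nml (X : LD F L) (h : P ⊴ L) : P = ⊥ ∨ P = L := by
  have := X.simple
  rcases h.normal.eq_bot_or_eq_top with e | e
  · left
    rwa [subgroupOf_eq_bot, disjoint_iff, inf_eq_left.2 h.1] at e
  · exact .inr (le_antisymm h.1 (subgroupOf_eq_top.1 e))

theorem zh_z (X : LD F L) (a b : F) (k : Fˣ) :
    X.z a * X.h k * X.z b * (X.z a * X.h k)⁻¹ = X.z (k * b) := by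
  rw [show X.z a * X.h k * X.z b * (X.z a * X.h k)⁻¹ =
    X.z a * (X.h k * X.z b * (X.h k)⁻¹) * (X.z a)⁻¹ by group, X.h_z, X.z_comm, mul_inv_cancel_right]

theorem cent_z (X : LD F L) (hg : g ∈ L) {b : F} (hb : b ≠ 0) (h : g * X.z b = X.z b * g) :
    g ∈ X.V := by
  have h' : g * X.z b * g⁻¹ = X.z b := by rw [h, mul_inv_cancel_right]
  obtain ⟨a, k, rfl⟩ := X.ti g hg b b hb h'
  rw [zh_z] at h'
  obtain rfl : k = 1 := Units.ext ((mul_left_eq_self₀.1 (X.z_inj h')).resolve_right hb)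
  rw [map_one, mul_one]
  exact X.z_V _

end LBx

open LBx
open H2.SZ (piElt_of_sq mem_zp_inv syl_of_two)

theorem aut_cyc : IsCyclic (RingAut F) := by
  obtain ⟨p, hp⟩ := CharP.exists F
  haveI := Fact.mk (CharP.char_is_prime F p)
  letI := ZMod.algebra F p
  let f : (F ≃ₐ[ZMod p] F) →* (F ≃+* F) :=
    { toFun := fun σ => σ.toRingEquiv
      map_one' := rfl
      map_mul' := fun _ _ => rfl }
  refine isCyclic_of_surjective f fun σ => ⟨{ σ with commutes' := fun r => ?_ }, rfl⟩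
  exact congrArg (fun g : ZMod p →+* F => g r)
    (Subsingleton.elim ((σ : F →+* F).comp (algebraMap (ZMod p) F)) (algebraMap (ZMod p) F))

theorem aut_card (two : (2 : F) = 0) : 2 ^ Nat.card (RingAut F) = Fintype.card F := by
  have := CharTwo.of_one_ne_zero_of_two_eq_zero one_ne_zero two
  letI := ZMod.algebra F 2
  rw [Module.card_eq_pow_finrank (K := ZMod 2) (V := F), ZMod.card]
  exact congrArg _ (H21.card_ringEquiv 2)

theorem aut_two {σ τ : RingAut F} (h1 : σ * σ = 1) (h2 : τ * τ = 1) (h3 : σ ≠ 1) (h4 : τ ≠ 1) :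
    σ = τ := by
  have := aut_cyc (F := F)
  have : Finite (RingAut F) := H21.finite_ringEquiv
  exact cyc_two h1 h2 h3 h4

theorem aut_four (h : Fintype.card F = 4) {σ τ : RingAut F} (h3 : σ ≠ 1) (h4 : τ ≠ 1) :
    σ * τ = 1 := by
  have e := aut_card (two_of (F := F) (k := 2) h)
  rw [h] at e
  replace e : Nat.card (RingAut F) = 2 := Nat.pow_right_injective le_rfl e
  have k : ∀ x : RingAut F, x * x = 1 := fun x => by rw [← sq, ← e, pow_card_eq_one']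
  rw [aut_two (k σ) (k τ) h3 h4, k]

theorem aut_eight (h : Fintype.card F = 8) (σ : RingAut F) : σ ^ 3 = 1 := by
  have e := aut_card (two_of (F := F) (k := 3) h)
  rw [h] at e
  replace e : Nat.card (RingAut F) = 3 := Nat.pow_right_injective le_rfl e
  rw [← e, pow_card_eq_one']

theorem LBx.even (X : LD F L) : Even (Fintype.card F) := by
  have h4 := X.four
  rw [← aut_card X.two] at h4 ⊢
  exact Nat.even_pow.2 ⟨even_two, fun e => by rw [e] at h4; omega⟩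

theorem LD.el_V (X : LD F L) : El X.V := by rintro _ ⟨b, rfl⟩; exact X.z_sq b

theorem LD.syl_V (X : LD F L) : Syl 2 L X.V := by
  refine Syl.mk' Nat.prime_two X.V_le X.el_V.pi ?_
  have := card_mul_relIndex X.V_le
  rw [X.card_V, X.card] at this
  rw [Nat.eq_of_mul_eq_mul_left Fintype.card_pos this, ← even_iff_two_dvd, Nat.not_even_iff_odd]
  exact Nat.Even.sub_odd (Nat.one_le_pow _ _ Fintype.card_pos)
    (Nat.even_pow.2 ⟨LBx.even X, two_ne_zero⟩) odd_one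

theorem LD.odd_h (X : LD F L) (k : Fˣ) : PiElt {2}ᶜ (X.h k) := by
  classical
  refine piElt_of_pow_eq_one (n := Fintype.card F - 1)
    ((piNat_compl_iff_coprime Nat.prime_two).2
      (Nat.Even.sub_odd Fintype.card_pos (LBx.even X) odd_one).coprime_two_left) ?_
  rw [← map_pow, ← Fintype.card_units, pow_card_eq_one, map_one]

theorem LD.h_V (X : LD F L) (k : Fˣ) : X.h k ∈ N[X.V] := mem_N_of_finite (by
  rintro _ ⟨b, rfl⟩; exact ⟨_, X.h_z k b⟩)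

theorem LD.nab (X : LD F L) : ¬ Abl L := fun h => by
  obtain ⟨k, hk⟩ := X.exists_unit
  have := X.h_z k 1
  rw [h.comm (X.h_mem k) (X.z_mem 1), mul_inv_cancel_right, mul_one] at this
  exact hk (Units.ext (X.z_inj this).symm)

theorem LD.pf (X : LD F L) : ⁅L, L⁆ = L :=
  (nml X (der1_nml L)).resolve_left fun e => X.nab (der1_eq_bot.1 e)

theorem LD.CL (X : LD F L) : L ⊓ C[L] = ⊥ :=
  (nml X (Nml.refl L).infC).resolve_right fun e => X.nab (abl_iff.2 (inf_eq_left.1 e))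

theorem LD.φ_one (X : LD F L) : X.φ 1 = 1 :=
  (X.φ_ker 1 (one_mem _)).2 ⟨1, one_mem _, 1, one_mem _, (one_mul _).symm⟩

theorem LD.φ_L (X : LD F L) (hg : g ∈ L) : X.φ g = 1 :=
  (X.φ_ker g (norm_self L hg)).2 ⟨g, hg, 1, one_mem _, (mul_one _).symm⟩

theorem LD.φ_C (X : LD F L) (hg : g ∈ C[L]) : X.φ g = 1 :=
  (X.φ_ker g (C_le_N L hg)).2 ⟨1, one_mem _, g, hg, (one_mul _).symm⟩

theorem LD.φ_inv (X : LD F L) (hg : g ∈ N[L]) : X.φ g⁻¹ = (X.φ g)⁻¹ :=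
  eq_inv_of_mul_eq_one_left (by rw [← X.φ_mul _ (inv_mem hg) _ hg, inv_mul_cancel, X.φ_one])

theorem LD.φ_pow (X : LD F L) (hg : g ∈ N[L]) (m : ℕ) : X.φ (g ^ m) = X.φ g ^ m := by
  induction m with
  | zero => rw [pow_zero, pow_zero, X.φ_one]
  | succ m ih => rw [pow_succ, pow_succ, X.φ_mul _ (pow_mem hg m) _ hg, ih]

theorem LD.φ_conj (X : LD F L) (hg : g ∈ N[L]) (hf : f ∈ N[L]) : X.φ (g * f * g⁻¹) = X.φ f := by
  have := aut_cyc (F := F)
  rw [X.φ_mul _ (mul_mem hg hf) _ (inv_mem hg), X.φ_mul _ hg _ hf, X.φ_inv hg,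
    IsMulCommutative.is_comm.comm (X.φ g), mul_inv_cancel_right]

theorem LD.actV (X : LD F L) (hg : g ∈ N[L]) (hV : g ∈ N[X.V]) :
    ∃ c : F, c ≠ 0 ∧ ∀ b, g * X.z b * g⁻¹ = X.z (c * X.φ g b) :=
  X.act g hg fun b => H24.conj_mem hV (X.z_V b)

theorem LD.φ_CV (X : LD F L) (hg : g ∈ N[L]) (hV : g ∈ C[X.V]) : X.φ g = 1 := by
  obtain ⟨c, -, hc⟩ := X.actV hg (C_le_N _ hV)
  have k : ∀ b, c * X.φ g b = b := fun b =>
    X.z_inj ((hc b).symm.trans (conj_eq_of_mem_C hV (X.z_V b)))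
  have c1 := k 1
  rw [map_one, mul_one] at c1
  exact RingEquiv.ext fun b => by simpa [c1] using k b

theorem LD.dec (X : LD F L) (hg : g ∈ N[L]) (hV : g ∈ N[X.V]) (h1 : X.φ g = 1) :
    ∃ a k, ∃ c ∈ C[L], g = X.z a * X.h k * c := by
  obtain ⟨l, hl, c, hc, rfl⟩ := (X.φ_ker g hg).1 h1
  obtain ⟨d, hd⟩ := H24.conj_mem ((mul_mem_cancel_right (C_le_N _ (C_anti X.V_le hc))).1 hV) (X.z_V 1)
  obtain ⟨a, k, rfl⟩ := X.ti l hl 1 d one_ne_zero hd
  exact ⟨a, k, c, hc, rfl⟩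

theorem LD.TI (X : LD F L) (hg : g ∈ N[L]) {b : F} (hb : b ≠ 0) (h1 : g * X.z b * g⁻¹ ∈ X.V) :
    g ∈ N[X.V] := by
  obtain ⟨c, hc⟩ := h1
  have hc0 : c ≠ 0 := by
    rintro rfl
    rw [X.z_zero, conj_eq_one_iff, X.z_eq_one] at hc
    exact hb hc
  refine mem_N_of_finite fun x hx => cent_z X (H24.conj_mem hg (X.V_le hx)) hc0 ?_
  obtain ⟨a, rfl⟩ := hx
  rw [← hc, conj_mul, conj_mul, X.z_comm]

theorem LD.conj_h (X : LD F L) (hg : g ∈ N[L]) (hV : g ∈ N[X.V]) (k : Fˣ) :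
    ∃ a, ∃ l : Fˣ, (l : F) = X.φ g k ∧ g * X.h k * g⁻¹ = X.z a * X.h l := by
  obtain ⟨c, c0, hc⟩ := X.actV hg hV
  have e : g * X.h k * g⁻¹ * X.z c * (g * X.h k * g⁻¹)⁻¹ = X.z (c * X.φ g k) := by
    have := hc 1
    rw [map_one, mul_one] at this
    rw [← this, ← hc, ← mul_one (k : F), ← X.h_z]
    group
  obtain ⟨a, l, hl⟩ := X.ti _ (H24.conj_mem hg (X.h_mem k)) c _ c0 e
  refine ⟨a, l, ?_, hl⟩
  rw [hl, zh_z] at e
  exact mul_right_cancel₀ c0 ((X.z_inj e).trans (mul_comm _ _))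

theorem LBx.out_le (X : LD F L) (h : X.Out f) :
    ♯(X.V ⊓ C{f} : Subgroup G) ^ 2 ≤ Fintype.card F := by
  obtain ⟨c, c0, hc⟩ := X.actV h.nL h.nV
  obtain ⟨x, hx⟩ : ∃ x, X.φ f x ≠ x := by
    by_contra! e
    exact h.ne (RingEquiv.ext e)
  choose β hβ using fun v : (X.V ⊓ C{f} : Subgroup G) => v.2.1
  have fx : ∀ v, c * X.φ f (β v) = β v := fun v => X.z_inj (by
    rw [← hc, ← hβ, ← mem_C1.1 v.2.2, mul_inv_cancel_right])
  rw [sq, ← Nat.card_prod, ← Nat.card_eq_fintype_card]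
  refine Nat.card_le_card_of_injective (fun p => β p.1 + β p.2 * x) fun p r e => ?_
  have e1 := congrArg (fun y => c * X.φ f y) e
  simp only [map_add, map_mul, mul_add, ← mul_assoc, fx] at e e1
  have e2 : β p.2 = β r.2 := mul_right_cancel₀ (sub_ne_zero.2 hx) (by linear_combination e1 - e)
  have e3 : β p.1 = β r.1 := by linear_combination e - x * e2
  exact Prod.ext (Subtype.ext (by rw [hβ, hβ, e3])) (Subtype.ext (by rw [hβ, hβ, e2]))

theorem LD.out_fr (X : LD F L) (h : X.Out f) : Fr X.V f :=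
  fr_of_le X.el_V h.nV h.sq (X.card_V ▸ LBx.out_le X h)

theorem LD.out_card (X : LD F L) (h : X.Out f) :
    ♯(X.V ⊓ C{f} : Subgroup G) ^ 2 = Fintype.card F ∧
      (Fintype.card F = 4 ∨ 16 ≤ Fintype.card F) := by
  have e := (X.out_fr h).1
  rw [X.card_V] at e
  refine ⟨e, ?_⟩
  have h4 := X.four
  rw [← aut_card X.two] at e h4 ⊢
  generalize Nat.card (RingAut F) = k at e h4 ⊢
  generalize ♯(X.V ⊓ C{f} : Subgroup G) = m at e
  rcases k with _ | _ | _ | _ | k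
  · omega
  · omega
  · exact .inl rfl
  · replace e : m ^ 2 = 8 := e
    have : m ≤ 2 := by nlinarith
    interval_cases m <;> omega
  · exact .inr (Nat.pow_le_pow_right (n := 2) (i := 4) two_pos (by omega))

theorem LD.exists_out (X : LD F L) (hg : g ∈ N[L]) (hV : g ∈ N[X.V]) (h1 : g * g ∈ X.V)
    (h2 : X.φ g ≠ 1) : ∃ b, X.Out (g * X.z b) := by
  obtain ⟨c, c0, hc⟩ := X.actV hg hV
  obtain ⟨d, hd⟩ := h1
  obtain ⟨x, hx⟩ : ∃ x, X.φ g x ≠ x := by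
    by_contra! e
    exact h2 (RingEquiv.ext e)
  have s2 : X.φ g (X.φ g x) = x := by
    rw [← RingAut.mul_apply, ← X.φ_mul _ hg _ hg, hd, X.φ_L (X.z_mem d)]; rfl
  have e0 : X.φ g x + x ≠ 0 := fun e => hx (X.eq_of_add e)
  have e1 : c * X.φ g d = d := X.z_inj (by rw [← hc, ← hd]; group)
  refine ⟨d * (x / (X.φ g x + x)), mul_mem hg (norm_self L (X.z_mem _)),
    mul_mem hV (norm_self _ (X.z_V _)), ?_, ?_⟩
  · rw [show ∀ y : G, g * y * (g * y) = g * y * g⁻¹ * (g * g) * y from fun y => by group, hc, hd,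
      X.z_mul, X.z_mul, X.z_eq_one, map_mul, ← mul_assoc, e1, map_div₀, map_add, s2, add_comm x]
    field_simp
    linear_combination d * (X.φ g x + x) * X.two
  · rwa [X.φ_mul _ hg _ (norm_self L (X.z_mem _)), X.φ_L (X.z_mem _), mul_one]

theorem St2.tz (h : St2 L G0 t) (X : LD F L) (b : F) : X.z b * t = t * X.z b :=
  mem_C.1 h.tC _ (X.z_mem b)

theorem St2.th (h : St2 L G0 t) (X : LD F L) (k : Fˣ) : X.h k * t * (X.h k)⁻¹ = t := by
  rw [mem_C.1 h.tC _ (X.h_mem k), mul_inv_cancel_right]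

theorem St2.tV (h : St2 L G0 t) (X : LD F L) : t ∉ X.V := fun e =>
  h.t1 (mem_bot.1 (X.CL ▸ mem_inf.2 ⟨X.V_le e, h.tC⟩))

theorem St2.mem_E (h : St2 L G0 t) (X : LD F L) :
    g ∈ X.E t ↔ ∃ b, g = X.z b ∨ g = t * X.z b := by
  rw [LD.E, mem_sup_of_norm' (zpowers_le.2 (C_le_N _ (C_anti X.V_le h.tC)))]
  constructor
  · rintro ⟨x, hx, _, ⟨b, rfl⟩, rfl⟩
    rcases (mem_zp_inv h.tt).1 hx with rfl | rfl
    exacts [⟨b, .inl (one_mul _)⟩, ⟨b, .inr rfl⟩]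
  · rintro ⟨b, rfl | rfl⟩
    exacts [⟨1, one_mem _, _, X.z_V b, (one_mul _).symm⟩, ⟨t, mem_zpowers t, _, X.z_V b, rfl⟩]

theorem St2.el_E (h : St2 L G0 t) (X : LD F L) : El (X.E t) := fun a ha => by
  obtain ⟨b, rfl | rfl⟩ := (h.mem_E X).1 ha
  · exact X.z_sq b
  · rw [mul_assoc, ← mul_assoc (X.z b), h.tz, ← mul_assoc, ← mul_assoc, h.tt, one_mul, X.z_sq]

theorem LBx.card_t (h : St2 L G0 t) (X : LD F L) (hA : A ≤ X.V) :
    ♯(zpowers t ⊔ A : Subgroup G) = 2 * ♯A := by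
  have o : ♯(zpowers t) = 2 := by
    rw [card_zpowers']; exact orderOf_eq_prime (by rw [sq, h.tt]) h.t1
  rw [card_sup_of_inf (norm_zpowers_of_cent (mem_C_iff_le_C1.1 (C_anti (hA.trans X.V_le) h.tC)))
    (prime_inf_of_not_le (o ▸ Nat.prime_two) fun e => h.tV X (hA (e (mem_zpowers t)))), o]

theorem St2.card_E (h : St2 L G0 t) (X : LD F L) : ♯(X.E t) = 2 * Fintype.card F := by
  rw [← X.card_V]; exact LBx.card_t h X le_rfl

theorem St2.inv_C (h : St2 L G0 t) (h1 : g ∈ C[L]) (h2 : g * t = t * g) (h3 : g * g = 1) :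
    g = 1 ∨ g = t := by
  by_cases g1 : g = 1
  · exact .inl g1
  have c : zpowers g ≤ C[zpowers t] := by rw [C_zpowers]; exact zpowers_le.2 (mem_C1.2 h2)
  have := h.cyc (zpowers t ⊔ zpowers g) (sup_le (zpowers_le.2 h.tC) (zpowers_le.2 h1))
    ((piElt_of_sq h.tt).isPi.sup (piElt_of_sq h3).isPi (norm_of_cent c))
  exact .inr (congrArg Subtype.val (cyc_two (K := (zpowers t ⊔ zpowers g : Subgroup G))
    (a := ⟨g, mem_sup_right (mem_zpowers g)⟩) (b := ⟨t, mem_sup_left (mem_zpowers t)⟩)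
    (Subtype.ext h3) (Subtype.ext h.tt) (fun e => g1 (congrArg Subtype.val e))
    (fun e => h.t1 (congrArg Subtype.val e))))

theorem St2.inv_E (h : St2 L G0 t) (X : LD F L) (h1 : g * t = t * g) (hV : g ∈ N[X.V])
    (h3 : g * g = 1) (h4 : X.φ g = 1) : g ∈ X.E t := by
  obtain ⟨a, k, c, hc, rfl⟩ := X.dec (h.Ct g h1) hV h4
  have act : ∀ b, X.z a * X.h k * c * X.z b * (X.z a * X.h k * c)⁻¹ = X.z (k * b) := fun b => by
    rw [← zh_z X a b k, mul_assoc _ c, ← mem_C.1 hc _ (X.z_mem b)]; group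
  have k2 : (k : F) * (k * 1) = 1 := X.z_inj (by
    rw [← act, ← act, show ∀ y w : G, y * (y * w * y⁻¹) * y⁻¹ = y * y * w * (y * y)⁻¹ from
      fun y w => by group, h3]; simp)
  obtain rfl : k = 1 := Units.ext (by
    have : ((k : F) + 1) ^ 2 = 0 := by linear_combination k2 + (k + 1) * X.two
    exact X.eq_of_add (pow_eq_zero_iff two_ne_zero |>.1 this))
  rw [map_one, mul_one] at h1 h3 ⊢
  have c1 : c * t = t * c := by
    rw [mul_assoc, ← mul_assoc t, ← h.tz, mul_assoc] at h1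
    exact mul_left_cancel h1
  have c2 : c * c = 1 := by
    rwa [mul_assoc, ← mul_assoc c, ← mem_C.1 hc _ (X.z_mem a), ← mul_assoc, ← mul_assoc, X.z_sq,
      one_mul] at h3
  refine mul_mem (X.V_E t (X.z_V a)) ?_
  rcases h.inv_C hc c1 c2 with rfl | rfl
  exacts [one_mem _, X.t_E _]

theorem St2.out (h : St2 L G0 t) (X : LD F L) (h1 : g * t = t * g) (hV : g ∈ N[X.V])
    (h3 : g * g = 1) (h4 : g ∉ X.E t) : X.Out g :=
  ⟨h.Ct g h1, hV, h3, fun e => h4 (h.inv_E X h1 hV h3 e)⟩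

theorem St2.card_CE (h : St2 L G0 t) (X : LD F L) (h1 : f * t = t * f) (h2 : X.Out f) :
    ♯(X.E t ⊓ C{f} : Subgroup G) = 2 * ♯(X.V ⊓ C{f} : Subgroup G) := by
  rw [LD.E, ← group_modl' (zpowers_le.2 (C_le_N _ (C_anti X.V_le h.tC)))
    (zpowers_le.2 (mem_C1.2 h1.symm))]
  exact LBx.card_t h X inf_le_left

theorem St2.idx2 (h : St2 L G0 t) (X : LD F L) (hA : El A) (h1 : A ≤ C{t}) (h2 : A ≤ N[X.V]) :
    ♯A ≤ 2 * ♯(A ⊓ X.E t : Subgroup G) := by
  by_cases h3 : A ≤ X.E t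
  · rw [inf_eq_left.2 h3]; omega
  obtain ⟨f, fA, fE⟩ := SetLike.not_le_iff_exists.1 h3
  have c : ∀ a ∈ A, a * t = t * a := fun a ha => mem_C1.1 (h1 ha)
  have sq : ∀ a ∈ A, X.φ a * X.φ a = 1 := fun a ha => by
    rw [← X.φ_mul _ (h.Ct a (c a ha)) _ (h.Ct a (c a ha)), hA a ha, X.φ_one]
  refine card_le_two f fun a ha => ?_
  by_cases aE : a ∈ X.E t
  · exact .inl ⟨ha, aE⟩
  have m := mul_mem fA ha
  refine .inr ⟨m, h.inv_E X (c _ m) (h2 m) (hA _ m) ?_⟩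
  rw [X.φ_mul _ (h.Ct f (c f fA)) _ (h.Ct a (c a ha)), aut_two (sq f fA) (sq a ha)
    (h.out X (c f fA) (h2 fA) (hA f fA) fE).ne (h.out X (c a ha) (h2 ha) (hA a ha) aE).ne, sq a ha]

theorem St2.rk (h : St2 L G0 t) (X : LD F L) (hA : El A) (h1 : A ≤ C{t}) (h2 : A ≤ N[X.V])
    (h3 : ¬ A ≤ X.E t) : ♯A ^ 2 ≤ 16 * Fintype.card F := by
  obtain ⟨f, fA, fE⟩ := SetLike.not_le_iff_exists.1 h3
  have c := mem_C1.1 (h1 fA)
  have o := h.out X c (h2 fA) (hA f fA) fE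
  have e1 := h.idx2 X hA h1 h2
  have e2 : ♯(A ⊓ X.E t : Subgroup G) ≤ ♯(X.E t ⊓ C{f} : Subgroup G) :=
    card_le fun a ha => ⟨ha.2, mem_C1.2 (hA.abl.comm ha.1 fA)⟩
  rw [h.card_CE X c o] at e2
  rw [← (X.out_card o).1]
  calc _ ≤ (4 * ♯(X.V ⊓ C{f} : Subgroup G)) ^ 2 := Nat.pow_le_pow_left (by omega) 2
    _ = _ := by ring

theorem St2.dz (h : St2 L G0 t) (X : LD F L) {a b : F} (ha : a ≠ 0) (hb : b ≠ 0) :
    (DD t (X.z a) → DD t (X.z b)) ∧ (DD t (t * X.z a) → DD t (t * X.z b)) := by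
  obtain ⟨k, hk⟩ := X.exists_h ha hb
  refine ⟨fun e => hk ▸ e.conj _, fun e => ?_⟩
  have := e.conj (X.h k)
  rwa [← conj_mul, h.th, hk] at this

theorem St2.two_V (h : St2 L G0 t) (X : LD F L) (hP : IsPi {2} P) (h1 : P ≤ C{t}) (h2 : X.V ≤ P) :
    P ≤ N[X.V] := by
  have e : P ⊓ L = X.V := X.syl_V.eq_of_le (hP.inf_left L) (le_inf h2 X.V_le) inf_le_right
  exact e ▸ norm_inf (norm_self P) fun x hx => h.Ct x (mem_C1.1 (h1 hx))

theorem Lb.T_V (h : Lb X G0 t T) : T ≤ N[X.V] := h.toSt2.two_V X h.syl.pi h.syl.le h.V_T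

theorem Lb.T_L (h : Lb X G0 t T) : T ≤ N[L] := fun x hx => h.Ct x (mem_C1.1 (h.syl.le hx))

theorem Lb.t_T (h : Lb X G0 t T) : t ∈ T :=
  h.syl.le_of_norm (piElt_of_sq h.tt).isPi (zpowers_le_C1 t)
    (zpowers_le.2 (C_le_N _ (mem_C_iff_le_C1.2 h.syl.le))) (mem_zpowers t)

theorem Lb.E_T (h : Lb X G0 t T) : X.E t ≤ T := sup_le (zpowers_le.2 h.t_T) h.V_T

theorem Lb.T_E (h : Lb X G0 t T) : T ≤ N[X.E t] := norm_sup (norm_zpowers_of_cent h.syl.le) h.T_V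

theorem Lb.cen (h : Lb X G0 t T) (hP : IsPi {2} P) (h1 : T ≤ P) (hg : g ∈ P) (h2 : g * t = t * g) :
    g ∈ T :=
  (h.syl.eq_of_le (hP.inf_left C{t}) (le_inf h1 h.syl.le) inf_le_right).le ⟨hg, mem_C1.2 h2⟩

theorem Lb.toT (h : Lb X G0 t T) (hu : DD t u) (hA : IsPi {2} A) (hC : A ≤ C{u}) :
    ∃ g, u = g * t * g⁻¹ ∧ ∀ a ∈ A, g⁻¹ * a * g ∈ T := by
  obtain ⟨g, rfl⟩ := hu
  obtain ⟨c, hc, e2⟩ := Sylow_Jsub Nat.prime_two h.syl (hA.cj g⁻¹) fun x hx => by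
      obtain ⟨a, ha, rfl⟩ := mem_cj'.1 hx
      rw [mem_C1]
      calc _ = g⁻¹ * (a * (g * t * g⁻¹)) * g := by group
        _ = _ := by rw [mem_C1.1 (hC ha)]; group
  refine ⟨g * c⁻¹, ?_, fun a ha => e2 ?_⟩
  · rw [mul_assoc g c⁻¹, mem_C1.1 (inv_mem hc)]; group
  · convert conj_mem_cj c (conj_mem_cj g⁻¹ ha) using 1
    group

theorem Lb.card_le (h : Lb X G0 t T) (hu : DD t u) (hA : IsPi {2} A) (hC : A ≤ C{u}) :
    ♯A ≤ ♯T := by
  obtain ⟨g, -, hg⟩ := h.toT hu hA hC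
  rw [← card_cj g T]
  exact H24.card_le fun a ha => mem_cj.2 (hg a ha)

theorem Lb.syl_of (h : Lb X G0 t T) (hP : IsPi {2} P) (h1 : T ≤ P)
    (h2 : ∀ u ∈ P, DD t u → ∃ g ∈ P, u = g * t * g⁻¹) : Syl 2 ⊤ P :=
  syl_of_two hP fun R hR PR g gR gP => by
    obtain ⟨p, hp, e⟩ := h2 _ (H24.conj_mem gP (h1 h.t_T)) ⟨g, rfl⟩
    refine (mul_mem_cancel_left (inv_mem hp)).1 (h1 (h.cen hR (h1.trans PR)
      (mul_mem (inv_mem (PR hp)) gR) ?_))
    calc _ = p⁻¹ * (g * t * g⁻¹) * g := by group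
      _ = _ := by rw [e]; group



end H23.L2
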