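import Mathlib
import Cfsg.Agent.H23.LDefs
import Cfsg.Agent.H23.LB
import Cfsg.Agent.H2.ZL

set_option autoImplicit false
set_option linter.unusedVariables false
set_option linter.unusedSectionVars false

namespace H23.L2

open Cfsg H24 Subgroup
open H2.SZ (St DD Goal)
open scoped MatrixGroups commutatorElement

universe u

variable {G : Type u} [Group G] [Finite G] {F : Type*} [Field F] [Fintype F]
  {L G0 D T B R Q S S1 A P N M H : Subgroup G} {t f g i j ρ z u : G} {X : LD F L} {n : ℕ}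
  {π s : G → F}

open H2.SZ (piElt_of_sq two_cent le_sup_of_odd mem_zp_inv)

namespace LCx

theorem mem_zp {C : Type*} [Group C] [Finite C] [IsCyclic C] {x y : C} (h : orderOf x ∣ orderOf y) :
    ∃ m : ℕ, x * y ^ m = 1 := by
  classical
  have := Fintype.ofFinite C
  have h1 := IsCyclic.card_pow_eq_one_le (α := C) (orderOf_pos y)
  have h2 : (Finset.univ.filter (· ∈ zpowers y)).card = orderOf y := by
    rw [← Fintype.card_zpowers, Fintype.card_subtype]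
  have h3 := Finset.eq_of_subset_of_card_le
    (s := Finset.univ.filter (· ∈ zpowers y)) (t := Finset.univ.filter (· ^ orderOf y = 1))
    (fun a ha => by
      simp only [Finset.mem_filter, Finset.mem_univ, true_and] at ha ⊢
      exact orderOf_dvd_iff_pow_eq_one.1 (orderOf_dvd_of_mem_zpowers ha)) (h2 ▸ h1)
  have h4 : x⁻¹ ∈ Finset.univ.filter (· ^ orderOf y = 1) := by
    simp only [Finset.mem_filter, Finset.mem_univ, true_and, inv_pow, inv_eq_one]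
    exact orderOf_dvd_iff_pow_eq_one.1 h
  rw [← h3, Finset.mem_filter, ← mem_powers_iff_mem_zpowers] at h4
  obtain ⟨m, hm⟩ := h4.2
  exact ⟨m, by rw [show y ^ m = x⁻¹ from hm, mul_inv_cancel]⟩

theorem fin_aut : Finite (RingAut F) :=
  Finite.of_injective (fun σ : RingAut F => (σ : F → F)) DFunLike.coe_injective

theorem φ_comm (σ τ : RingAut F) : σ * τ = τ * σ :=
  (aut_cyc (F := F)).commGroup.mul_comm σ τ

theorem φ_two (X : LD F L) (hg : g ∈ N[L]) (h : PiElt {2} g) : PiElt {2} (X.φ g) :=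
  PiNat.dvd h (orderOf_dvd_of_pow_eq_one (by rw [← X.φ_pow hg, pow_orderOf_eq_one, X.φ_one]))

theorem tV (h : St2 L G0 t) (X : LD F L) : t ∈ C[X.V] := C_anti X.V_le h.tC

theorem E_V (h : St2 L G0 t) (X : LD F L) : X.E t ≤ C[X.V] :=
  cents_of_le (h.el_E X).abl.le_C (X.V_E t)

theorem E_t (h : St2 L G0 t) (X : LD F L) : X.E t ≤ C{t} :=
  (h.el_E X).abl.le_C.trans (C_le_C1 (X.t_E t))

theorem act (h : Lc X G0 t D T) {e d : G} (he : e ∈ X.E t) (hd : d ∈ D) (k : Fˣ) (b : F) :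
    e * X.h k * d * X.z b * (e * X.h k * d)⁻¹ = X.z (k * b) := by
  have h1 := mem_C.1 (h.D_L hd) _ (X.z_mem b)
  have h2 := mem_C.1 (E_V h.toSt2 X he) _ (X.z_V (k * b))
  calc _ = e * (X.h k * (d * X.z b * d⁻¹) * (X.h k)⁻¹) * e⁻¹ := by group
    _ = _ := by rw [← h1, mul_inv_cancel_right, X.h_z, ← h2, mul_inv_cancel_right]

theorem sq_le {k : ℕ} (h : k ≠ 3) : k ^ 2 ≤ 2 ^ k := by
  rcases Nat.lt_or_ge k 4 with h4 | h4
  · interval_cases k <;> simp_all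
  · induction k, h4 using Nat.le_induction with
    | base => norm_num
    | succ k hk ih => have := ih (by omega); rw [pow_succ 2]; nlinarith

end LCx

open LCx

/-! ### LC -/
theorem Lc.D_E (h : Lc X G0 t D T) : D ≤ C[X.E t] :=
  cents_sup (by rw [C_zpowers]; exact h.D_t) (cents_of_le h.D_L X.V_le)

theorem Lc.dec' (h : Lc X G0 t D T) (h1 : g ∈ N[X.V]) (h2 : g * t = t * g) (h4 : X.φ g = 1) :
    ∃ e ∈ X.E t, ∃ k, ∃ d ∈ D, g = e * X.h k * d := by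
  obtain ⟨a, k, c, hc, rfl⟩ := X.dec (h.Ct g h2) h1 h4
  have e0 : X.z a * X.h k * t = t * (X.z a * X.h k) :=
    mem_C.1 h.tC _ (mul_mem (X.z_mem a) (X.h_mem k))
  have e : c * t = t * c := by
    rw [mul_assoc, ← mul_assoc t, ← e0, mul_assoc _ t] at h2
    exact mul_left_cancel h2
  rcases h.dec c hc e with e1 | e1
  · exact ⟨_, X.V_E t (X.z_V a), k, c, e1, rfl⟩
  · refine ⟨t * X.z a, mul_mem (X.t_E t) (X.V_E t (X.z_V a)), k, _, e1, ?_⟩
    rw [e, mul_assoc t, ← e0, mul_assoc _ t, ← mul_assoc t, h.tt, one_mul]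

theorem Lc.CVt (h : Lc X G0 t D T) (h1 : g ∈ C[X.V]) (h2 : g * t = t * g) :
    ∃ e ∈ X.E t, ∃ d ∈ D, g = e * d := by
  obtain ⟨e, he, k, d, hd, rfl⟩ := h.dec' (C_le_N _ h1) h2 (X.φ_CV (h.Ct g h2) h1)
  have h3 := act h he hd k 1
  rw [← mem_C.1 h1 _ (X.z_V 1), mul_inv_cancel_right, mul_one] at h3
  obtain rfl : k = 1 := Units.ext (X.z_inj h3).symm
  exact ⟨e, he, d, hd, by rw [map_one, mul_one]⟩

theorem Lc.two_E (h : Lc X G0 t D T) (h1 : g ∈ C[X.V]) (h2 : g * t = t * g) (h3 : PiElt {2} g) :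
    g ∈ X.E t := by
  obtain ⟨s, hs, d, hd, e⟩ := h.CVt h1 h2
  exact (piElt_decomp_unique h3 (piElt_one _) ((h.el_E X).pi.piElt hs) (h.odd.piElt hd) (by simp)
    (mem_C.1 (h.D_E hd) s hs) (by rw [mul_one, e])).1 ▸ hs

theorem Lc.odd_D (h : Lc X G0 t D T) (h1 : g ∈ C[X.V]) (h2 : g * t = t * g) (h3 : PiElt {2}ᶜ g) :
    g ∈ D := by
  obtain ⟨s, hs, d, hd, e⟩ := h.CVt h1 h2
  exact (piElt_decomp_unique (piElt_one {2}) h3 ((h.el_E X).pi.piElt hs) (h.odd.piElt hd) (by simp)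
    (mem_C.1 (h.D_E hd) s hs) (by rw [one_mul, e])).2 ▸ hd

theorem Lc.two_φ (h : Lc X G0 t D T) (h1 : g ∈ N[X.V]) (h2 : g * t = t * g) (h3 : PiElt {2} g)
    (h4 : X.φ g = 1) : g ∈ X.E t := by
  obtain ⟨e, he, k, d, hd, e1⟩ := h.dec' h1 h2 h4
  have a1 : ∀ b, g * X.z b * g⁻¹ = X.z (k * b) := fun b => e1 ▸ act h he hd k b
  have a2 : ∀ m : ℕ, g ^ m * X.z 1 * (g ^ m)⁻¹ = X.z ((k ^ m : Fˣ) : F) := fun m => by
    induction m with
    | zero => simp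
    | succ m ih =>
      rw [pow_succ' k, Units.val_mul, ← a1, ← ih, pow_succ']
      group
  have a3 := a2 (orderOf g)
  rw [pow_orderOf_eq_one, one_mul, inv_one, mul_one] at a3
  have a4 : k ^ orderOf g = 1 := Units.ext (X.z_inj a3).symm
  have a5 : X.h k = 1 := PiElt.eq_one (π := {2})
    (PiNat.dvd h3 (orderOf_dvd_of_pow_eq_one (by rw [← map_pow, a4, map_one]))) (X.odd_h k)
  refine h.two_E ?_ h2 h3
  rw [e1, a5, mul_one]
  exact mul_mem (E_V h.toSt2 X he) (C_anti X.V_le (h.D_L hd))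

theorem Lc.T_φ (h : Lc X G0 t D T) (hg : g ∈ T) (h1 : X.φ g = 1) : g ∈ X.E t :=
  h.two_φ (h.toLb.T_V hg) (mem_C1.1 (h.syl.le hg)) (h.syl.pi.piElt hg) h1

theorem Lc.cyc_T (h : Lc X G0 t D T) (hf : f ∈ T) (hg : g ∈ T) :
    (∃ m : ℕ, f * g ^ m ∈ X.E t) ∨ ∃ m : ℕ, g * f ^ m ∈ X.E t := by
  have := fin_aut (F := F)
  have := aut_cyc (F := F)
  have key : ∀ f ∈ T, ∀ g ∈ T, orderOf (X.φ f) ∣ orderOf (X.φ g) → ∃ m : ℕ, f * g ^ m ∈ X.E t :=
    fun f hf g hg e => by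
      obtain ⟨m, hm⟩ := mem_zp e
      refine ⟨m, h.T_φ (mul_mem hf (pow_mem hg m)) ?_⟩
      rw [X.φ_mul _ (h.toLb.T_L hf) _ (h.toLb.T_L (pow_mem hg m)), X.φ_pow (h.toLb.T_L hg), hm]
  obtain ⟨a, ha⟩ := (φ_two X (h.toLb.T_L hf) (h.syl.pi.piElt hf)).exists_pow Nat.prime_two
  obtain ⟨b, hb⟩ := (φ_two X (h.toLb.T_L hg) (h.syl.pi.piElt hg)).exists_pow Nat.prime_two
  rcases le_total a b with e | e
  · exact .inl (key f hf g hg (by rw [ha, hb]; exact pow_dvd_pow 2 e))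
  · exact .inr (key g hg f hf (by rw [ha, hb]; exact pow_dvd_pow 2 e))

theorem Lc.comm_T (h : Lc X G0 t D T) : ⁅T, T⁆ ≤ X.V := by
  have key : ∀ f, ∀ g ∈ T, (∃ m : ℕ, f * g ^ m ∈ X.E t) → ⁅f, g⁆ ∈ X.V := by
    rintro f g hg ⟨m, hm⟩
    have e : ⁅f, g⁆ = ⁅f * g ^ m, g⁆ := by
      simp only [commutatorElement_def]; group
    have gt := mem_C1.1 (h.syl.le hg)
    have c : ∀ b, ⁅X.z b, g⁆ ∈ X.V := fun b => by
      rw [commutatorElement_def, mul_assoc, mul_assoc, ← mul_assoc g]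
      exact mul_mem (X.z_V b) (H24.conj_mem (h.toLb.T_V hg) (inv_mem (X.z_V b)))
    obtain ⟨b, e1 | e1⟩ := (h.mem_E X).1 hm
    · rw [e, e1]; exact c b
    · rw [e, e1]
      have := H24.conj_mem (C_le_N _ (tV h.toSt2 X)) (c b)
      convert this using 1
      simp only [commutatorElement_def]
      calc _ = t * X.z b * g * (X.z b)⁻¹ * (g * t)⁻¹ := by group
        _ = _ := by rw [gt]; group
  refine commutator_le.2 fun f hf g hg => ?_
  rcases h.cyc_T hf hg with e | e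
  · exact key f g hg e
  · rw [← commutatorElement_inv]; exact inv_mem (key g f hf e)

theorem Lc.card_T (h : Lc X G0 t D T) : ∃ k, ♯T = 2 * Fintype.card F * k ∧ 1 ≤ k ∧
    2 ^ k ≤ Fintype.card F ∧ k ^ 2 ≤ Fintype.card F ∧ (k = 1 → T = X.E t) := by
  have := fin_aut (F := F)
  let ψ : T →* RingAut F := MonoidHom.mk' (fun x => X.φ x) fun x y =>
    X.φ_mul _ (h.toLb.T_L x.2) _ (h.toLb.T_L y.2)
  have hk : ψ.ker = (X.E t).subgroupOf T := by
    ext x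
    exact ⟨fun e => h.T_φ x.2 e, fun e => X.φ_CV (h.toLb.T_L x.2) (E_V h.toSt2 X e)⟩
  have e := ψ.ker.card_mul_index
  rw [index_ker, hk, card_subgroupOf_of_le h.toLb.E_T, h.card_E X] at e
  have h2 : 2 ^ Nat.card ψ.range ≤ Fintype.card F := by
    rw [← aut_card X.two]
    exact Nat.pow_le_pow_right two_pos (card_le_card_group _)
  refine ⟨_, e.symm, Nat.card_pos, h2, (sq_le fun h3 => ?_).trans h2, fun h1 => ?_⟩
  · have := h.syl.pi 3 Nat.prime_three (by rw [← e, h3]; exact dvd_mul_left 3 _)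
    simp at this
  · rw [h1, mul_one, ← h.card_E X] at e
    exact (eq_of_card_eq h.toLb.E_T e).symm

theorem Lc.T_out (h : Lc X G0 t D T) (hg : g ∈ T) (h1 : g ∉ X.E t) (h2 : g * g ∈ X.V) :
    ∃ b, X.Out (g * X.z b) :=
  X.exists_out (h.toLb.T_L hg) (h.toLb.T_V hg) h2 fun e => h1 (h.T_φ hg e)

theorem Lc.T8 (h : Lc X G0 t D T) (h8 : Fintype.card F = 8) : T = X.E t :=
  le_antisymm (fun g hg => h.T_φ hg ((φ_two X (h.toLb.T_L hg) (h.syl.pi.piElt hg)).eq_one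
    (piElt_of_pow_eq_one (n := 3) (fun p hp hd e => by
      obtain rfl : p = 2 := e
      omega) (aut_eight h8 _)))) h.toLb.E_T

theorem Lc.T4 (h : Lc X G0 t D T) (h4 : Fintype.card F = 4) (hf : f ∈ T) (h1 : f ∉ X.E t) :
    ♯T = 16 ∧ (∀ g ∈ T, g ∈ X.E t ∨ g * f ∈ X.E t) ∧ ♯(X.V ⊓ C{f} : Subgroup G) = 2 ∧
      ♯(T ⊓ C[T] : Subgroup G) = 4 := by
  have a2 : ∀ g ∈ T, g ∈ X.E t ∨ g * f ∈ X.E t := fun g hg => by
    refine or_iff_not_imp_left.2 fun k => h.T_φ (mul_mem hg hf) ?_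
    rw [X.φ_mul _ (h.toLb.T_L hg) _ (h.toLb.T_L hf)]
    exact aut_four h4 (fun e => k (h.T_φ hg e)) fun e => h1 (h.T_φ hf e)
  have ft := mem_C1.1 (h.syl.le hf)
  have a3 : ♯(X.V ⊓ C{f} : Subgroup G) = 2 := by
    have b1 := le_fix_sq X.el_V (h.toLb.T_V hf) (E_V h.toSt2 X ((a2 f hf).resolve_left h1))
    have b2 : ♯(X.V ⊓ C{f} : Subgroup G) < ♯X.V := card_lt (lt_of_le_of_ne inf_le_left fun e =>
      h1 (h.two_E (mem_C_iff_le_C1.2 (inf_eq_left.1 e)) ft (h.syl.pi.piElt hf)))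
    have b3 : ♯(X.V ⊓ C{f} : Subgroup G) ∣ ♯X.V := card_dvd inf_le_left
    rw [X.card_V, h4] at b1 b2 b3
    generalize ♯(X.V ⊓ C{f} : Subgroup G) = m at *
    interval_cases m <;> simp_all
  refine ⟨?_, a2, a3, ?_⟩
  · obtain ⟨k, e, k1, k2, k3, k4⟩ := h.card_T
    rw [h4] at e k3
    have : k ≠ 1 := fun e => h1 (k4 e ▸ hf)
    obtain rfl : k = 2 := by
      rcases Nat.lt_or_ge k 3 with h3 | h3
      · omega
      · nlinarith
    exact e
  · have e : T ⊓ C[T] = (X.V ⊓ C{f}) ⊔ zpowers t := by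
      refine le_antisymm (fun x hx => ?_) (sup_le (fun x hx => ⟨h.V_T hx.1, ?_⟩)
        (zpowers_le.2 ⟨h.toLb.t_T, mem_C_iff_le_C1.2 h.syl.le⟩))
      · have xf : x ∈ C{f} := C_le_C1 hf hx.2
        obtain ⟨b, rfl | rfl⟩ := (h.mem_E X).1 (h.two_E (C_anti h.V_T hx.2)
          (mem_C1.1 (h.syl.le hx.1)) (h.syl.pi.piElt hx.1))
        · exact mem_sup_left ⟨X.z_V b, xf⟩
        · exact mul_mem (mem_sup_right (mem_zpowers t)) (mem_sup_left ⟨X.z_V b,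
            (mul_mem_cancel_left (mem_C1.2 ft.symm)).1 xf⟩)
      · refine mem_C_iff_le_C1.2 fun g hg => ?_
        have c : X.E t ≤ C{x} := mem_C_iff_le_C1.1 ((h.el_E X).abl.le_C (X.V_E t hx.1))
        rcases a2 g hg with e | e
        · exact c e
        · exact (mul_mem_cancel_right (mem_C1_comm.1 hx.2)).1 (c e)
    rw [e, card_sup_of_inf (zpowers_le.2 (C_le_N _ (C_anti inf_le_left (tV h.toSt2 X)))), a3,
      card_zpowers', orderOf_eq_prime (p := 2) (by rw [sq, h.tt]) h.t1]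
    refine (eq_bot_iff_forall _).2 fun x hx => ?_
    rcases (mem_zp_inv h.tt).1 hx.2 with rfl | rfl
    exacts [rfl, absurd hx.1.1 (h.tV X)]

theorem Lc.fix_h (h : Lc X G0 t D T) (hP : IsPi {2} P) (h1 : P ≤ C[X.V]) (ht : t ∈ N[P])
    (hg : g ∈ P) {k : Fˣ} (hk : k ≠ 1) (e : g * X.h k = X.h k * g) : g = 1 ∨ g = t := by
  have hP' : IsPi {2} (P ⊔ zpowers t : Subgroup G) :=
    hP.sup (piElt_of_sq h.tt).isPi (zpowers_le.2 ht)
  have th : t ∈ C{X.h k} := mem_C1.2 (mem_C'.1 h.tC _ (X.h_mem k))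
  have z0 : ∀ b, X.z b ∈ C{X.h k} → X.z b = 1 := fun b hb => by
    have := X.h_z k b
    rw [← mem_C1.1 hb, mul_inv_cancel_right] at this
    by_contra b0
    exact hk (Units.ext (mul_right_cancel₀ (fun e => b0 (X.z_eq_one.2 e))
      ((X.z_inj this).symm.trans (one_mul b).symm)))
  refine two_cent (hP'.inf_left C{X.h k}) ⟨mem_sup_right (mem_zpowers t), th⟩ h.t1
    (fun x hx c => ?_) ⟨mem_sup_left hg, mem_C1.2 e⟩
  obtain ⟨b, rfl | rfl⟩ := (h.mem_E X).1 (h.two_E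
    (sup_le h1 (zpowers_le.2 (tV h.toSt2 X)) hx.1) c (hP'.piElt hx.1))
  · exact .inl (z0 b hx.2)
  · exact .inr (by rw [z0 b ((mul_mem_cancel_left th).1 hx.2), mul_one])

theorem Lc.le_G0 (h : Lc X G0 t D T) (hP : IsPi {2} P) (h1 : P ≤ C[X.V]) (ht : t ∈ N[P])
    (h2 : t ∉ P) (h4 : ∀ k, X.h k ∈ N[P]) : P ≤ G0 := by
  obtain ⟨k, hk⟩ := X.exists_unit
  let ψ : P → P := fun x => ⟨x⁻¹ * (X.h k * x * (X.h k)⁻¹), mul_mem (inv_mem x.2) (H24.conj_mem (h4 k) x.2)⟩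
  have hi : Function.Injective ψ := fun x y e => by
    have e1 : (x : G)⁻¹ * (X.h k * x * (X.h k)⁻¹) = (y : G)⁻¹ * (X.h k * y * (X.h k)⁻¹) :=
      congrArg Subtype.val e
    have m : (y : G) * (x : G)⁻¹ ∈ P := mul_mem y.2 (inv_mem x.2)
    rcases h.fix_h hP h1 ht m hk (by
      calc _ = y * ((x : G)⁻¹ * (X.h k * x * (X.h k)⁻¹)) * X.h k * (x : G)⁻¹ := by group
        _ = _ := by rw [e1]; group) with e2 | e2
    · exact Subtype.ext (mul_inv_eq_one.1 e2).symm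
    · exact absurd (e2 ▸ m) h2
  intro x hx
  obtain ⟨y, e⟩ := Finite.injective_iff_surjective.1 hi ⟨x, hx⟩
  have e1 : (y : G)⁻¹ * (X.h k * y * (X.h k)⁻¹) = x := congrArg Subtype.val e
  have m := h.le (X.h_mem k)
  have := mul_mem (h.nrm.conj_mem _ m (y : G)⁻¹) (inv_mem m)
  rw [← e1]
  convert this using 1
  group

theorem Lc.lift (h : Lc X G0 t D T) (h1 : t ∈ M) (h2 : D ≤ M) (h3 : M ≤ C[X.V])
    (h4 : ∀ k, X.h k ∈ N[M]) (h5 : ∀ g ∈ M, PiElt {2}ᶜ g → g ∈ D) :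
    ∃ R, IsPi {2} R ∧ R ≤ M ∧ R ≤ C[D] ∧ (∀ g ∈ M, PiElt {2} g → g ∈ R) ∧ N[M] ≤ N[R] ∧
      ∀ g ∈ M, ∃ r ∈ R, ∃ d ∈ D, g = r * d := by
  have nD : N[M] ≤ N[D] := fun g hg => mem_N_of_finite fun d hd =>
    h5 _ (H24.conj_mem hg (h2 hd)) ((h.odd.piElt hd).conj g)
  have CD : M ≤ N[D] := (norm_self M).trans nD
  obtain ⟨k, hk⟩ := X.exists_unit
  have fD : X.h k ∈ C[D] := cents_symm h.D_L (X.h_mem k)
  obtain ⟨R0, hR0, tR⟩ := Sylow_superset Nat.prime_two (piElt_of_sq h.tt).isPi (zpowers_le.2 h1)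
  replace tR := zpowers_le.1 tR
  have CR : ∀ g ∈ M, ∃ d ∈ D, ∃ r ∈ R0, g = d * r := fun g hg =>
    (mem_sup_of_norm (hR0.le.trans CD)).1 (sup_comm R0 D ▸ le_sup_of_odd hR0 h5 hg)
  obtain ⟨c, hc, e⟩ := Sylow_trans Nat.prime_two hR0 (hR0.cj_mem_N (h4 k))
  obtain ⟨d, hd, r, hr, rfl⟩ := CR c hc
  have hn : d⁻¹ * X.h k ∈ N[R0] := mem_N_of_finite fun x hx => by
    have := conj_mem_cj (X.h k) hx
    rw [e] at this
    obtain ⟨y, hy, e1⟩ := mem_cj'.1 this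
    rw [show d⁻¹ * X.h k * x * (d⁻¹ * X.h k)⁻¹ = d⁻¹ * (X.h k * x * (X.h k)⁻¹) * d by group, e1,
      show d⁻¹ * (d * r * y * (d * r)⁻¹) * d = r * y * r⁻¹ by group]
    exact H24.conj_mem (norm_self _ hr) hy
  have on : PiElt {2}ᶜ (d⁻¹ * X.h k) :=
    (h.odd.piElt (inv_mem hd)).mul (X.odd_h k) (mem_C.1 fD _ (inv_mem hd))
  have nt : d⁻¹ * X.h k ∈ C{t} :=
    mul_mem (inv_mem (h.D_t hd)) (mem_C1.2 (mem_C.1 h.tC _ (X.h_mem k)))
  have fix : ∀ x ∈ R0 ⊓ C{d⁻¹ * X.h k}, x = 1 ∨ x = t := fun x hx =>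
    two_cent (hR0.pi.inf_left _) ⟨tR, mem_C1_comm.1 nt⟩ h.t1 (fun y hy c => by
      have m := h.two_E (h3 (hR0.le hy.1)) c (hR0.pi.piElt hy.1)
      refine h.fix_h (h.el_E X).pi (E_V h.toSt2 X) (norm_self _ (X.t_E t)) m hk ?_
      have := mem_C1.1 hy.2
      rw [← mul_assoc, mem_C.1 (h.D_E (inv_mem hd)) y m, mul_assoc, mul_assoc] at this
      exact mul_left_cancel this) hx
  have nJ : N[D] ≤ N[C[D] ⊔ D] := norm_sup (N_le_NC D) le_rfl
  have nn : d⁻¹ * X.h k ∈ C[D] ⊔ D := mul_mem (mem_sup_right (inv_mem hd)) (mem_sup_left fD)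
  have pr := H26.coprime_isProd_of_comm_le (V := R0 ⊓ (C[D] ⊔ D)) (X := R0)
    (A := zpowers (d⁻¹ * X.h k))
    (zpowers_le.2 (norm_inf (X := zpowers _) (zpowers_le.2 hn) (zpowers_le.2 (norm_self _ nn))
      (mem_zpowers _)))
    ((hR0.pi.inf_left _).coprime on.isPi) (.inr (abl_zpowers _).sol) inf_le_left
    (le_inf (commutator_le.2 fun a ha b hb => by
        rw [commutatorElement_def, mul_assoc, mul_assoc, ← mul_assoc b]
        exact mul_mem ha (H24.conj_mem (zpowers_le.2 hn hb) (inv_mem ha)))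
      (commutator_le.2 fun a ha b hb => mul_mem (H24.conj_mem (nJ (CD (hR0.le ha))) (zpowers_le.2 nn hb))
        (inv_mem (zpowers_le.2 nn hb))))
  have RJ : R0 ≤ C[D] ⊔ D := fun x hx => by
    obtain ⟨a, ha, b, hb, rfl⟩ := pr.3 x hx
    rw [C_zpowers] at hb
    refine mul_mem ha.2 ?_
    rcases fix b hb with rfl | rfl
    exacts [one_mem _, mem_sup_left (mem_C_iff_le_C1.2 h.D_t)]
  obtain ⟨R, hR⟩ := Sylow_exists Nat.prime_two (M ⊓ C[D])
  have RD : R ≤ C[D] := hR.le.trans inf_le_right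
  have dec : ∀ g ∈ M, ∃ r ∈ R, ∃ d ∈ D, g = r * d := fun g hg => by
    obtain ⟨d1, hd1, r, hr, rfl⟩ := CR g hg
    obtain ⟨w, hw, d2, hd2, rfl⟩ := (mem_sup_of_norm' (C_le_N D)).1 (RJ hr)
    obtain ⟨r', hr', d3, hd3, rfl⟩ := (mem_sup_of_norm' (norm_of_cent RD)).1
      (le_sup_of_odd hR (fun g hg => h5 g hg.1)
        ⟨(mul_mem_cancel_right (h2 hd2)).1 (hR0.le hr), hw⟩)
    exact ⟨r', hr', d1 * d3 * d2, mul_mem (mul_mem hd1 hd3) hd2, by
      rw [← mul_assoc, ← mul_assoc, mem_C.1 (RD hr') d1 hd1]; group⟩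
  have two : ∀ g ∈ M, PiElt {2} g → g ∈ R := fun g hg h2 => by
    obtain ⟨r, hr, d, hd, e⟩ := dec g hg
    exact (piElt_decomp_unique h2 (piElt_one _) (hR.pi.piElt hr) (h.odd.piElt hd) (by simp)
      (mem_C'.1 (RD hr) d hd) (by rw [mul_one, e])).1 ▸ hr
  exact ⟨R, hR.pi, hR.le.trans inf_le_left, RD, two, fun g hg => mem_N_of_finite fun r hr =>
    two _ (H24.conj_mem hg (hR.le hr).1) ((hR.pi.piElt hr).conj g), dec⟩

theorem Lc.ec (h : Lc X G0 t D T) (zn : ∀ b, ¬ DD t (X.z b)) (hu : DD t u) (h1 : u ∈ C[X.V])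
    (hP : IsPi {2} P) (h2 : P ≤ C{u}) (h3 : P ≤ C[X.V]) : ♯P ≤ 2 * Fintype.card F := by
  obtain ⟨g, rfl, k⟩ := h.toLb.toT hu (X.el_V.pi.sup hP (h3.trans (C_le_N _)))
    (sup_le (mem_C_iff_le_C1.1 h1) h2)
  have kk : ∀ A ≤ X.V ⊔ P, cj g⁻¹ A ≤ T := fun A hA x hx => by
    obtain ⟨a, ha, rfl⟩ := mem_cj'.1 hx
    simpa using k a (hA ha)
  set V' := cj g⁻¹ X.V with hV'
  have VT : V' ≤ T := kk _ le_sup_left
  have tV' : t ∉ V' := fun e => by
    rw [hV', mem_cj, inv_inv] at e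
    obtain ⟨b, hb⟩ := e
    exact zn b ⟨g, hb.symm⟩
  have PT : cj g⁻¹ P ≤ T ⊓ C[V'] := le_inf (kk _ le_sup_right) (cent_cj h3 _)
  have Vt : V' ≤ C{t} := VT.trans h.syl.le
  have tC : zpowers t ≤ C[V'] := zpowers_le.2 (mem_C_iff_le_C1.2 Vt)
  have cA : ♯(V' ⊔ zpowers t : Subgroup G) = 2 * Fintype.card F := by
    rw [card_sup_of_inf (tC.trans (C_le_N _)), card_cj, X.card_V, card_zpowers',
      orderOf_eq_prime (p := 2) (by rw [sq, h.tt]) h.t1, mul_comm]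
    refine (eq_bot_iff_forall _).2 fun x hx => ?_
    rcases (mem_zp_inv h.tt).1 hx.2 with rfl | rfl
    exacts [rfl, absurd hx.1 tV']
  rw [← card_cj g⁻¹ P]
  refine (card_le PT).trans ?_
  by_cases hE : V' ≤ X.E t
  · have e : V' ⊔ zpowers t = X.E t :=
      eq_of_card_eq (sup_le hE (zpowers_le.2 (X.t_E t))) (by rw [cA, h.card_E X])
    rw [← h.card_E X]
    refine card_le fun x hx => h.two_E (C_anti (X.V_E t) ?_) (mem_C1.1 (h.syl.le hx.1))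
      (h.syl.pi.piElt hx.1)
    rw [← e]
    exact cents_sup (X := T ⊓ C[V']) inf_le_right
      (by rw [C_zpowers]; exact inf_le_left.trans h.syl.le) hx
  · have AT : V' ⊔ zpowers t ≤ T := sup_le VT (zpowers_le.2 h.toLb.t_T)
    have el : El (V' ⊔ zpowers t) := fun a ha => by
      obtain ⟨v, hv, y, hy, rfl⟩ := (mem_sup_of_norm (tC.trans (C_le_N _))).1 ha
      have vv : v * v = 1 := by
        obtain ⟨w, hw, rfl⟩ := mem_cj'.1 hv
        rw [conj_mul, X.el_V w hw, mul_one, mul_inv_cancel]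
      rcases (mem_zp_inv h.tt).1 hy with rfl | rfl
      · rw [mul_one, vv]
      · rw [mul_assoc, ← mul_assoc y, ← mem_C1.1 (Vt hv), mul_assoc, h.tt, mul_one, vv]
    have r := h.rk X el (AT.trans h.syl.le) (AT.trans h.toLb.T_V) fun e => hE (le_sup_left.trans e)
    rw [cA] at r
    have h4 : Fintype.card F = 4 := by have := X.four; nlinarith
    obtain ⟨f, hf, fE⟩ := SetLike.not_le_iff_exists.1 hE
    have c16 := (h.T4 h4 (VT hf) fE).1
    have lt : T ⊓ C[V'] < T := lt_of_le_of_ne inf_le_left fun e => fE (h.two_E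
      (cents_symm (h.V_T.trans (inf_eq_left.1 e)) hf) (mem_C1.1 (Vt hf)) (h.syl.pi.piElt (VT hf)))
    have b2 := card_lt lt
    have b3 : ♯(T ⊓ C[V'] : Subgroup G) ∣ ♯T := card_dvd inf_le_left
    rw [c16] at b2 b3
    rw [h4]
    obtain ⟨m, hm⟩ := b3
    generalize ♯(T ⊓ C[V'] : Subgroup G) = a at *
    rcases Nat.lt_or_ge m 2 with m2 | m2
    · interval_cases m <;> omega
    · nlinarith

end H23.L2
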