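import Mathlib
import Cfsg.Agent.H23.LDefs
import Cfsg.Agent.H23.LB
import Cfsg.Agent.H2.ZE
import Cfsg.Agent.H26.GMain
import Cfsg.Agent.H23.Components
import Cfsg.Agent.S1787

set_option autoImplicit false
set_option linter.unusedVariables false
set_option linter.unusedSectionVars false

namespace H23.L2

open Cfsg H24 Subgroup
open H2.SZ (St DD Goal)
open scoped MatrixGroups commutatorElement

universe u

variable {G : Type u} [Group G] [Finite G] {F : Type*} [Field F] [Fintype F]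
  {L G0 D T B R Q S S1 A P N M H : Subgroup G} {t f g i j ρ z u : G} {X : LD F L} {n : ℕ}
  {π s : G → F}

namespace LEx

theorem nab (h : St L G0 t) : ¬ Abl G0 := fun k => by
  have := h.simple
  have e : G0 = ⊥ := le_bot_iff.1 (h.cent ▸ k.le_C)
  exact not_subsingleton G0 (by rw [e]; infer_instance)

theorem pf (h : St L G0 t) : ⁅G0, G0⁆ = G0 := by
  have := h.simple
  rw [← map_subtype_commutator]
  rcases (inferInstance : (commutator G0).Normal).eq_bot_or_eq_top with e | e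
  · exact absurd (der1_eq_bot.1 (by rw [← map_subtype_commutator, e, Subgroup.map_bot])) (nab h)
  · rw [e, ← MonoidHom.range_eq_map, range_subtype]

theorem sylT (hP : Syl 2 H P) : Syl 2 ⊤ (P.subgroupOf H) := by
  have s1 := hP.subgroupOf le_rfl
  rwa [subgroupOf_self] at s1

theorem abl_case (h : St L G0 t) (hP : Syl 2 G0 P) (h16 : 16 ≤ ♯P) (hA : Abl (P.subgroupOf G0)) :
    IsLieTypeChar 2 G0 := by
  have := h.simple
  rcases H26.Gold.abelian_sylow (nab h) (sylT hP) hA with ⟨M, hM⟩ | ⟨-, e⟩ | ⟨-, e, -⟩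
  · exact h.se hM
  all_goals rw [card_subgroupOf_of_le hP.le] at e; omega

theorem tr0 (hS : Syl 2 ⊤ S) (hN : ⁅S, S⁆ ≤ N) (hu : u ∈ S) (h2 : u * u = 1) (huN : u ∉ N)
    (hc : ∀ g, g⁻¹ * u * g ∈ S → g⁻¹ * u * g * u ∈ N) : u ∉ commutator G := by
  have hn : (N.subgroupOf S).Normal := Normal.of_commutator_le _ (by
    rw [← map_le_map_iff_of_injective S.subtype_injective, map_subtype_commutator,
      subgroupOf_map_subtype]
    exact le_inf hN (der1_le S))
  let _ : CommGroup (S ⧸ N.subgroupOf S) :=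
    { (inferInstance : Group (S ⧸ N.subgroupOf S)) with
      mul_comm := fun a b => by
        obtain ⟨a, rfl⟩ := QuotientGroup.mk_surjective a
        obtain ⟨b, rfl⟩ := QuotientGroup.mk_surjective b
        rw [← QuotientGroup.mk_mul, ← QuotientGroup.mk_mul, QuotientGroup.eq]
        have : ⁅(b : G)⁻¹, (a : G)⁻¹⁆ ∈ N :=
          hN (commutator_mem_commutator (inv_mem b.2) (inv_mem a.2))
        simpa [commutatorElement_def, mem_subgroupOf, mul_assoc] using this }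
  let φ : S →* S ⧸ N.subgroupOf S := QuotientGroup.mk' _
  have hφ : ∀ x : S, φ x = 1 ↔ (x : G) ∈ N := fun x => QuotientGroup.eq_one_iff x
  have ha2 : φ ⟨u, hu⟩ * φ ⟨u, hu⟩ = 1 := by
    rw [← map_mul, hφ]; simp [h2]
  have hu2 : u ^ 2 = 1 := by rw [sq, h2]
  have key : MonoidHom.transfer φ u = φ ⟨u, hu⟩ ^ S.index := by
    refine H3.transfer_eq_pow_of_forall φ u _ fun k g hk => ?_
    rcases Nat.even_or_odd' k with ⟨j, rfl | rfl⟩
    · rw [pow_mul (φ _), sq, ha2, one_pow, hφ]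
      simp [pow_mul, hu2]
    · rw [pow_succ (φ _), pow_mul (φ _), sq, ha2, one_pow, one_mul, ← mul_left_inj (φ ⟨u, hu⟩),
        ha2, ← map_mul, hφ]
      have e : u ^ (2 * j + 1) = u := by rw [pow_succ, pow_mul, hu2, one_pow, one_mul]
      simp only [MulMemClass.mk_mul_mk, e]
      exact hc g (e ▸ hk)
  obtain ⟨j, hj⟩ : Odd S.index := by
    have := hS.not_dvd Nat.prime_two
    rw [relIndex_top_right] at this
    exact Nat.not_even_iff_odd.1 fun e => this e.two_dvd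
  rw [hj, pow_succ, pow_mul, sq, ha2, one_pow, one_mul] at key
  intro e
  have h3 := Abelianization.commutator_subset_ker (MonoidHom.transfer φ) e
  rw [MonoidHom.mem_ker, key, hφ] at h3
  exact huN h3

theorem pi_inv (uu : u * u = 1) : IsPi {2} (zpowers u) :=
  isPi_of_isPGroup Nat.prime_two fun ⟨x, hx⟩ => ⟨1, Subtype.ext (by
    obtain ⟨k, rfl⟩ := mem_zpowers_iff.1 hx
    change (u ^ k) ^ 2 ^ 1 = 1
    rw [pow_one, sq, ← (Commute.refl u).mul_zpow, uu, one_zpow])⟩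

end LEx

open LEx

/-! ### LE -/
theorem lie_not_mem (h : St L G0 t) (hq : IsQuasisimple L) (hl : IsLieTypeChar 2 G0) :
    t ∉ G0 := by
  intro ht
  have := h.simple
  have o2 : orderOf (⟨t, ht⟩ : G0) = 2 := by
    rw [← orderOf_coe]; exact orderOf_eq_prime (by rw [sq, h.tt]) h.t1
  obtain ⟨h1, h2⟩ := Cfsg.Agent.S1787.result (nab h) (Or.inl hl)
  have h3 := h2 _ o2
  rw [centralizerPPrimeCore, map_eq_bot_iff_of_injective _ (subtype_injective _)] at h3
  have hle : L.subgroupOf G0 ≤ centralizer {(⟨t, ht⟩ : G0)} := fun x hx =>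
    mem_centralizer_singleton_iff.2 (Subtype.ext (mem_C.1 h.tC _ hx))
  have hn : ((L.subgroupOf G0).subgroupOf (centralizer {(⟨t, ht⟩ : G0)})).Normal :=
    ⟨fun x hx c => H24.conj_mem (H := L)
      (h.Ct _ (congrArg Subtype.val (mem_centralizer_singleton_iff.1 c.2))) hx⟩
  refine h1 _ o2 (((L.subgroupOf G0).subgroupOf _).map (QuotientGroup.mk' _))
    ⟨(hn.map _ (QuotientGroup.mk'_surjective _)).isSubnormal, ?_⟩
  refine H23.IsQuasisimple.of_equiv hq ((subgroupOfEquivOfLe h.le).symm.trans ((subgroupOfEquivOfLe hle).symm.trans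
    (equivMapOfInjective _ _ ?_)))
  rw [← MonoidHom.ker_eq_bot_iff, QuotientGroup.ker_mk', h3]
theorem gold2 (h : St L G0 t) (hP : Syl 2 G0 P) (h16 : 16 ≤ ♯P) (AP : A ≤ P) (hA : Abl A)
    (h0 : A ≠ ⊥) (hsc : ∀ a ∈ A, ∀ g ∈ G0, g * a * g⁻¹ ∈ P → g * a * g⁻¹ ∈ A) :
    IsLieTypeChar 2 G0 := by
  have := h.simple
  rcases (H2.C2.SCl.of_syl (A := A.subgroupOf G0) (sylT hP) (fun x hx => AP hx)
    fun v hv g _ hg => hsc v hv g g.2 hg).gold
      (fun e => h0 (by
        have := disjoint_iff.1 (subgroupOf_eq_bot.1 e)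
        rwa [inf_eq_left.2 (AP.trans hP.le)] at this)) (hA.subgroupOf G0) with k | ⟨M, hM⟩
  · exact abl_case h hP h16 (k _ (sylT hP).pi)
  · exact h.se hM
theorem cl2 (h : St L G0 t) (hP : Syl 2 G0 P) (h16 : 16 ≤ ♯P) (h2 : ⁅P, P⁆ ≤ C[P]) :
    IsLieTypeChar 2 G0 := by
  have := h.simple
  by_cases k : Abl (P.subgroupOf G0)
  · exact abl_case h hP h16 k
  refine H2.SZ.lie_of_cl2 (sylT hP) (commutator_le.2 fun a ha b hb => mem_C.2 fun c hc => Subtype.ext
    (mem_C.1 (h2 (commutator_mem_commutator ha hb)) c hc)) k ?_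
  rw [card_subgroupOf_of_le hP.le]
  omega
theorem tr_not (h : St L G0 t) (h0 : ¬ Abl G0) (h1 : G0 ≤ H) (hS : Syl 2 H S) (hN : ⁅S, S⁆ ≤ N)
    (hu : u ∈ S) (uu : u * u = 1) (uN : u ∉ N)
    (hc : ∀ g ∈ H, g * u * g⁻¹ ∈ S → g * u * g⁻¹ * u ∈ N) : u ∉ G0 := by
  intro hG
  refine tr0 (N := N.subgroupOf H) (u := ⟨u, hS.le hu⟩) (sylT hS)
    (commutator_le.2 fun a ha b hb => hN (commutator_mem_commutator ha hb)) hu (Subtype.ext uu) uN
    (fun g hg => ?_) ?_
  · have := hc g⁻¹ (inv_mem g.2)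
    rw [inv_inv] at this
    exact this hg
  · rw [← pf h] at hG
    have := der1_mono h1 hG
    rw [← map_subtype_commutator] at this
    obtain ⟨x, hx, rfl⟩ := this
    exact hx
theorem thom (h : St L G0 t) (h0 : ¬ Abl G0) (h1 : G0 ≤ H) (hS : Syl 2 H S) (hM : M ≤ S)
    (idx : ∀ x ∈ S, ∀ y ∈ S, x ∈ M ∨ y ∈ M ∨ x * y ∈ M) (hu : u ∈ G0) (uu : u * u = 1) :
    ∃ g ∈ H, g * u * g⁻¹ ∈ M := by
  by_contra hn
  push Not at hn
  obtain ⟨g, hg, hle⟩ := Sylow_Jsub Nat.prime_two hS (pi_inv uu) (zpowers_le.2 (h1 hu))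
  have nM : ∀ x ∈ S, ∀ m ∈ M, x * m * x⁻¹ ∈ M := fun x hx m hm => by
    by_cases hx' : x ∈ M
    · exact mul_mem (mul_mem hx' hm) (inv_mem hx')
    · exact ((idx _ (mul_mem hx (hM hm)) _ (inv_mem hx)).resolve_left fun e =>
        hx' ((mul_mem_cancel_right hm).1 e)).resolve_left fun e => hx' (inv_mem_iff.1 e)
  have m := hle (conj_mem_cj g (mem_zpowers u))
  refine tr_not h h0 h1 hS (N := M) (commutator_le.2 fun x hx y hy => ?_) m
    (by rw [conj_mul, uu]; simp) (hn g hg) (fun k hk e => ?_) (h.nrm.conj_mem _ hu g)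
  · rw [commutatorElement_def]
    by_cases hx' : x ∈ M
    · rw [mul_assoc, mul_assoc, ← mul_assoc y]
      exact mul_mem hx' (nM y hy _ (inv_mem hx'))
    by_cases hy' : y ∈ M
    · exact mul_mem (nM x hx y hy') (inv_mem hy')
    rw [mul_assoc]
    exact mul_mem (((idx x hx y hy).resolve_left hx').resolve_left hy')
      (((idx _ (inv_mem hx) _ (inv_mem hy)).resolve_left fun e =>
        hx' (inv_mem_iff.1 e)).resolve_left fun e => hy' (inv_mem_iff.1 e))
  · refine ((idx _ e _ m).resolve_left fun e' => hn (k * g) (mul_mem hk hg) ?_).resolve_left (hn g hg)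
    rwa [show k * g * u * (k * g)⁻¹ = k * (g * u * g⁻¹) * k⁻¹ by group]
theorem St2.syl0 (h : St2 L G0 t) (hS : Syl 2 ⊤ S) :
    Syl 2 G0 (S ⊓ G0) ∧ ♯S ≤ 2 * ♯(S ⊓ G0 : Subgroup G) ∧
      (t ∉ G0 → ♯S = 2 * ♯(S ⊓ G0 : Subgroup G)) := by
  have := h.nrm
  have c := card_inf_mul_relIndex G0 S
  rw [inf_comm] at c
  have i2 : t ∉ G0 → G0.index = 2 := fun ht => index_eq_two_iff.2 ⟨t, fun b => by
    rcases h.gen b with e | e
    · exact Or.inr ⟨e, fun e' => ht ((mul_mem_cancel_left e).1 e')⟩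
    · exact Or.inl ⟨e, fun e' => ht ((mul_mem_cancel_left e').1 e)⟩⟩
  have k : t ∉ G0 → ♯S = 2 * ♯(S ⊓ G0 : Subgroup G) := fun ht => by
    have d := relIndex_dvd_index_of_normal G0 S
    rw [i2 ht] at d
    rcases (Nat.dvd_prime Nat.prime_two).1 d with e | e
    · obtain ⟨g, -, hle⟩ := Sylow_Jsub Nat.prime_two hS (pi_inv h.tt) le_top
      have m := this.conj_mem _ (relIndex_eq_one.1 e (hle (conj_mem_cj g (mem_zpowers t)))) g⁻¹
      exact absurd (by simpa [mul_assoc] using m) ht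
    · rw [← c, e, mul_comm]
  refine ⟨hS.inf_nml ⟨le_top, norm_of_normal _ _⟩, ?_, k⟩
  by_cases ht : t ∈ G0
  · have : G0 = ⊤ := eq_top_iff.2 fun g _ => (h.gen g).elim id fun e => (mul_mem_cancel_right ht).1 e
    rw [this, inf_top_eq]
    omega
  · exact (k ht).le
theorem St2.top (h : St2 L G0 t) (ht : t ∈ G0) : G0 = ⊤ := by
  exact eq_top_iff.2 fun g _ => (h.gen g).elim id fun e => (mul_mem_cancel_right ht).1 e
theorem St2.sq (h : St2 L G0 t) (g : G) : g * g ∈ G0 := by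
  rcases h.gen g with e | e
  · exact mul_mem e e
  · have := mul_mem e (h.nrm.conj_mem _ e t)
    rwa [show g * t * (t * (g * t) * t⁻¹) = g * (t * t) * g by group, h.tt, mul_one] at this
theorem St2.mul (h : St2 L G0 t) (hf : f ∉ G0) (hg : g ∉ G0) : f * g ∈ G0 := by
  have := mul_mem ((h.gen f).resolve_left hf) (h.nrm.conj_mem _ ((h.gen g).resolve_left hg) t)
  rwa [show f * t * (t * (g * t) * t⁻¹) = f * (t * t) * g by group, h.tt, mul_one] at this
theorem St2.gold (h : St2 L G0 t) (X : LD F L) (hS : Syl 2 ⊤ S) (h32 : 32 ≤ ♯S) (AS : A ≤ S)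
    (hA : Abl A) (VA : X.V ≤ A) (hsc : ∀ a ∈ A, ∀ g, g * a * g⁻¹ ∈ S → g * a * g⁻¹ ∈ A) :
    IsLieTypeChar 2 G0 := by
  obtain ⟨s0, c, -⟩ := h.syl0 hS
  exact gold2 (A := A ⊓ G0) h.toSt s0 (by omega) (inf_le_inf_right _ AS) (hA.of_le inf_le_left)
    (ne_bot_of_mem (mem_inf.2 ⟨VA (X.z_V 1), h.le (X.z_mem 1)⟩) X.z1)
    fun a ha g _ e => ⟨hsc a ha.1 g e.1, e.2⟩


end H23.L2
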