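import Mathlib
import Cfsg.Agent.H23.LDefs
import Cfsg.Agent.H23.LC
import Cfsg.Agent.H23.LE

set_option autoImplicit false
set_option linter.unusedVariables false
set_option linter.unusedSectionVars false

namespace H23.L2

open Cfsg H24 Subgroup
open H2.SZ (St DD Goal)
open scoped MatrixGroups commutatorElement

universe u

variable {G : Type u} [Group G] [Finite G] {F : Type*} [Field F] [Fintype F]
  {L G0 D T B R Q S S1 A P N M H : Subgroup G} {t f g i j ρ z u : G} {X : LD F L} {n : ℕ}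
  {π s : G → F}

namespace THx

theorem cnt (φ : G → G) (mul : ∀ a ∈ A, ∀ b ∈ A, φ (a * b) = φ a * φ b)
    (hK : ∀ a, a ∈ N ↔ a ∈ A ∧ φ a = 1) :
    ∃ I : Subgroup G, (∀ y, y ∈ I ↔ ∃ a ∈ A, φ a = y) ∧ ♯N * ♯I = ♯A := by
  let ψ : A →* G := MonoidHom.mk' (fun a => φ a) fun a b => mul a a.2 b b.2
  have e : ∀ a ∈ A, ap ψ a = φ a := fun a ha => dif_pos ha
  refine ⟨img ψ A, fun y => ?_, ?_⟩
  · rw [mem_img_of_le le_rfl]
    exact exists_congr fun a => and_congr_right fun ha => by rw [e a ha]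
  · rw [← card_img_mul ψ le_rfl]
    congr 3
    ext a
    rw [hK, mem_inf, mem_pre_bot]
    exact ⟨fun h => ⟨⟨h.1, (e a h.1).trans h.2⟩, h.1⟩, fun h => ⟨h.2, (e a h.2).symm.trans h.1.2⟩⟩

theorem mpow (hB : Abl B) (hf : f ∈ B) (hg : g ∈ B) (m : ℕ) : (f * g) ^ m = f ^ m * g ^ m :=
  Commute.mul_pow (hB.comm hf hg) m

/-- `Ω_i(B)` -/
def Om (hB : Abl B) (i : ℕ) : Subgroup G where
  carrier := {a | a ∈ B ∧ a ^ 2 ^ i = 1}
  one_mem' := ⟨one_mem _, one_pow _⟩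
  mul_mem' := fun {a b} ha hb => ⟨mul_mem ha.1 hb.1, by rw [mpow hB ha.1 hb.1, ha.2, hb.2, one_mul]⟩
  inv_mem' := fun {a} ha => ⟨inv_mem ha.1, by rw [inv_pow, ha.2, inv_one]⟩

theorem mem_Om {hB : Abl B} {i : ℕ} : g ∈ Om hB i ↔ g ∈ B ∧ g ^ 2 ^ i = 1 := Iff.rfl
theorem Om_le (hB : Abl B) (i : ℕ) : Om hB i ≤ B := fun _ h => h.1
theorem Om_zero (hB : Abl B) : Om hB 0 = ⊥ := eq_bot_iff.2 fun _ h => by simpa using h.2
theorem N_Om (hB : Abl B) (i : ℕ) : N[B] ≤ N[Om hB i] := le_N_iff.2 fun a ha x hx =>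
  ⟨H24.conj_mem ha hx.1, by rw [conj_pow, hx.2]; group⟩
theorem sq_pow (g : G) (i : ℕ) : (g * g) ^ 2 ^ i = g ^ 2 ^ (i + 1) := by
  rw [← sq, ← pow_mul, ← pow_succ']
theorem pow_sq (g : G) (i : ℕ) : g ^ 2 ^ i * g ^ 2 ^ i = g ^ 2 ^ (i + 1) := by
  rw [← sq, ← pow_mul, ← pow_succ]
theorem pp (g : G) (i j : ℕ) : (g ^ 2 ^ i) ^ 2 ^ j = g ^ 2 ^ (i + j) := by
  rw [← pow_mul, ← pow_add]

open Classical in
/-- the coordinate on `V` -/
noncomputable def ζ (X : LD F L) (v : G) : F := if h : ∃ b, v = X.z b then h.choose else 0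

theorem z_ζ (hg : g ∈ X.V) : X.z (ζ X g) = g := by
  have h : ∃ b, g = X.z b := hg
  rw [ζ, dif_pos h]; exact h.choose_spec.symm
theorem ζ_z (b : F) : ζ X (X.z b) = b := X.z_inj (z_ζ (X.z_V b))

theorem root (hB : Abl B) {m : ℕ} (h : ∀ v ∈ B, v * v = 1 → ∃ b ∈ B, b ^ 2 ^ m = v) :
    ∀ i ≤ m, ∀ c ∈ B, c ^ 2 ^ i = 1 → ∃ a ∈ B, c = a * a := by
  intro i
  induction i with
  | zero => exact fun _ c _ e => ⟨1, one_mem _, by simpa using e⟩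
  | succ i ih =>
    intro hi c hc e
    obtain ⟨b, hb, e1⟩ := h _ (pow_mem hc (2 ^ i)) ((pow_sq c i).trans e)
    obtain ⟨j, rfl⟩ : ∃ j, m = j + 1 + i := ⟨m - 1 - i, by omega⟩
    obtain ⟨a, ha, e2⟩ := ih (by omega) (c * (b ^ 2 ^ (j + 1))⁻¹)
      (mul_mem hc (inv_mem (pow_mem hb _)))
      (by rw [mpow hB hc (inv_mem (pow_mem hb _)), inv_pow, pp, e1, mul_inv_cancel])
    refine ⟨a * b ^ 2 ^ j, mul_mem ha (pow_mem hb _), ?_⟩
    rw [← sq, mpow hB ha (pow_mem hb _), sq, sq, pow_sq, ← e2, inv_mul_cancel_right]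

theorem zp2 (tt : t * t = 1) (hg : g ∈ zpowers t) : g = 1 ∨ g = t := by
  obtain ⟨k, rfl⟩ := hg
  have e : ∀ j : ℤ, t ^ (2 * j) = 1 := fun j => by rw [zpow_mul, zpow_two, tt, one_zpow]
  obtain ⟨j, rfl | rfl⟩ := Int.even_or_odd' k
  · exact .inl (e j)
  · exact .inr (by simp only [zpow_add, e, zpow_one, one_mul])

theorem tinv (h : St2 L G0 t) : t⁻¹ = t := inv_eq_of_mul_eq_one_right h.tt
theorem tN (h : Tw X G0 t D T B) : t ∈ N[B] := h.TB h.toLb.t_T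
theorem tconj (h : Tw X G0 t D T B) (hg : g ∈ B) : t * g * t ∈ B := by
  simpa only [tinv h.toSt2] using H24.conj_mem (tN h) hg
theorem Tt (h : Lb X G0 t T) (hg : g ∈ T) : g * t = t * g := mem_C1.1 (h.syl.le hg)
theorem sqV (hg : g ∈ X.V) : g * g = 1 := X.el_V g hg

end THx

open THx

/-! ### TH -/
theorem Lz.exists_tw (h : Lz X G0 t D T) :
    ∃ B, Tw X G0 t D T B ∧ ∀ B', Tw X G0 t D T B' → ♯B' ≤ ♯B :=
  Set.exists_max_image {B | Tw X G0 t D T B} (fun B => ♯B) (Set.toFinite _)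
    ⟨X.V, h, X.el_V.pi, X.el_V.abl, le_rfl, fun _ hb _ => hb, X.h_V, h.toLb.T_V,
      X.V_le.trans (cents_symm h.D_L)⟩
theorem Tw.exists_th (h : Tw X G0 t D T B) : ∃ n π, Th X G0 t D T B n π := by
  classical
  obtain ⟨k, hk⟩ := h.pi.card_eq_pow Nat.prime_two
  have ex : ∃ n, ∀ b ∈ B, b ^ 2 ^ n = 1 := ⟨k, fun b hb =>
    orderOf_dvd_iff_pow_eq_one.1 (hk ▸ orderOf_dvd_card' hb)⟩
  have h1 := Nat.find_spec ex
  obtain ⟨m, hm⟩ : ∃ m, Nat.find ex = m + 1 := Nat.exists_eq_succ_of_ne_zero fun e =>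
    X.z1 (by simpa [e] using h1 _ (h.V_B (X.z_V 1)))
  have h2 := Nat.find_min ex (m := m) (by omega)
  rw [hm] at h1
  push Not at h2
  obtain ⟨b0, hb0, n0⟩ := h2
  have pV : ∀ b ∈ B, b ^ 2 ^ m ∈ X.V := fun b hb =>
    h.om _ (pow_mem hb _) ((pow_sq b m).trans (h1 b hb))
  have on : ∀ c, ∃ b ∈ B, b ^ 2 ^ m = X.z c := fun c => by
    by_cases hc : c = 0
    · exact ⟨1, one_mem _, by rw [hc, X.z_zero, one_pow]⟩
    obtain ⟨a, ha⟩ := pV b0 hb0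
    obtain ⟨k, e⟩ := X.exists_h (a := a) (fun e => n0 (by rw [ha, e, X.z_zero])) hc
    exact ⟨_, H24.conj_mem (h.hB k) hb0, by rw [conj_pow, ha, e]⟩
  have rt := root h.abl (m := m) fun v hv e => by
    obtain ⟨c, rfl⟩ := h.om v hv e
    exact on c
  have cd : ∀ i ≤ m + 1, ♯(Om h.abl i) = Fintype.card F ^ i := by
    intro i
    induction i with
    | zero => intro _; rw [Om_zero]; simp
    | succ i ih =>
      intro hi
      obtain ⟨I, hI, e⟩ := cnt (A := Om h.abl (i + 1)) (N := X.V) (fun a => a * a)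
        (fun a ha b hb => by simp only [← sq]; exact mpow h.abl ha.1 hb.1 2)
        fun a => ⟨fun ha => ⟨⟨h.V_B ha, by rw [← sq_pow, sqV ha, one_pow]⟩, sqV ha⟩,
          fun ha => h.om a ha.1.1 ha.2⟩
      have : I = Om h.abl i := by
        ext y
        rw [hI]
        refine ⟨?_, fun hy => ?_⟩
        · rintro ⟨a, ha, rfl⟩
          exact ⟨mul_mem ha.1 ha.1, (sq_pow a i).trans ha.2⟩
        · obtain ⟨a, ha, rfl⟩ := rt i (by omega) y hy.1 hy.2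
          exact ⟨a, ⟨ha, (sq_pow a i).symm.trans hy.2⟩, rfl⟩
      rw [← e, this, ih (by omega), X.card_V, pow_succ']
  refine ⟨m + 1, fun b => ζ X (b ^ 2 ^ m), h, by omega, ?_, fun b hb => (z_ζ (pV b hb)).symm,
    fun c => ?_, fun b hb e => rt m le_rfl b hb ?_⟩
  · rw [← cd _ le_rfl, le_antisymm (Om_le h.abl (m + 1)) fun b hb => ⟨hb, h1 b hb⟩]
  · obtain ⟨b, hb, e⟩ := on c
    exact ⟨b, hb, by simp only [e, ζ_z]⟩
  · rw [← z_ζ (pV b hb), e, X.z_zero]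
theorem Tw.BV (h : Tw X G0 t D T B) : B ≤ C[X.V] := h.abl.cents le_rfl h.V_B
theorem Tw.tB (h : Tw X G0 t D T B) : t ∉ B := fun k => h.toSt2.tV X (h.om t k h.tt)
theorem Tw.C_t (h : Tw X G0 t D T B) (hg : g ∈ B) (h1 : g * t = t * g) : g ∈ X.V := by
  obtain ⟨b, rfl | rfl⟩ := (h.toSt2.mem_E X).1 (h.toLc.two_E (h.BV hg) h1 (h.pi.piElt hg))
  · exact X.z_V b
  · exact (h.tB ((mul_mem_cancel_right (h.V_B (X.z_V b))).1 hg)).elim
theorem Tw.nd (h : Tw X G0 t D T B) (hg : g ∈ B) : ¬ DD t g := fun k => by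
  obtain ⟨b, e⟩ := h.om g hg (by
    obtain ⟨y, rfl⟩ := k
    rw [show y * t * y⁻¹ * (y * t * y⁻¹) = y * (t * t) * y⁻¹ by group, h.tt]; group)
  exact h.zn b (e ▸ k)
theorem Tw.NV (h : Tw X G0 t D T B) : N[B] ≤ N[X.V] := le_N_iff.2 fun a ha x hx =>
  h.om _ (H24.conj_mem ha (h.V_B hx)) (by
    rw [show a * x * a⁻¹ * (a * x * a⁻¹) = a * (x * x) * a⁻¹ by group, sqV hx]; group)
theorem Tw.le_G0 (h : Tw X G0 t D T B) : B ≤ G0 := h.toLc.le_G0 h.pi h.BV (tN h) h.tB h.hB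
theorem Tw.mem_P (h : Tw X G0 t D T B) : g ∈ B ⊔ zpowers t ↔ g ∈ B ∨ t * g ∈ B := by
  refine ⟨fun k => ?_, ?_⟩
  · obtain ⟨a, ha, b, hb, rfl⟩ := (mem_sup_of_norm (zpowers_le.2 (tN h))).1 k
    rcases zp2 h.tt hb with rfl | rfl
    · exact .inl (by simpa using ha)
    · exact .inr (mul_assoc b a b ▸ tconj h ha)
  · rintro (k | k)
    · exact mem_sup_left k
    · exact (mul_mem_cancel_left (mem_sup_right (mem_zpowers t))).1 (mem_sup_left k)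
theorem Tw.mem_BT (h : Tw X G0 t D T B) : g ∈ B ⊔ T ↔ ∃ b ∈ B, ∃ y ∈ T, g = b * y :=
  mem_sup_of_norm h.TB
theorem Tw.pi_BT (h : Tw X G0 t D T B) : IsPi {2} (B ⊔ T : Subgroup G) :=
  h.pi.sup h.syl.pi h.TB
theorem Tw.card_BT (h : Tw X G0 t D T B) :
    ♯(B ⊔ T : Subgroup G) * Fintype.card F = ♯B * ♯T := by
  rw [← card_sup h.TB, ← X.card_V,
    le_antisymm (le_inf h.V_B h.V_T) fun g hg => h.C_t hg.1 (Tt h.toLb hg.2)]
theorem Tw.comm_BT (h : Tw X G0 t D T B) : ⁅B ⊔ T, B ⊔ T⁆ ≤ B := commutator_le.2 fun a ha b hb => by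
  obtain ⟨d, hd, y, hy, rfl⟩ := h.mem_BT.1 ha
  obtain ⟨d', hd', y', hy', rfl⟩ := h.mem_BT.1 hb
  have : ⁅d * y, d' * y'⁆ = d * (y * d' * y⁻¹) * (y * y' * y⁻¹ * d⁻¹ * (y * y' * y⁻¹)⁻¹) *
      ⁅y, y'⁆ * d'⁻¹ := by
    simp only [commutatorElement_def]; group
  rw [this]
  have n1 := h.TB hy
  exact mul_mem (mul_mem (mul_mem (mul_mem hd (H24.conj_mem n1 hd'))
    (H24.conj_mem (mul_mem (mul_mem n1 (h.TB hy')) (inv_mem n1)) (inv_mem hd)))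
    (h.V_B (h.toLc.comm_T (commutator_mem_commutator hy hy')))) (inv_mem hd')
theorem THx.E_P (h : Tw X G0 t D T B) : X.E t ≤ B ⊔ zpowers t :=
  sup_le le_sup_right (h.V_B.trans le_sup_left)
theorem Tw.CV_BT (h : Tw X G0 t D T B) (hg : g ∈ B ⊔ T) (h1 : g ∈ C[X.V]) :
    g ∈ B ⊔ zpowers t := by
  obtain ⟨b, hb, y, hy, rfl⟩ := h.mem_BT.1 hg
  exact mul_mem (mem_sup_left hb) (E_P h (h.toLc.two_E ((mul_mem_cancel_left (h.BV hb)).1 h1)
    (Tt h.toLb hy) (h.syl.pi.piElt hy)))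
theorem Tw.le_Mx (h : Tw X G0 t D T B) :
    B ≤ Mx B t ∧ T ≤ Mx B t ∧ D ≤ Mx B t ∧ ∀ k, X.h k ∈ Mx B t := by
  have k : ∀ A : Subgroup G, A ≤ N[B] → A ≤ C{t} → A ≤ Mx B t := fun A h1 h2 =>
    le_inf h1 (norm_sup h1 (norm_zpowers_of_cent h2))
  exact ⟨le_inf (norm_self B) (norm_of_le le_sup_left), k T h.TB h.syl.le,
    k D (norm_of_cent (cents_symm h.BD)) h.D_t, fun l => zpowers_le.1 (k _ (zpowers_le.2 (h.hB l))
      (zpowers_le.2 (mem_C1_iff_conj.2 (h.toSt2.th X l))))⟩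
theorem Tw.Mx_t (h : Tw X G0 t D T B) (hg : g ∈ Mx B t) : ∃ b ∈ B, g * t * g⁻¹ = t * b :=
  ⟨_, (h.mem_P.1 (H24.conj_mem hg.2 (mem_sup_right (mem_zpowers t)))).resolve_left
    fun k => h.tB ((conj_mem_iff hg.1).1 k), by rw [← mul_assoc, h.tt, one_mul]⟩
theorem Th.π_mul (h : Th X G0 t D T B n π) (hf : f ∈ B) (hg : g ∈ B) :
    π (f * g) = π f + π g := X.z_inj (by
  rw [← X.z_mul, ← h.pw _ (mul_mem hf hg), ← h.pw f hf, ← h.pw g hg, mpow h.abl hf hg])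
theorem Th.π_inv (h : Th X G0 t D T B n π) (hf : f ∈ B) : π f⁻¹ = π f := X.z_inj (by
  rw [← h.pw _ (inv_mem hf), inv_pow, h.pw f hf, X.z_inv])
theorem Th.π_sq (h : Th X G0 t D T B n π) (hf : f ∈ B) : π (f * f) = 0 := by
  rw [h.π_mul hf hf, X.add_self]
theorem Th.π_conj (h : Th X G0 t D T B n π) (hg : g ∈ N[B]) (hf : f ∈ B) :
    X.z (π (g * f * g⁻¹)) = g * X.z (π f) * g⁻¹ := by
  rw [← h.pw _ (H24.conj_mem hg hf), conj_pow, h.pw f hf]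
theorem Th.one (h : Th X G0 t D T B 1 π) : B = X.V ∧ ∀ c, π (X.z c) = c :=
  ⟨le_antisymm (fun b hb => ⟨π b, by simpa using h.pw b hb⟩) h.V_B,
    fun c => X.z_inj (by simpa using (h.pw _ (h.V_B (X.z_V c))).symm)⟩
theorem Th.π_V (h : Th X G0 t D T B n π) (h2 : 2 ≤ n) (hf : f ∈ X.V) : π f = 0 := by
  obtain ⟨m, rfl⟩ : ∃ m, n = m + 1 + 1 := ⟨n - 2, by omega⟩
  rw [← X.z_eq_one, ← h.pw f (h.V_B hf), Nat.add_sub_cancel, ← sq_pow, sqV hf, one_pow]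
theorem THx.π_t (h : Th X G0 t D T B n π) (hf : f ∈ B) : π (t * f * t) = π f := X.z_inj (by
  have := h.π_conj (tN h.toTw) hf
  rw [← h.toSt2.tz X, mul_inv_cancel_right, tinv h.toSt2] at this
  exact this)
theorem THx.π_h (h : Th X G0 t D T B n π) (hf : f ∈ B) (k : Fˣ) :
    π (X.h k * f * (X.h k)⁻¹) = k * π f := X.z_inj (by rw [h.π_conj (h.hB k) hf, X.h_z])
theorem THx.expo (h : Th X G0 t D T B n π) (hf : f ∈ B) : f ^ 2 ^ n = 1 := by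
  have := pow_sq f (n - 1)
  rw [h.pw f hf, X.z_sq, Nat.sub_add_cancel h.pos] at this
  exact this.symm
theorem Th.cls (h : Th X G0 t D T B n π) (hf : f ∈ B) :
    π f = 0 ↔ ∃ c ∈ B, t * f = c * t * c⁻¹ := by
  have e : ∀ c, t * f = c * t * c⁻¹ ↔ t * c * t * c⁻¹ = f := fun c => by
    rw [← eq_inv_mul_iff_mul_eq, tinv h.toSt2, eq_comm]; simp only [mul_assoc]
  simp only [e]
  have k : ∀ c ∈ B, π (t * c * t * c⁻¹) = 0 := fun c hc => by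
    rw [h.π_mul (tconj h.toTw hc) (inv_mem hc), π_t h hc, h.π_inv hc, X.add_self]
  refine ⟨fun h0 => ?_, by rintro ⟨c, hc, rfl⟩; exact k c hc⟩
  obtain ⟨I, hI, e1⟩ := cnt (A := B) (N := X.V) (fun c => t * c * t * c⁻¹)
    (fun a ha b hb => by
      have e2 := h.abl.comm (inv_mem ha) (mul_mem (tconj h.toTw hb) (inv_mem hb))
      calc t * (a * b) * t * (a * b)⁻¹ = t * a * (t * t) * b * t * (a * b)⁻¹ := by rw [h.tt]; group
        _ = t * a * t * (t * b * t * b⁻¹ * a⁻¹) := by group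
        _ = _ := by rw [← e2]; group)
    fun a => ⟨fun ha => ⟨h.V_B ha, by
        obtain ⟨b, rfl⟩ := ha
        rw [← h.toSt2.tz X, mul_assoc _ t t, h.tt, mul_one, mul_inv_cancel]⟩,
      fun ha => h.toTw.C_t ha.1 (by
        have := mul_inv_eq_one.1 ha.2
        nth_rw 2 [← this]
        rw [← mul_assoc, ← mul_assoc, h.tt, one_mul])⟩
  obtain ⟨J, hJ, e2⟩ := cnt (A := B) (N := X.V) (fun a => a * a)
    (fun a ha b hb => by simp only [← sq]; exact mpow h.abl ha hb 2)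
    fun a => ⟨fun ha => ⟨h.V_B ha, sqV ha⟩, fun ha => h.om a ha.1 ha.2⟩
  have : I = J := eq_of_card_eq (fun y hy => by
    obtain ⟨c, hc, rfl⟩ := (hI y).1 hy
    obtain ⟨a, ha, e⟩ := h.ker _ (mul_mem (tconj h.toTw hc) (inv_mem hc)) (k c hc)
    exact (hJ _).2 ⟨a, ha, e.symm⟩) (Nat.eq_of_mul_eq_mul_left (card_pos _) (e1.trans e2.symm))
  obtain ⟨a, ha, e3⟩ := h.ker f hf h0
  exact (hI f).1 (this ▸ (hJ f).2 ⟨a, ha, e3.symm⟩)
theorem Th.inv_of (h : Th X G0 t D T B n π)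
    (h1 : ∃ b ∈ B, π b ≠ 0 ∧ t * b * (t * b) = 1) : ∀ b ∈ B, t * b * t = b⁻¹ := by
  obtain ⟨b0, hb0, n0, e0⟩ := h1
  have e1 : t * b0 * t = b0⁻¹ := eq_inv_of_mul_eq_one_left (by rw [← e0]; group)
  have mu : ∀ a ∈ B, ∀ b ∈ B, t * a * t = a⁻¹ → t * b * t = b⁻¹ → t * (a * b) * t = (a * b)⁻¹ :=
    fun a ha b hb ea eb => by
      rw [h.abl.comm ha hb, mul_inv_rev, ← ea, ← eb, ← h.abl.comm ha hb]
      calc t * (a * b) * t = t * a * (t * t) * b * t := by rw [h.tt]; group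
        _ = _ := by group
  have on : ∀ c, ∃ b ∈ B, t * b * t = b⁻¹ ∧ π b = c := fun c => by
    by_cases hc : c = 0
    · exact ⟨b0 * b0, mul_mem hb0 hb0, mu _ hb0 _ hb0 e1 e1, by rw [h.π_sq hb0, hc]⟩
    refine ⟨_, H24.conj_mem (h.hB (Units.mk0 (c / π b0) (div_ne_zero hc n0))) hb0, ?_, by
      rw [π_h h hb0, Units.val_mk0, div_mul_cancel₀ _ n0]⟩
    generalize Units.mk0 (c / π b0) (div_ne_zero hc n0) = k
    nth_rw 1 [← h.toSt2.th X k]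
    nth_rw 2 [← h.toSt2.th X k]
    calc _ = X.h k * (t * b0 * t) * (X.h k)⁻¹ := by group
      _ = _ := by rw [e1]; group
  have pw : ∀ a ∈ B, t * a * t = a⁻¹ → ∀ m : ℕ, t * a ^ m * t = (a ^ m)⁻¹ := fun a ha e m => by
    nth_rw 2 [← tinv h.toSt2] at e ⊢
    rw [← conj_pow, e, inv_pow]
  have st : ∀ m, ∀ b ∈ B, ∃ i ∈ B, t * i * t = i⁻¹ ∧ ∃ a ∈ B, b = i * a ^ 2 ^ m := by
    intro m b hb
    induction m with
    | zero => exact ⟨1, one_mem _, by simp [h.tt], b, hb, by simp⟩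
    | succ m ih =>
      obtain ⟨i, hi, e, a, ha, rfl⟩ := ih
      obtain ⟨j, hj, e', e2⟩ := on (π a)
      obtain ⟨a', ha', e3⟩ := h.ker (j⁻¹ * a) (mul_mem (inv_mem hj) ha)
        (by rw [h.π_mul (inv_mem hj) ha, h.π_inv hj, e2, X.add_self])
      refine ⟨i * j ^ 2 ^ m, mul_mem hi (pow_mem hj _), mu _ hi _ (pow_mem hj _) e (pw j hj e' _),
        a', ha', ?_⟩
      rw [← sq_pow, ← e3, mul_assoc, ← mpow h.abl hj (mul_mem (inv_mem hj) ha), mul_inv_cancel_left]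
  intro b hb
  obtain ⟨i, -, e, a, ha, rfl⟩ := st n b hb
  rwa [expo h ha, mul_one]
theorem Th.fr (h : Th X G0 t D T B n π) (fB : f ∈ N[B]) (ff : f * f = 1) {c : F} {σ : RingAut F}
    (h1 : ∀ x, f * X.z x * f⁻¹ = X.z (c * σ x)) (h2 : σ ≠ 1) : Fr B f := by
  have st : ∀ i ≤ n, Fr (Om h.abl i) f := by
    intro i
    induction i with
    | zero => intro _; rw [Om_zero]; exact fr_bot
    | succ i ih =>
      intro hi
      have pV : ∀ a ∈ Om h.abl (i + 1), a ^ 2 ^ i ∈ X.V := fun a ha =>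
        h.om _ (pow_mem ha.1 _) ((pow_sq a i).trans ha.2)
      refine fr_ext (s := fun a => ζ X (a ^ 2 ^ i)) (c := c) X.two (N := Om h.abl i)
        (fun a ha => ⟨ha.1, by rw [← pow_sq, ha.2, one_mul]⟩)
        (h.abl.norm (Om_le _ _) (Om_le _ _)) (N_Om _ _ fB) (N_Om _ _ fB) ff (ih (by omega))
        (fun a ha b hb => X.z_inj ?_) (fun a ha => ?_) (fun y => ?_) (fun a ha => X.z_inj ?_) h2
      · rw [← X.z_mul, z_ζ (pV _ (mul_mem ha hb)), z_ζ (pV a ha), z_ζ (pV b hb), mpow h.abl ha.1 hb.1]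
      · rw [← X.z_eq_one, z_ζ (pV a ha)]
        exact ⟨fun e => ⟨ha.1, e⟩, fun e => e.2⟩
      · obtain ⟨b, hb, rfl⟩ := h.onto y
        have e : (b ^ 2 ^ (n - 1 - i)) ^ 2 ^ i = X.z (π b) := by
          rw [pp, ← h.pw b hb, Nat.sub_add_cancel (by omega)]
        exact ⟨b ^ 2 ^ (n - 1 - i), ⟨pow_mem hb _, by rw [← pow_sq, e, X.z_sq]⟩, by
          simp only [e, ζ_z]⟩
      · rw [← h1, z_ζ (pV a ha), z_ζ (pV _ (H24.conj_mem (N_Om _ _ fB) ha)), conj_pow]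
  rw [← le_antisymm (Om_le h.abl n) fun b hb => ⟨hb, expo h hb⟩]
  exact st n le_rfl
theorem Th.out (h : Th X G0 t D T B n π) (hf : f ∈ B ⊔ T) (ff : f * f = 1)
    (h1 : f ∉ B ⊔ zpowers t) :
    Fr B f ∧ ♯(X.V ⊓ C{f} : Subgroup G) ^ 2 = Fintype.card F ∧
      ∃ b ∈ B, b * f ∈ T ∧ X.Out (b * f) := by
  have fB : f ∈ N[B] := sup_le (norm_self B) h.TB hf
  obtain ⟨b, hb, y, hy, rfl⟩ := h.toTw.mem_BT.1 hf
  have y2 : y * y ∈ B := by
    rw [show y * y = (y * b * y⁻¹)⁻¹ * b⁻¹ * (b * y * (b * y)) by group, ff, mul_one]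
    exact mul_mem (inv_mem (H24.conj_mem (h.TB hy) hb)) (inv_mem hb)
  obtain ⟨c, o⟩ := h.toLc.T_out hy (fun k => h1 (mul_mem (mem_sup_left hb) (E_P h.toTw k)))
    (h.toTw.C_t y2 (Tt h.toLb (mul_mem hy hy)))
  have m : y * X.z c * y⁻¹ * b⁻¹ ∈ B :=
    mul_mem (H24.conj_mem (h.TB hy) (h.V_B (X.z_V c))) (inv_mem hb)
  have e : y * X.z c * y⁻¹ * b⁻¹ * (b * y) = y * X.z c := by group
  have ac : ∀ v ∈ X.V, b * y * v * (b * y)⁻¹ = y * X.z c * v * (y * X.z c)⁻¹ := fun v hv => by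
    rw [← e, ← conj_eq_of_mem_C (h.toTw.BV m) (H24.conj_mem (h.toTw.NV fB) hv)]; group
  obtain ⟨d, -, hd⟩ := X.actV o.nL o.nV
  refine ⟨h.fr fB ff (fun x => (ac _ (X.z_V x)).trans (hd x)) o.ne, ?_,
    _, m, by rw [e]; exact mul_mem hy (h.V_T (X.z_V c)), by rw [e]; exact o⟩
  rw [← (X.out_card o).1]
  congr 3
  ext v
  refine and_congr_right fun hv => ?_
  change v ∈ C{b * y} ↔ v ∈ C{y * X.z c}
  rw [mem_C1_comm, mem_C1_iff_conj, ac v hv, ← mem_C1_iff_conj, mem_C1_comm]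

end H23.L2
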