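import Mathlib
import Cfsg.Agent.H23.LDefs
import Cfsg.Agent.H23.TH
import Cfsg.Agent.H23.MM

set_option autoImplicit false
set_option linter.unusedVariables false
set_option linter.unusedSectionVars false

namespace H23.L2

open Cfsg H24 Subgroup
open H2.SZ (St DD Goal)
open scoped MatrixGroups commutatorElement

universe u

variable {G : Type u} [Group G] [Finite G] {F : Type*} [Field F] [Fintype F]
  {L G0 D T B R Q S S1 A P N M H : Subgroup G} {t f g i j ρ z u : G} {X : LD F L} {n : ℕ}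
  {π s : G → F}

/-! ### ABa -/
namespace ABax

theorem idx2 (h : ∀ a ∈ A, ∀ b ∈ A, a ∉ H → b ∉ H → a * b ∈ H) : ♯A ≤ 2 * ♯(H ⊓ A : Subgroup G) := by
  have h1 : H.relIndex A ∣ 2 := by
    refine index_dvd_two_iff.2 ?_
    by_cases e : ∃ a ∈ A, a ∉ H
    · obtain ⟨a, ha, hn⟩ := e
      refine ⟨⟨a, ha⟩, fun c => ?_⟩
      by_cases hc : (c : G) ∈ H
      · exact Or.inr hc
      · exact Or.inl (h c c.2 a ha hc hn)
    · push Not at e
      exact ⟨1, fun c => Or.inr (e c c.2)⟩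
  rw [← card_inf_mul_relIndex H A, mul_comm]
  exact Nat.mul_le_mul_right _ (Nat.le_of_dvd two_pos h1)

theorem cm (h : Th X G0 t D T B n π) (hf : f ∈ B) (hg : g ∈ B) : f * g = g * f :=
  h.abl.comm hf hg

/-- the norm map -/
theorem nm (h : Th X G0 t D T B n π) (fB : f ∈ N[B]) (ff : f * f = 1) (c : F) :
    ∃ a ∈ B ⊓ C{f}, X.z (π a) = X.z c * (f * X.z c * f⁻¹) := by
  obtain ⟨b, hb, rfl⟩ := h.onto c
  have h1 := H24.conj_mem fB hb
  refine ⟨b * (f * b * f⁻¹), ⟨mul_mem hb h1, mem_C1_comm.1 (mem_C1_iff_conj.2 ?_)⟩, ?_⟩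
  · calc _ = f * b * f⁻¹ * ((f * f) * b * (f * f)⁻¹) := by group
      _ = _ := by rw [ff, one_mul, inv_one, mul_one, cm h h1 hb]
  · rw [h.π_mul hb h1, ← X.z_mul, h.π_conj fB hb]

theorem nm_one (X : LD F L) {c : F} : X.z c * (f * X.z c * f⁻¹) = 1 ↔ X.z c ∈ C{f} := by
  rw [mem_C1_comm, mem_C1_iff_conj, mul_eq_one_iff_inv_eq, X.z_inv, eq_comm]

theorem ex_c (X : LD F L) (hc : ♯(X.V ⊓ C{f} : Subgroup G) ^ 2 = Fintype.card F) :
    ∃ c, X.z c ∉ C{f} := by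
  by_contra hn
  push Not at hn
  rw [inf_eq_left.2 (by rintro _ ⟨c, rfl⟩; exact hn c), X.card_V] at hc
  have := X.four
  nlinarith

theorem ex_a (h : Th X G0 t D T B n π) (fB : f ∈ N[B]) (ff : f * f = 1)
    (hc : ♯(X.V ⊓ C{f} : Subgroup G) ^ 2 = Fintype.card F) : ∃ a ∈ B ⊓ C{f}, π a ≠ 0 := by
  obtain ⟨c, hc⟩ := ex_c X hc
  obtain ⟨a, ha, e⟩ := nm h fB ff c
  exact ⟨a, ha, fun h0 => hc ((nm_one X).1 (by rw [← e, h0, X.z_zero]))⟩

theorem π_pow (h : Th X G0 t D T B n π) (hf : f ∈ B) (m : ℕ) : π (f ^ m) = 0 ∨ π (f ^ m) = π f := by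
  induction m with
  | zero => left; simpa using h.π_sq (one_mem B)
  | succ m ih =>
    rw [pow_succ, h.π_mul (pow_mem hf m) hf]
    rcases ih with e | e <;> rw [e]
    · exact .inr (zero_add _)
    · exact .inl (X.add_self _)

theorem mem4 (X : LD F L) (h4 : Fintype.card F = 4) {p r : F} (hp : p ≠ 0) (hr : r ≠ 0)
    (hpr : p ≠ r) (c : F) : c = 0 ∨ c = p ∨ c = r ∨ c = p + r := by
  classical
  have h1 : p + r ≠ 0 := fun e => hpr (X.eq_of_add e)
  have : ({0, p, r, p + r} : Finset F) = Finset.univ := by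
    refine Finset.eq_univ_of_card _ ?_
    rw [h4, Finset.card_insert_of_notMem, Finset.card_insert_of_notMem, Finset.card_pair]
    · simpa using hp
    · simp [hpr, hr]
    · simp [hp.symm, hr.symm, h1.symm]
  have h2 := Finset.mem_univ c
  rw [← this] at h2
  simpa using h2

end ABax
open ABax

theorem Th.ab_out (h : Th X G0 t D T B n π) (h2 : 2 ≤ n) (hf : f ∈ B ⊔ T)
    (h1 : f ∉ B ⊔ zpowers t) (hd : DD t f) : Fintype.card F = 4 ∧ n = 2 := by
  have ff : f * f = 1 := by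
    obtain ⟨k, rfl⟩ := hd
    calc _ = k * (t * t) * k⁻¹ := by group
      _ = 1 := by rw [h.tt]; group
  obtain ⟨-, hc, -⟩ := h.out hf ff h1
  have fB : f ∈ N[B] := sup_le (norm_self B) h.TB hf
  obtain ⟨g, -, hg⟩ := h.toLb.toT hd (h.pi.of_le (inf_le_left : B ⊓ C{f} ≤ B)) inf_le_right
  have k0 : ∀ a ∈ B ⊓ C{f}, ∀ b ∈ B ⊓ C{f}, ∀ m : ℕ, g⁻¹ * a * g * (g⁻¹ * b * g) ^ m ∈ X.E t →
      π a = 0 ∨ π a = π b := fun a ha b hb m hm => by
    have e : g⁻¹ * a * g * (g⁻¹ * b * g) ^ m = g⁻¹ * (a * b ^ m) * g := by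
      have := conj_pow (a := g⁻¹) (b := b) (i := m)
      rw [inv_inv] at this
      rw [this]; group
    have h3 := h.toSt2.el_E X _ hm
    rw [e] at h3
    have h4 : a * b ^ m * (a * b ^ m) = 1 := by
      calc _ = g * (g⁻¹ * (a * b ^ m) * g * (g⁻¹ * (a * b ^ m) * g)) * g⁻¹ := by group
        _ = 1 := by rw [h3]; group
    have h5 := h.π_V h2 (h.om _ (mul_mem ha.1 (pow_mem hb.1 m)) h4)
    rw [h.π_mul ha.1 (pow_mem hb.1 m)] at h5
    rcases π_pow h hb.1 m with e | e <;> rw [e] at h5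
    · exact .inl (by simpa using h5)
    · exact .inr (X.eq_of_add h5)
  have hq : Fintype.card F = 4 := by
    have h3 : ♯X.V ≤ 2 * ♯(C{f} ⊓ X.V : Subgroup G) := by
      refine idx2 ?_
      rintro _ ⟨c, rfl⟩ _ ⟨d, rfl⟩ hc hd
      obtain ⟨a, ha, ea⟩ := nm h fB ff c
      obtain ⟨b, hb, eb⟩ := nm h fB ff d
      have a0 : π a ≠ 0 := fun h0 => hc ((nm_one X).1 (by rw [← ea, h0, X.z_zero]))
      have b0 : π b ≠ 0 := fun h0 => hd ((nm_one X).1 (by rw [← eb, h0, X.z_zero]))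
      have e : π a = π b := by
        rcases h.toLc.cyc_T (hg a ha) (hg b hb) with ⟨m, hm⟩ | ⟨m, hm⟩
        · exact (k0 a ha b hb m hm).resolve_left a0
        · exact ((k0 b hb a ha m hm).resolve_left b0).symm
      rw [X.z_mul, ← nm_one X, ← X.z_mul]
      obtain ⟨d', hd'⟩ := H24.conj_mem (h.NV fB) (X.z_V c)
      calc _ = X.z c * (X.z d * (f * X.z c * f⁻¹)) * (f * X.z d * f⁻¹) := by group
        _ = X.z c * (f * X.z c * f⁻¹) * (X.z d * (f * X.z d * f⁻¹)) := by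
          rw [hd', X.z_comm d]; group
        _ = 1 := by rw [← ea, ← eb, e, X.z_sq]
    rw [inf_comm, X.card_V] at h3
    have := X.four
    have h4 : ♯(X.V ⊓ C{f} : Subgroup G) ≤ 2 := by nlinarith
    nlinarith
  refine ⟨hq, by_contra fun hn => ?_⟩
  obtain ⟨a, ha, a0⟩ := ex_a h fB ff hc
  have h3 : g⁻¹ * a * g * (g⁻¹ * a * g) ∈ X.E t := by
    by_cases e : g⁻¹ * a * g ∈ X.E t
    · exact mul_mem e e
    · exact ((h.toLc.T4 hq (hg a ha) e).2.1 _ (hg a ha)).resolve_left e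
  have h4 : a ^ 4 = 1 := by
    calc _ = g * (g⁻¹ * a * g * (g⁻¹ * a * g) * (g⁻¹ * a * g * (g⁻¹ * a * g))) * g⁻¹ := by
          simp [pow_succ, mul_assoc]
      _ = 1 := by rw [h.toSt2.el_E X _ h3]; group
  have h5 := h.pw a ha.1
  obtain ⟨m, rfl⟩ : ∃ m, n = m + 3 := ⟨n - 3, by omega⟩
  rw [show 2 ^ (m + 3 - 1) = 4 * 2 ^ m by rw [show m + 3 - 1 = m + 2 by omega]; ring, pow_mul, h4,
    one_pow] at h5
  exact a0 (X.z_eq_one.1 h5.symm)

theorem Th.ab_t (h : Th X G0 t D T B n π) (h2 : 2 ≤ n) (hS : Syl 2 ⊤ (B ⊔ T)) :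
    Gl (Fintype.card F) G0 ∨ t ∉ G0 := by
  refine or_iff_not_imp_right.2 fun tG => ?_
  have tG : t ∈ G0 := not_not.1 tG
  have ti : t⁻¹ = t := inv_eq_of_mul_eq_one_right h.tt
  obtain ⟨k, hf, h1⟩ : ∃ k, k * t * k⁻¹ ∈ B ⊔ T ∧ k * t * k⁻¹ ∉ B ⊔ zpowers t := by
    by_contra hn
    push Not at hn
    refine tr_not h.toSt (fun e => X.nab (e.of_le h.le)) le_top hS h.comm_BT
      (mem_sup_right h.toLb.t_T) h.tt h.tB (fun g _ hg => ?_) tG
    have := inv_mem ((h.mem_P.1 (hn g hg)).resolve_left fun e => h.nd e ⟨g, rfl⟩)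
    simpa [mul_assoc, ti] using this
  obtain ⟨hq, rfl⟩ := h.ab_out h2 hf h1 ⟨k, rfl⟩
  have ff : k * t * k⁻¹ * (k * t * k⁻¹) = 1 := by
    calc _ = k * (t * t) * k⁻¹ := by group
      _ = 1 := by rw [h.tt]; group
  obtain ⟨-, -, b, hb, eT, eo⟩ := h.out hf ff h1
  have eE : b * (k * t * k⁻¹) ∉ X.E t := fun e => h1 ((mul_mem_cancel_left (mem_sup_left hb)).1
    (sup_le le_sup_right (h.V_B.trans le_sup_left) e))
  generalize b * (k * t * k⁻¹) = e at eT eo eE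
  obtain ⟨c16, hT, c2, -⟩ := h.toLc.T4 hq eT eE
  have eB : e ∈ N[B] := h.TB eT
  have ei : e⁻¹ = e := inv_eq_of_mul_eq_one_right eo.sq
  have et : e * t = t * e := mem_C1.1 (h.syl.le eT)
  have tB : t ∈ N[B] := h.TB h.toLb.t_T
  have sq : ∀ b ∈ B, b * b = X.z (π b) := fun b hb => by simpa [sq] using h.pw b hb
  have hc := (X.out_card eo).1
  have inv : ∀ b ∈ B, t * b * t = b⁻¹ := by
    obtain ⟨a, ha, a0⟩ := ex_a h eB eo.sq hc
    refine h.inv_of ⟨a, ha.1, a0, by_contra fun hn => a0 ?_⟩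
    have h3 : t * a * t ∈ B := by simpa [ti] using H24.conj_mem tB ha.1
    have h4 : t * a * t * a ∈ X.V ⊓ C{e} := by
      refine ⟨h.C_t (mul_mem h3 ha.1) ?_, mul_mem (mul_mem (mul_mem ?_ ha.2) ?_) ha.2⟩
      · calc _ = t * (a * (t * a * t)) := by group
          _ = _ := by rw [cm h ha.1 h3]
      · exact mem_C1.2 et.symm
      · exact mem_C1.2 et.symm
    have h5 : a * a ∈ X.V ⊓ C{e} := ⟨sq a ha.1 ▸ X.z_V _, mul_mem ha.2 ha.2⟩
    have h6 : (⟨_, h4⟩ : (X.V ⊓ C{e} : Subgroup G)) = ⟨_, h5⟩ := by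
      obtain ⟨y, -, hy⟩ := (Nat.card_eq_two_iff' 1).1 c2
      exact (hy ⟨_, h4⟩ fun e => hn (by simpa [mul_assoc] using congrArg Subtype.val e)).trans
        (hy ⟨_, h5⟩ fun e => a0 (X.z_eq_one.1
          (by rw [← sq a ha.1]; exact congrArg Subtype.val e))).symm
    have h7 : t * a * t = a := mul_right_cancel (congrArg Subtype.val h6)
    refine h.π_V h2 (h.C_t ha.1 ?_)
    calc _ = t * a * t * t := by rw [h7]
      _ = _ := by rw [mul_assoc, h.tt, mul_one]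
  obtain ⟨c, hcz⟩ := ex_c X hc
  obtain ⟨x, hx, rfl⟩ := h.onto c
  have hy := H24.conj_mem eB hx
  have ey := h.π_conj eB hx
  have m4 := mem4 X hq (p := π x) (r := π (e * x * e⁻¹))
    (fun h0 => hcz (by rw [h0, X.z_zero]; exact one_mem _))
    (fun h0 => hcz (by
      rw [h0, X.z_zero, eq_comm, mul_inv_eq_one, mul_eq_left] at ey
      rw [ey]; exact one_mem _))
    (fun h0 => hcz (mem_C1_comm.1 (mem_C1_iff_conj.2 (by rw [← ey, ← h0]))))
  set K := closure {x, e * x * e⁻¹, t, e} with hK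
  have xK : x ∈ K := subset_closure (by simp)
  have yK : e * x * e⁻¹ ∈ K := subset_closure (by simp)
  have tK : t ∈ K := subset_closure (by simp)
  have eK : e ∈ K := subset_closure (by simp)
  have on : ∀ c, ∃ w ∈ B ⊓ K, π w = c := fun c => by
    rcases m4 c with rfl | rfl | rfl | rfl
    · exact ⟨1, one_mem _, by simpa using h.π_sq (one_mem B)⟩
    · exact ⟨x, ⟨hx, xK⟩, rfl⟩
    · exact ⟨_, ⟨hy, yK⟩, rfl⟩
    · exact ⟨_, ⟨mul_mem hx hy, mul_mem xK yK⟩, h.π_mul hx hy⟩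
  have VK : X.V ≤ K := by
    rintro _ ⟨c, rfl⟩
    obtain ⟨w, hw, rfl⟩ := on c
    exact sq w hw.1 ▸ mul_mem hw.2 hw.2
  have EK : X.E t ≤ K := sup_le (zpowers_le.2 tK) VK
  have gen : B ⊔ T ≤ K := by
    refine sup_le (fun b hb => ?_) fun g hg => ?_
    · obtain ⟨w, hw, ew⟩ := on (π b)
      obtain ⟨a, ha, ea⟩ := h.ker _ (mul_mem hb hw.1) (by rw [h.π_mul hb hw.1, ew, X.add_self])
      refine (mul_mem_cancel_right (show w ∈ K from hw.2)).1 (VK ?_)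
      rw [ea, sq a ha]
      exact X.z_V _
    · exact (hT g hg).elim (@EK g) fun e => (mul_mem_cancel_right eK).1 (EK e)
  have h64 : ♯(B ⊔ T : Subgroup G) = 64 := by
    have := h.card_BT
    rw [h.cardB, c16, hq] at this
    omega
  obtain rfl := h.toSt2.top tG
  have : IsSimpleGroup (⊤ : Subgroup G) := h.simple
  have : IsSimpleGroup G := Subgroup.topEquiv.symm.isSimpleGroup
  have : Fact (Nat.Prime 2) := ⟨Nat.prime_two⟩
  obtain ⟨φ⟩ := mm hS h64 gen (cm h hx hy)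
    (by rw [show x ^ 4 = x * x * (x * x) by simp [pow_succ, mul_assoc], sq x hx, X.z_sq])
    h.tt eo.sq et.symm (inv x hx) (by rw [ei]) ⟨t, X.z 1, orderOf_eq_prime (by rw [pow_two, h.tt]) h.t1,
      orderOf_eq_prime (by rw [pow_two, X.z_sq]) X.z1, fun e => by
        obtain ⟨g, hg⟩ := isConj_iff.1 e
        exact h.zn 1 ⟨g, hg.symm⟩⟩
  exact .inr (.inl ⟨hq, .inl ⟨Subgroup.topEquiv.trans φ⟩⟩)

end H23.L2
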