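import Mathlib
import Cfsg.Agent.H23.LDefs
import Cfsg.Agent.H20.PAU

set_option autoImplicit false
set_option linter.unusedVariables false
set_option linter.unusedSectionVars false

namespace H23.L2

open Cfsg H24 Subgroup
open H2.SZ (St DD Goal)
open scoped MatrixGroups commutatorElement

universe u

variable {G : Type u} [Group G] [Finite G] {F : Type*} [Field F] [Fintype F]
  {L G0 D T B R Q S S1 A P N M H : Subgroup G} {t f g i j ρ z u : G} {X : LD F L} {n : ℕ}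
  {π s : G → F}

namespace AUx

open Matrix H20.P4 H20.P4.PAUx

variable {K : Type} [Field K]

/-- a scalar matrix -/
def Sc (h : Matrix (Fin 2) (Fin 2) K) : Prop := ∃ x : K, h = x • (1 : Matrix (Fin 2) (Fin 2) K)

theorem comm_gen {h Y : Matrix (Fin 2) (Fin 2) K} (hn : ¬ Sc h) (hc : Y * h = h * Y) :
    ∃ x y : K, Y = x • (1 : Matrix (Fin 2) (Fin 2) K) + y • h := by
  have e00 := congrFun (congrFun hc 0) 0
  have e01 := congrFun (congrFun hc 0) 1
  have e10 := congrFun (congrFun hc 1) 0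
  simp only [Matrix.mul_apply, Fin.sum_univ_two] at e00 e01 e10
  by_cases c1 : h 0 1 = 0
  · by_cases c2 : h 1 0 = 0
    · have c3 : h 0 0 - h 1 1 ≠ 0 := fun c3 => hn ⟨h 0 0, by
        ext i j
        fin_cases i <;> fin_cases j <;> simp [c1, c2]
        linear_combination -c3⟩
      refine ⟨Y 0 0 - (Y 0 0 - Y 1 1) / (h 0 0 - h 1 1) * h 0 0,
        (Y 0 0 - Y 1 1) / (h 0 0 - h 1 1), ?_⟩
      ext i j
      fin_cases i <;> fin_cases j <;> simp [c1, c2]
      · refine (mul_eq_zero.1 (?_ : (h 0 0 - h 1 1) * Y 0 1 = 0)).resolve_left c3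
        linear_combination -e01 + (Y 0 0 - Y 1 1) * c1
      · refine (mul_eq_zero.1 (?_ : (h 0 0 - h 1 1) * Y 1 0 = 0)).resolve_left c3
        linear_combination e10 + (Y 0 0 - Y 1 1) * c2
      · field_simp
        ring
    · refine ⟨Y 0 0 - Y 1 0 / h 1 0 * h 0 0, Y 1 0 / h 1 0, ?_⟩
      ext i j
      fin_cases i <;> fin_cases j <;> simp <;> field_simp
      · linear_combination e00
      · linear_combination e10
  · refine ⟨Y 0 0 - Y 0 1 / h 0 1 * h 0 0, Y 0 1 / h 0 1, ?_⟩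
    ext i j
    fin_cases i <;> fin_cases j <;> simp <;> field_simp
    · linear_combination -e00
    · linear_combination -e01

theorem comm_comm {h Y Z : Matrix (Fin 2) (Fin 2) K} (hn : ¬ Sc h) (h1 : Y * h = h * Y)
    (h2 : Z * h = h * Z) : Y * Z = Z * Y := by
  obtain ⟨x, y, rfl⟩ := comm_gen hn h1
  obtain ⟨x', y', rfl⟩ := comm_gen hn h2
  simp only [mul_add, add_mul, mul_smul_comm, smul_mul_assoc, mul_one, one_mul]
  module

theorem sc_of_comm {h : Matrix (Fin 2) (Fin 2) K} (H : ∀ a : SL(2, K), a.1 * h = h * a.1) :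
    Sc h := by
  have h1 := H ⟨!![1, 1; 0, 1], by simp [det_fin_two]⟩
  have h2 := H ⟨!![1, 0; 1, 1], by simp [det_fin_two]⟩
  have e00 := congrFun (congrFun h1 0) 0
  have e01 := congrFun (congrFun h1 0) 1
  have e11 := congrFun (congrFun h2 0) 0
  simp [Matrix.mul_apply] at e00 e01 e11
  refine ⟨h 0 0, ?_⟩
  ext i j
  fin_cases i <;> fin_cases j <;> simp [e00, e11]
  linear_combination e01

theorem sc_sl {a : SL(2, K)} (h : Sc a.1) : a = 1 ∨ a = -1 := by
  obtain ⟨x, hx⟩ := h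
  have hd := a.2
  rw [hx, det_smul, det_one, Fintype.card_fin, mul_one, sq] at hd
  rcases mul_self_eq_one_iff.1 hd with rfl | rfl
  · exact Or.inl (Subtype.ext (by rw [hx, one_smul]; rfl))
  · exact Or.inr (Subtype.ext (by rw [hx, neg_val, neg_smul, one_smul]; rfl))

theorem neg_ne (h2 : (2 : K) ≠ 0) : (-1 : SL(2, K)) ≠ 1 := fun h => by
  have := congrArg (fun a : SL(2, K) => a.1 0 0) h
  simp at this
  exact h2 (by linear_combination -this)

theorem perf [Fintype K] (hF : 3 < Fintype.card K) : commutator SL(2, K) = ⊤ := by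
  obtain ⟨x, hx⟩ : IsCyclic Kˣ := inferInstance
  refine Matrix.SL2.commutator_eq_top (Units.ne_zero x) fun h => ?_
  have h1 := orderOf_le_of_pow_eq_one zero_lt_two (show x ^ 2 = 1 from Units.ext (by simpa using h))
  rw [orderOf_eq_card_of_forall_mem_zpowers hx, Nat.card_units, Nat.card_eq_fintype_card] at h1
  omega

theorem pm_eq [Fintype K] (h5 : 5 ≤ Fintype.card K) (α : SL(2, K) →* SL(2, K))
    (hα : ∀ a, α a = a ∨ α a = -a) (a : SL(2, K)) : α a = a := by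
  have : commutator SL(2, K) ≤ α.eqLocus (MonoidHom.id _) := commutator_le.2 fun x _ y _ => by
    change α ⁅x, y⁆ = ⁅x, y⁆
    rw [map_commutatorElement]
    rcases hα x with h1 | h1 <;> rcases hα y with h2 | h2 <;>
      simp [h1, h2, commutatorElement_def, inv_neg]
  exact this ((perf (by omega)).ge (mem_top a))

/-- the centraliser of a matrix in `SL₂` -/
def Cm (h : Matrix (Fin 2) (Fin 2) K) : Subgroup SL(2, K) where
  carrier := {a | a.1 * h = h * a.1}
  mul_mem' := fun {a b} ha hb => by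
    change a.1 * b.1 * h = h * (a.1 * b.1)
    rw [mul_assoc, hb, ← mul_assoc, ha, mul_assoc]
  one_mem' := by
    change (1 : Matrix (Fin 2) (Fin 2) K) * h = h * 1
    rw [one_mul, mul_one]
  inv_mem' := fun {a} ha => by
    change (a⁻¹).1 * h = h * (a⁻¹).1
    have e1 : (a⁻¹).1 * a.1 = 1 := congrArg Subtype.val (inv_mul_cancel a)
    have e2 : a.1 * (a⁻¹).1 = 1 := congrArg Subtype.val (mul_inv_cancel a)
    have ha' : a.1 * h = h * a.1 := ha
    calc (a⁻¹).1 * h = (a⁻¹).1 * (h * a.1) * (a⁻¹).1 := by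
          rw [mul_assoc, mul_assoc, e2, mul_one]
      _ = h * (a⁻¹).1 := by rw [← ha', ← mul_assoc, e1, one_mul]

theorem pm_comm {h : Matrix (Fin 2) (Fin 2) K} {a b : SL(2, K)}
    (ha : a.1 * h = h * a.1 ∨ a.1 * h = -(h * a.1)) (hb : b.1 * h = h * b.1 ∨ b.1 * h = -(h * b.1)) :
    ⁅a, b⁆ ∈ Cm h := by
  have key : (a * b).1 * h = h * (a * b).1 ∧ (b * a).1 * h = h * (b * a).1 ∨
      (a * b).1 * h = -(h * (a * b).1) ∧ (b * a).1 * h = -(h * (b * a).1) := by
    change a.1 * b.1 * h = h * (a.1 * b.1) ∧ b.1 * a.1 * h = h * (b.1 * a.1) ∨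
      a.1 * b.1 * h = -(h * (a.1 * b.1)) ∧ b.1 * a.1 * h = -(h * (b.1 * a.1))
    rcases ha with ha | ha <;> rcases hb with hb | hb
    · left
      constructor
      · rw [mul_assoc, hb, ← mul_assoc, ha, mul_assoc]
      · rw [mul_assoc, ha, ← mul_assoc, hb, mul_assoc]
    · right
      constructor
      · rw [mul_assoc, hb, mul_neg, ← mul_assoc, ha, mul_assoc]
      · rw [mul_assoc, ha, ← mul_assoc, hb, neg_mul, mul_assoc]
    · right
      constructor
      · rw [mul_assoc, hb, ← mul_assoc, ha, neg_mul, mul_assoc]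
      · rw [mul_assoc, ha, mul_neg, ← mul_assoc, hb, mul_assoc]
    · left
      constructor
      · rw [mul_assoc, hb, mul_neg, ← mul_assoc, ha, neg_mul, neg_neg, mul_assoc]
      · rw [mul_assoc, ha, mul_neg, ← mul_assoc, hb, neg_mul, neg_neg, mul_assoc]
  have e : ⁅a, b⁆ = (a * b) * (b * a)⁻¹ := by rw [commutatorElement_def]; group
  rw [e]
  generalize a * b = c at key
  generalize b * a = d at key
  rcases key with ⟨h1, h2⟩ | ⟨h1, h2⟩
  · exact mul_mem (show c ∈ Cm h from h1) (inv_mem (show d ∈ Cm h from h2))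
  · have e1 : (d⁻¹).1 * d.1 = 1 := congrArg Subtype.val (inv_mul_cancel d)
    have e2 : d.1 * (d⁻¹).1 = 1 := congrArg Subtype.val (mul_inv_cancel d)
    have h3 : (d⁻¹).1 * h = -(h * (d⁻¹).1) :=
      calc (d⁻¹).1 * h = (d⁻¹).1 * (h * d.1) * (d⁻¹).1 := by
            rw [mul_assoc, mul_assoc, e2, mul_one]
        _ = -(h * (d⁻¹).1) := by
            rw [← neg_neg (h * d.1), ← h2, mul_neg, ← mul_assoc, e1, one_mul, neg_mul]
    change c.1 * (d⁻¹).1 * h = h * (c.1 * (d⁻¹).1)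
    rw [mul_assoc, h3, mul_neg, ← mul_assoc, h1, neg_mul, neg_neg, mul_assoc]

theorem perf_bot {G : Type*} [Group G] (δ : SL(2, K) →* G) {h : Matrix (Fin 2) (Fin 2) K}
    (hn : ¬ Sc h) {M : Subgroup G}
    (hM : ∀ m ∈ M, ∃ b, m = δ b ∧ (b.1 * h = h * b.1 ∨ b.1 * h = -(h * b.1)))
    (h3 : ⁅M, M⁆ = M) : M = ⊥ := by
  have h1 : M ≤ (Cm h).map δ := h3.ge.trans (commutator_le.2 fun x hx y hy => by
    obtain ⟨a, rfl, ha⟩ := hM x hx
    obtain ⟨b, rfl, hb⟩ := hM y hy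
    exact ⟨_, pm_comm ha hb, map_commutatorElement ..⟩)
  refine le_bot_iff.1 (h3.ge.trans (commutator_le.2 fun x hx y hy => ?_))
  obtain ⟨a, ha, rfl⟩ := h1 hx
  obtain ⟨b, hb, rfl⟩ := h1 hy
  have : a * b = b * a := Subtype.ext (comm_comm hn ha hb)
  rw [mem_bot, commutatorElement_eq_one_iff_mul_comm, ← map_mul, this, map_mul]

/-- the map `SL₂(K) → G0 ≅ L₂(K)` -/
theorem exists_δ {G : Type*} [Group G] {G0 : Subgroup G} (e : G0 ≃* PSL(2, K)) :
    ∃ δ : SL(2, K) →* G, δ.range = G0 ∧ ∀ a, δ a = 1 ↔ a = 1 ∨ a = -1 := by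
  refine ⟨G0.subtype.comp (e.symm.toMonoidHom.comp (QuotientGroup.mk' _)), ?_, fun a => ?_⟩
  · refine le_antisymm (by rintro _ ⟨a, rfl⟩; exact Subtype.property _) fun g hg => ?_
    obtain ⟨a, ha⟩ := QuotientGroup.mk'_surjective (center SL(2, K)) (e ⟨g, hg⟩)
    refine ⟨a, ?_⟩
    change (e.symm (QuotientGroup.mk' _ a)).1 = g
    rw [ha, MulEquiv.symm_apply_apply]
  · rw [← center_iff, ← QuotientGroup.eq_one_iff]
    change (e.symm (QuotientGroup.mk' _ a)).1 = 1 ↔ _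
    rw [OneMemClass.coe_eq_one, MulEquiv.map_eq_one_iff]
    rfl

theorem δ_eq {G : Type*} [Group G] {δ : SL(2, K) →* G} (hδ : ∀ a, δ a = 1 ↔ a = 1 ∨ a = -1)
    {a b : SL(2, K)} : δ a = δ b ↔ a = b ∨ a = -b := by
  rw [← mul_inv_eq_one, ← map_inv, ← map_mul, hδ, mul_inv_eq_one, mul_inv_eq_iff_eq_mul, neg_one_mul]

/-- a quaternion pair with entries in the prime field -/
theorem q8 [Finite K] (σ : K ≃+* K) : ∃ i j : SL(2, K), i * i = -1 ∧ j * j = -1 ∧
    i * j = -(j * i) ∧ i.1.map σ = i.1 ∧ j.1.map σ = j.1 := by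
  let K0 : Subfield K := (σ : K →+* K).eqLocusField (RingHom.id K)
  obtain ⟨x, y, hxy⟩ := H16.exists_sq_add_sq' (-1 : K0)
  have h : x.1 ^ 2 + y.1 ^ 2 = -1 := congrArg Subtype.val hxy
  have hx : σ x.1 = x.1 := x.2
  have hy : σ y.1 = y.1 := y.2
  refine ⟨⟨!![0, -1; 1, 0], by simp [det_fin_two]⟩, ⟨!![x.1, y.1; y.1, -x.1], by
    rw [det_fin_two_of]; linear_combination -h⟩, Subtype.ext ?_, Subtype.ext ?_, Subtype.ext ?_,
    ?_, ?_⟩
  · change (!![0, -1; 1, 0] : Matrix (Fin 2) (Fin 2) K) * !![0, -1; 1, 0] = -1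
    ext i j
    fin_cases i <;> fin_cases j <;> simp [Matrix.mul_apply]
  · change !![x.1, y.1; y.1, -x.1] * !![x.1, y.1; y.1, -x.1] = -1
    ext i j
    fin_cases i <;> fin_cases j <;> simp [Matrix.mul_apply]
    · linear_combination h
    · ring
    · ring
    · linear_combination h
  · change (!![0, -1; 1, 0] : Matrix (Fin 2) (Fin 2) K) * !![x.1, y.1; y.1, -x.1] =
      -(!![x.1, y.1; y.1, -x.1] * !![0, -1; 1, 0])
    ext i j
    fin_cases i <;> fin_cases j <;> simp [Matrix.mul_apply]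
  · ext i j
    fin_cases i <;> fin_cases j <;> simp
  · ext i j
    fin_cases i <;> fin_cases j <;> simp [hx, hy]

theorem norm_onto [Fintype K] (h2 : (2 : K) ≠ 0) {σ : K ≃+* K} (h1 : ∀ x, σ (σ x) = x)
    {x : K} (hx : σ x ≠ x) {c : K} (hc : σ c = c) : ∃ d, d * σ d = c := by
  classical
  let K0 : Subfield K := (σ : K →+* K).eqLocusField (RingHom.id K)
  have hd : σ (x - σ x) = -(x - σ x) := by rw [map_sub, h1]; ring
  have hd0 : x - σ x ≠ 0 := sub_ne_zero.2 hx.symm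
  have m1 : (x - σ x) * (x - σ x) ∈ K0 := by
    change σ _ = _
    rw [map_mul, hd, neg_mul_neg]; rfl
  have h20 : (2 : K0) ≠ 0 := fun h => h2 (congrArg Subtype.val h)
  have hodd : Fintype.card K0 % 2 = 1 := by
    rcases H16.two_cases (F := K0) rfl with ⟨h, -⟩ | ⟨-, h, -⟩
    · exact absurd h h20
    · exact h
  have hD : (-⟨_, m1⟩ : K0) ≠ 0 := fun h => mul_ne_zero hd0 hd0 (neg_eq_zero.1 (congrArg Subtype.val h))
  obtain ⟨a, b, hab⟩ := FiniteField.exists_root_sum_quadratic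
    (f := Polynomial.X ^ 2 - Polynomial.C (⟨c, hc⟩ : K0))
    (g := Polynomial.C (-⟨_, m1⟩ : K0) * Polynomial.X ^ 2)
    (Polynomial.degree_X_pow_sub_C (by norm_num) _) (Polynomial.degree_C_mul_X_pow 2 hD) hodd
  simp only [Polynomial.eval_sub, Polynomial.eval_pow, Polynomial.eval_X, Polynomial.eval_C,
    Polynomial.eval_mul] at hab
  have h : a.1 ^ 2 - c + -((x - σ x) * (x - σ x)) * b.1 ^ 2 = 0 := congrArg Subtype.val hab
  have ha : σ a.1 = a.1 := a.2
  have hb : σ b.1 = b.1 := b.2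
  exact ⟨a.1 + b.1 * (x - σ x), by rw [map_add, map_mul, ha, hb, hd]; linear_combination h⟩

theorem h90 {σ : K ≃+* K} (h1 : ∀ x, σ (σ x) = x) {x : K} (hx : σ x ≠ x)
    {h : Matrix (Fin 2) (Fin 2) K} (hh : h * h.map σ = 1) :
    ∃ g : Matrix (Fin 2) (Fin 2) K, g.det ≠ 0 ∧ h * g.map σ = g := by
  have key : ∀ Y : Matrix (Fin 2) (Fin 2) K, h * (Y + h * Y.map σ).map σ = Y + h * Y.map σ := fun Y => by
    have : (Y.map σ).map σ = Y := by ext i j; exact h1 _
    rw [Matrix.map_add _ (map_add σ), Matrix.map_mul, mul_add, ← mul_assoc, hh, this, one_mul, add_comm]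
  by_contra hn
  have hz : ∀ a b : K, a * b + a * σ b * h 1 1 + σ a * b * h 0 0 +
      σ a * σ b * (h 0 0 * h 1 1 - h 0 1 * h 1 0) = 0 := fun a b => by
    by_contra h0
    refine hn ⟨_, fun h3 => h0 ?_, key !![a, 0; 0, b]⟩
    rw [det_fin_two] at h3
    simp [Matrix.mul_apply] at h3
    linear_combination h3
  have e1 := hz 1 1
  have e2 := hz 1 x
  have e3 := hz x 1
  have e4 := hz x x
  rw [map_one] at e1 e2 e3
  have hd0 : x - σ x ≠ 0 := sub_ne_zero.2 hx.symm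
  exact mul_ne_zero hd0 hd0 (by linear_combination e4 - σ x * e2 - σ x * e3 + σ x * σ x * e1)

/-- involutory automorphisms of `SL₂(K)` -/
theorem inv_class [Fintype K] (hK : Odd (Fintype.card K)) (h5 : 5 ≤ Fintype.card K)
    (α : MulAut SL(2, K)) (hα : ∀ a, α (α a) = a) :
    α = 1 ∨ (∃ h : Matrix (Fin 2) (Fin 2) K, h.det ≠ 0 ∧ h.trace = 0 ∧ ¬ Sc h ∧
      ∀ a : SL(2, K), (α a).1 * h = h * a.1) ∨
    ∃ (σ : K ≃+* K) (x : K) (g : GL (Fin 2) K), (∀ y, σ (σ y) = y) ∧ σ x ≠ x ∧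
      ∀ a b : SL(2, K), a.1 * g.1 = g.1 * b.1 → (α a = a ↔ b.1.map σ = b.1) := by
  have h2 := H7.two_ne_zero_of_odd_card hK
  obtain ⟨h, σ, H⟩ := aut_sl2 hK h5 α
  have h1 : ∀ y, σ (σ y) = y := fun m => by
    let c : SL(2, K) := ⟨!![m, -1; 1, 0], by simp [det_fin_two]⟩
    have hc : c.1.trace = m := by
      change (!![m, -1; 1, 0] : Matrix (Fin 2) (Fin 2) K).trace = m
      simp [trace_fin_two]
    have := tr_aut H (α c)
    rw [hα, tr_aut H, hc] at this
    exact this.symm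
  have hmm : ∀ Y : Matrix (Fin 2) (Fin 2) K, (Y.map σ).map σ = Y := fun Y => by
    ext i j; exact h1 _
  obtain ⟨c, hc⟩ : Sc (h.1 * h.1.map σ) := sc_of_comm fun a => by
    have e1 := H (α a)
    have e2 := congrArg (fun Y : Matrix (Fin 2) (Fin 2) K => Y.map σ) (H a)
    simp only [Matrix.map_mul, hmm] at e2
    rw [hα] at e1
    rw [← mul_assoc, e1, mul_assoc, e2, mul_assoc]
  by_cases hσ : ∀ x, σ x = x
  · have hm : ∀ Y : Matrix (Fin 2) (Fin 2) K, Y.map σ = Y := fun Y => by ext i j; exact hσ _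
    have H' : ∀ a : SL(2, K), (α a).1 * h.1 = h.1 * a.1 := fun a => by rw [H, hm]
    by_cases hs : Sc h.1
    · obtain ⟨x, hx⟩ := hs
      exact Or.inl (eq_one_of_scalar (fun h0 => h.ne_zero (by rw [hx, h0, zero_smul])) H' hx)
    · refine Or.inr (Or.inl ⟨h.1, h.det_ne_zero, ?_, hs, H'⟩)
      by_contra h0
      rw [hm, ch, sub_eq_iff_eq_add, ← add_smul] at hc
      exact hs ⟨h.1.trace⁻¹ * (c + h.1.det), by
        rw [mul_smul, ← hc, smul_smul, inv_mul_cancel₀ h0, one_smul]⟩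
  · push Not at hσ
    obtain ⟨x, hx⟩ := hσ
    have hi : (h⁻¹).1 * h.1 = 1 := by rw [← Units.val_mul, inv_mul_cancel, Units.val_one]
    have hc' : h.1.map σ * h.1 = c • (1 : Matrix (Fin 2) (Fin 2) K) := by
      rw [← one_mul (h.1.map σ), ← hi, mul_assoc (h⁻¹).1, hc, mul_assoc, smul_mul_assoc, one_mul,
        mul_smul_comm, hi]
    have hcc : σ c = c := by
      have e := congrArg (fun Y : Matrix (Fin 2) (Fin 2) K => Y.map σ 0 0) hc
      simp only [Matrix.map_mul, hmm, hc'] at e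
      simpa using e.symm
    have c0 : c ≠ 0 := fun c0 => by
      have e := congrArg det hc
      rw [c0, zero_smul, det_zero, det_mul] at e
      have e2 : (h.1.map σ).det = σ h.1.det := (RingHom.map_det (σ : K →+* K) h.1).symm
      rw [e2] at e
      exact mul_ne_zero h.det_ne_zero ((map_ne_zero σ).2 h.det_ne_zero) e
    obtain ⟨d, hd⟩ := norm_onto h2 h1 hx hcc
    have d0 : d ≠ 0 := fun d0 => c0 (by rw [← hd, d0, zero_mul])
    have hs : ∀ (r : K) (Y : Matrix (Fin 2) (Fin 2) K), (r • Y).map σ = σ r • Y.map σ := fun r Y => by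
      ext i j; simp
    obtain ⟨g, g0, hg⟩ := h90 h1 hx (h := d⁻¹ • h.1) (by
      rw [hs, smul_mul_assoc, mul_smul_comm, hc, smul_smul, smul_smul, map_inv₀, ← mul_inv, hd,
        inv_mul_cancel₀ c0, one_smul])
    refine Or.inr (Or.inr ⟨σ, x, GeneralLinearGroup.mkOfDetNeZero g g0, h1, hx, fun a b hab => ?_⟩)
    change a.1 * g = g * b.1 at hab
    have e1 : (α a).1 * g = g * b.1.map σ := by
      have e2 := congrArg (fun Y : Matrix (Fin 2) (Fin 2) K => Y.map σ) hab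
      simp only [Matrix.map_mul] at e2
      calc (α a).1 * g = d⁻¹ • ((α a).1 * h.1 * g.map σ) := by
            rw [mul_assoc, ← mul_smul_comm, ← smul_mul_assoc, hg]
        _ = g * b.1.map σ := by
            rw [H, mul_assoc, e2, ← mul_assoc, ← smul_mul_assoc, ← smul_mul_assoc, hg]
    have gu : IsUnit g := (Matrix.isUnit_iff_isUnit_det g).2 (Ne.isUnit g0)
    constructor
    · intro e
      rw [e, hab] at e1
      exact (gu.mul_left_cancel e1).symm
    · intro e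
      rw [e, ← hab] at e1
      exact Subtype.ext (gu.mul_right_cancel e1)

/-- conjugation by an element of `GL₂` -/
def cg (g : GL (Fin 2) K) : SL(2, K) →* SL(2, K) :=
  MonoidHom.mk' (fun a => ⟨g.1 * a.1 * (g⁻¹).1, by rw [det_units_conj, a.2]⟩) fun a b =>
    Subtype.ext (by
      change g.1 * (a.1 * b.1) * (g⁻¹).1 = g.1 * a.1 * (g⁻¹).1 * (g.1 * b.1 * (g⁻¹).1)
      simp [mul_assoc])

theorem cg_spec (g : GL (Fin 2) K) (b : SL(2, K)) : (cg g b).1 * g.1 = g.1 * b.1 := by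
  change g.1 * b.1 * (g⁻¹).1 * g.1 = _
  rw [mul_assoc, ← Units.val_mul, inv_mul_cancel, Units.val_one, mul_one]

theorem cg_neg (g : GL (Fin 2) K) (b : SL(2, K)) : cg g (-b) = -cg g b := Subtype.ext (by
  change g.1 * (-b.1) * (g⁻¹).1 = -(g.1 * b.1 * (g⁻¹).1)
  rw [mul_neg, neg_mul])

theorem inv_lin [Fintype K] (hK : Odd (Fintype.card K)) (h5 : 5 ≤ Fintype.card K)
    (α : MulAut SL(2, K)) (hα : ∀ a, α (α a) = a)
    (hq : ∀ i j : SL(2, K), i * i = -1 → j * j = -1 → i * j = -(j * i) → α i = i → α j ≠ j) :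
    ∃ h : Matrix (Fin 2) (Fin 2) K, h.det ≠ 0 ∧ h.trace = 0 ∧ ¬ Sc h ∧
      ∀ a : SL(2, K), (α a).1 * h = h * a.1 := by
  rcases inv_class hK h5 α hα with rfl | h | ⟨σ, x, g, h1, hx, H⟩
  · obtain ⟨i, j, hi, hj, hij, -⟩ := q8 (RingEquiv.refl K)
    exact absurd rfl (hq i j hi hj hij rfl)
  · exact h
  · obtain ⟨i, j, hi, hj, hij, e1, e2⟩ := q8 σ
    refine absurd ((H _ _ (cg_spec g j)).2 e2) (hq (cg g i) (cg g j) ?_ ?_ ?_
      ((H _ _ (cg_spec g i)).2 e1))
    · rw [← map_mul, hi, cg_neg, map_one]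
    · rw [← map_mul, hj, cg_neg, map_one]
    · rw [← map_mul, hij, cg_neg, map_mul]

theorem exists_aut {G : Type*} [Group G] (κ : SL(2, K) →* G) (hκ : Function.Injective κ) {t : G}
    (ht : t ∈ N[κ.range]) : ∃ α : MulAut SL(2, K), ∀ a, κ (α a) = t * κ a * t⁻¹ := by
  let e := MonoidHom.ofInjective hκ
  refine ⟨MulAut.congr e.symm (κ.range.normalizerMonoidHom ⟨t, ht⟩), fun a => ?_⟩
  change κ (e.symm (κ.range.normalizerMonoidHom ⟨t, ht⟩ (e a))) = _
  rw [MonoidHom.apply_ofInjective_symm]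
  rfl

theorem exists_lin [Fintype K] (hK : Odd (Fintype.card K)) (h5 : 5 ≤ Fintype.card K)
    {G : Type*} [Group G] (κ : SL(2, K) →* G) (hκ : Function.Injective κ) {t : G}
    (ht : t ∈ N[κ.range]) (tt : t * t = 1) (h1 : ¬ Q8 (κ.range ⊓ C{t})) :
    ∃ h : Matrix (Fin 2) (Fin 2) K, h.det ≠ 0 ∧ h.trace = 0 ∧ ¬ Sc h ∧
      ∀ a b : SL(2, K), κ b = t * κ a * t⁻¹ ↔ b.1 * h = h * a.1 := by
  have h2 := H7.two_ne_zero_of_odd_card hK
  obtain ⟨α, hα⟩ := exists_aut κ hκ ht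
  have hm : ∀ a, α a = a → κ a ∈ κ.range ⊓ C{t} := fun a ha =>
    mem_inf.2 ⟨⟨a, rfl⟩, mem_centralizer_singleton_iff.2 (by
      have := hα a
      rw [ha, eq_mul_inv_iff_mul_eq] at this
      exact this)⟩
  obtain ⟨h, d0, t0, hn, H⟩ := inv_lin hK h5 α (fun a => hκ (by
      rw [hα, hα, ← mul_assoc, ← mul_assoc, tt, one_mul, mul_assoc, ← _root_.mul_inv_rev, tt, inv_one,
        mul_one])) fun i j hi hj hij e1 e2 => h1 ⟨_, hm i e1, _, hm j e2, by
      rw [← map_mul, ← map_mul, hi, hj], by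
      rw [← map_mul, hi, ← map_one κ]; exact fun e => neg_ne h2 (hκ e), by
      rw [← map_mul, ← map_mul, hi, neg_mul_neg, one_mul, map_one], by
      rw [← map_mul, ← map_mul, ← map_mul, ← map_mul, hi, hij, neg_one_mul]⟩
  refine ⟨h, d0, t0, hn, fun a b => ?_⟩
  have gu : IsUnit h := (Matrix.isUnit_iff_isUnit_det h).2 (Ne.isUnit d0)
  rw [← hα, hκ.eq_iff, ← H]
  exact ⟨fun e => by rw [e], fun e => Subtype.ext (gu.mul_right_cancel e)⟩

theorem det_comb' {h : Matrix (Fin 2) (Fin 2) K} (t0 : h.trace = 0) (x y : K) :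
    (x • (1 : Matrix (Fin 2) (Fin 2) K) + y • h).det = x * x + h.det * (y * y) := by
  rw [trace_fin_two] at t0
  simp [det_fin_two]
  linear_combination (x * y) * t0

theorem card_Cm [Fintype K] (h2 : (2 : K) ≠ 0) {h : Matrix (Fin 2) (Fin 2) K} (d0 : h.det ≠ 0)
    (t0 : h.trace = 0) (hn : ¬ Sc h) : Fintype.card K - 1 ≤ ♯(Cm h) := by
  classical
  set d := h.det with hd
  let P := {p : K × K // p.1 * p.1 + d * (p.2 * p.2) = 1}
  let φ : P → Cm h := fun p => ⟨⟨p.1.1 • (1 : Matrix (Fin 2) (Fin 2) K) + p.1.2 • h, by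
    rw [det_comb' t0]; exact p.2⟩, by
    change (_ + _) * h = h * (_ + _)
    simp [mul_add, add_mul]⟩
  have hφ : Function.Injective φ := fun p r e => by
    have e1 : p.1.1 • (1 : Matrix (Fin 2) (Fin 2) K) + p.1.2 • h =
      r.1.1 • (1 : Matrix (Fin 2) (Fin 2) K) + r.1.2 • h := congrArg (fun a : Cm h => a.1.1) e
    have e2 : p.1.2 = r.1.2 := by
      by_contra e2
      have e3 := sub_ne_zero.2 e2
      refine hn ⟨(p.1.2 - r.1.2)⁻¹ * (r.1.1 - p.1.1), ?_⟩
      rw [mul_smul, eq_inv_smul_iff₀ e3]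
      linear_combination (norm := module) e1
    rw [e2, add_left_inj] at e1
    have e4 := congrFun (congrFun e1 0) 0
    simp at e4
    exact Subtype.ext (Prod.ext e4 e2)
  obtain ⟨m0, hm0⟩ : ∃ m0 : K, ∀ m, 1 + d * (m * m) = 0 → m = m0 ∨ m = -m0 := by
    by_cases c : ∃ m0 : K, 1 + d * (m0 * m0) = 0
    · obtain ⟨m0, c⟩ := c
      exact ⟨m0, fun m hm => mul_self_eq_mul_self_iff.1 (mul_left_cancel₀ d0 (by
        linear_combination hm - c))⟩
    · exact ⟨0, fun m hm => absurd ⟨m, hm⟩ c⟩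
  let ψ : {m : K // m ≠ m0} → P := fun m =>
    if c : 1 + d * (m.1 * m.1) = 0 then ⟨(-1, 0), by simp⟩
    else ⟨((1 - d * (m.1 * m.1)) / (1 + d * (m.1 * m.1)), 2 * m.1 / (1 + d * (m.1 * m.1))), by
      obtain ⟨r, hr⟩ : ∃ r, (1 + d * (m.1 * m.1)) * r = 1 := ⟨_, mul_inv_cancel₀ c⟩
      simp only [div_eq_mul_inv, ← eq_inv_of_mul_eq_one_right hr]
      linear_combination ((1 + d * (m.1 * m.1)) * r + 1) * hr⟩
  have hψ : Function.Injective ψ := fun a b e => by
    refine Subtype.ext ?_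
    have key : ∀ m : K, 1 + d * (m * m) ≠ 0 → (1 - d * (m * m)) / (1 + d * (m * m)) ≠ -1 :=
      fun m hm e => h2 (by rw [div_eq_iff hm] at e; linear_combination e)
    by_cases ca : 1 + d * (a.1 * a.1) = 0 <;> by_cases cb : 1 + d * (b.1 * b.1) = 0
    · rw [(hm0 _ ca).resolve_left a.2, (hm0 _ cb).resolve_left b.2]
    · simp only [ψ, dif_pos ca, dif_neg cb] at e
      exact absurd (congrArg (fun p : P => p.1.1) e).symm (key _ cb)
    · simp only [ψ, dif_neg ca, dif_pos cb] at e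
      exact absurd (congrArg (fun p : P => p.1.1) e) (key _ ca)
    · simp only [ψ, dif_neg ca, dif_neg cb] at e
      have e1 : (1 - d * (a.1 * a.1)) / (1 + d * (a.1 * a.1)) =
        (1 - d * (b.1 * b.1)) / (1 + d * (b.1 * b.1)) := congrArg (fun p : P => p.1.1) e
      have e2 : 2 * a.1 / (1 + d * (a.1 * a.1)) = 2 * b.1 / (1 + d * (b.1 * b.1)) :=
        congrArg (fun p : P => p.1.2) e
      rw [div_eq_div_iff ca cb] at e1 e2
      have e3 : 1 + d * (a.1 * a.1) = 1 + d * (b.1 * b.1) :=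
        mul_left_cancel₀ h2 (by linear_combination -e1)
      rw [e3] at e2
      exact mul_left_cancel₀ h2 (mul_right_cancel₀ cb e2)
  have := Nat.card_le_card_of_injective _ (hφ.comp hψ)
  rwa [Nat.card_eq_fintype_card, Fintype.card_subtype_compl, Fintype.card_subtype_eq] at this

end AUx

open AUx H20.P4 H20.P4.PAUx

/-! ### AU -/
section
variable {K : Type} [Field K] [Fintype K]
theorem cp2 (hK : Odd (Fintype.card K)) (e : G0 ≃* PSL(2, K)) (hg : g ∈ G0) (g1 : g ≠ 1)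
    (h1 : M ≤ G0) (h2 : M ≤ C{g}) (h3 : ⁅M, M⁆ = M) : M = ⊥ := by
  obtain ⟨δ, hr, hδ⟩ := exists_δ e
  obtain ⟨a, rfl⟩ := hr.ge hg
  refine perf_bot δ (h := a.1) (fun h => g1 ((hδ a).2 (sc_sl h))) (fun m hm => ?_) h3
  obtain ⟨b, rfl⟩ := hr.ge (h1 hm)
  have := mem_centralizer_singleton_iff.1 (h2 hm)
  rw [← map_mul, ← map_mul, δ_eq hδ] at this
  exact ⟨b, rfl, this.imp (congrArg Subtype.val) (congrArg Subtype.val)⟩
theorem sl2_inv (hK : Odd (Fintype.card K)) (κ : SL(2, K) →* G) (hκ : Function.Injective κ)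
    (hg : g ∈ κ.range) (g2 : g * g = 1) (g1 : g ≠ 1) : g = κ (-1) := by
  obtain ⟨a, rfl⟩ := hg
  rcases inv_eq (hκ (by rw [map_mul, g2, map_one]) : a * a = 1)
    (H7.two_ne_zero_of_odd_card hK) with rfl | rfl
  · exact absurd (map_one κ) g1
  · rfl
theorem sl2_q8 (hK : Odd (Fintype.card K)) (κ : SL(2, K) →* G) (hκ : Function.Injective κ) :
    ∃ i ∈ κ.range, ∃ j ∈ κ.range, i * i = κ (-1) ∧ j * j = κ (-1) ∧ i * j = κ (-1) * (j * i) ∧
      κ (-1) ≠ 1 ∧ κ (-1) * κ (-1) = 1 := by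
  obtain ⟨i, j, hi, hj, hij, -⟩ := q8 (RingEquiv.refl K)
  refine ⟨_, ⟨i, rfl⟩, _, ⟨j, rfl⟩, by rw [← map_mul, hi], by rw [← map_mul, hj], ?_, ?_, ?_⟩
  · rw [← map_mul, ← map_mul, ← map_mul, hij, neg_one_mul]
  · rw [← map_one κ]
    exact fun e => neg_ne (H7.two_ne_zero_of_odd_card hK) (hκ e)
  · rw [← map_mul, neg_mul_neg, one_mul, map_one]
theorem sl2_pf (hK : Odd (Fintype.card K)) (h5 : 5 ≤ Fintype.card K) (κ : SL(2, K) →* G) :
    ⁅κ.range, κ.range⁆ = κ.range := by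
  have : ⁅(⊤ : Subgroup SL(2, K)), (⊤ : Subgroup SL(2, K))⁆ = ⊤ := perf (by omega)
  rw [MonoidHom.range_eq_map, ← map_commutator, this]
theorem sl2_nml (hK : Odd (Fintype.card K)) (h5 : 5 ≤ Fintype.card K) (κ : SL(2, K) →* G)
    (hκ : Function.Injective κ) (h1 : M ≤ κ.range) (h2 : κ.range ≤ N[M]) (h3 : ♯M = 120) :
    Fintype.card K = 5 := by
  have : IsSimpleGroup (SL(2, K) ⧸ center SL(2, K)) :=
    Matrix.ProjectiveSpecialLinearGroup.rank_two_simple (by rw [Nat.card_eq_fintype_card]; omega)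
  have hn : (M.comap κ).Normal := ⟨fun a ha b => by
    rw [mem_comap, map_mul, map_mul, map_inv]
    exact (mem_normalizer_iff.1 (h2 ⟨b, rfl⟩) _).1 ha⟩
  have hc : ♯(M.comap κ) = 120 := by
    rw [← card_map_of_injective hκ, map_comap_eq_self h1, h3]
  rcases (hn.map _ (QuotientGroup.mk'_surjective (center SL(2, K)))).eq_bot_or_eq_top with h | h
  · exfalso
    have h4 : ((M.comap κ : Subgroup SL(2, K)) : Set SL(2, K)) ⊆ {1, -1} := fun a ha => by
      have h5 : QuotientGroup.mk' (center SL(2, K)) a ∈ (⊥ : Subgroup _) := h ▸ mem_map_of_mem _ ha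
      exact (center_iff a).1 ((QuotientGroup.eq_one_iff a).1 h5)
    have h6 := (Set.ncard_le_ncard h4).trans (Set.ncard_insert_le _ _)
    rw [Set.ncard_singleton, ← Nat.card_coe_set_eq] at h6
    change ♯(M.comap κ) ≤ _ at h6
    omega
  · have key : ∀ x : SL(2, K), ∃ a ∈ M.comap κ, x = a ∨ x = -a := fun x => by
      obtain ⟨a, ha, e⟩ : QuotientGroup.mk' (center SL(2, K)) x ∈ _ := h.ge (mem_top _)
      have h5 := (center_iff _).1 (QuotientGroup.eq.1 e)
      rw [inv_mul_eq_one, inv_mul_eq_iff_eq_mul, mul_neg_one] at h5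
      exact ⟨a, ha, h5.imp_left Eq.symm⟩
    have h7 : M.comap κ = ⊤ := top_le_iff.1 ((perf (K := K) (by omega)).ge.trans
      (commutator_le.2 fun x _ y _ => by
        obtain ⟨a, ha, ea⟩ := key x
        obtain ⟨b, hb, eb⟩ := key y
        have : ⁅x, y⁆ = ⁅a, b⁆ := by
          rcases ea with rfl | rfl <;> rcases eb with rfl | rfl <;>
            simp [commutatorElement_def, inv_neg]
        rw [this, commutatorElement_def]
        exact mul_mem (mul_mem (mul_mem ha hb) (inv_mem ha)) (inv_mem hb)))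
    rw [h7, card_top, H7.card_sl_two rfl] at hc
    generalize Fintype.card K = q at *
    by_contra h8
    have h9 : 6 ≤ q := by omega
    have : 6 * (6 ^ 2 - 1) ≤ q * (q ^ 2 - 1) :=
      Nat.mul_le_mul h9 (Nat.sub_le_sub_right (Nat.pow_le_pow_left h9 2) 1)
    omega
theorem sl2_lin (hK : Odd (Fintype.card K)) (h5 : 5 ≤ Fintype.card K) (κ : SL(2, K) →* G)
    (hκ : Function.Injective κ) (ht : t ∈ N[κ.range]) (tt : t * t = 1)
    (h1 : ¬ Q8 (κ.range ⊓ C{t})) :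
    Abl (κ.range ⊓ C{t}) ∧ Fintype.card K - 1 ≤ ♯(κ.range ⊓ C{t} : Subgroup G) := by
  obtain ⟨h, d0, t0, hn, H⟩ := exists_lin hK h5 κ hκ ht tt h1
  have e : κ.range ⊓ C{t} = (Cm h).map κ := by
    ext x
    rw [mem_inf, mem_centralizer_singleton_iff]
    constructor
    · rintro ⟨⟨a, rfl⟩, ha⟩
      exact ⟨a, (H a a).1 (eq_mul_inv_iff_mul_eq.2 ha), rfl⟩
    · rintro ⟨a, ha, rfl⟩
      exact ⟨⟨a, rfl⟩, eq_mul_inv_iff_mul_eq.1 ((H a a).2 ha)⟩
  rw [e, card_map_of_injective hκ]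
  refine ⟨⟨⟨?_⟩⟩, card_Cm (H7.two_ne_zero_of_odd_card hK) d0 t0 hn⟩
  rintro ⟨_, a, ha, rfl⟩ ⟨_, b, hb, rfl⟩
  have : a * b = b * a := Subtype.ext (comm_comm hn ha hb)
  exact Subtype.ext (by
    change κ a * κ b = κ b * κ a
    rw [← map_mul, this, map_mul])
theorem sl2_same (hK : Odd (Fintype.card K)) (h5 : 5 ≤ Fintype.card K) (κ : SL(2, K) →* G)
    (hκ : Function.Injective κ) (ht : t ∈ N[κ.range]) (tt : t * t = 1)
    (h1 : ¬ Q8 (κ.range ⊓ C{t})) (hu : u ∈ N[κ.range]) (uu : u * u = 1)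
    (h2 : ¬ Q8 (κ.range ⊓ C{u})) (hg : g ∈ κ.range) (g2 : g * g ≠ 1) (gt : g * t = t * g)
    (gu : g * u = u * g) : t * u ∈ C[κ.range] := by
  have h0 := H7.two_ne_zero_of_odd_card hK
  obtain ⟨h, d0, t0, hn, H⟩ := exists_lin hK h5 κ hκ ht tt h1
  obtain ⟨h', d0', t0', hn', H'⟩ := exists_lin hK h5 κ hκ hu uu h2
  obtain ⟨a, rfl⟩ := hg
  have e1 := (H a a).1 (eq_mul_inv_iff_mul_eq.2 gt)
  have e2 := (H' a a).1 (eq_mul_inv_iff_mul_eq.2 gu)
  have an : ¬ Sc a.1 := fun hs => g2 (by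
    rcases sc_sl hs with rfl | rfl
    · rw [map_one, one_mul]
    · rw [← map_mul, neg_mul_neg, one_mul, map_one])
  obtain ⟨x, y, e⟩ := comm_gen hn (comm_comm an e2.symm e1.symm)
  have hx : x = 0 := by
    rw [e, Matrix.trace_add, Matrix.trace_smul, Matrix.trace_smul, t0] at t0'
    simpa [h0] using t0'
  rw [hx, zero_smul, zero_add] at e
  have y0 : y ≠ 0 := fun y0 => hn' ⟨0, by rw [e, y0, zero_smul, zero_smul]⟩
  rw [mem_centralizer_iff]
  rintro _ ⟨b, rfl⟩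
  obtain ⟨c, hc⟩ := (mem_normalizer_iff.1 hu _).1 ⟨b, rfl⟩
  have e3 := (H' b c).1 hc
  rw [e, mul_smul_comm, smul_mul_assoc] at e3
  have e4 := (H b c).2 (smul_right_injective _ y0 e3)
  rw [hc] at e4
  have e5 : t⁻¹ = t := inv_eq_of_mul_eq_one_right tt
  calc κ b * (t * u) = t * (t * κ b * t⁻¹) * u := by
        rw [e5, ← mul_assoc, ← mul_assoc, ← mul_assoc, tt, one_mul]
    _ = t * u * κ b := by rw [← e4]; group
end


end H23.L2
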