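import Mathlib
import Cfsg.Agent.H23.LDefs
import Cfsg.Agent.H23.AU

set_option autoImplicit false
set_option linter.unusedVariables false
set_option linter.unusedSectionVars false

namespace H23.L2

open Cfsg H24 Subgroup
open H2.SZ (St DD Goal)
open scoped MatrixGroups commutatorElement

universe u

variable {G : Type u} [Group G] [Finite G] {F : Type*} [Field F] [Fintype F]
  {L G0 D T B R Q S S1 A P N M H : Subgroup G} {t f g i j ρ z u : G} {X : LD F L} {n : ℕ}
  {π s : G → F}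

namespace AU2x

open Matrix H20.P4 H20.P4.PAUx AUx

variable {K : Type} [Field K]

/-- the fixed field -/
abbrev K0 (σ : K ≃+* K) : Subfield K := (σ : K →+* K).eqLocusField (RingHom.id K)

theorem card_sq (h2 : (2 : K) ≠ 0) {σ : K ≃+* K} (h1 : ∀ x, σ (σ x) = x) {x : K} (hx : σ x ≠ x) :
    Nat.card K = Nat.card (K0 σ) * Nat.card (K0 σ) := by
  have hd : σ (x - σ x) = -(x - σ x) := by rw [map_sub, h1]; ring
  have hd0 : x - σ x ≠ 0 := sub_ne_zero.2 hx.symm
  generalize x - σ x = d at hd hd0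
  rw [← Nat.card_prod]
  refine (Nat.card_congr (Equiv.ofBijective (fun p : K0 σ × K0 σ => p.1.1 + p.2.1 * d)
    ⟨fun p r e => ?_, fun y => ?_⟩)).symm
  · have e1 : p.1.1 + p.2.1 * d = r.1.1 + r.2.1 * d := e
    have e2 := congrArg σ e1
    have a1 : σ p.1.1 = p.1.1 := p.1.2
    have a2 : σ p.2.1 = p.2.1 := p.2.2
    have a3 : σ r.1.1 = r.1.1 := r.1.2
    have a4 : σ r.2.1 = r.2.1 := r.2.2
    rw [map_add, map_add, map_mul, map_mul, a1, a2, a3, a4, hd] at e2
    have e3 : p.1.1 = r.1.1 := mul_left_cancel₀ h2 (by linear_combination e1 + e2)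
    exact Prod.ext (Subtype.ext e3) (Subtype.ext (mul_right_cancel₀ hd0 (by
      linear_combination e1 - e3)))
  · refine ⟨(⟨(y + σ y) / 2, ?_⟩, ⟨(y - σ y) / (2 * d), ?_⟩), ?_⟩
    · change σ _ = (y + σ y) / 2
      rw [map_div₀, map_add, h1, map_ofNat, add_comm]
    · change σ _ = (y - σ y) / (2 * d)
      rw [map_div₀, map_sub, h1, map_mul, map_ofNat, hd]
      field_simp
      ring
    · change (y + σ y) / 2 + (y - σ y) / (2 * d) * d = y
      field_simp
      ring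

theorem card_fix {α : MulAut SL(2, K)} {σ : K ≃+* K} {g : GL (Fin 2) K}
    (H : ∀ a b : SL(2, K), a.1 * g.1 = g.1 * b.1 → (α a = a ↔ b.1.map σ = b.1)) :
    ♯(α.toMonoidHom.eqLocus (MonoidHom.id _)) = Nat.card SL(2, K0 σ) := by
  have gu : IsUnit g.1 := g.isUnit
  refine (Nat.card_congr (Equiv.ofBijective (fun b : SL(2, K0 σ) =>
    (⟨cg g (Matrix.SpecialLinearGroup.map (K0 σ).subtype b), (H _ _ (cg_spec g _)).2 (by
      ext i j; exact (b.1 i j).2)⟩ : α.toMonoidHom.eqLocus (MonoidHom.id _)))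
    ⟨fun b c e => ?_, fun a => ?_⟩)).symm
  · have e1 : cg g (Matrix.SpecialLinearGroup.map (K0 σ).subtype b) =
      cg g (Matrix.SpecialLinearGroup.map (K0 σ).subtype c) := congrArg Subtype.val e
    have e2 := cg_spec g (Matrix.SpecialLinearGroup.map (K0 σ).subtype b)
    rw [e1, cg_spec] at e2
    have e3 := gu.mul_left_cancel e2
    refine Subtype.ext ?_
    ext i j
    exact (congrFun (congrFun e3 i) j).symm
  · have e1 : a.1.1 * g.1 = g.1 * (cg g⁻¹ a.1).1 := by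
      change _ = g.1 * ((g⁻¹).1 * a.1.1 * (g⁻¹⁻¹).1)
      rw [inv_inv, ← mul_assoc, ← mul_assoc, ← Units.val_mul, mul_inv_cancel, Units.val_one, one_mul]
    have e2 := (H _ _ e1).1 a.2
    generalize cg g⁻¹ a.1 = b at e1 e2
    refine ⟨⟨Matrix.of fun i j => ⟨b.1 i j, congrFun (congrFun e2 i) j⟩, Subtype.ext ?_⟩,
      Subtype.ext (Subtype.ext (gu.mul_right_cancel ?_))⟩
    · have := b.2
      rw [det_fin_two] at this ⊢
      exact this
    · rw [e1]
      exact cg_spec g _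

theorem card_comap (h2 : (2 : K) ≠ 0) {G : Type*} [Group G] (δ : SL(2, K) →* G)
    (hδ : ∀ a, δ a = 1 ↔ a = 1 ∨ a = -1) (C : Subgroup G) :
    ♯(C.comap δ) = 2 * ♯(δ.range ⊓ C : Subgroup G) := by
  have h1 : δ.ker ≤ C.comap δ := fun a ha => by
    rw [mem_comap, MonoidHom.mem_ker.1 ha]; exact one_mem _
  have o2 : orderOf (-1 : SL(2, K)) = 2 := orderOf_eq_prime (by simp) (neg_ne h2)
  have h3 : δ.ker = zpowers (-1) := le_antisymm (fun a ha => by
    rcases (hδ a).1 ha with rfl | rfl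
    · exact one_mem _
    · exact mem_zpowers _) (zpowers_le.2 ((hδ _).2 (Or.inr rfl)))
  have h4 := (δ.ker.subgroupOf (C.comap δ)).card_mul_index
  rw [Nat.card_congr (subgroupOfEquivOfLe h1).toEquiv] at h4
  change _ * δ.ker.relIndex _ = _ at h4
  rw [relIndex_ker, map_comap_eq, h3, Nat.card_zpowers, o2] at h4
  exact h4.symm

end AU2x

open AUx AU2x H20.P4 H20.P4.PAUx

/-! ### AU2 -/
theorem id2 {K : Type} [Field K] [Fintype K] (hK : Odd (Fintype.card K))
    (h5 : 5 ≤ Fintype.card K) (e : G0 ≃* PSL(2, K)) (ht : t ∈ N[G0]) (tt : t * t = 1)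
    (hc : ♯(G0 ⊓ C{t} : Subgroup G) = 120) (h1 : M ≤ G0 ⊓ C{t}) (h2 : ⁅M, M⁆ = M) (h3 : M ≠ ⊥) :
    Fintype.card K = 25 := by
  have h0 := H7.two_ne_zero_of_odd_card hK
  obtain ⟨δ, hr, hδ⟩ := exists_δ e
  obtain ⟨α, hα⟩ := aut_lift hK h5 δ hδ t fun a => by
    obtain ⟨b, hb⟩ := hr.ge ((mem_normalizer_iff.1 ht _).1 (hr.le ⟨a, rfl⟩))
    exact ⟨b, hb.symm⟩
  have a2 : ∀ a, α (α a) = a := pm_eq h5 (α * α).toMonoidHom fun a => (δ_eq hδ).1 (by
    change δ (α (α a)) = _
    rw [← hα, ← hα, ← mul_assoc, ← mul_assoc, tt, one_mul, mul_assoc, ← mul_inv_rev, tt, inv_one,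
      mul_one])
  have hm : ∀ a, a ∈ C{t}.comap δ ↔ α a = a ∨ α a = -a := fun a => by
    rw [mem_comap, mem_centralizer_singleton_iff, ← δ_eq hδ, ← hα, mul_inv_eq_iff_eq_mul, eq_comm]
  have c240 : ♯(C{t}.comap δ) = 240 := by rw [card_comap h0 δ hδ, hr, hc]
  rcases inv_class hK h5 α a2 with rfl | ⟨h, -, -, hn, H⟩ | ⟨σ, x, g, s2, hx, H⟩
  · exfalso
    have h7 : C{t}.comap δ = ⊤ := top_le_iff.1 fun a _ => (hm a).2 (Or.inl rfl)
    rw [h7, card_top, H7.card_sl_two rfl] at c240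
    generalize Fintype.card K = q at *
    by_cases h9 : 7 ≤ q
    · have : 7 * (7 ^ 2 - 1) ≤ q * (q ^ 2 - 1) :=
        Nat.mul_le_mul h9 (Nat.sub_le_sub_right (Nat.pow_le_pow_left h9 2) 1)
      omega
    · interval_cases q <;> omega
  · refine absurd (perf_bot δ hn (fun m hm' => ?_) h2) h3
    obtain ⟨b, rfl⟩ := hr.ge (mem_inf.1 (h1 hm')).1
    refine ⟨b, rfl, ?_⟩
    have := H b
    rcases (hm b).1 (mem_inf.1 (h1 hm')).2 with e1 | e1 <;> rw [e1] at this
    · exact Or.inl this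
    · exact Or.inr (by rw [← this, neg_val, neg_mul, neg_neg])
  · have := Fintype.ofFinite (K0 σ)
    have c1 := card_fix H
    have hneg : ∀ a, α (-a) = -α a := fun a => by
      have : α (-1) = -1 := (inv_eq (by rw [← map_mul, neg_mul_neg, one_mul, map_one]) h0).resolve_left
        fun e => neg_ne h0 (α.injective (e.trans (map_one α).symm))
      rw [← neg_one_mul, map_mul, this, neg_one_mul]
    set Hp := α.toMonoidHom.eqLocus (MonoidHom.id _) with hHp
    have hp : ∀ a, a ∈ Hp ↔ α a = a := fun a => Iff.rfl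
    have l1 : Hp ≤ C{t}.comap δ := fun a ha => (hm a).2 (Or.inl ha)
    have l2 : Hp.relIndex (C{t}.comap δ) ∣ 2 := relIndex_dvd_two_iff.2 (by
      by_cases c : ∃ a, α a = -a
      · obtain ⟨a, ha⟩ := c
        refine ⟨a, (hm a).2 (Or.inr ha), fun b hb => ?_⟩
        rcases (hm b).1 hb with e1 | e1
        · exact Or.inr e1
        · exact Or.inl ((hp _).2 (by rw [map_mul, e1, ha, neg_mul_neg]))
      · exact ⟨1, one_mem _, fun b hb => Or.inr (((hm b).1 hb).resolve_right fun e => c ⟨b, e⟩)⟩)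
    have h4 := (Hp.subgroupOf (C{t}.comap δ)).card_mul_index
    rw [Nat.card_congr (subgroupOfEquivOfLe l1).toEquiv, c240, c1, H7.card_sl_two rfl] at h4
    change _ * Hp.relIndex _ = _ at h4
    have h6 := card_sq h0 s2 hx
    rw [Nat.card_eq_fintype_card, Nat.card_eq_fintype_card] at h6
    rw [h6]
    generalize Fintype.card (K0 σ) = q at *
    have h8 : q * (q ^ 2 - 1) = 240 ∨ q * (q ^ 2 - 1) = 120 := by
      rcases (Nat.dvd_prime Nat.prime_two).1 l2 with e1 | e1 <;> rw [e1] at h4 <;> omega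
    by_cases h9 : 7 ≤ q
    · have : 7 * (7 ^ 2 - 1) ≤ q * (q ^ 2 - 1) :=
        Nat.mul_le_mul h9 (Nat.sub_le_sub_right (Nat.pow_le_pow_left h9 2) 1)
      omega
    · push Not at h9
      interval_cases q <;> omega


end H23.L2
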