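import Mathlib
import Cfsg.Agent.H23.LDefs
import Cfsg.Agent.H12.M3a

set_option autoImplicit false
set_option linter.unusedVariables false
set_option linter.unusedSectionVars false

namespace H23.L2

open Cfsg H24 Subgroup
open H2.SZ (St DD Goal)
open scoped MatrixGroups commutatorElement

universe u

variable {G : Type u} [Group G] [Finite G] {F : Type*} [Field F] [Fintype F]
  {L G0 D T B R Q S S1 A P N M H : Subgroup G} {t f g i j ρ z u : G} {X : LD F L} {n : ℕ}
  {π s : G → F}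

/-! ### M3L -/
theorem m3_psl {K : Type} [Field K] [Fintype K] (hK : Odd (Fintype.card K))
    (e : G ≃* PSL(3, K)) (h5 : 5 ∣ Nat.card G) :
    M3 G (Fintype.card K) ∧ 5 ≤ Fintype.card K := by
  have h2 := H15.card_odd_iff.1 hK
  obtain ⟨h3, h4⟩ := H12.M3a.gen h2 (slToMat 3 K) (fun _ _ e => Subtype.ext e) (fun g => g.2)
    (H27.PR.bkSL K) (slToMat 2 K) (fun _ _ e => Subtype.ext e) (fun _ => rfl)
    (fun g A e => ⟨⟨A, by rw [← H27.PR.bk_det, ← e]; exact g.2⟩, rfl⟩)
    (c := ⟨!![0, 0, 1; 1, 0, 0; 0, 1, 0], by simp [Matrix.det_fin_three]⟩) rfl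
    (e.symm.surjective.comp (QuotientGroup.mk'_surjective _))
    (H12.M3a.k3 e (H7.card_center_sl (F := K) rfl 3 (by norm_num) ▸ Nat.gcd_dvd_left _ _))
    (y₀ := -1) rfl
  refine ⟨⟨K, _, _, _, rfl, h3, h4⟩, ?_⟩
  by_contra h6
  have h7 := Fintype.one_lt_card (α := K)
  have h8 := Nat.odd_iff.1 hK
  have h9 := H7.card_psl (F := K) (q := 3) (by omega) 3 (by norm_num)
  rw [← Nat.card_congr e.toEquiv] at h9
  simp [Fin.prod_univ_three] at h9
  omega


end H23.L2
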