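import Mathlib
import Cfsg.Agent.H23.LDefs
import Cfsg.Agent.H12.M3a

set_option autoImplicit false
set_option linter.unusedVariables false
set_option linter.unusedSectionVars false

namespace H23.L2

open Cfsg H24 Subgroup
open H2.SZ (St DD Goal)
open scoped MatrixGroups commutatorElement

universe u

variable {G : Type u} [Group G] [Finite G] {F : Type*} [Field F] [Fintype F]
  {L G0 D T B R Q S S1 A P N M H : Subgroup G} {t f g i j ρ z u : G} {X : LD F L} {n : ℕ}
  {π s : G → F}

/-! ### M3U -/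
theorem m3_psu {K : Type} [Field K] [Fintype K] {q : ℕ} (hq : Fintype.card K = q ^ 2) (ho : Odd q)
    (e : G ≃* PSU 3 K q) (h5 : 5 ∣ Nat.card G) : M3 G q ∧ 5 ≤ q := by
  have h2 := H15.card_odd_iff.1 (hq ▸ ho.pow)
  refine ⟨?_, ?_⟩
  · obtain ⟨p, k, hp, hch, hk0, rfl⟩ := H15.exists_char_pow hq
    have := Fact.mk hp
    have := Fintype.ofFinite (GaloisField p k)
    have hK : Fintype.card (GaloisField p k) = p ^ k := by
      rw [← Nat.card_eq_fintype_card, GaloisField.card p _ hk0.ne']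
    obtain ⟨e'⟩ := Cfsg.Agent.S0281.result hq hK
    have h2' := H15.card_odd_iff.1 (hK ▸ ho)
    have h6 : (e'.symm (-1)).1.1 = -1 := H7.sl2_involution_eq_neg_one h2 _ (fun h => by
      have h7 : (-1 : SL(2, GaloisField p k)) = 1 := by
        rw [← e'.apply_symm_apply (-1), show e'.symm (-1) = 1 from Subtype.ext h, map_one]
      have := congrFun (congrFun (congrArg Subtype.val h7) 0) 0
      simp at this
      exact h2' (by linear_combination -this)) (by
        rw [← Subgroup.coe_mul, ← map_mul, neg_mul_neg, mul_one, map_one]; rfl)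
    obtain ⟨h3, h4⟩ := H12.M3a.gen h2 (H27.PR.muU 3 K _) H27.PR.muU_inj (fun g => g.1.2)
      (H27.PR.bkSU hq) (H27.PR.muU 2 K _) H27.PR.muU_inj (fun _ => rfl)
      (fun g A e => ⟨H27.PR.mkU hq (H27.PR.xu_bk.1 (e ▸ H27.PR.xu_mu hq g)), rfl⟩)
      (c := H27.PR.mkU hq H27.PR.xu_cy) rfl
      (e.symm.surjective.comp (QuotientGroup.mk'_surjective _))
      (H12.M3a.k3 e (H7.card_center_su hq 3 (by norm_num) ▸ Nat.gcd_dvd_left _ _))
      (y₀ := e'.symm (-1)) h6
    generalize e.symm.toMonoidHom.comp (QuotientGroup.mk' (center (SU 3 K (p ^ k)))) = ψ at h3 h4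
    refine ⟨GaloisField p k, _, _, (ψ.comp (H27.PR.bkSU hq)).comp e'.symm.toMonoidHom, hK,
      h3.comp e'.symm.injective, h4.trans ?_⟩
    rintro _ ⟨y, rfl⟩
    exact ⟨e' y, by simp⟩
  by_contra h6
  have h7 := H15.two_le_of_card_sq hq
  have h8 := Nat.odd_iff.1 ho
  obtain rfl : q = 3 := by omega
  have h9 := H7.card_psu hq 3 (by norm_num)
  rw [← Nat.card_congr e.toEquiv] at h9
  simp [Finset.prod_range_succ] at h9
  omega


end H23.L2
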