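import Mathlib
import Cfsg.Agent.H23.LDefs
import Cfsg.Agent.H23.LC
import Cfsg.Agent.H23.AU

set_option autoImplicit false
set_option linter.unusedVariables false
set_option linter.unusedSectionVars false

namespace H23.L2

open Cfsg H24 Subgroup
open H2.SZ (St DD Goal)
open scoped MatrixGroups commutatorElement

universe u

variable {G : Type u} [Group G] [Finite G] {F : Type*} [Field F] [Fintype F]
  {L G0 D T B R Q S S1 A P N M H : Subgroup G} {t f g i j ρ z u : G} {X : LD F L} {n : ℕ}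
  {π s : G → F}

namespace RKbx

theorem card_le_two (hf : f ∈ A) (h : ∀ g ∈ A, g ∈ B ∨ g * f ∈ B) : ♯A ≤ 2 * ♯(A ⊓ B : Subgroup G) := by
  classical
  let e : A → (A ⊓ B : Subgroup G) × Bool := fun a =>
    if hb : (a : G) ∈ B then (⟨a, a.2, hb⟩, true)
    else (⟨a * f, mul_mem a.2 hf, (h a a.2).resolve_left hb⟩, false)
  have he : Function.Injective e := fun a b hab => by
    by_cases ha : (a : G) ∈ B <;> by_cases hb : (b : G) ∈ B <;> simp only [e, ha, hb, dite_true,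
      dite_false, Prod.mk.injEq, and_true] at hab
    · exact Subtype.ext (Subtype.mk.inj hab)
    · exact absurd hab.2 (by simp)
    · exact absurd hab.2 (by simp)
    · exact Subtype.ext (mul_right_cancel (congrArg Subtype.val hab))
  have := Nat.card_le_card_of_injective e he
  rwa [Nat.card_prod, Nat.card_eq_fintype_card (α := Bool), Fintype.card_bool, mul_comm] at this

theorem noQ (h : Lc X G0 t D T) (h4 : Fintype.card F = 4) : ¬ Q8 T := by
  rintro ⟨i, hi, j, hj, e1, e2, e3, e4⟩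
  have el := h.toSt2.el_E X
  rcases (h.T4 h4 hi fun e => e2 (el i e)).2.1 j hj with e | e
  · exact e2 (e1 ▸ el j e)
  · have k := el _ e
    have c : j * (i * i) = i * i * j := by rw [e1, mul_assoc]
    apply e2
    calc i * i = i * i * (i * i) * (i * i) := by rw [e3, one_mul]
      _ = i * i * (j * j) * (i * i) := by rw [← e1]
      _ = j * (i * i) * (j * i) * i := by rw [c]; simp only [mul_assoc]
      _ = j * (i * j) * i := by rw [e4, mul_assoc j]
      _ = 1 := by rw [← k]; simp only [mul_assoc]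

theorem q8_two (h : Q8 A) : ∃ P ≤ A, IsPi {2} P ∧ Q8 P := by
  obtain ⟨i, hi, j, hj, e1, e2, e3, e4⟩ := h
  have two : ∀ x : G, x * x * (x * x) = 1 → IsPi {2} (zpowers x) := fun x hx =>
    isPi_of_isPGroup Nat.prime_two (IsPGroup.of_card_dvd_pow (n := 2) (by
      rw [Nat.card_zpowers]
      exact orderOf_dvd_of_pow_eq_one (by rw [← hx, show 2 ^ 2 = 2 + 2 from rfl, pow_add, pow_two])))
  have hn : zpowers j ≤ N[zpowers i] := zpowers_le.2 (mem_N_of_cj_le (by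
    rw [cj_zpowers, zpowers_le]
    have : j * i * j⁻¹ = (i * i)⁻¹ * i := by
      rw [mul_inv_eq_iff_eq_mul, mul_assoc, e4, inv_mul_cancel_left]
    rw [this]
    exact mul_mem (inv_mem (mul_mem (mem_zpowers i) (mem_zpowers i))) (mem_zpowers i)))
  exact ⟨zpowers i ⊔ zpowers j, sup_le (zpowers_le.2 hi) (zpowers_le.2 hj),
    (two i e3).sup (two j (e1 ▸ e3)) hn, i, mem_sup_left (mem_zpowers i), j,
    mem_sup_right (mem_zpowers j), e1, e2, e3, e4⟩

theorem q8_conj (h : Q8 A) (hg : ∀ a ∈ A, g⁻¹ * a * g ∈ B) : Q8 B := by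
  obtain ⟨i, hi, j, hj, e1, e2, e3, e4⟩ := h
  have m : ∀ x y : G, g⁻¹ * x * g * (g⁻¹ * y * g) = g⁻¹ * (x * y) * g := fun x y => by group
  refine ⟨_, hg i hi, _, hg j hj, by rw [m, m, e1], fun e => e2 ?_, by rw [m, m, e3]; group,
    by rw [m, m, m, m, e4]⟩
  rw [m] at e
  have := congrArg (fun x => g * x * g⁻¹) e
  simpa [mul_assoc] using this

theorem noQ' (h : Lc X G0 t D T) (h4 : Fintype.card F = 4) (hu : DD t u) : ¬ Q8 (A ⊓ C{u}) := fun e => by
  obtain ⟨P, h1, h2, h3⟩ := q8_two e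
  obtain ⟨g, -, hg⟩ := h.toLb.toT hu h2 (h1.trans inf_le_right)
  exact noQ h h4 (q8_conj h3 hg)

theorem small (h : Lc X G0 t D T) (h4 : Fintype.card F = 4) (tG : t ∉ G0) (h1 : A ≤ T) (h2 : A ≤ G0)
    (h3 : Abl A) : ♯A ≤ 4 := by
  have hE : ∀ a ∈ A, a ∈ X.E t → a ∈ X.V := fun a ha e => by
    obtain ⟨b, rfl | rfl⟩ := (h.toSt2.mem_E X).1 e
    · exact X.z_V b
    · exact absurd ((mul_mem_cancel_right (h.le (X.z_mem b))).1 (h2 ha)) tG
  by_cases e : A ≤ X.E t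
  · exact (card_le_of_le fun a ha => hE a ha (e ha)).trans_eq (X.card_V.trans h4)
  · obtain ⟨f, hf, fE⟩ := SetLike.not_le_iff_exists.1 e
    obtain ⟨-, k1, k2, -⟩ := h.T4 h4 (h1 hf) fE
    have k3 : ♯(A ⊓ X.E t : Subgroup G) ≤ ♯(X.V ⊓ C{f} : Subgroup G) :=
      card_le_of_le fun a ha => ⟨hE a ha.1 ha.2, mem_C1.2 (h3.comm ha.1 hf)⟩
    have := card_le_two hf fun g hg => k1 g (h1 hg)
    omega

end RKbx

open RKbx

/-! ### RKb -/
theorem Lc.rk_m3 (h : Lc X G0 t D T) (h4 : Fintype.card F = 4) (tG : t ∉ G0)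
    (hS : Syl 2 ⊤ S) (TS : T ≤ S)
    (one : ∀ s ∈ G0, s * s = 1 → s ≠ 1 → ∃ g ∈ G0, s = g * X.z 1 * g⁻¹)
    (alt : S = T ∨ DD t (t * X.z 1)) {q : ℕ} (ho : Odd q) (h5 : 5 ≤ q) (m : M3 G0 q) :
    q = 5 := by
  obtain ⟨K, _, _, κ0, rfl, hκ0, hc⟩ := m
  obtain ⟨-, -, -, -, -, -, -, n1, n2⟩ := sl2_q8 ho κ0 hκ0
  obtain ⟨g, hg, eg⟩ := one (κ0 (-1)) (κ0 (-1)).2 (congrArg Subtype.val n2)
    fun e => n1 (Subtype.ext e)
  let κ : SL(2, K) →* G := (MulAut.conj g⁻¹).toMonoidHom.comp (G0.subtype.comp κ0)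
  have hκ : Function.Injective κ := (MulAut.conj g⁻¹).injective.comp (G0.subtype_injective.comp hκ0)
  have ka : ∀ a, κ a = g⁻¹ * κ0 a * g := fun a => by simp [κ]
  have kz : κ (-1) = X.z 1 := by rw [ka, eg]; group
  have nG : ∀ x, x ∈ N[G0] := fun x => by
    have := h.nrm
    rw [normalizer_eq_top]; exact mem_top x
  have KG : κ.range ≤ G0 := by
    rintro _ ⟨a, rfl⟩
    rw [ka]
    exact mul_mem (mul_mem (inv_mem hg) (κ0 a).2) hg
  have KC : κ.range ≤ C{X.z 1} := by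
    rintro _ ⟨a, rfl⟩
    rw [← kz, mem_C1, ← map_mul, ← map_mul]
    simp
  have hK : ⁅G0 ⊓ C{X.z 1}, G0 ⊓ C{X.z 1}⁆ = κ.range := by
    refine le_antisymm (commutator_le.2 fun x hx y hy => ?_)
      ((sl2_pf ho h5 κ).ge.trans (commutator_mono (le_inf KG KC) (le_inf KG KC)))
    have mem : ∀ x (hx : x ∈ G0 ⊓ C{X.z 1}), (⟨g * x * g⁻¹, mul_mem (mul_mem hg hx.1) (inv_mem hg)⟩ : G0) ∈
        C{κ0 (-1)} := fun x hx => mem_C1.2 (Subtype.ext (by
      have := mem_C1.1 hx.2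
      change g * x * g⁻¹ * κ0 (-1) = κ0 (-1) * (g * x * g⁻¹)
      rw [eg]
      calc _ = g * (x * X.z 1) * g⁻¹ := by group
        _ = _ := by rw [this]; group))
    obtain ⟨a, ha⟩ := hc (commutator_mem_commutator (mem x hx) (mem y hy))
    refine ⟨a, ?_⟩
    rw [ka, ha]
    simp only [commutatorElement_def, coe_mul, coe_inv]
    group
  have hN : C{X.z 1} ≤ N[κ.range] := by
    have : C{X.z 1} ≤ N[G0 ⊓ C{X.z 1}] := norm_inf (fun x _ => nG x) (norm_self _)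
    exact hK ▸ norm_comm this this
  rcases alt with rfl | alt
  · obtain ⟨i, hi, j, hj, e1, e2, e3, e4, e5⟩ := sl2_q8 ho κ hκ
    obtain ⟨P, -, h2, h3⟩ := q8_two (A := κ.range) ⟨i, hi, j, hj, e1.trans e2.symm, e1 ▸ e4, e1 ▸ e5, e1 ▸ e3⟩
    obtain ⟨c, -, hc⟩ := Sylow_Jsub Nat.prime_two hS h2 le_top
    exact absurd (q8_conj (g := c⁻¹) h3 fun a ha => by
      rw [inv_inv]; exact hc (conj_mem_cj c ha)) (noQ h h4)
  obtain ⟨ω, w0, w1, -⟩ := X.exists_ne 0 1 1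
  have du : DD t (t * X.z ω) := (h.toSt2.dz X one_ne_zero w0).2 alt
  have tz := h.toSt2.tz X
  have tN : t ∈ N[κ.range] := hN (mem_C1.2 (tz 1).symm)
  have q1 := noQ' (A := κ.range) h h4 (H2.SZ.DD.refl t)
  obtain ⟨l1, l2⟩ := sl2_lin ho h5 κ hκ tN h.tt q1
  by_cases hp : IsPi {2} (κ.range ⊓ C{t} : Subgroup G)
  · obtain ⟨c, -, hc⟩ := h.toLb.toT (H2.SZ.DD.refl t) hp inf_le_right
    have := small (A := cj c⁻¹ (κ.range ⊓ C{t})) h h4 tG (fun x hx => by
      obtain ⟨a, ha, rfl⟩ := mem_cj'.1 hx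
      rw [inv_inv]; exact hc a ha) (cj_le_of_mem_N (inf_le_left.trans KG) (nG _)) (l1.cj _)
    rw [card_cj] at this
    omega
  exfalso
  obtain ⟨p, pp, hd, p2⟩ : ∃ p, p.Prime ∧ p ∣ ♯(κ.range ⊓ C{t} : Subgroup G) ∧ p ≠ 2 := by
    by_contra e
    push Not at e
    exact hp fun p pp hd => e p pp hd
  have := Fact.mk pp
  obtain ⟨⟨x, xK, xt⟩, hx⟩ := exists_prime_orderOf_dvd_card' p hd
  have ox : orderOf x = p := (orderOf_mk _ _).symm.trans hx
  have xt' : x * t = t * x := mem_C1.1 xt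
  have xz : x * X.z 1 * x⁻¹ = X.z 1 := by rw [mem_C1.1 (KC xK), mul_inv_cancel_right]
  have xL := h.Ct x xt'
  have xV := X.TI xL one_ne_zero (by rw [xz]; exact X.z_V 1)
  have xφ : X.φ x = 1 := by
    by_contra e
    obtain ⟨r, hr⟩ := pp.odd_of_ne_two p2
    have k := X.φ_pow xL p
    rw [← ox, pow_orderOf_eq_one, X.φ_one, ox, hr, pow_succ, pow_mul, pow_two, aut_four h4 e e, one_pow,
      one_mul] at k
    exact e k.symm
  obtain ⟨c, -, hc⟩ := X.actV xL xV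
  have c1 : c = 1 := by
    have := X.z_inj ((hc 1).symm.trans xz)
    simpa using this
  have xv : x * X.z ω = X.z ω * x := by
    have := hc ω
    rw [c1, xφ, one_mul] at this
    exact mul_inv_eq_iff_eq_mul.1 this
  have uN : t * X.z ω ∈ N[κ.range] := mul_mem tN (hN (mem_C1.2 (X.z_comm _ _)))
  have uu : t * X.z ω * (t * X.z ω) = 1 := by
    rw [mul_assoc, ← mul_assoc (X.z ω), tz, mul_assoc, X.z_sq, mul_one, h.tt]
  have hv := sl2_same ho h5 κ hκ tN h.tt q1 uN uu (noQ' h h4 du) xK (fun e => p2 ((Nat.prime_dvd_prime_iff_eq pp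
      Nat.prime_two).1 (ox ▸ orderOf_dvd_of_pow_eq_one (by rw [pow_two, e])))) xt'
    (by rw [← mul_assoc, xt', mul_assoc, xv, mul_assoc])
  rw [← mul_assoc, h.tt, one_mul] at hv
  obtain ⟨k, hk⟩ := X.exists_h one_ne_zero w0
  have k1 : κ.range ≤ cj (X.h k) κ.range := by
    have k2 : κ.range ≤ cj (X.h k) (G0 ⊓ C{X.z 1}) := by
      rw [cj_inf, cj_C1, hk, cj_of_mem_N (nG _)]
      exact le_inf KG (mem_C_iff_le_C1.1 hv)
    refine (sl2_pf ho h5 κ).ge.trans ((commutator_mono k2 k2).trans ?_)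
    rw [← cj_comm, hK]
  have k3 : X.z ω ∈ κ.range := hk ▸ H24.conj_mem (mem_N_of_le_cj k1) (⟨-1, kz⟩ : X.z 1 ∈ κ.range)
  exact w1 (X.z_inj ((sl2_inv ho κ hκ k3 (X.z_sq ω) fun e => w0 (X.z_eq_one.1 e)).trans kz))

end H23.L2
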