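import Mathlib
import Cfsg.Agent.H23.LDefs
import Cfsg.Agent.H23.RKb
import Cfsg.Agent.H23.AU2
import Cfsg.Agent.H23.M3L
import Cfsg.Agent.H23.M3U
import Cfsg.Agent.H23.ABa
import Cfsg.Agent.H2.ZE
import Cfsg.Agent.H26.Coprime
import Cfsg.Agent.S0482
import Cfsg.Agent.S0434
import Cfsg.Agent.S0435

set_option autoImplicit false
set_option linter.unusedVariables false
set_option linter.unusedSectionVars false

namespace H23.L2

open Cfsg H24 Subgroup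
open H2.SZ (St DD Goal)
open scoped MatrixGroups commutatorElement

universe u

variable {G : Type u} [Group G] [Finite G] {F : Type*} [Field F] [Fintype F]
  {L G0 D T B R Q S S1 A P N M H : Subgroup G} {t f g i j ρ z u : G} {X : LD F L} {n : ℕ}
  {π s : G → F}

/-! ### RKa -/
namespace RKax

theorem el_cj (h : El A) (g : G) : El (cj g A) := fun x hx => by
  obtain ⟨y, hy, rfl⟩ := mem_cj'.1 hx
  calc _ = g * (y * y) * g⁻¹ := by group
    _ = 1 := by rw [h y hy]; group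

theorem coc (hA : El A) (hB : B ≤ A) (hf : f ∈ A) (h : A ≤ B ⊔ zpowers f) (hM : M ≤ A) :
    ♯M ≤ 2 * ♯(B ⊓ M : Subgroup G) := by
  have k : ∀ a ∈ A, a ∉ B → a * f ∈ B := fun a ha hn => by
    obtain ⟨b, hb, c, hc, rfl⟩ := (isProd_sup (hA.abl.norm (zpowers_le.2 hf) hB)).mul a (h ha)
    rcases (H2.SZ.mem_zp_inv (hA f hf)).1 hc with rfl | rfl
    · exact (hn (by simpa using hb)).elim
    · rwa [mul_assoc, hA _ hf, mul_one]
  refine ABax.idx2 fun a ha b hb a1 b1 => ?_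
  have e : a * b = a * f * (b * f) := by
    rw [hA.abl.comm (hM hb) hf, mul_assoc, ← mul_assoc f, hA f hf, one_mul]
  rw [e]
  exact mul_mem (k a (hM ha) a1) (k b (hM hb) b1)

/-- an elementary abelian group of order `8` is not faithful on a group of order `9` -/
theorem e8 (hA : El A) (h8 : ♯A = 8) (hP : IsPi {3} P) (h9 : ♯P = 9) (hn : A ≤ N[P]) :
    A ⊓ C[P] ≠ ⊥ := fun h0 => by
  have hc : (♯P).Coprime ♯A := by rw [h8, h9]; norm_num
  have k : ∀ Y, ¬ P ≤ Y → ∃ B ≤ A, (∀ M ≤ A, ♯M ≤ 2 * ♯(B ⊓ M : Subgroup G)) ∧ ¬ P ⊓ C[B] ≤ Y :=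
    fun Y hY => by
      by_contra hne
      push Not at hne
      exact hY (H26.coprime_abelian_gen_cent hA.abl hn hc fun B hB ⟨a, ha, e⟩ =>
        hne B hB fun M hM => coc hA hB ha e hM)
  have nt : ∀ B ≤ A, P ≤ C[B] → ♯B = 1 := fun B hB e =>
    card_eq_one.2 (eq_bot_of_le h0 (le_inf hB (cents_symm e)))
  obtain ⟨B1, h1, c1, n1⟩ := k ⊥ fun e => by rw [le_bot_iff.1 e, card_bot] at h9; omega
  have c1' := c1 A le_rfl
  rw [inf_eq_left.2 h1, h8] at c1'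
  obtain ⟨B2, h2, c2, n2⟩ := k (P ⊓ C[B1]) fun e => by
    have := nt B1 h1 (e.trans inf_le_right)
    omega
  have c2' := c2 B1 h1
  have l1 : P ⊓ C[B1] < P ⊓ C[B2 ⊓ B1] := lt_of_le_of_ne (inf_le_inf_left _ (C_anti inf_le_right))
    fun e => n2 (e ▸ inf_le_inf_left _ (C_anti inf_le_left))
  have d1 : ♯(P ⊓ C[B1] : Subgroup G) ∣ 3 ^ 2 := (h9 ▸ card_dvd inf_le_left :)
  have d2 : ♯(P ⊓ C[B2 ⊓ B1] : Subgroup G) ∣ 3 ^ 2 := (h9 ▸ card_dvd inf_le_left :)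
  have l2 := card_lt l1
  have l3 := one_lt_card fun e => n1 (le_of_eq e)
  have e : P ⊓ C[B2 ⊓ B1] = P := by
    refine eq_of_card_eq inf_le_left ?_
    obtain ⟨i, hi, e1⟩ := (Nat.dvd_prime_pow Nat.prime_three).1 d1
    obtain ⟨j, hj, e2⟩ := (Nat.dvd_prime_pow Nat.prime_three).1 d2
    rw [e1] at l2 l3
    rw [e2] at l2 ⊢
    rw [h9]
    interval_cases i <;> interval_cases j <;> omega
  have := nt _ (inf_le_right.trans h1) (e.ge.trans inf_le_right)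
  omega

theorem fE (h : Lc X G0 t D T) (fo : X.Out f) : f ∉ X.E t := fun e => fo.ne (by
  obtain ⟨b, rfl | rfl⟩ := (h.toSt2.mem_E X).1 e
  · exact X.φ_L (X.z_mem b)
  · rw [X.φ_mul _ (C_le_N _ h.tC) _ (norm_self L (X.z_mem b)), X.φ_C h.tC, X.φ_L (X.z_mem b),
      mul_one])

theorem m11 (h : Lc X G0 t D T) (h4 : Fintype.card F = 4) (tG : t ∉ G0) (hf : f ∈ T)
    (fo : X.Out f) (hS : Syl 2 ⊤ S) (TS : T ≤ S) (alt : S = T ∨ DD t (t * X.z 1))
    (hM : IsM11 G0) : False := by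
  have := h.nrm
  have hN : ⊤ ≤ N[G0] := nml_top_iff.2 h.nrm |>.norm
  have c0 : ♯G0 = 7920 := hM.2
  have cT := (h.T4 h4 hf (fE h fo)).1
  have c32 : ∀ S, Syl 2 ⊤ S → ♯S = 32 := fun S hS => by
    obtain ⟨h1, -, h2⟩ := h.toSt2.syl0 hS
    obtain ⟨k, hk⟩ := h1.pi.card_eq_pow Nat.prime_two
    have h3 := h1.card
    have h5 : Odd ((S ⊓ G0).relIndex G0) := Nat.not_even_iff_odd.1 fun e => h1.idx 2 Nat.prime_two e.two_dvd rfl
    rw [h2 tG]
    rw [c0] at h3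
    rw [hk] at h3 ⊢
    have h6 : (2 ^ k * (S ⊓ G0).relIndex G0).factorization 2 = 4 := by
      rw [h3, show 7920 = 2 ^ 4 * 495 by norm_num, Nat.factorization_mul (by norm_num) (by norm_num),
        Nat.Prime.factorization_pow Nat.prime_two, Finsupp.add_apply,
        Nat.factorization_eq_zero_of_not_dvd (by norm_num)]
      simp
    rw [Nat.factorization_mul (by positivity) h5.pos.ne', Nat.Prime.factorization_pow Nat.prime_two,
      Finsupp.add_apply, Nat.factorization_eq_zero_of_not_dvd h5.not_two_dvd_nat] at h6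
    simp at h6
    rw [h6]; rfl
  have dd : DD t (t * X.z 1) := alt.resolve_left fun e => by
    have := c32 S hS
    rw [e] at this
    omega
  have : Fact (Nat.Prime 3) := ⟨Nat.prime_three⟩
  have c9 : ∀ P, Syl 3 G0 P → ♯P = 9 ∧ ♯(N[P] ⊓ G0 : Subgroup G) = 144 := fun P hP => by
    obtain ⟨P', rfl⟩ := hP.exists_sylow Nat.prime_three
    constructor
    · rw [card_map_of_injective G0.subtype_injective, Sylow.card_eq_multiplicity, c0]
      rw [show 7920 = 3 ^ 2 * 880 by norm_num, Nat.factorization_mul (by norm_num) (by norm_num),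
        Nat.Prime.factorization_pow Nat.prime_three, Finsupp.add_apply,
        Nat.factorization_eq_zero_of_not_dvd (by norm_num)]
      simp
    · rw [← Cfsg.Agent.S0434.result hM P', ← card_subgroupOf, subgroupOf_normalizer_eq
        (map_subtype_le _), subgroupOf, comap_map_eq_self_of_injective G0.subtype_injective]
  obtain ⟨P, hP, hSP⟩ : ∃ P, Syl 3 G0 P ∧ S ≤ N[P] := by
    obtain ⟨P, hP⟩ := Sylow_exists Nat.prime_three G0
    obtain ⟨S', hS'⟩ := Sylow_exists Nat.prime_two N[P]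
    have h1 := (Frattini_arg Nat.prime_three (nml_top_iff.2 h.nrm) hP).symm.relIndex_eq
    have h2 := card_inf_mul_relIndex N[P] G0
    rw [top_inf_eq] at h1
    rw [(c9 P hP).2, c0, ← h1] at h2
    have h3 : Syl 2 ⊤ S' := hS'.of_idx le_top (by
      rw [show N[P].relIndex ⊤ = 55 by omega]; exact fun p hp hd e => by rw [Set.mem_singleton_iff.1 e] at hd; omega)
    obtain ⟨g, -, hg⟩ := Sylow_subJ Nat.prime_two h3 hS.pi le_top
    exact ⟨cj g P, hP.cj_mem_N (hN (mem_top g)), hg.trans (cj_N g P ▸ cj_mono g hS'.le)⟩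
  have ES : X.E t ≤ S := h.E_T.trans TS
  have h1 := e8 (h.toSt2.el_E X) (by rw [h.toSt2.card_E X, h4]) hP.pi (c9 P hP).1 (ES.trans hSP)
  have h2 : S ⊓ C[P] ≠ ⊥ := fun e => h1 (eq_bot_of_le e (inf_le_inf_right _ ES))
  have h3 := IsPi.inf_C_ne_bot Nat.prime_two hS.pi (hS.pi.of_le inf_le_left)
    (norm_inf (norm_self S) (norm_C hSP)) h2
  obtain ⟨c, hc, c1⟩ := exists_ne_one h3
  have tS : t ∈ S := ES (X.t_E t)
  have ct : c * t = t * c := mem_C'.1 hc.2 t tS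
  have cE : c ∈ X.E t := h.two_E (C_anti ((X.V_E t).trans ES) hc.2) ct (hS.pi.piElt hc.1.1)
  have cc := h.toSt2.el_E X c cE
  obtain ⟨b, e | e⟩ := (h.toSt2.mem_E X).1 cE
  · have cG : c ∈ G0 := e ▸ h.le (X.z_mem b)
    have h5 := Cfsg.Agent.S0435.result hM ⟨c, cG⟩ (by
      rw [← Subgroup.orderOf_coe]
      exact orderOf_eq_prime (by rw [pow_two, cc]) c1)
    have h6 : P.subgroupOf G0 ≤ C{(⟨c, cG⟩ : G0)} := fun x hx =>
      mem_C1.2 (Subtype.ext (mem_C'.1 hc.1.2 x hx).symm)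
    have h7 := card_dvd h6
    rw [card_subgroupOf_of_le hP.le, (c9 P hP).1, h5] at h7
    omega
  · have h5 : DD t c := by
      by_cases hb : b = 0
      · rw [e, hb, X.z_zero, mul_one]; exact DD.refl t
      · exact e ▸ (h.toSt2.dz X one_ne_zero hb).2 dd
    have := h.toLb.card_le h5 hS.pi (mem_C_iff_le_C1.1 hc.2)
    rw [c32 S hS] at this
    omega

theorem c120 (h : Lc X G0 t D T) (h4 : Fintype.card F = 4) (tG : t ∉ G0) (hf : f ∈ T)
    (fG : f ∈ G0) (fo : X.Out f) (hD : D = ⊥) : ♯(G0 ⊓ C{t} : Subgroup G) = 120 := by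
  have hL : L ≤ G0 ⊓ C{t} := le_inf h.le (mem_C_iff_le_C1.1 h.tC)
  have nL : G0 ⊓ C{t} ≤ N[L] := fun g hg => h.Ct g (mem_C1.1 hg.2)
  have ker : ∀ g ∈ G0 ⊓ C{t}, X.φ g = 1 → g ∈ L := fun g hg e => by
    obtain ⟨l, hl, k, hk, rfl⟩ := (X.φ_ker g (nL hg)).1 e
    have h1 := (mul_mem_cancel_left (hL hl)).1 hg
    rcases h.dec k hk (mem_C1.1 h1.2) with e | e <;> rw [hD, mem_bot] at e
    · rwa [e, mul_one]
    · exact (tG (by rw [← inv_eq_of_mul_eq_one_right e]; exact inv_mem h1.1)).elim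
  have h1 : ♯(G0 ⊓ C{t} : Subgroup G) ≤ 2 * ♯(L ⊓ (G0 ⊓ C{t}) : Subgroup G) :=
    ABax.idx2 fun a ha b hb a1 b1 => ker _ (mul_mem ha hb) (by
      rw [X.φ_mul _ (nL ha) _ (nL hb)]
      exact aut_four h4 (fun e => a1 (ker a ha e)) fun e => b1 (ker b hb e))
  have h2 := card_lt (lt_of_le_of_ne hL fun e => fo.ne (X.φ_L (e ▸ ⟨fG, h.syl.le hf⟩)))
  obtain ⟨k, hk⟩ := card_dvd hL
  rw [inf_eq_left.2 hL] at h1
  rw [X.card, h4] at h1 h2 hk
  omega

end RKax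
open RKax

theorem Lc.rk2 (h : Lc X G0 t D T) (h4 : Fintype.card F = 4) (tG : t ∉ G0) (hf : f ∈ T)
    (fG : f ∈ G0) (fo : X.Out f) (hS : Syl 2 ⊤ S) (TS : T ≤ S)
    (rk : ∀ A ≤ S ⊓ G0, El A → ♯A ≤ 4)
    (one : ∀ s ∈ G0, s * s = 1 → s ≠ 1 → ∃ g ∈ G0, s = g * X.z 1 * g⁻¹)
    (alt : S = T ∨ DD t (t * X.z 1)) : Gl (Fintype.card F) G0 := by
  have := h.simple
  have h2 : PRankLE 2 2 G0 := fun A _ hA => by
    have el : El (A.map G0.subtype) := by
      rintro _ ⟨a, ha, rfl⟩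
      rw [← map_mul, ← pow_two, hA a ha, map_one]
    obtain ⟨l, -, hl⟩ := Sylow_Jsub Nat.prime_two (h.toSt2.syl0 hS).1 el.pi (map_subtype_le A)
    have := rk _ hl (el_cj el l)
    rwa [card_cj, card_map_of_injective G0.subtype_injective] at this
  have h5 : 5 ∣ Nat.card G0 := by
    refine dvd_trans ?_ (card_dvd h.le)
    rw [X.card, h4]; decide
  rcases Cfsg.Agent.S0482.result (G := G0) (fun e => X.nab (Abl.of_le e h.le)) h2 with
    ⟨K, _, _, hK, k5, ⟨e⟩⟩ | ⟨K, _, _, hK, ⟨e⟩⟩ | ⟨K, _, _, q, hq, ho, ⟨e⟩⟩ | ⟨K, _, _, hK, e⟩ | e | e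
  · have hD : D = ⊥ := by
      refine eq_bot_iff.2 fun d hd => by_contra fun d1 => X.z1 ?_
      have dG : d ∈ G0 := by
        obtain ⟨m, hm⟩ := H26.Gold.oddE_iff.1 (h.odd.piElt hd)
        have e : d ^ m * d ^ m * d = 1 := by
          rw [← pow_add, ← pow_succ, ← two_mul, ← hm, pow_orderOf_eq_one]
        rw [← inv_eq_of_mul_eq_one_right e]
        exact inv_mem (h.toSt2.sq _)
      exact mem_bot.1 (cp2 hK e dG d1 h.le (mem_C_iff_le_C1.1 (h.D_L hd)) X.pf ▸ X.z_mem 1)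
    have := id2 hK k5 e (nml_top_iff.2 h.nrm |>.norm (mem_top t)) h.tt (c120 h h4 tG hf fG fo hD)
      (le_inf h.le (mem_C_iff_le_C1.1 h.tC)) X.pf fun e => X.z1 (mem_bot.1 (e ▸ X.z_mem 1))
    exact .inr (.inl ⟨h4, .inr (.inr (.inr (.inl ⟨K, _, _, this, .inl ⟨e⟩⟩)))⟩)
  · obtain ⟨m, k5⟩ := m3_psl hK e h5
    exact .inr (.inl ⟨h4, .inr (.inr (.inr (.inr
      ⟨K, _, _, h.rk_m3 h4 tG hS TS one alt hK k5 m, ⟨e⟩⟩)))⟩)
  · obtain ⟨m, k5⟩ := m3_psu hq ho e h5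
    obtain rfl := h.rk_m3 h4 tG hS TS one alt ho k5 m
    exact .inr (.inl ⟨h4, .inr (.inr (.inr (.inl ⟨K, _, _, hq, .inr ⟨e⟩⟩)))⟩)
  · exact .inl (.inr (.inr (.inl ⟨K, _, _, H2.SZ.charP_of_card (n := 4) hK, 3, 4, hK, le_rfl,
      fun e => by omega, e⟩)))
  · exact .inr (.inl ⟨h4, .inr (.inr (.inl e))⟩)
  · exact (m11 h h4 tG hf fo hS TS alt e).elim

end H23.L2
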