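import Mathlib
import Cfsg.Agent.H23.LDefs
import Cfsg.Agent.H23.TH
import Cfsg.Agent.H23.RKa
import Cfsg.Agent.H23.ABa

set_option autoImplicit false
set_option linter.unusedVariables false
set_option linter.unusedSectionVars false

namespace H23.L2

open Cfsg H24 Subgroup
open H2.SZ (St DD Goal)
open scoped MatrixGroups commutatorElement

universe u

variable {G : Type u} [Group G] [Finite G] {F : Type*} [Field F] [Fintype F]
  {L G0 D T B R Q S S1 A P N M H : Subgroup G} {t f g i j ρ z u : G} {X : LD F L} {n : ℕ}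
  {π s : G → F}

/-! ### ABb -/
namespace ABbx

theorem φ_sq (h : X.Out f) : X.φ f * X.φ f = 1 := by rw [← X.φ_mul f h.nL f h.nL, h.sq, X.φ_one]

theorem mul_P (h : Th X G0 t D T B n π) (hf : f ∈ B ⊔ T) (ff : f * f = 1)
    (f1 : f ∉ B ⊔ zpowers t) (hg : g ∈ B ⊔ T) (gg : g * g = 1) (g1 : g ∉ B ⊔ zpowers t) :
    f * g ∈ B ⊔ zpowers t := by
  obtain ⟨-, -, a, ha, aT, ao⟩ := h.out hf ff f1
  obtain ⟨-, -, b, hb, bT, bo⟩ := h.out hg gg g1
  have h1 := mul_mem aT bT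
  have h2 : a * f * (b * g) ∈ X.E t := h.toLc.two_φ (h.toLb.T_V h1) (mem_C1.1 (h.syl.le h1))
    (h.syl.pi.piElt h1) (by
      rw [X.φ_mul _ ao.nL _ bo.nL, aut_two (φ_sq bo) (φ_sq ao) bo.ne ao.ne, φ_sq ao])
  have e : f * g = a⁻¹ * (a * f * b⁻¹ * (a * f)⁻¹) * (a * f * (b * g)) := by group
  rw [e]
  exact mul_mem (mem_sup_left (mul_mem (inv_mem ha) (H24.conj_mem (h.TB aT) (inv_mem hb))))
    (sup_le le_sup_right (h.V_B.trans le_sup_left) h2)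

theorem P_B (h : Th X G0 t D T B n π) (tG : t ∉ G0) (hf : f ∈ G0) (h1 : f ∈ B ⊔ zpowers t) :
    f ∈ B := (h.mem_P.1 h1).resolve_right fun e => tG ((mul_mem_cancel_right hf).1 (h.le_G0 e))

theorem mul_B (h : Th X G0 t D T B n π) (tG : t ∉ G0) (hf : f ∈ (B ⊔ T) ⊓ G0) (ff : f * f = 1)
    (f1 : f ∉ X.V) (hg : g ∈ (B ⊔ T) ⊓ G0) (gg : g * g = 1) (g1 : g ∉ X.V) : f * g ∈ B :=
  P_B h tG (mul_mem hf.2 hg.2) (mul_P h hf.1 ff (fun e => f1 (h.om f (P_B h tG hf.2 e) ff)) hg.1 gg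
    fun e => g1 (h.om g (P_B h tG hg.2 e) gg))

theorem idx (h : Th X G0 t D T B n π) (tG : t ∉ G0) (hA : A ≤ (B ⊔ T) ⊓ G0) (el : El A) :
    ♯A ≤ 2 * ♯(X.V ⊓ A : Subgroup G) := ABax.idx2 fun a ha b hb a1 b1 =>
  h.om _ (mul_B h tG (hA ha) (el a ha) a1 (hA hb) (el b hb) b1) (el _ (mul_mem ha hb))

theorem fix (h : Th X G0 t D T B n π) (tG : t ∉ G0) (hf : f ∈ (B ⊔ T) ⊓ G0) (ff : f * f = 1)
    (f1 : f ∉ X.V) : Fr B f ∧ ♯(X.V ⊓ C{f} : Subgroup G) ^ 2 = Fintype.card F ∧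
      ∃ b ∈ B, b * f ∈ T ∧ X.Out (b * f) :=
  h.out hf.1 ff fun e => f1 (h.om f (P_B h tG hf.2 e) ff)

theorem el_cj (h : El A) (g : G) : El (cj g A) := fun x hx => by
  obtain ⟨y, hy, rfl⟩ := mem_cj'.1 hx
  calc _ = g * (y * y) * g⁻¹ := by group
    _ = 1 := by rw [h y hy]; group

end ABbx
open ABbx

theorem Th.ab (h : Th X G0 t D T B n π) (h2 : 2 ≤ n) (hS : Syl 2 ⊤ (B ⊔ T)) (tG : t ∉ G0) :
    Gl (Fintype.card F) G0 := by
  have hP := (h.toSt2.syl0 hS).1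
  have BP : B ≤ (B ⊔ T) ⊓ G0 := le_inf le_sup_left h.le_G0
  have VP : X.V ≤ (B ⊔ T) ⊓ G0 := h.V_B.trans BP
  have h4 := X.four
  by_cases hsc : ∀ a ∈ X.V, ∀ g ∈ G0, g * a * g⁻¹ ∈ (B ⊔ T) ⊓ G0 → g * a * g⁻¹ ∈ X.V
  · refine .inl (gold2 h.toSt hP (le_trans ?_ (card_le BP)) VP X.el_V.abl
      (fun e => X.z1 (mem_bot.1 (e ▸ X.z_V 1))) hsc)
    rw [h.cardB]
    exact (Nat.pow_le_pow_left h4 2).trans (Nat.pow_le_pow_right (by omega) h2)
  have hq : Fintype.card F = 4 := by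
    by_contra hq
    refine hsc (sc2 hP VP X.el_V (inf_le_left.trans ((sup_le (norm_self B) h.TB).trans h.NV)) 2
      (fun g _ A' h1 h2 => ?_) fun g _ u h1 h2 h3 => ?_)
    · rw [inf_comm]
      exact idx h tG h2 fun a ha => el_cj X.el_V g a (h1 ha)
    · have h5 := (fix h tG h2 (el_cj X.el_V g u h1) h3).2.1
      rw [X.card_V]
      have : 4 < Fintype.card F := by omega
      by_contra h6
      have : ♯(X.V ⊓ C{u} : Subgroup G) ≤ 2 := by nlinarith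
      nlinarith
  push Not at hsc
  obtain ⟨_, ⟨c, rfl⟩, g, hg, hf, fV⟩ := hsc
  have ff := el_cj X.el_V g _ (conj_mem_cj g (X.z_V c))
  have c0 : c ≠ 0 := by
    rintro rfl
    exact fV (by rw [X.z_zero, mul_one, mul_inv_cancel]; exact one_mem _)
  have cz : ∀ c, c ≠ 0 → ∃ g ∈ G0, X.z c = g * X.z 1 * g⁻¹ := fun c hc => by
    obtain ⟨k, hk⟩ := X.exists_h one_ne_zero hc
    exact ⟨_, h.le (X.h_mem k), hk.symm⟩
  obtain ⟨k, hk, ek⟩ := cz c c0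
  have ef : g * X.z c * g⁻¹ = g * k * X.z 1 * (g * k)⁻¹ := by rw [ek]; group
  generalize g * X.z c * g⁻¹ = f at hf fV ff ef
  obtain ⟨fr, -, b, hb, bT, bo⟩ := fix h tG hf ff fV
  refine h.toLc.rk2 hq tG bT (mul_mem (h.le_G0 hb) hf.2) bo hS le_sup_right (fun A hA el => ?_)
    (fun s hs ss s1 => ?_) (.inr (h.dd 1))
  · by_cases hV : A ≤ X.V
    · exact (card_le hV).trans (by rw [X.card_V, hq])
    obtain ⟨u, hu, uV⟩ := SetLike.not_le_iff_exists.1 hV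
    have h5 := (fix h tG (hA hu) (el u hu) uV).2.1
    have h6 := idx h tG hA el
    have h7 : ♯(X.V ⊓ A : Subgroup G) ≤ ♯(X.V ⊓ C{u} : Subgroup G) :=
      card_le (inf_le_inf_left _ (el.abl.le_C.trans (C_le_C1 hu)))
    have : ♯(X.V ⊓ C{u} : Subgroup G) ≤ 2 := by nlinarith
    omega
  · have hel : El (zpowers s) := fun x hx => by
      obtain ⟨m, rfl⟩ := mem_zpowers_iff.1 hx
      rw [← (Commute.refl s).mul_zpow, ss, one_zpow]
    obtain ⟨l, hl, hle⟩ := Sylow_Jsub Nat.prime_two hP hel.pi (zpowers_le.2 hs)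
    have h5 := hle (conj_mem_cj l (mem_zpowers s))
    have h6 := el_cj hel l _ (conj_mem_cj l (mem_zpowers s))
    suffices ∃ m ∈ G0, l * s * l⁻¹ = m * X.z 1 * m⁻¹ by
      obtain ⟨m, hm, e⟩ := this
      refine ⟨l⁻¹ * m, mul_mem (inv_mem hl) hm, ?_⟩
      calc s = l⁻¹ * (l * s * l⁻¹) * l := by group
        _ = _ := by rw [e]; group
    have h7 : l * s * l⁻¹ ≠ 1 := fun e => s1 (by simpa using e)
    generalize l * s * l⁻¹ = u at h5 h6 h7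
    by_cases uV : u ∈ X.V
    · obtain ⟨d, rfl⟩ := uV
      exact cz d fun e => h7 (by rw [e, X.z_zero])
    · have e : f * (f * u) = u := by rw [← mul_assoc, ff, one_mul]
      obtain ⟨a, ha, ea⟩ := fr.2 _ (mul_B h tG hf ff fV h5 h6 uV) (by rw [e, h6])
      refine ⟨a * (g * k), mul_mem (h.le_G0 ha) (mul_mem hg hk), ?_⟩
      rw [← e, ea, ef]; group

end H23.L2
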