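import Mathlib
import Cfsg.Agent.H23.LDefs
import Cfsg.Agent.S0885
import Cfsg.Agent.H6.BaerSuzuki
import Cfsg.Agent.H14.PermMod
import Cfsg.Agent.H16.B71FL

set_option autoImplicit false
set_option linter.unusedVariables false
set_option linter.unusedSectionVars false

namespace H23.L2

open Cfsg H24 Subgroup
open H2.SZ (St DD Goal)
open scoped MatrixGroups commutatorElement

universe u

variable {G : Type u} [Group G] [Finite G] {F : Type*} [Field F] [Fintype F]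
  {L G0 D T B R Q S S1 A P N M H : Subgroup G} {t f g i j ρ z u : G} {X : LD F L} {n : ℕ}
  {π s : G → F}

namespace AFx

/-- the hypotheses, without translations -/
structure Hy (Y : Subgroup (Equiv.Perm F)) : Prop where
  two : (2 : F) = 0
  four : 4 ≤ Fintype.card F
  add : ∀ g ∈ Y, ∀ x y, g (x + y) = g x + g y + g 0
  sc : ∀ k : Fˣ, ∃ g ∈ Y, ∀ x, g x = k * x
  st : ∀ g ∈ Y, g 0 = 0 → ∃ (c : F) (σ : RingAut F), ∀ x, g x = c * σ x
  mv : ∃ g ∈ Y, g 0 ≠ 0
  nt : ∀ g ∈ Y, (∀ x, g x = x + g 0) → g 0 = 0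

/-- multiplications -/
def mu (F : Type*) [Field F] : Fˣ →* Equiv.Perm F := MulAction.toPermHom Fˣ F

omit [Fintype F] in
theorem mu_ap (k : Fˣ) (x : F) : mu F k x = k * x := rfl

theorem aut_comm (two : (2 : F) = 0) (ρ σ : RingAut F) (x : F) : ρ (σ x) = σ (ρ x) := by
  have := CharTwo.of_one_ne_zero_of_two_eq_zero one_ne_zero two
  let _ : Algebra (ZMod 2) F := ZMod.algebra F 2
  obtain ⟨i, e⟩ := FiniteField.exists_forall_apply_eq_pow (ZMod 2) 2 F
    (AlgEquiv.ofRingEquiv (f := ρ) fun y => by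
      rcases (by decide : ∀ y : ZMod 2, y = 0 ∨ y = 1) y with rfl | rfl <;> simp)
  have e' : ∀ x, ρ x = x ^ Nat.card (ZMod 2) ^ i := e
  rw [e', e', map_pow]

theorem card_add (two : (2 : F) = 0) (h8 : Fintype.card F = 8) : Nat.card (F ≃+ F) ≤ 168 := by
  classical
  have := CharTwo.of_one_ne_zero_of_two_eq_zero one_ne_zero two
  let _ : Algebra (ZMod 2) F := ZMod.algebra F 2
  have hr : Module.finrank (ZMod 2) F = 3 := by
    have := Module.card_eq_pow_finrank (K := ZMod 2) (V := F)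
    rw [h8, ZMod.card] at this
    exact Nat.pow_right_injective le_rfl (this.symm.trans (by norm_num))
  let b := Module.finBasisOfFinrankEq (ZMod 2) F hr
  let lin : (F ≃+ F) → F →ₗ[ZMod 2] F := fun α => α.toAddMonoidHom.toZModLinearMap 2
  let Φ : (F ≃+ F) → {s : Fin 3 → F // LinearIndependent (ZMod 2) s} := fun α =>
    ⟨lin α ∘ b, b.linearIndependent.map' (lin α) (LinearMap.ker_eq_bot.2 α.injective)⟩
  have hΦ : Function.Injective Φ := fun α β h => by
    have : lin α = lin β := b.ext fun i => congrFun (congrArg Subtype.val h) i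
    exact AddEquiv.ext fun x => DFunLike.congr_fun this x
  have h1 := Nat.card_le_card_of_injective Φ hΦ
  rw [card_linearIndependent hr.ge, hr, ZMod.card] at h1
  simpa [Fin.prod_univ_succ] using h1

namespace Hy
variable {Y : Subgroup (Equiv.Perm F)} (h : Hy Y)
include h

theorem aa (x : F) : x + x = 0 := by linear_combination x * h.two

theorem mu_mem (k : Fˣ) : mu F k ∈ Y := by
  obtain ⟨g, hg, e⟩ := h.sc k
  rwa [show mu F k = g from Equiv.ext fun x => (e x).symm]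

theorem tr (a : F) : ∃ g ∈ Y, g 0 = a := by
  obtain ⟨g, hg, h0⟩ := h.mv
  by_cases ha : a = 0
  · exact ⟨1, one_mem _, ha.symm⟩
  · refine ⟨mu F (Units.mk0 (a / g 0) (div_ne_zero ha h0)) * g, mul_mem (h.mu_mem _) hg, ?_⟩
    rw [Equiv.Perm.mul_apply, mu_ap, Units.val_mk0, div_mul_cancel₀ _ h0]

theorem tr2 {a b : F} (hab : a ≠ b) : ∃ g ∈ Y, g a = 0 ∧ g b = 1 := by
  obtain ⟨g, hg, rfl⟩ := h.tr a
  have hb : g⁻¹ b ≠ 0 := fun e => hab (by rw [← e]; simp)
  refine ⟨mu F (Units.mk0 _ hb)⁻¹ * g⁻¹, mul_mem (h.mu_mem _) (inv_mem hg), ?_, ?_⟩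
  · rw [Equiv.Perm.mul_apply, mu_ap, show g⁻¹ (g 0) = 0 from by simp, mul_zero]
  · rw [Equiv.Perm.mul_apply, mu_ap, Units.val_inv_eq_inv_val, Units.val_mk0]
    exact inv_mul_cancel₀ hb

theorem aut {g : Equiv.Perm F} (hg : g ∈ Y) (h0 : g 0 = 0) (h1 : g 1 = 1) :
    ∃ σ : RingAut F, ∀ x, g x = σ x := by
  obtain ⟨c, σ, e⟩ := h.st g hg h0
  have : c = 1 := by simpa [h1] using (e 1).symm
  exact ⟨σ, fun x => by rw [e, this, one_mul]⟩

theorem pre : MulAction.IsPretransitive Y F := ⟨fun a b => by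
  obtain ⟨g, hg, rfl⟩ := h.tr a
  obtain ⟨g', hg', rfl⟩ := h.tr b
  exact ⟨⟨g' * g⁻¹, mul_mem hg' (inv_mem hg)⟩, by simp [Subgroup.smul_def]⟩⟩

theorem pow2 : ∃ a, Nat.card F = 2 ^ a := by
  have := CharTwo.of_one_ne_zero_of_two_eq_zero one_ne_zero h.two
  obtain ⟨n, -, e⟩ := FiniteField.card F 2
  exact ⟨n, by rw [Nat.card_eq_fintype_card, e]⟩

/-- linear part -/
def lam : Y →* Equiv.Perm F := MonoidHom.mk' (fun g => Equiv.addRight ((g : Equiv.Perm F) 0) * g)
  fun g g' => Equiv.ext fun x => by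
    simp only [Subgroup.coe_mul, Equiv.Perm.mul_apply, Equiv.coe_addRight, h.add g g.2]
    rw [add_assoc, h.aa, add_zero]

theorem lam_ap (g : Y) (x : F) : h.lam g x = (g : Equiv.Perm F) x + (g : Equiv.Perm F) 0 := rfl

theorem lam_one {g : Y} (e : ∀ x, h.lam g x = x) : g = 1 := by
  have e' : ∀ x, (g : Equiv.Perm F) x = x + (g : Equiv.Perm F) 0 := fun x => by
    have := e x
    rw [lam_ap] at this
    linear_combination this - h.aa ((g : Equiv.Perm F) 0)
  have h0 := h.nt g g.2 e'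
  exact Subtype.ext (Equiv.ext fun x => by rw [e', h0, add_zero]; rfl)

theorem o2 (N : Subgroup Y) (hN : N.Normal) (hp : IsPGroup 2 N) : N = ⊥ := by
  classical
  obtain ⟨a, ha⟩ := h.pow2
  have hd : 2 ∣ Nat.card F := by
    rw [ha]
    refine dvd_pow_self 2 fun e => ?_
    have := h.four
    rw [← Nat.card_eq_fintype_card, ha, e] at this
    omega
  obtain ⟨v, hv, hv0⟩ := (hp.map h.lam).exists_fixed_point_of_prime_dvd_card_of_fixed_point F hd
    (a := 0) (by
      rintro ⟨_, g, -, rfl⟩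
      exact h.aa _)
  refine eq_bot_iff.2 fun n hn => mem_bot.2 (h.lam_one fun x => ?_)
  by_cases hx : x = 0
  · rw [hx]; exact h.aa _
  let k : Y := ⟨_, h.mu_mem (Units.mk0 (x / v) (div_ne_zero hx hv0.symm))⟩
  have hk : ∀ y, h.lam k y = x / v * y := fun y => by simp [lam_ap, k, mu_ap]
  have h1 : h.lam (k⁻¹ * n * k⁻¹⁻¹) v = v := hv ⟨_, _, hN.conj_mem n hn k⁻¹, rfl⟩
  have h2 : h.lam k v = x := by rw [hk, div_mul_cancel₀ _ hv0.symm]
  rw [inv_inv, map_mul, map_mul, map_inv, Equiv.Perm.mul_apply, Equiv.Perm.mul_apply, h2,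
    Equiv.Perm.inv_eq_iff_eq, h2] at h1
  exact h1

theorem exists_j : ∃ j : Y, orderOf j = 2 ∧ ∀ x, (j : Equiv.Perm F) x ≠ x := by
  classical
  obtain ⟨a, ha⟩ := h.pow2
  have := h.pre
  obtain ⟨S⟩ := (inferInstance : Nonempty (Sylow 2 Y))
  have hS := H14.sylow_isPretransitive ha S
  have hne : Nontrivial S := by
    obtain ⟨s, hs⟩ := hS.exists_smul_eq (0 : F) 1
    refine ⟨s, 1, fun e => ?_⟩
    rw [e, one_smul] at hs
    exact zero_ne_one hs
  have hZ := S.isPGroup'.center_nontrivial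
  have hp : IsPGroup 2 (center S) := S.isPGroup'.to_subgroup _
  obtain ⟨n, hn, hc⟩ := hp.nontrivial_iff_card.1 hZ
  obtain ⟨j, hj⟩ := exists_prime_orderOf_dvd_card' (G := center S) 2 (hc ▸ dvd_pow_self 2 hn.ne')
  refine ⟨((j : S) : Y), by rw [Subgroup.orderOf_coe, Subgroup.orderOf_coe, hj], fun x hx => ?_⟩
  have : j = 1 := Subtype.ext (Subtype.ext (Subtype.ext (Equiv.ext fun y => by
    obtain ⟨s, rfl⟩ := hS.exists_smul_eq x y
    have e := congrArg (fun t : S => ((t : Y) : Equiv.Perm F) x) (mem_center_iff.1 j.2 s)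
    simp only [Subgroup.coe_mul, Equiv.Perm.mul_apply, hx] at e
    exact e.symm)))
  rw [this, orderOf_one] at hj
  omega

/-- an inverted field automorphism fixes only the prime field -/
theorem witt {g τ : Equiv.Perm F} (hg : g ∈ Y) (hτ : τ ∈ Y) {σ : RingAut F} (hσ : ∀ x, τ x = σ x)
    (hi : g * τ * g⁻¹ = τ⁻¹) (g0 : g 0 ≠ 0) {u : F} (hu : σ u = u) (u0 : u ≠ 0) (u1 : u ≠ 1) :
    τ * τ = 1 := by
  have cm : ∀ (c : F) (hc : c ≠ 0), σ c = c → Commute (mu F (Units.mk0 c hc)) τ := fun c hc e =>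
    Equiv.ext fun x => by simp [mu_ap, hσ, e]
  have fx : ∀ m : Equiv.Perm F, m * τ * m⁻¹ = τ⁻¹ → ∀ x, τ x = x → τ (m x) = m x := fun m hm x hx => by
    have : τ⁻¹ (m x) = m x := by rw [← hm]; simp [hx]
    rw [Equiv.Perm.inv_eq_iff_eq] at this
    exact this.symm
  have t0 : τ 0 = 0 := by rw [hσ, map_zero]
  have t1 : τ 1 = 1 := by rw [hσ, map_one]
  set k := mu F (Units.mk0 u u0) with hk
  have c1 : Commute (g * k * g⁻¹) τ := by
    have : Commute (g * k * g⁻¹) (g * τ * g⁻¹) := (cm u u0 hu).map (MulAut.conj g)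
    rw [hi] at this
    simpa using this.inv_right
  have d0 : (g * k * g⁻¹) 0 ≠ 0 := fun e => g0 (by
    rw [Equiv.Perm.mul_apply, Equiv.Perm.mul_apply, ← Equiv.Perm.eq_inv_iff_eq, hk, mu_ap] at e
    have : g⁻¹ 0 = 0 := by
      have e2 : (u - 1) * g⁻¹ 0 = 0 := by
        simp only [Units.val_mk0] at e
        linear_combination e
      exact (mul_eq_zero.1 e2).resolve_left (sub_ne_zero.2 u1)
    rw [Equiv.Perm.inv_eq_iff_eq] at this
    exact this.symm)
  have fd : σ (g 0) = g 0 := by rw [← hσ]; exact fx g hi 0 t0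
  have fd' : σ ((g * k * g⁻¹) 0) = (g * k * g⁻¹) 0 := by
    rw [← hσ, ← Equiv.Perm.mul_apply τ, ← c1.eq, Equiv.Perm.mul_apply _ τ, t0]
  have hc : g 0 / (g * k * g⁻¹) 0 ≠ 0 := div_ne_zero g0 d0
  have c2 := (cm _ hc (by rw [map_div₀, fd, fd'])).mul_left c1
  set m := mu F (Units.mk0 _ hc) * (g * k * g⁻¹) with hm
  have mY : m ∈ Y := mul_mem (h.mu_mem _) (mul_mem (mul_mem hg (h.mu_mem _)) (inv_mem hg))
  have m0 : m 0 = g 0 := by
    rw [hm, Equiv.Perm.mul_apply, mu_ap, Units.val_mk0, div_mul_cancel₀ _ d0]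
  have hi' : m⁻¹ * g * τ * (m⁻¹ * g)⁻¹ = τ⁻¹ := by
    calc _ = m⁻¹ * (g * τ * g⁻¹) * m := by group
      _ = m⁻¹ * (τ⁻¹ * m) := by rw [hi, mul_assoc]
      _ = _ := by rw [← c2.inv_right.eq]; group
  obtain ⟨c, ρ, e⟩ := h.st (m⁻¹ * g) (mul_mem (inv_mem mY) hg) (by
    rw [Equiv.Perm.mul_apply, ← m0]; simp)
  have fc : σ c = c := by
    have := fx _ hi' 1 t1
    rwa [e, map_one, mul_one, hσ] at this
  have c3 : m⁻¹ * g * τ = τ * (m⁻¹ * g) := Equiv.ext fun x => by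
    rw [Equiv.Perm.mul_apply _ τ, Equiv.Perm.mul_apply τ, e, e, hσ, hσ, map_mul, fc,
      aut_comm h.two]
  rw [c3, mul_inv_cancel_right] at hi'
  rw [mul_eq_one_iff_eq_inv]; exact hi'

theorem exists_τ : ∃ (p : ℕ) (τ : Y) (σ : RingAut F), p.Prime ∧ Odd p ∧ orderOf τ = p ∧
    (∀ x, (τ : Equiv.Perm F) x = σ x) ∧ ∀ u, σ u = u → u = 0 ∨ u = 1 := by
  classical
  obtain ⟨j, hj, hf⟩ := h.exists_j
  obtain ⟨y, y1, yo, hy⟩ := H6.exists_odd_inverted j hj fun N hN hp hjN => by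
    rw [h.o2 N hN hp, mem_bot] at hjN
    rw [hjN, orderOf_one] at hj
    omega
  obtain ⟨p, hp, hd⟩ := Nat.exists_prime_and_dvd (fun e => y1 (orderOf_eq_one_iff.1 e))
  have po : Odd p := yo.of_dvd_nat hd
  obtain ⟨y, ho, hy⟩ : ∃ y : Y, orderOf y = p ∧ j * y * j⁻¹ = y⁻¹ :=
    ⟨y ^ (orderOf y / p), orderOf_pow_orderOf_div (orderOf_pos y).ne' hd, by
      rw [← conj_pow, hy, inv_pow]⟩
  have := Fact.mk hp
  obtain ⟨a, ha⟩ := h.pow2
  have hP : IsPGroup p (zpowers y) := IsPGroup.of_card (n := 1) (by rw [Nat.card_zpowers, ho, pow_one])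
  obtain ⟨x, hx⟩ := hP.nonempty_fixed_point_of_prime_not_dvd_card F (by
    rw [ha]
    intro e
    have := (Nat.prime_dvd_prime_iff_eq hp Nat.prime_two).1 (hp.dvd_of_dvd_pow e)
    rw [this] at po
    exact absurd po (by decide))
  have hx1 : (y : Equiv.Perm F) x = x := hx ⟨y, mem_zpowers y⟩
  have hyP : (j : Equiv.Perm F) * y * (j : Equiv.Perm F)⁻¹ = (y : Equiv.Perm F)⁻¹ :=
    congrArg Subtype.val hy
  have hx2 : (y : Equiv.Perm F) ((j : Equiv.Perm F) x) = (j : Equiv.Perm F) x := by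
    have : (y : Equiv.Perm F)⁻¹ ((j : Equiv.Perm F) x) = (j : Equiv.Perm F) x := by
      rw [← hyP]; simp [hx1]
    rw [Equiv.Perm.inv_eq_iff_eq] at this
    exact this.symm
  obtain ⟨g, hg, g0, g1⟩ := h.tr2 (hf x).symm
  let g' : Y := ⟨g, hg⟩
  obtain ⟨σ, hσ⟩ := h.aut (g' * y * g'⁻¹).2 (by rw [← g0]; simp [g', hx1]) (by rw [← g1]; simp [g', hx2])
  have ho' : orderOf (g' * y * g'⁻¹) = p := by rw [orderOf_conj, ho]
  refine ⟨p, g' * y * g'⁻¹, σ, hp, po, ho', hσ, fun u hu => ?_⟩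
  by_contra hn
  rw [not_or] at hn
  have := h.witt (g' * j * g'⁻¹).2 (g' * y * g'⁻¹).2 hσ (by
    have : g' * j * g'⁻¹ * (g' * y * g'⁻¹) * (g' * j * g'⁻¹)⁻¹ = (g' * y * g'⁻¹)⁻¹ := by
      calc _ = g' * (j * y * j⁻¹) * g'⁻¹ := by group
        _ = _ := by rw [hy]; group
    exact congrArg Subtype.val this) (by
      rw [← g0]
      simpa [g'] using hf x) hu hn.1 hn.2
  have h2 : (g' * y * g'⁻¹) ^ 2 = 1 := by rw [sq]; exact Subtype.ext this
  have h3 := orderOf_dvd_of_pow_eq_one h2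
  rw [ho', Nat.prime_dvd_prime_iff_eq hp Nat.prime_two] at h3
  rw [h3] at po
  exact absurd po (by decide)

theorem main : Fintype.card F = 8 ∧ ∀ α : F ≃+ F, ∃ g ∈ Y, ∀ x, g x = α x + g 0 := by
  classical
  obtain ⟨p, τ, σ, hp, po, ho, hσ, hfix⟩ := h.exists_τ
  have tp : ∀ i : ℕ, ∀ x, ((τ ^ i : Y) : Equiv.Perm F) x = (σ ^ i) x := fun i => by
    induction i with
    | zero => intro x; rfl
    | succ i ih =>
      intro x
      rw [pow_succ, pow_succ, Subgroup.coe_mul, Equiv.Perm.mul_apply, ih, hσ]; rfl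
  have oσ : orderOf σ = p := by
    rw [← ho]
    refine orderOf_eq_orderOf_iff.2 fun i => ⟨fun e => ?_, fun e => ?_⟩
    · exact Subtype.ext (Equiv.ext fun x => by rw [tp, e]; rfl)
    · exact RingEquiv.ext fun x => by rw [← tp, e]; rfl
  obtain ⟨hq, hall⟩ := H16.fld_aut σ oσ hfix
  have : Finite (RingAut F) := DFunLike.finite _
  have hE : (MulAction.stabilizer Y (0 : F) ⊓ MulAction.stabilizer Y (1 : F) : Subgroup Y) = zpowers τ := by
    refine le_antisymm (fun g hg => ?_) (zpowers_le.2 ⟨?_, ?_⟩)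
    · obtain ⟨ρ, hρ⟩ := h.aut g.2 hg.1 hg.2
      obtain ⟨i, hi⟩ := (mem_powers_iff_mem_zpowers.2 (hall ρ))
      have : g = τ ^ i := Subtype.ext (Equiv.ext fun x => by rw [tp, hρ, ← hi])
      rw [this]; exact npow_mem_zpowers _ _
    · show (τ : Equiv.Perm F) 0 = 0
      rw [hσ, map_zero]
    · show (τ : Equiv.Perm F) 1 = 1
      rw [hσ, map_one]
  have τ1 : τ ≠ 1 := fun e => hp.one_lt.ne (by rw [← ho, e, orderOf_one])
  have := h.pre
  have hZ : IsZassenhausGroup Y F := by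
    refine ⟨inferInstance, MulAction.is_two_pretransitive_iff.2 fun {a b c d} hab hcd => ?_,
      fun g a b c hab hbc hac ga gb gc => ?_, ⟨τ, τ1, 0, 1, zero_ne_one, (hE.ge (mem_zpowers τ)).1,
        (hE.ge (mem_zpowers τ)).2⟩, fun N hN hT => ?_⟩
    · obtain ⟨g, hg, g0, g1⟩ := h.tr2 hab
      obtain ⟨g', hg', g0', g1'⟩ := h.tr2 hcd
      refine ⟨⟨g'⁻¹ * g, mul_mem (inv_mem hg') hg⟩, ?_, ?_⟩
      · show g'⁻¹ (g a) = c
        rw [g0, ← g0']; simp
      · show g'⁻¹ (g b) = d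
        rw [g1, ← g1']; simp
    · obtain ⟨m, hm, m0, m1⟩ := h.tr2 hab
      let m' : Y := ⟨m, hm⟩
      have fx : ∀ x, g • x = x → ((m' * g * m'⁻¹ : Y) : Equiv.Perm F) (m x) = m x := fun x hx => by
        have hx' : (g : Equiv.Perm F) x = x := hx
        simp [m', hx']
      have hg : m' * g * m'⁻¹ ∈ zpowers τ := hE.le ⟨m0 ▸ fx a ga, m1 ▸ fx b gb⟩
      by_contra g1
      have hle : zpowers (m' * g * m'⁻¹) ≤ zpowers τ := zpowers_le.2 hg
      have hc := card_dvd_of_le hle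
      rw [Nat.card_zpowers, Nat.card_zpowers, ho] at hc
      have hc' := (hp.eq_one_or_self_of_dvd _ hc).resolve_left fun e =>
        g1 (conj_eq_one_iff.1 (orderOf_eq_one_iff.1 e))
      have heq := eq_of_le_of_card_ge hle (by rw [Nat.card_zpowers, Nat.card_zpowers, ho, hc'])
      have h3 : τ ∈ MulAction.stabilizer Y (m c) :=
        (zpowers_le.2 (fx c gc) : zpowers (m' * g * m'⁻¹) ≤ MulAction.stabilizer Y (m c))
          (heq.ge (mem_zpowers τ))
      rcases hfix (m c) ((hσ _).symm.trans h3) with e | e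
      · exact hac (m.injective (m0.trans e.symm))
      · exact hbc (m.injective (m1.trans e.symm))
    · by_contra hn
      push Not at hn
      have h1 := MulAction.index_stabilizer_of_transitive N (0 : F)
      rw [hn, index_bot, hq] at h1
      obtain ⟨s, hs⟩ := hT.exists_smul_eq (0 : F) 1
      have : (s : Y) = 1 := mem_bot.1 (h.o2 N hN (IsPGroup.of_card h1) ▸ s.2)
      have hs' : (s : Y) • (0 : F) = 1 := hs
      rw [this, one_smul] at hs'
      exact zero_ne_one hs'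
  let κ : Fˣ →* Y := (mu F).codRestrict Y h.mu_mem
  have κi : Function.Injective κ := fun a b e => Units.ext (by
    simpa [κ, mu_ap] using congrArg (fun t : Y => (t : Equiv.Perm F) 1) e)
  have cκ : Nat.card κ.range + 1 = Fintype.card F := by
    rw [← Nat.card_congr (MonoidHom.ofInjective κi).toEquiv, Nat.card_units, Nat.card_eq_fintype_card]
    have := h.four
    omega
  have hin := Cfsg.Agent.S0885.result hZ (zero_ne_one (α := F)) (Nat.card κ.range) p cκ.symm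
    (by rw [hE, Nat.card_zpowers, ho]) po κ.range
    (by rintro _ ⟨k, rfl⟩; exact mul_zero (k : F)) cκ (by
      rintro _ ⟨k, rfl⟩ k1 c hc
      by_contra c0
      have hc' : (k : F) * c = c := hc
      exact k1 (by rw [show k = 1 from Units.ext (mul_left_eq_self₀.1 hc' |>.resolve_right c0), map_one]))
  have hin' : Nat.card κ.range - 1 ≤ 2 * p := hin.resolve_right (by
    rintro ⟨-, ⟨⟨_, a, rfl⟩, ⟨_, b, rfl⟩, hne⟩, -⟩
    exact hne (Subtype.ext (by
      show κ a * κ b = κ b * κ a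
      rw [← map_mul, ← map_mul, mul_comm])))
  rw [Nat.card_eq_fintype_card] at hq
  have p3 : p = 3 := by
    have h2 := hp.two_le
    have h4 : ∀ n, 4 ≤ n → 2 * n + 2 < 2 ^ n := fun n hn => by
      induction n, hn using Nat.le_induction with
      | base => norm_num
      | succ n _ ih => rw [pow_succ]; omega
    have : ¬ 4 ≤ p := fun e => by have := h4 p e; omega
    obtain ⟨k, hk⟩ := po
    omega
  subst p3
  have h8 : Fintype.card F = 8 := hq
  refine ⟨h8, fun α => ?_⟩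
  let Λ : Y → (F ≃+ F) := fun g => ⟨h.lam g, fun x y => by
    show h.lam g (x + y) = h.lam g x + h.lam g y
    rw [lam_ap, lam_ap, lam_ap, h.add g g.2]; ring⟩
  have Λi : Function.Injective Λ := fun g g' e => by
    have : h.lam g = h.lam g' := Equiv.ext fun x => DFunLike.congr_fun e x
    rw [← mul_inv_eq_one]
    exact h.lam_one fun x => by rw [map_mul, map_inv, this, mul_inv_cancel]; rfl
  have d8 : 8 ∣ Nat.card Y := by
    have := (MulAction.stabilizer Y (0 : F)).index_dvd_card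
    rwa [MulAction.index_stabilizer_of_transitive, Nat.card_eq_fintype_card, h8] at this
  have d7 : 7 ∣ Nat.card Y := by
    have := κ.range.card_subgroup_dvd_card
    rwa [show Nat.card κ.range = 7 by omega] at this
  have d3 : 3 ∣ Nat.card Y := ho ▸ orderOf_dvd_natCard τ
  have hle : 168 ≤ Nat.card Y := Nat.le_of_dvd Nat.card_pos (by omega)
  have : Finite (F ≃+ F) := DFunLike.finite _
  obtain ⟨g, hg⟩ := (Λi.bijective_of_nat_card_le ((card_add h.two h8).trans hle)).2 α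
  refine ⟨g, g.2, fun x => ?_⟩
  have : h.lam g x = α x := DFunLike.congr_fun hg x
  rw [← this, lam_ap, add_assoc, h.aa, add_zero]

end Hy

end AFx

/-! ### AF -/
theorem aff (two : (2 : F) = 0) (four : 4 ≤ Fintype.card F) (Y : Subgroup (Equiv.Perm F))
    (add : ∀ g ∈ Y, ∀ x y, g (x + y) = g x + g y + g 0)
    (sc : ∀ k : Fˣ, ∃ g ∈ Y, ∀ x, g x = k * x)
    (st : ∀ g ∈ Y, g 0 = 0 → ∃ (c : F) (σ : RingAut F), ∀ x, g x = c * σ x)
    (mv : ∃ g ∈ Y, g 0 ≠ 0) :
    (∀ c, ∃ g ∈ Y, ∀ x, g x = x + c) ∨ (Fintype.card F = 8 ∧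
      (∀ α : F ≃+ F, ∃ g ∈ Y, ∀ x, g x = α x + g 0) ∧
      ∀ g ∈ Y, (∀ x, g x = x + g 0) → g 0 = 0) := by
  by_cases nt : ∀ g ∈ Y, (∀ x, g x = x + g 0) → g 0 = 0
  · obtain ⟨h1, h2⟩ := AFx.Hy.main ⟨two, four, add, sc, st, mv, nt⟩
    exact Or.inr ⟨h1, h2, nt⟩
  · push Not at nt
    obtain ⟨g, hg, e, g0⟩ := nt
    refine Or.inl fun c => ?_
    by_cases hc : c = 0
    · exact ⟨1, one_mem _, fun x => by rw [hc, add_zero]; rfl⟩
    obtain ⟨k, hk, ek⟩ := sc (Units.mk0 (c / g 0) (div_ne_zero hc g0))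
    refine ⟨k * g * k⁻¹, mul_mem (mul_mem hk hg) (inv_mem hk), fun x => ?_⟩
    rw [Equiv.Perm.mul_apply, Equiv.Perm.mul_apply, e, ek, mul_add, ← ek, show k (k⁻¹ x) = x from by simp,
      Units.val_mk0, div_mul_cancel₀ _ g0]


end H23.L2
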