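import Mathlib
import Cfsg.Agent.H23.LDefs
import Cfsg.Agent.H23.LC
import Cfsg.Agent.H23.LE

set_option autoImplicit false
set_option linter.unusedVariables false
set_option linter.unusedSectionVars false

namespace H23.L2

open Cfsg H24 Subgroup
open H2.SZ (St DD Goal)
open scoped MatrixGroups commutatorElement

universe u

variable {G : Type u} [Group G] [Finite G] {F : Type*} [Field F] [Fintype F]
  {L G0 D T B R Q S S1 A P N M H : Subgroup G} {t f g i j ρ z u : G} {X : LD F L} {n : ℕ}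
  {π s : G → F}

/-! ### CA -/

namespace CAx

theorem zp2 {x : G} (tt : t * t = 1) (hx : x ∈ zpowers t) : x = 1 ∨ x = t := by
  obtain ⟨k, rfl⟩ := hx
  rcases Int.even_or_odd' k with ⟨m, rfl | rfl⟩
  · left
    show t ^ (2 * m) = 1
    rw [zpow_mul, zpow_two, tt, one_zpow]
  · right
    show t ^ (2 * m + 1) = t
    rw [zpow_add_one, zpow_mul, zpow_two, tt, one_zpow, one_mul]

theorem pi2 {x : G} (tt : x * x = 1) : PiElt {2} x :=
  piElt_of_pow_eq_one (piNat_self Nat.prime_two) (by rw [pow_two, tt])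

theorem st2 (h : C0 X G0 t D T Q s) : St2 L G0 t := h.toLz.toLc.toLb.toSt2

theorem tt (h : C0 X G0 t D T Q s) : t * t = 1 := (st2 h).tt

theorem tinv (h : C0 X G0 t D T Q s) : t⁻¹ = t := inv_eq_of_mul_eq_one_right (tt h)

theorem comm (h : C0 X G0 t D T Q s) (hf : f ∈ Q) (hg : g ∈ Q) : f * g = g * f :=
  h.el.abl.comm hf hg

theorem QC (h : C0 X G0 t D T Q s) : Q ≤ C[Q] := h.el.abl.le_C

theorem tN (h : C0 X G0 t D T Q s) : t ∈ N[Q] := h.TQ h.toLz.toLc.toLb.t_T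

theorem zQ (h : C0 X G0 t D T Q s) (b : F) : X.z b ∈ Q := h.V_Q (X.z_V b)

theorem s_eq (h : C0 X G0 t D T Q s) (hf : f ∈ Q) {b : F} (e : f * t * f⁻¹ = t * X.z b) :
    s f = b := X.z_inj (mul_left_cancel ((h.spec f hf).symm.trans e))

theorem s_mul (h : C0 X G0 t D T Q s) (hf : f ∈ Q) (hg : g ∈ Q) : s (f * g) = s f + s g := by
  refine s_eq h (mul_mem hf hg) ?_
  rw [show f * g * t * (f * g)⁻¹ = f * (g * t * g⁻¹) * f⁻¹ by group, h.spec g hg,
    show f * (t * X.z (s g)) * f⁻¹ = f * t * f⁻¹ * (f * X.z (s g) * f⁻¹) by group, h.spec f hf,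
    comm h hf (zQ h _), mul_inv_cancel_right, mul_assoc, X.z_mul]

theorem s_z (h : C0 X G0 t D T Q s) (b : F) : s (X.z b) = 0 :=
  s_eq h (zQ h b) (by rw [(st2 h).tz X, X.z_zero, mul_inv_cancel_right, mul_one])

theorem s_one (h : C0 X G0 t D T Q s) : s 1 = 0 := by rw [← X.z_zero]; exact s_z h 0

theorem s_ker (h : C0 X G0 t D T Q s) (hf : f ∈ Q) : s f = 0 ↔ f ∈ X.V :=
  ⟨h.s_ker f hf, by rintro ⟨b, rfl⟩; exact s_z h b⟩

/-- conjugation by an element of `C(t) ∩ N(Q)` -/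
theorem s_conj (h : C0 X G0 t D T Q s) (hg : g ∈ N[Q]) (gt : g * t = t * g) (hf : f ∈ Q) :
    X.z (s (g * f * g⁻¹)) = g * X.z (s f) * g⁻¹ := by
  have e1 : g * t * g⁻¹ = t := by rw [gt, mul_inv_cancel_right]
  have e2 : g⁻¹ * t * g = t := by rw [mul_assoc, ← gt, inv_mul_cancel_left]
  refine mul_left_cancel (a := t) ?_
  rw [← h.spec _ (H24.conj_mem hg hf),
    show g * f * g⁻¹ * t * (g * f * g⁻¹)⁻¹ = g * (f * (g⁻¹ * t * g) * f⁻¹) * g⁻¹ by group, e2,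
    h.spec f hf, show g * (t * X.z (s f)) * g⁻¹ = g * t * g⁻¹ * (g * X.z (s f) * g⁻¹) by group, e1]

theorem s_h (h : C0 X G0 t D T Q s) (k : Fˣ) (hf : f ∈ Q) :
    s (X.h k * f * (X.h k)⁻¹) = k * s f := by
  refine X.z_inj ?_
  rw [s_conj h (h.hQ k) (mul_inv_eq_iff_eq_mul.1 ((st2 h).th X k)) hf, X.h_z]

theorem t_conj (h : C0 X G0 t D T Q s) (hf : f ∈ Q) : t * f * t⁻¹ = X.z (s f) * f := by
  have e := h.spec f hf
  rw [mul_inv_eq_iff_eq_mul] at e
  rw [tinv h, mul_assoc, e, ← mul_assoc, ← mul_assoc, tt h, one_mul]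

theorem t_nC (h : C0 X G0 t D T Q s) : t ∉ C[Q] := fun hc => by
  obtain ⟨r, hr, e⟩ := h.s_onto 1
  have := s_eq h hr (b := 0) (by rw [mem_C.1 hc r hr, X.z_zero, mul_inv_cancel_right, mul_one])
  exact one_ne_zero (e.symm.trans this)

theorem nine {A : Type*} [CommGroup A] (h : ∀ a : A, a * a = 1) (a b c x y w : A)
    (e : (a * x * y) * (x * b * w) * (y * w * c) = 1) : a * b * c = 1 := by
  have : (a * x * y) * (x * b * w) * (y * w * c) = a * b * c * ((x * x) * (y * y) * (w * w)) := by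
    simp only [mul_comm, mul_left_comm]
  rwa [this, h x, h y, h w, mul_one, mul_one, mul_one] at e

/-- the action of the torus on `Q` is additive in the parameter -/
theorem act_add (h : C0 X G0 t D T Q s) (hf : f ∈ Q) (k l m : Fˣ) (e : (k : F) + l + m = 0) :
    X.h k * f * (X.h k)⁻¹ * (X.h l * f * (X.h l)⁻¹) * (X.h m * f * (X.h m)⁻¹) = 1 := by
  have := X.charP
  have sq : ∀ k : Fˣ, ∃ k' : Fˣ, k' * k' = k := fun k => by
    obtain ⟨x, hx⟩ := FiniteField.isSquare_of_char_two (ringChar.eq F 2) (k : F)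
    exact ⟨Units.mk0 x fun e => k.ne_zero (by rw [hx, e, mul_zero]), Units.ext hx.symm⟩
  obtain ⟨k, rfl⟩ := sq k
  obtain ⟨l, rfl⟩ := sq l
  obtain ⟨m, rfl⟩ := sq m
  have e' : (k : F) + l + m = 0 := by
    refine pow_eq_zero_iff (two_ne_zero) |>.1 ?_
    simp only [Units.val_mul] at e
    linear_combination e + ((k : F) * l + k * m + l * m) * X.two
  let a : Fˣ → Q := fun k => ⟨X.h k * f * (X.h k)⁻¹, H24.conj_mem (h.hQ k) hf⟩
  have ha : ∀ k l : Fˣ, X.h k * (a l : G) * (X.h k)⁻¹ = a (k * l) := fun k l => by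
    simp only [a, map_mul]; group
  have hd : s (a k * a l * a m) = 0 := by
    rw [s_mul h (mul_mem (a k).2 (a l).2) (a m).2, s_mul h (a k).2 (a l).2]
    simp only [a, s_h h _ hf]
    linear_combination s f * e'
  obtain ⟨c, hc⟩ := h.s_ker _ (mul_mem (mul_mem (a k).2 (a l).2) (a m).2) hd
  have hk : ∀ j : Fˣ, (a (j * k) * a (j * l) * a (j * m) : G) = X.z (j * c) := fun j => by
    rw [← X.h_z, ← hc, ← ha, ← ha, ← ha]; group
  let _ : CommGroup Q := { (inferInstance : Group Q) with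
    mul_comm := fun x y => Subtype.ext (comm h x.2 y.2) }
  have := nine (A := Q) (fun x => Subtype.ext (h.el x x.2)) (a (k * k)) (a (l * l)) (a (m * m))
    (a (k * l)) (a (k * m)) (a (l * m)) (Subtype.ext (by
      have e1 := hk k
      have e2 := hk l
      have e3 := hk m
      rw [mul_comm l k] at e2
      rw [mul_comm m k, mul_comm m l] at e3
      change (a (k * k) * a (k * l) * a (k * m) : G) * (a (k * l) * a (l * l) * a (l * m)) *
        (a (k * m) * a (l * m) * a (m * m)) = 1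
      rw [e1, e2, e3, X.z_mul, X.z_mul, X.z_eq_one]
      linear_combination c * e'))
  exact congrArg Subtype.val this

/-- an equivariant additive section of `s` -/
theorem exists_w (h : C0 X G0 t D T Q s) : ∃ w : F → G, (∀ y, w y ∈ Q) ∧ (∀ y, s (w y) = y) ∧
    (∀ x y, w (x + y) = w x * w y) ∧ ∀ (k : Fˣ) y, X.h k * w y * (X.h k)⁻¹ = w (k * y) := by
  classical
  obtain ⟨r, hr, e⟩ := h.s_onto 1
  let w : F → G := fun y =>
    if hy : y = 0 then 1 else X.h (Units.mk0 y hy) * r * (X.h (Units.mk0 y hy))⁻¹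
  have w0 : w 0 = 1 := dif_pos rfl
  have w1 : ∀ k : Fˣ, w k = X.h k * r * (X.h k)⁻¹ := fun k => by
    simp only [w, dif_neg k.ne_zero, Units.mk0_val]
  have cs : ∀ y : F, y = 0 ∨ ∃ k : Fˣ, y = k := fun y =>
    (eq_or_ne y 0).imp_right fun hy => ⟨Units.mk0 y hy, rfl⟩
  have wQ : ∀ y, w y ∈ Q := fun y => by
    rcases cs y with rfl | ⟨k, rfl⟩
    · rw [w0]; exact one_mem _
    · rw [w1]; exact H24.conj_mem (h.hQ k) hr
  refine ⟨w, wQ, fun y => ?_, fun x y => ?_, fun k y => ?_⟩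
  · rcases cs y with rfl | ⟨k, rfl⟩
    · rw [w0, s_one h]
    · rw [w1, s_h h k hr, e, mul_one]
  · rcases cs x with rfl | ⟨k, rfl⟩
    · rw [w0, zero_add, one_mul]
    rcases cs y with rfl | ⟨l, rfl⟩
    · rw [w0, add_zero, mul_one]
    rcases cs ((k : F) + l) with e1 | ⟨m, e1⟩
    · rw [e1, w0, X.eq_of_add e1, h.el _ (wQ _)]
    · have := act_add h hr k l m (by rw [e1, X.add_self])
      rw [← w1, ← w1, ← w1] at this
      rw [e1, eq_inv_of_mul_eq_one_left this, inv_eq_of_mul_eq_one_right (h.el _ (wQ _))]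
  · rcases cs y with rfl | ⟨l, rfl⟩
    · rw [mul_zero, w0, mul_one, mul_inv_cancel]
    · rw [← Units.val_mul, w1, w1, map_mul]; group

theorem exists_e (h : C0 X G0 t D T Q s) : ∃ e : F × F → G, (∀ a b, e (a + b) = e a * e b) ∧
    Function.Injective e ∧ (∀ g, g ∈ Q ↔ ∃ a, g = e a) ∧ (∀ c, e (c, 0) = X.z c) ∧
    (∀ p, s (e p) = p.2) ∧ (∀ p, t * e p * t⁻¹ = e (tau F p)) ∧
    ∀ k p, X.h k * e p * (X.h k)⁻¹ = e (scal k p) := by
  obtain ⟨w, wQ, ws, wa, wh⟩ := exists_w h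
  have w0 : w 0 = 1 := by
    have := wa 0 0
    rw [add_zero] at this
    exact mul_left_cancel (this.symm.trans (mul_one _).symm)
  have se : ∀ p : F × F, s (X.z p.1 * w p.2) = p.2 := fun p => by
    rw [s_mul h (zQ h _) (wQ _), s_z h, ws, zero_add]
  refine ⟨fun p => X.z p.1 * w p.2, fun a b => ?_, fun a b e => ?_, fun g => ⟨fun hg => ?_, ?_⟩,
    fun c => ?_, se, fun p => ?_, fun k p => ?_⟩
  · simp only [Prod.fst_add, Prod.snd_add, wa, ← X.z_mul]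
    rw [mul_assoc, mul_assoc, ← mul_assoc (X.z b.1), comm h (zQ h b.1) (wQ a.2), mul_assoc]
  · have e2 : a.2 = b.2 := by rw [← se a, ← se b]; exact congrArg s e
    simp only [e2, mul_left_inj] at e
    exact Prod.ext (X.z_inj e) e2
  · obtain ⟨c, hc⟩ := h.s_ker (g * w (s g)) (mul_mem hg (wQ _))
      (by rw [s_mul h hg (wQ _), ws, X.add_self])
    exact ⟨(c, s g), by simp only [← hc]; rw [mul_assoc, h.el _ (wQ _), mul_one]⟩
  · rintro ⟨a, rfl⟩
    exact mul_mem (zQ h _) (wQ _)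
  · simp only [w0, mul_one]
  · rw [t_conj h (mul_mem (zQ h _) (wQ _)), se, ← mul_assoc, X.z_mul, add_comm]
    rfl
  · simp only [scal_apply, ← wh, ← X.h_z]
    group

end CAx

open CAx

theorem C0.card (h : C0 X G0 t D T Q s) : ♯Q = Fintype.card F ^ 2 := by
  obtain ⟨e, -, e1, e2, -⟩ := exists_e h
  rw [← Nat.card_congr (Equiv.ofBijective (fun p => (⟨e p, (e2 _).2 ⟨p, rfl⟩⟩ : Q))
    ⟨fun _ _ e => e1 (congrArg Subtype.val e), fun ⟨g, hg⟩ =>
      ((e2 g).1 hg).imp fun _ e => Subtype.ext e.symm⟩), Nat.card_prod, Nat.card_eq_fintype_card, sq]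

theorem C0.QV (h : C0 X G0 t D T Q s) : Q ≤ C[X.V] := (QC h).trans (C_anti h.V_Q)

theorem C0.nd (h : C0 X G0 t D T Q s) (hu : u ∈ Q) : ¬ DD t u := fun hd => by
  have := h.toLz.toLc.ec h.zn hd (h.QV hu) h.el.pi ((QC h).trans (C_le_C1 hu)) h.QV
  rw [h.card] at this
  have := X.four
  nlinarith

theorem C0.C_t (h : C0 X G0 t D T Q s) (hu : u ∈ Q) (h1 : u * t = t * u) : u ∈ X.V :=
  h.s_ker u hu (s_eq h hu (by rw [h1, X.z_zero, mul_inv_cancel_right, mul_one]))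

theorem C0.cls (h : C0 X G0 t D T Q s) (hu : u ∈ Q) (h1 : t * u * (t * u) = 1) :
    ∃ r ∈ Q, t * u = r * t * r⁻¹ := by
  obtain ⟨b, rfl⟩ := h.C_t hu (by
    rw [eq_inv_of_mul_eq_one_left h1, mul_inv_rev, tinv h,
      inv_eq_of_mul_eq_one_right (h.el u hu)])
  obtain ⟨r, hr, rfl⟩ := h.s_onto b
  exact ⟨r, hr, (h.spec r hr).symm⟩

theorem C0.le_G0 (h : C0 X G0 t D T Q s) : Q ≤ G0 :=
  h.toLz.toLc.le_G0 h.el.pi h.QV (tN h) (fun ht => h.nd ht (DD.refl t)) h.hQ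

/-- a conjugate of `t` of the form `u t` with `u ∈ Q` is conjugate to `t` under `Q` -/
theorem CAx.cls' (h : C0 X G0 t D T Q s) (hu : u ∈ Q) (e : g * t * g⁻¹ = u * t) :
    ∃ r ∈ Q, r⁻¹ * g * t = t * (r⁻¹ * g) := by
  have e1 : t * (t * u * t⁻¹) = u * t := by
    rw [tinv h, ← mul_assoc, ← mul_assoc, tt h, one_mul]
  obtain ⟨r, hr, e2⟩ := h.cls (H24.conj_mem (tN h) hu) (by
    rw [e1, ← e, show g * t * g⁻¹ * (g * t * g⁻¹) = g * (t * t) * g⁻¹ by group, tt h]; group)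
  refine ⟨r, hr, ?_⟩
  rw [e1, ← e] at e2
  calc r⁻¹ * g * t = r⁻¹ * (g * t * g⁻¹) * g := by group
    _ = _ := by rw [e2]; group

theorem C0.two_Q (h : C0 X G0 t D T Q s) (hg : g ∈ C[Q]) (h2 : PiElt {2} g) : g ∈ Q := by
  have zN : zpowers t ≤ N[Q] := zpowers_le.2 (tN h)
  have KN : Q ⊔ zpowers t ≤ N[Q] := sup_le (norm_self Q) zN
  obtain ⟨P, hP, KP⟩ := Sylow_superset Nat.prime_two (h.el.pi.sup (pi2 (tt h)).isPi zN) KN
  have QP : Q ≤ P := le_sup_left.trans KP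
  have tP : zpowers t ≤ P := le_sup_right.trans KP
  have tK : t ∈ Q ⊔ zpowers t := mem_sup_right (mem_zpowers t)
  have n1 : zpowers t ≤ N[P ⊓ C[Q]] := norm_inf (norm_of_le tP) (norm_C zN)
  have le1 : Q ⊔ zpowers t ≤ (P ⊓ C[Q]) ⊔ zpowers t :=
    sup_le_sup_right (le_inf QP (QC h)) _
  have le2 : (P ⊓ C[Q]) ⊔ zpowers t ≤ Q ⊔ zpowers t := by
    by_contra hn
    have lt := ((hP.pi.of_le (sup_le inf_le_left tP)).nil Nat.prime_two).proper_norm
      (lt_of_le_not_ge le1 hn)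
    obtain ⟨x, hx, x3⟩ := SetLike.exists_of_lt lt
    obtain ⟨x1, x2⟩ := mem_inf.1 hx
    obtain ⟨y, hy, τ, hτ, rfl⟩ := (mem_sup_of_norm n1).1 x1
    have τK : τ ∈ Q ⊔ zpowers t := mem_sup_right hτ
    have yN : y ∈ N[Q ⊔ zpowers t] := by
      have := mul_mem x2 (inv_mem (norm_self _ τK))
      rwa [mul_inv_cancel_right] at this
    obtain ⟨u, hu, τ', hτ', e⟩ := (mem_sup_of_norm zN).1 (H24.conj_mem yN tK)
    rcases zp2 (tt h) hτ' with rfl | rfl
    · rw [mul_one] at e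
      exact h.nd hu ⟨y, e.symm⟩
    obtain ⟨r, hr, e1⟩ := cls' h hu e
    have := h.toLz.toLc.two_E (mul_mem (inv_mem (h.QV hr)) (C_anti h.V_Q hy.2)) e1
      (hP.pi.piElt (mul_mem (inv_mem (QP hr)) hy.1))
    have hE : X.E τ' ≤ Q ⊔ zpowers τ' := sup_le le_sup_right (h.V_Q.trans le_sup_left)
    refine x3 (mul_mem ?_ τK)
    have := mul_mem (mem_sup_left hr : r ∈ Q ⊔ zpowers τ') (hE this)
    rwa [mul_inv_cancel_left] at this
  have key : ∀ x ∈ P, x ∈ C[Q] → x ∈ Q := fun x x1 x2 => by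
    obtain ⟨u, hu, τ', hτ', rfl⟩ := (mem_sup_of_norm zN).1 (le2 (mem_sup_left ⟨x1, x2⟩))
    rcases zp2 (tt h) hτ' with rfl | rfl
    · rwa [mul_one]
    · refine absurd ?_ (t_nC h)
      have := mul_mem (inv_mem (QC h hu)) x2
      rwa [inv_mul_cancel_left] at this
  obtain ⟨m, hm, e⟩ := Sylow_Jsub Nat.prime_two hP h2.isPi (zpowers_le.2 (C_le_N Q hg))
  exact (conj_mem_iff hm).1 (key _ (e (conj_mem_cj m (mem_zpowers g))) (H24.conj_mem (N_le_NC Q hm) hg))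

theorem C0.adj (h : C0 X G0 t D T Q s) (hg : g ∈ N[Q]) (h1 : g * t * g⁻¹ * t ∈ C[Q]) :
    ∃ k ∈ C[Q], k * g * t = t * (k * g) := by
  obtain ⟨c, hc⟩ : ∃ c, c = g * t * g⁻¹ * t := ⟨_, rfl⟩
  rw [← hc] at h1
  have e0 : g * t * g⁻¹ = c * t := by rw [hc, mul_assoc _ t t, tt h, mul_one]
  have e1 : t * c⁻¹ * t⁻¹ = c := by
    rw [hc, mul_inv_rev, mul_inv_rev, mul_inv_rev, inv_inv, tinv h, ← mul_assoc t t, tt h]
    group
  obtain ⟨a, m, ⟨j, rfl⟩, ho⟩ := Nat.exists_eq_two_pow_mul_odd (orderOf_pos c).ne'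
  have hq : c ^ (2 * j + 1) ∈ Q := h.two_Q (pow_mem h1 _)
    (piElt_of_pow_eq_one (piNat_self_pow Nat.prime_two a)
      (by rw [← pow_mul, mul_comm, ← ho, pow_orderOf_eq_one]))
  have e2 : t * (c ^ j)⁻¹ = c ^ j * t := by
    rw [← inv_pow, ← mul_inv_eq_iff_eq_mul, ← conj_pow, e1]
  obtain ⟨r, hr, e3⟩ := cls' h (g := c ^ j * g) hq (by
    rw [show c ^ j * g * t * (c ^ j * g)⁻¹ = c ^ j * (g * t * g⁻¹) * (c ^ j)⁻¹ by group, e0,
      mul_assoc, mul_assoc, e2]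
    group)
  exact ⟨r⁻¹ * c ^ j, mul_mem (inv_mem (QC h hr)) (pow_mem h1 j), by rw [mul_assoc r⁻¹]; exact e3⟩

theorem C0.exists_rho (h : C0 X G0 t D T Q s) :
    ∃ e ρ, Rho X t Q e ρ ∧ ∀ p, s (e p) = p.2 := by
  obtain ⟨e, e0, e1, e2, e3, e4, e5, e6⟩ := exists_e h
  have : ∀ g, ∃ α : Equiv.Perm (F × F), g ∈ N[Q] → ∀ a, e (α a) = g * e a * g⁻¹ := fun g => by
    by_cases hg : g ∈ N[Q]
    · choose f hf using fun a => (e2 _).1 (H24.conj_mem hg ((e2 _).2 ⟨a, rfl⟩))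
      have inj : Function.Injective f := fun a b e => e1 (by
        have := (hf a).trans ((congrArg _ e).trans (hf b).symm)
        exact mul_left_cancel (mul_right_cancel this))
      exact ⟨Equiv.ofBijective f inj.bijective_of_finite, fun _ a => (hf a).symm⟩
    · exact ⟨1, fun h => absurd h hg⟩
  choose ρ hρ using this
  exact ⟨e, ρ, ⟨e0, e1, e2, e3, hρ, Equiv.ext fun p => e1 ((hρ t (tN h) p).trans (e5 p)),
    fun k => Equiv.ext fun p => e1 ((hρ _ (h.hQ k) p).trans (e6 k p))⟩, e4⟩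

end H23.L2
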