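import Mathlib
import Cfsg.Agent.H23.LDefs
import Cfsg.Agent.H23.CA

set_option autoImplicit false
set_option linter.unusedVariables false
set_option linter.unusedSectionVars false

namespace H23.L2

open Cfsg H24 Subgroup
open H2.SZ (St DD Goal)
open scoped MatrixGroups commutatorElement

universe u

variable {G : Type u} [Group G] [Finite G] {F : Type*} [Field F] [Fintype F]
  {L G0 D T B R Q S S1 A P N M H : Subgroup G} {t f g i j ρ z u : G} {X : LD F L} {n : ℕ}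
  {π s : G → F}

/-! ### CA2 -/
section
variable {e : F × F → G} {ρ : G → Equiv.Perm (F × F)}

open CAx

theorem CA2x.eQ (r : Rho X t Q e ρ) (a : F × F) : e a ∈ Q := (r.mem _).2 ⟨a, rfl⟩

open CA2x

theorem Rho.mul (r : Rho X t Q e ρ) (hf : f ∈ N[Q]) (hg : g ∈ N[Q]) : ρ (f * g) = ρ f * ρ g :=
  Equiv.ext fun a => r.e_inj (by
    rw [r.spec _ (mul_mem hf hg), Equiv.Perm.mul_apply, r.spec f hf, r.spec g hg]; group)

theorem CA2x.fix (r : Rho X t Q e ρ) (hg : g ∈ N[Q]) (a : F × F) :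
    ρ g a = a ↔ g * e a = e a * g := by
  rw [← r.e_inj.eq_iff, r.spec g hg, mul_inv_eq_iff_eq_mul]

theorem Rho.ker (r : Rho X t Q e ρ) (hg : g ∈ N[Q]) : ρ g = 1 ↔ g ∈ C[Q] := by
  rw [mem_C', Equiv.ext_iff]
  refine ⟨fun h x hx => ?_, fun h a => (fix r hg a).2 (h _ (eQ r a))⟩
  obtain ⟨a, rfl⟩ := (r.mem x).1 hx
  exact (fix r hg a).1 (h a)

theorem CA2x.one (r : Rho X t Q e ρ) : ρ 1 = 1 := (r.ker (one_mem _)).2 (one_mem _)

theorem CA2x.inv (r : Rho X t Q e ρ) (hg : g ∈ N[Q]) : ρ g⁻¹ = (ρ g)⁻¹ :=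
  eq_inv_of_mul_eq_one_left (by rw [← r.mul (inv_mem hg) hg, inv_mul_cancel, one r])

theorem CA2x.pow (r : Rho X t Q e ρ) (hg : g ∈ N[Q]) (m : ℕ) : ρ (g ^ m) = ρ g ^ m := by
  induction m with
  | zero => rw [pow_zero, pow_zero, one r]
  | succ m ih => rw [pow_succ, pow_succ, r.mul (pow_mem hg m) hg, ih]

/-- `ρ` as a homomorphism on a subgroup of `N(Q)` -/
def CA2x.hom (r : Rho X t Q e ρ) (hA : A ≤ N[Q]) : A →* Equiv.Perm (F × F) :=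
  MonoidHom.mk' (fun g => ρ g) fun a b => r.mul (hA a.2) (hA b.2)

theorem CA2x.range (r : Rho X t Q e ρ) (hA : A ≤ N[Q]) : (hom r hA).range = im ρ A := by
  refine le_antisymm ?_ ((closure_le _).2 ?_)
  · rintro _ ⟨a, rfl⟩
    exact subset_closure ⟨a, a.2, rfl⟩
  · rintro _ ⟨a, ha, rfl⟩
    exact ⟨⟨a, ha⟩, rfl⟩

theorem Rho.mem_im (r : Rho X t Q e ρ) (hA : A ≤ N[Q]) {α : Equiv.Perm (F × F)} :
    α ∈ im ρ A ↔ ∃ g ∈ A, ρ g = α := by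
  rw [← range r hA]
  exact ⟨fun ⟨a, h⟩ => ⟨a, a.2, h⟩, fun ⟨a, ha, h⟩ => ⟨⟨a, ha⟩, h⟩⟩

theorem Rho.card_im (r : Rho X t Q e ρ) (hA : A ≤ N[Q]) :
    ♯A = ♯(A ⊓ C[Q] : Subgroup G) * ♯(im ρ A) := by
  have : (hom r hA).ker = C[Q].subgroupOf A := by
    ext a
    rw [MonoidHom.mem_ker, mem_subgroupOf]
    exact r.ker (hA a.2)
  rw [← range r hA, ← index_ker, this, inf_comm, ← H24.card_subgroupOf, card_mul_index]

theorem Rho.fx_im (r : Rho X t Q e ρ) (hA : A ≤ N[Q]) :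
    fx (im ρ A) = ♯(Q ⊓ C[A] : Subgroup G) := by
  refine Nat.card_congr (Equiv.ofBijective (fun w => ⟨e w.1, mem_inf.2 ⟨eQ r _, mem_C.2 fun g hg =>
    (fix r (hA hg) _).1 (w.2 _ ((r.mem_im hA).2 ⟨g, hg, rfl⟩))⟩⟩) ⟨fun a b h => ?_, fun x => ?_⟩)
  · exact Subtype.ext (r.e_inj (congrArg Subtype.val h))
  · obtain ⟨x, hx⟩ := x
    obtain ⟨x1, x2⟩ := mem_inf.1 hx
    obtain ⟨a, rfl⟩ := (r.mem x).1 x1
    refine ⟨⟨a, fun α hα => ?_⟩, rfl⟩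
    obtain ⟨g, hg, rfl⟩ := (r.mem_im hA).1 hα
    exact (fix r (hA hg) a).2 (mem_C.1 x2 g hg)

theorem Rho.fx_one (r : Rho X t Q e ρ) (hg : g ∈ N[Q]) :
    fx (zpowers (ρ g)) = ♯(Q ⊓ C{g} : Subgroup G) := by
  have hA : zpowers g ≤ N[Q] := zpowers_le.2 hg
  rw [← C_zpowers, ← r.fx_im hA]
  congr 1
  refine le_antisymm (zpowers_le.2 ((r.mem_im hA).2 ⟨g, mem_zpowers g, rfl⟩)) fun α hα => ?_
  obtain ⟨x, hx, rfl⟩ := (r.mem_im hA).1 hα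
  obtain ⟨m, rfl⟩ := (mem_powers_iff_mem_zpowers.2 hx : x ∈ Submonoid.powers g)
  show ρ (g ^ m) ∈ _
  rw [pow r hg]
  exact pow_mem (mem_zpowers _) m

theorem CA2x.add (r : Rho X t Q e ρ) (hg : g ∈ N[Q]) (a b : F × F) :
    ρ g (a + b) = ρ g a + ρ g b :=
  r.e_inj (by rw [r.spec g hg, r.e_mul, r.e_mul, r.spec g hg, r.spec g hg]; group)

theorem CA2x.tC (h : C0 X G0 t D T Q s) (r : Rho X t Q e ρ) (hg : g ∈ N[Q])
    (h2 : ρ g * tau F = tau F * ρ g) : g * t * g⁻¹ * t ∈ C[Q] := by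
  have tN := tN h
  have tt : tau F * tau F = 1 := by rw [← r.ρ_t, ← r.mul tN tN, tt h, one r]
  rw [← r.ker (mul_mem (mul_mem (mul_mem hg tN) (inv_mem hg)) tN),
    r.mul (mul_mem (mul_mem hg tN) (inv_mem hg)) tN, r.mul (mul_mem hg tN) (inv_mem hg),
    r.mul hg tN, inv r hg, r.ρ_t, h2, mul_inv_cancel_right, tt]

theorem CA2x.NV (h : C0 X G0 t D T Q s) (hg : g ∈ N[Q]) (gt : g * t = t * g) : g ∈ N[X.V] :=
  mem_N_of_finite fun x hx => h.C_t (H24.conj_mem hg (h.V_Q hx)) (by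
    obtain ⟨b, rfl⟩ := hx
    have e2 : g⁻¹ * t = t * g⁻¹ := by
      rw [inv_mul_eq_iff_eq_mul, ← mul_assoc, gt, mul_inv_cancel_right]
    rw [mul_assoc, e2, ← mul_assoc, mul_assoc g, (st2 h).tz X, ← mul_assoc, gt]
    group)

theorem CA2x.ρQ (h : C0 X G0 t D T Q s) (r : Rho X t Q e ρ) (hg : g ∈ Q) : ρ g = 1 :=
  (r.ker (norm_self Q hg)).2 (QC h hg)

theorem CA2x.ρE (h : C0 X G0 t D T Q s) (r : Rho X t Q e ρ) (hg : g ∈ X.E t) :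
    g ∈ N[Q] ∧ (ρ g = 1 ∨ ρ g = tau F) := by
  obtain ⟨b, rfl | rfl⟩ := ((st2 h).mem_E X).1 hg
  · exact ⟨norm_self Q (zQ h b), .inl (ρQ h r (zQ h b))⟩
  · exact ⟨mul_mem (tN h) (norm_self Q (zQ h b)), .inr (by
      rw [r.mul (tN h) (norm_self Q (zQ h b)), ρQ h r (zQ h b), mul_one, r.ρ_t])⟩

theorem CA2x.cen (h : C0 X G0 t D T Q s) (r : Rho X t Q e ρ) (hs : ∀ p, s (e p) = p.2)
    (hg : g ∈ N[Q]) (gt : g * t = t * g) : ∃ (c m : F) (σ : RingAut F), c ≠ 0 ∧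
    (∀ p, ρ g p = (c * σ p.1 + m * σ p.2, c * σ p.2)) ∧ (σ = 1 → m = 0 ∨ m = c) := by
  have gL := (st2 h).Ct g gt
  have gV := NV h hg gt
  obtain ⟨c, c0, hc⟩ := X.actV gL gV
  have a1 : ∀ x, ρ g (x, 0) = (c * X.φ g x, 0) := fun x =>
    r.e_inj (by rw [r.spec g hg, r.e_z, r.e_z, hc])
  have a2 : ∀ p, (ρ g p).2 = c * X.φ g p.2 := fun p => X.z_inj (by
    rw [← hs, r.spec g hg, s_conj h hg gt (eQ r p), hs, hc])
  have a3 : ∀ y, (ρ g (0, y)).1 = (ρ g (0, 1)).1 * X.φ g y := fun y => by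
    rcases eq_or_ne y 0 with rfl | hy
    · rw [a1, map_zero, mul_zero, mul_zero]
    obtain ⟨a, l, hl, e1⟩ := X.conj_h gL gV (Units.mk0 y hy)
    rw [mul_inv_eq_iff_eq_mul] at e1
    have e2 := congrArg ρ e1
    rw [r.mul hg (h.hQ _), r.mul (mul_mem (norm_self Q (zQ h a)) (h.hQ _)) hg,
      r.mul (norm_self Q (zQ h a)) (h.hQ _), ρQ h r (zQ h a), one_mul, r.ρ_h, r.ρ_h] at e2
    have e3 := congrArg (fun α : Equiv.Perm (F × F) => (α (0, 1)).1) e2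
    simp only [Equiv.Perm.mul_apply, scal_apply, Units.val_mk0, mul_zero, mul_one, hl] at e3
    rw [e3, mul_comm]
  have a4 : ∀ p : F × F,
      ρ g p = (c * X.φ g p.1 + (ρ g (0, 1)).1 * X.φ g p.2, c * X.φ g p.2) := fun p => by
    refine Prod.ext ?_ (a2 p)
    conv_lhs => rw [show p = (p.1, 0) + (0, p.2) by simp, add r hg, a1, Prod.fst_add, a3]
  refine ⟨c, _, X.φ g, c0, a4, fun h1 => ?_⟩
  obtain ⟨x, hx, k, d, hd, e1⟩ := h.toLz.toLc.dec' gV gt h1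
  obtain ⟨xN, hx'⟩ := ρE h r hx
  have dC : d ∈ C[Q] := cents_symm h.QD hd
  have e2 : ρ g = ρ x * scal k := by
    rw [e1, r.mul (mul_mem xN (h.hQ k)) (C_le_N Q dC), r.mul xN (h.hQ k),
      (r.ker (C_le_N Q dC)).2 dC, mul_one, r.ρ_h]
  have e3 := a2 (0, 1)
  rcases hx' with e4 | e4
  · left
    rw [e2, e4, one_mul, scal_apply, mul_zero]
  · right
    rw [e2, e4] at e3 ⊢
    simp only [Equiv.Perm.mul_apply, scal_apply, tau_apply, mul_zero, mul_one, zero_add,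
      map_one] at e3 ⊢
    exact e3

theorem C0.yd (h : C0 X G0 t D T Q s) (r : Rho X t Q e ρ) (hs : ∀ p, s (e p) = p.2)
    (hP : IsPi {2} S1) (h1 : S1 ≤ N[Q]) (h2 : t ∈ S1) : YD F (im ρ N[Q]) (im ρ S1) where
  two := X.two
  four := X.four
  add α hα := by
    obtain ⟨g, hg, rfl⟩ := (r.mem_im le_rfl).1 hα
    exact add r hg
  sc k := (r.mem_im le_rfl).2 ⟨_, h.hQ k, r.ρ_h k⟩
  cen α hα h3 := by
    obtain ⟨g, hg, rfl⟩ := (r.mem_im le_rfl).1 hα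
    obtain ⟨k, hk, e1⟩ := h.adj hg (tC h r hg h3)
    have := cen h r hs (mul_mem (C_le_N Q hk) hg) e1
    rwa [r.mul (C_le_N Q hk) hg, (r.ker (C_le_N Q hk)).2 hk, one_mul] at this
  le := closure_mono (Set.image_mono h1)
  pi := by
    rw [← range r h1]
    exact (hP.isPGroup Nat.prime_two).of_surjective _ (hom r h1).rangeRestrict_surjective
  tS := (r.mem_im h1).2 ⟨t, h2, r.ρ_t⟩

theorem C0.lift_T (h : C0 X G0 t D T Q s) (r : Rho X t Q e ρ) (hP : IsPi {2} S1)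
    (h1 : S1 ≤ N[Q]) (QS : Q ≤ S1) (TS : T ≤ S1) (hg : g ∈ S1)
    (h2 : ρ g * tau F = tau F * ρ g) : ∃ c ∈ Q, c * g ∈ T := by
  have tS : t ∈ S1 := TS h.toLz.toLc.toLb.t_T
  have hu := h.two_Q (tC h r (h1 hg) h2)
    (hP.piElt (mul_mem (mul_mem (mul_mem hg tS) (inv_mem hg)) tS))
  obtain ⟨c, hc, e1⟩ := cls' h (g := g) hu (by rw [mul_assoc _ t t, tt h, mul_one])
  exact ⟨c⁻¹, inv_mem hc, h.toLz.toLc.toLb.cen hP TS (mul_mem (inv_mem (QS hc)) hg) e1⟩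

theorem C0.lift_out (h : C0 X G0 t D T Q s) (r : Rho X t Q e ρ) (hP : IsPi {2} S1)
    (h1 : S1 ≤ N[Q]) (QS : Q ≤ S1) (TS : T ≤ S1) {α : Equiv.Perm (F × F)} (ha : α ∈ im ρ S1)
    (h2 : α * tau F = tau F * α) (a2 : α * α = 1) (a1 : α ≠ 1) (a3 : α ≠ tau F) :
    ∃ f ∈ T, X.Out f ∧ ρ f = α ∧ Fr Q f := by
  obtain ⟨g0, hg0, rfl⟩ := (r.mem_im h1).1 ha
  obtain ⟨c, hc, hT⟩ := h.lift_T r hP h1 QS TS hg0 h2
  have e0 : ρ (c * g0) = ρ g0 := by rw [r.mul (norm_self Q hc) (h1 hg0), ρQ h r hc, one_mul]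
  rw [← e0] at a1 a2 a3 ⊢
  generalize c * g0 = g at *
  have Tt : T ≤ C{t} := h.syl.le
  have gN := h.TQ hT
  have g2 : g * g ∈ X.V := h.C_t (h.two_Q ((r.ker (mul_mem gN gN)).1 (by rw [r.mul gN gN, a2]))
    (hP.piElt (TS (mul_mem hT hT)))) (H24.mem_C1.1 (Tt (mul_mem hT hT)))
  obtain ⟨b, hb⟩ := h.toLz.toLc.T_out hT (fun hE => (ρE h r hE).2.elim a1 a3) g2
  have fT : g * X.z b ∈ T := mul_mem hT (h.V_T (X.z_V b))
  refine ⟨_, fT, hb, by rw [r.mul gN (norm_self Q (zQ h b)), ρQ h r (zQ h b), mul_one], ?_⟩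
  obtain ⟨c, -, hc⟩ := X.actV hb.nL hb.nV
  exact fr_ext (s := s) X.two h.V_Q (norm_of_cent h.QV) (h.TQ fT) hb.nV hb.sq (X.out_fr hb)
    (fun a ha b hb => s_mul h ha hb) (fun a ha => CAx.s_ker h ha) h.s_onto (c := c) (σ := X.φ _)
    (fun a ha => X.z_inj (by rw [s_conj h (h.TQ fT) (H24.mem_C1.1 (Tt fT)) ha, hc])) hb.ne

theorem C0.tau_dd (h : C0 X G0 t D T Q s) (r : Rho X t Q e ρ) (hP : PiElt {2} u) (h1 : u ∈ N[Q])
    (uu : u * u = 1) (h2 : ρ u = tau F) (h3 : PiElt {2} (t * u)) :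
    ∃ c ∈ Q, u = c * t * c⁻¹ := by
  have tN := tN h
  have e1 : t * (t * u) = u := by rw [← mul_assoc, tt h, one_mul]
  have := h.cls (h.two_Q ((r.ker (mul_mem tN h1)).1 (by
    rw [r.mul tN h1, h2, ← r.ρ_t, ← r.mul tN tN, tt h, one r])) h3) (by rw [e1, uu])
  rwa [e1] at this
end

end H23.L2
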