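import Mathlib
import Cfsg.Agent.H23.LDefs
import Cfsg.Agent.H23.PU
import Cfsg.Agent.H23.LB
import Cfsg.Agent.H22.MacW4
import Cfsg.Agent.S0112
import Cfsg.Agent.S0113

set_option autoImplicit false
set_option linter.unusedVariables false
set_option linter.unusedSectionVars false

namespace H23.L2

open Cfsg H24 Subgroup
open H2.SZ (St DD Goal)
open scoped MatrixGroups commutatorElement

universe u

variable {G : Type u} [Group G] [Finite G] {F : Type*} [Field F] [Fintype F]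
  {L G0 D T B R Q S S1 A P N M H : Subgroup G} {t f g i j ρ z u : G} {X : LD F L} {n : ℕ}
  {π s : G → F}


namespace YAx
variable {Y S A : Subgroup (Equiv.Perm (F × F))} {f g u : Equiv.Perm (F × F)} {σ σ' : RingAut F}

/-- additive -/
def Add' (g : Equiv.Perm (F × F)) : Prop := ∀ p r, g (p + r) = g p + g r

theorem Add'.zero (h : Add' g) : g 0 = 0 := by
  have := h 0 0
  rw [add_zero] at this
  exact left_eq_add.1 this

theorem Add'.neg (h : Add' g) (p : F × F) : g (-p) = -g p := by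
  have := h p (-p)
  rw [add_neg_cancel, h.zero] at this
  exact (neg_eq_of_add_eq_zero_right this.symm).symm

/-- the fixed points of a group of additive permutations -/
def FixS (A : Subgroup (Equiv.Perm (F × F))) (h : ∀ g ∈ A, Add' g) : AddSubgroup (F × F) where
  carrier := {w | ∀ g ∈ A, g w = w}
  zero_mem' := fun g hg => (h g hg).zero
  add_mem' := fun {a b} ha hb g hg => by rw [h g hg, ha g hg, hb g hg]
  neg_mem' := fun {a} ha g hg => by rw [(h g hg).neg, ha g hg]

/-- the fixed points of an additive permutation -/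
def Fx (g : Equiv.Perm (F × F)) (h : Add' g) : AddSubgroup (F × F) where
  carrier := {w | g w = w}
  zero_mem' := h.zero
  add_mem' := fun {a b} (ha : g a = a) (hb : g b = b) => show g (a + b) = a + b by rw [h, ha, hb]
  neg_mem' := fun {a} (ha : g a = a) => show g (-a) = -a by rw [h.neg, ha]

theorem fx_zp (g : Equiv.Perm (F × F)) : fx (zpowers g) = Nat.card {w // g w = w} := by
  refine Nat.card_congr (Equiv.subtypeEquivRight fun w => ⟨fun h => h g (mem_zpowers g), ?_⟩)
  rintro h _ ⟨n, rfl⟩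
  exact Equiv.Perm.zpow_apply_eq_self_of_apply_eq_self h n

theorem fx_Fx (h : Add' g) : fx (zpowers g) = Nat.card (Fx g h) := fx_zp g

theorem card_W : Nat.card (F × F) = Fintype.card F * Fintype.card F := by
  rw [Nat.card_prod, Nat.card_eq_fintype_card]

theorem add_self (two : (2 : F) = 0) (p : F × F) : p + p = 0 := by
  rw [← two_smul F p, two, zero_smul]

theorem eq_of_add (two : (2 : F) = 0) {p r : F × F} (h : p + r = 0) : p = r := by
  rw [← add_self two r] at h
  exact add_right_cancel h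

theorem card_ineq (U U' : AddSubgroup (F × F)) :
    Nat.card U * Nat.card U' ≤ Nat.card (F × F) * Nat.card (U ⊓ U' : AddSubgroup (F × F)) := by
  have h1 := U.card_mul_index
  have h2 := U'.card_mul_index
  have h3 := (U ⊓ U').card_mul_index
  have h4 : (U ⊓ U').index ≤ U.index * U'.index := AddSubgroup.index_inf_le
  have h5 : 0 < U.index * U'.index :=
    Nat.mul_pos (Nat.pos_of_ne_zero AddSubgroup.index_ne_zero_of_finite)
      (Nat.pos_of_ne_zero AddSubgroup.index_ne_zero_of_finite)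
  refine Nat.le_of_mul_le_mul_right ?_ h5
  calc Nat.card U * Nat.card U' * (U.index * U'.index)
      = (Nat.card U * U.index) * (Nat.card U' * U'.index) := by ring
    _ = Nat.card (F × F) * (Nat.card (U ⊓ U' : AddSubgroup (F × F)) * (U ⊓ U').index) := by
        rw [h1, h2, h3]
    _ ≤ Nat.card (F × F) * (Nat.card (U ⊓ U' : AddSubgroup (F × F)) * (U.index * U'.index)) := by
        gcongr
    _ = _ := by ring

/-- semilinear -/
def Sl (g : Equiv.Perm (F × F)) (σ : RingAut F) : Prop := ∀ (k : F) p, g (k • p) = σ k • g p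

theorem Sl.mul (h : Sl g σ) (h' : Sl f σ') : Sl (g * f) (σ * σ') := fun k p => by
  rw [Equiv.Perm.mul_apply, Equiv.Perm.mul_apply, h', h]; rfl

theorem Sl.uniq (h : Sl g σ) (h' : Sl g σ') : σ = σ' := by
  ext k
  have := (h k (g⁻¹ (1, 0))).symm.trans (h' k _)
  simpa using this

theorem sl_one : Sl (1 : Equiv.Perm (F × F)) 1 := fun k p => rfl

theorem sl_tau : Sl (tau F) 1 := fun k p => by
  ext <;> simp [tau_apply, mul_add]

theorem Sl.sq (h : Sl g σ) (gg : g * g = 1) : σ * σ = 1 := (h.mul h).uniq (gg ▸ sl_one)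

theorem add' (h : YD F Y S) (hg : g ∈ S) : Add' g := h.add g (h.le hg)

theorem cen' (h : YD F Y S) (hg : g ∈ S) (hc : g * tau F = tau F * g) :
    ∃ σ, Sl g σ ∧ (σ = 1 → g = 1 ∨ g = tau F) := by
  obtain ⟨c, m, σ, hc0, h1, h2⟩ := h.cen g (h.le hg) hc
  refine ⟨σ, fun k p => ?_, fun hσ => ?_⟩
  · rw [h1, h1]
    ext <;> simp <;> ring
  · have h3 := h2 hσ
    subst hσ
    have h4 : ∀ n : ℕ, (g ^ n) (1, 0) = (c ^ n, 0) := by
      intro n
      induction n with
      | zero => simp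
      | succ n ih => rw [pow_succ', Equiv.Perm.mul_apply, ih, h1]; simp [pow_succ']
    obtain ⟨k, hk⟩ := h.pi ⟨g, hg⟩
    have hk' : g ^ 2 ^ k = 1 := congrArg Subtype.val hk
    have h5 : c ^ 2 ^ k = 1 := by
      have := h4 (2 ^ k)
      rw [hk'] at this
      exact (congrArg Prod.fst this).symm
    haveI : CharP F 2 := CharTwo.of_one_ne_zero_of_two_eq_zero one_ne_zero h.two
    have h6 : c = 1 := by
      have : (c - 1) ^ 2 ^ k = 0 := by rw [sub_pow_char_pow, h5, one_pow, sub_self]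
      exact sub_eq_zero.1 (pow_eq_zero_iff (by positivity) |>.1 this)
    subst h6
    rcases h3 with rfl | rfl
    · left; ext p <;> simp [h1]
    · right; ext p <;> simp [h1, tau_apply]

theorem ker (h : YD F Y S) (hg : g ∈ S) (hc : g * tau F = tau F * g) (hs : Sl g 1) :
    g = 1 ∨ g = tau F := by
  obtain ⟨σ, h1, h2⟩ := cen' h hg hc
  exact h2 (h1.uniq hs)

theorem exists_ne (h : σ ≠ 1) : ∃ a, σ a ≠ a := by
  by_contra hn
  push Not at hn
  exact h (RingEquiv.ext hn)

theorem free (two : (2 : F) = 0) (ha : Add' g) (gg : g * g = 1) (hs : Sl g σ) (h1 : σ ≠ 1)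
    (w : F × F) : g w = w ↔ ∃ v, w = v + g v := by
  have g2 : ∀ p, g (g p) = p := fun p => by rw [← Equiv.Perm.mul_apply, gg]; rfl
  constructor
  · intro hw
    obtain ⟨a, ha'⟩ := exists_ne h1
    have s2 : σ (σ a) = a := by
      have := congrArg (fun τ : RingAut F => τ a) (hs.sq gg)
      exact this
    have hb : a + σ a ≠ 0 := fun e => ha' (by linear_combination e - a * two)
    refine ⟨(a / (a + σ a)) • w, ?_⟩
    rw [hs, hw, ← add_smul, map_div₀, map_add, s2, add_comm (σ a) a, ← add_div, div_self hb, one_smul]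
  · rintro ⟨v, rfl⟩
    rw [ha, g2, add_comm]

theorem card_fix (two : (2 : F) = 0) (ha : Add' g) (gg : g * g = 1) (hs : Sl g σ) (h1 : σ ≠ 1) :
    Nat.card {w // g w = w} = Fintype.card F := by
  have g2 : ∀ p, g (g p) = p := fun p => by rw [← Equiv.Perm.mul_apply, gg]; rfl
  obtain ⟨a, ha'⟩ := exists_ne h1
  have s2 : σ (σ a) = a := by
    have := congrArg (fun τ : RingAut F => τ a) (hs.sq gg)
    exact this
  have hb : a + σ a ≠ 0 := fun e => ha' (by linear_combination e - a * two)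
  let φ : {w // g w = w} × {w // g w = w} → F × F := fun x => x.1.1 + a • x.2.1
  have hφ : Function.Bijective φ := by
    constructor
    · rintro ⟨⟨v, hv⟩, w, hw⟩ ⟨⟨v', hv'⟩, w', hw'⟩ e
      have e1 : v + a • w = v' + a • w' := e
      have e2 := congrArg g e1
      rw [ha, ha, hs, hs, hv, hw, hv', hw'] at e2
      have e3 : (σ a - a) • w = (σ a - a) • w' := by
        rw [sub_smul, sub_smul]
        linear_combination (exp := 1) e2 - e1
      have e4 : w = w' := smul_right_injective _ (sub_ne_zero.2 ha') e3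
      subst e4
      have e5 : v = v' := add_right_cancel e1
      subst e5
      rfl
    · intro p
      have hw : g ((a + σ a)⁻¹ • (p + g p)) = (a + σ a)⁻¹ • (p + g p) := by
        rw [hs, ha, g2, map_inv₀, map_add, s2, add_comm (σ a) a, add_comm (g p) p]
      have hw' : (a + σ a) • ((a + σ a)⁻¹ • (p + g p)) = p + g p := smul_inv_smul₀ hb _
      generalize (a + σ a)⁻¹ • (p + g p) = w at hw hw'
      refine ⟨⟨⟨p + a • w, ?_⟩, w, hw⟩, ?_⟩
      · rw [ha, hs, hw]
        apply eq_of_add two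
        rw [add_smul] at hw'
        calc g p + σ a • w + (p + a • w) = (a • w + σ a • w) + (p + g p) := by abel
          _ = 0 := by rw [hw', add_self two]
      · change p + a • w + a • w = p
        rw [add_assoc, add_self two, add_zero]
  have := Nat.card_congr (Equiv.ofBijective φ hφ)
  rw [Nat.card_prod, card_W] at this
  exact Nat.mul_self_inj.1 this

theorem card_tau : Nat.card {w // tau F w = w} = Fintype.card F := by
  rw [← Nat.card_eq_fintype_card]
  refine Nat.card_congr ⟨fun w => w.1.1, fun x => ⟨(x, 0), by simp [tau_apply]⟩, ?_, fun _ => rfl⟩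
  rintro ⟨⟨x, y⟩, h⟩
  have : x + y = x := congrArg Prod.fst h
  have h2 : y = 0 := by simpa using this
  subst h2
  rfl

theorem card_le_four {G : Type*} [Group G] {B : Subgroup G} {a b c d : G}
    (h : ∀ x ∈ B, x = a ∨ x = b ∨ x = c ∨ x = d) : ♯B ≤ 4 := by
  have h1 : (B : Set G) ⊆ {a, b, c, d} := fun x hx => h x hx
  have h2 := Set.ncard_le_ncard h1 (Set.toFinite _)
  have h3 : ({a, b, c, d} : Set G).ncard ≤ 4 :=
    (Set.ncard_insert_le _ _).trans (Nat.succ_le_succ ((Set.ncard_insert_le _ _).trans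
      (Nat.succ_le_succ ((Set.ncard_insert_le _ _).trans (by simp)))))
  exact h2.trans h3

theorem card_le_two {G : Type*} [Group G] {B : Subgroup G} {a b : G}
    (h : ∀ x ∈ B, x = a ∨ x = b) : ♯B ≤ 2 := by
  have h1 : (B : Set G) ⊆ {a, b} := fun x hx => h x hx
  have h2 := Set.ncard_le_ncard h1 (Set.toFinite _)
  have h3 : ({a, b} : Set G).ncard ≤ 2 := (Set.ncard_insert_le _ _).trans (by simp)
  exact h2.trans h3

theorem inv_pow' {G : Type*} [Group G] {u r : G} (uu : u * u = 1) (h : u * r * u = r⁻¹) (n : ℕ) :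
    u * r ^ n * u = (r ^ n)⁻¹ := by
  have hu : u⁻¹ = u := inv_eq_of_mul_eq_one_right uu
  calc u * r ^ n * u = (u * r * u⁻¹) ^ n := by rw [conj_pow, hu]
    _ = _ := by rw [hu, h, inv_pow]

/-- a `2`-element of order more than `2` has a power of order `4` -/
theorem exists_four {G : Type*} [Group G] {r : G} {k : ℕ} (hk : r ^ 2 ^ k = 1) (h : r * r ≠ 1) :
    ∃ n : ℕ, r ^ n * r ^ n ≠ 1 ∧ r ^ n * r ^ n * (r ^ n * r ^ n) = 1 := by
  induction k generalizing r with
  | zero => rw [pow_zero, pow_one] at hk; exact absurd (by rw [hk, one_mul]) h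
  | succ k ih =>
    by_cases h2 : r * r * (r * r) = 1
    · exact ⟨1, by rwa [pow_one], by rwa [pow_one]⟩
    · obtain ⟨n, h3, h4⟩ := ih (r := r * r) (by rw [← pow_two, ← pow_mul, ← pow_succ', hk]) h2
      refine ⟨2 * n, ?_, ?_⟩ <;> rwa [pow_mul, pow_two]

end YAx

open YAx

/-! ### YA -/
section
variable {Y S A : Subgroup (Equiv.Perm (F × F))} {f g u : Equiv.Perm (F × F)}
theorem YD.fx_pow (h : YD F Y S) (hA : A ≤ Y) : ∃ j, fx A = 2 ^ j := by
  have h1 : fx A = Nat.card (FixS A fun g hg => h.add g (hA hg)) := rfl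
  have h2 := (FixS A fun g hg => h.add g (hA hg)).card_addSubgroup_dvd_card
  rw [card_W, ← aut_card h.two, ← pow_add] at h2
  obtain ⟨j, -, hj⟩ := (Nat.dvd_prime_pow Nat.prime_two).1 h2
  exact ⟨j, h1.trans hj⟩
theorem fx_anti (hA : A ≤ S) : fx S ≤ fx A :=
  Nat.card_le_card_of_injective (fun w => ⟨w.1, fun g hg => w.2 g (hA hg)⟩)
    fun _ _ e => Subtype.ext (Subtype.mk.inj e)
theorem YD.tt (h : YD F Y S) : tau F * tau F = 1 ∧ tau F ≠ 1 := by
  constructor
  · ext p
    · simp only [Equiv.Perm.mul_apply, tau_apply, Equiv.Perm.one_apply]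
      linear_combination p.2 * h.two
    · rfl
  · intro e
    have : (tau F (0, 1)).1 = 0 := by rw [e]; rfl
    simp [tau_apply] at this
theorem YD.fx_cen (h : YD F Y S) (hg : g ∈ S) (gg : g * g = 1) (g1 : g ≠ 1)
    (h1 : g * tau F = tau F * g) : fx (zpowers g) = Fintype.card F := by
  obtain ⟨σ, h2, h3⟩ := cen' h hg h1
  rw [fx_zp]
  by_cases hσ : σ = 1
  · rw [(h3 hσ).resolve_left g1, card_tau]
  · exact card_fix h.two (add' h hg) gg h2 hσ
theorem YD.cen_two (h : YD F Y S) (hg : g ∈ S) (gg : g * g = 1) (h1 : g * tau F = tau F * g)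
    (hf : f ∈ S) (ff : f * f = 1) (f1 : f ≠ 1) (ft : f ≠ tau F) (h2 : f * tau F = tau F * f) :
    g = 1 ∨ g = tau F ∨ g = f ∨ g = f * tau F := by
  obtain ⟨σ, s1, s2⟩ := cen' h hg h1
  obtain ⟨σ', s3, s4⟩ := cen' h hf h2
  by_cases hσ : σ = 1
  · rcases s2 hσ with e | e
    · exact Or.inl e
    · exact Or.inr (Or.inl e)
  have hσ' : σ' ≠ 1 := fun e => (s4 e).elim f1 ft
  have e := aut_two (s1.sq gg) (s3.sq ff) hσ hσ'
  subst e
  have s5 := s3.mul s1
  rw [s1.sq gg] at s5
  have h3 : f * g * tau F = tau F * (f * g) := by rw [mul_assoc, h1, ← mul_assoc, h2, mul_assoc]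
  rcases ker h (S.mul_mem hf hg) h3 s5 with e | e
  · refine Or.inr (Or.inr (Or.inl ?_))
    rw [← ff] at e
    exact mul_left_cancel e
  · refine Or.inr (Or.inr (Or.inr ?_))
    rw [← e, ← mul_assoc, ff, one_mul]
theorem YD.cases (h : YD F Y S) : (∀ g ∈ S, g * tau F = tau F * g) ∨ ∃ f, YF F Y S f := by
  by_cases hc : ∀ g ∈ S, g * tau F = tau F * g
  · exact Or.inl hc
  right
  push Not at hc
  haveI : Nontrivial S := ⟨⟨⟨_, h.tS⟩, 1, fun e => h.tt.2 (congrArg Subtype.val e)⟩⟩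
  haveI := h.pi.center_nontrivial
  have hp : IsPGroup 2 (center S) := h.pi.to_subgroup _
  obtain ⟨n, hn0, hn⟩ := hp.nontrivial_iff_card.1 inferInstance
  obtain ⟨x, hx⟩ := exists_prime_orderOf_dvd_card' (G := center S) 2
    (by rw [hn]; exact dvd_pow_self 2 hn0.ne')
  have hz : ∀ g ∈ S, g * (x.1.1 : Equiv.Perm (F × F)) = x.1.1 * g := fun g hg =>
    congrArg Subtype.val (mem_center_iff.1 x.2 ⟨g, hg⟩)
  refine ⟨x.1.1, h, x.1.2, ?_, ?_, ?_, hz, hc⟩
  · have := pow_orderOf_eq_one x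
    rw [hx, pow_two] at this
    exact congrArg (fun y : center S => (y.1.1 : Equiv.Perm (F × F))) this
  · intro e
    have : x = 1 := Subtype.ext (Subtype.ext e)
    rw [this, orderOf_one] at hx
    exact absurd hx (by decide)
  · intro e
    obtain ⟨g, hg, hg'⟩ := hc
    exact hg' (e ▸ hz g hg)

namespace YAx

theorem sl_f (h : YF F Y S f) : ∃ σ, Sl f σ ∧ σ ≠ 1 := by
  obtain ⟨σ, s1, s2⟩ := cen' h.toYD h.fS (h.zf _ h.tS).symm
  exact ⟨σ, s1, fun e => (s2 e).elim h.f1 h.ft⟩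

theorem four (h : YF F Y S f) (hg : g ∈ S) (gg : g * g = 1) (h1 : g * tau F = tau F * g) :
    g = 1 ∨ g = tau F ∨ g = f ∨ g = f * tau F :=
  h.toYD.cen_two hg gg h1 h.fS h.ff h.f1 h.ft (h.zf _ h.tS).symm

theorem comm_of_ft (h : YF F Y S f) (hu : u ∈ S) (e : u * (f * tau F) = f * tau F * u) :
    u * tau F = tau F * u := by
  rw [← mul_assoc, h.zf u hu, mul_assoc, mul_assoc] at e
  exact mul_left_cancel e

theorem dih (h : YF F Y S f) (hu : u ∈ S) (uu : u * u = 1) (h1 : u * tau F ≠ tau F * u) :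
    ∃ g ∈ S, g * u * g⁻¹ = u * f ∧ g * tau F * g⁻¹ = f * tau F := by
  have tt := h.toYD.tt.1
  have hr : u * tau F ∈ S := S.mul_mem hu h.tS
  have hi : (u * tau F)⁻¹ = tau F * u := by
    rw [mul_inv_rev, inv_eq_of_mul_eq_one_right uu, inv_eq_of_mul_eq_one_right tt]
  obtain ⟨k, hk⟩ := h.pi ⟨_, hr⟩
  have hk' : (u * tau F) ^ 2 ^ k = 1 := congrArg Subtype.val hk
  obtain ⟨n, h3, h4⟩ := exists_four hk' fun e => h1 (by rw [← hi, inv_eq_of_mul_eq_one_right e])
  have e1 := inv_pow' uu (r := u * tau F) (by rw [hi, ← mul_assoc, uu, one_mul]) n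
  have e2 := inv_pow' tt (r := u * tau F) (by rw [hi, mul_assoc, mul_assoc, tt, mul_one]) n
  have hx := S.pow_mem hr n
  generalize (u * tau F) ^ n = x at h3 h4 e1 e2 hx
  have key : ∀ v : Equiv.Perm (F × F), v * v = 1 → v * x * v = x⁻¹ →
      v * (x * x) = x * x * v ∧ x * v * x⁻¹ = x * x * v := by
    intro v vv e
    have e3 : x * v * x⁻¹ = x * x * v := by
      have : v * x⁻¹ = x * v := by
        rw [← e, ← mul_assoc, ← mul_assoc, vv, one_mul]
      rw [mul_assoc, this, mul_assoc]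
    refine ⟨?_, e3⟩
    have e4 : v * x = x⁻¹ * v := by rw [← e, mul_assoc, vv, mul_one]
    have e5 : x⁻¹ * x⁻¹ = x * x := by
      rw [← mul_inv_rev, inv_eq_of_mul_eq_one_right h4]
    rw [← mul_assoc, e4, mul_assoc, e4, ← mul_assoc, e5]
  obtain ⟨a1, a2⟩ := key u uu e1
  obtain ⟨b1, b2⟩ := key _ tt e2
  rcases four h (S.mul_mem hx hx) h4 b1.symm with e | e | e | e
  · exact absurd e h3
  · exact absurd (e ▸ a1) h1
  · exact ⟨x, hx, by rw [a2, e, h.zf u hu], by rw [b2, e]⟩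
  · exact absurd (comm_of_ft h hu (e ▸ a1)) h1

theorem exists_swap (h : YF F Y S f) : ∃ g ∈ S, g * tau F * g⁻¹ = f * tau F := by
  obtain ⟨g, hg, h1⟩ := h.nz
  have tt := h.toYD.tt.1
  have hu : g * tau F * g⁻¹ ∈ S := S.mul_mem (S.mul_mem hg h.tS) (S.inv_mem hg)
  have uu : g * tau F * g⁻¹ * (g * tau F * g⁻¹) = 1 := by
    calc g * tau F * g⁻¹ * (g * tau F * g⁻¹) = g * (tau F * tau F) * g⁻¹ := by group
      _ = 1 := by rw [tt]; group
  by_cases hc : g * tau F * g⁻¹ * tau F = tau F * (g * tau F * g⁻¹)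
  · rcases four h hu uu hc with e | e | e | e
    · exact absurd (by simpa using e) h.toYD.tt.2
    · exact absurd (mul_inv_eq_iff_eq_mul.1 e) h1
    · rw [mul_inv_eq_iff_eq_mul, ← h.zf g hg] at e
      exact absurd (mul_left_cancel e).symm h.ft
    · exact ⟨g, hg, e⟩
  · obtain ⟨x, hx, -, e⟩ := dih h hu uu hc
    exact ⟨x, hx, e⟩

theorem sq_ne (h : YF F Y S f) (hg : g ∈ S) (h1 : g * tau F = tau F * g) : g * g ≠ tau F := by
  intro e
  obtain ⟨tt, t1⟩ := h.toYD.tt
  obtain ⟨σ, s1, s2⟩ := cen' h.toYD hg h1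
  obtain ⟨σ', s3, s4⟩ := sl_f h
  have s5 : σ * σ = 1 := (s1.mul s1).uniq (e ▸ sl_tau)
  by_cases hσ : σ = 1
  · rcases s2 hσ with rfl | rfl
    · exact t1 (by simpa using e.symm)
    · exact t1 (e.symm.trans tt)
  have e1 := aut_two s5 (s3.sq h.ff) hσ s4
  subst e1
  have s6 := s3.mul s1
  rw [s5] at s6
  have h3 : f * g * tau F = tau F * (f * g) := by
    rw [mul_assoc, h1, ← mul_assoc, ← h.zf _ h.tS, mul_assoc]
  have h4 : f * g * (f * g) = tau F := by
    calc f * g * (f * g) = f * (g * f) * g := by group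
      _ = f * f * (g * g) := by rw [h.zf g hg]; group
      _ = _ := by rw [h.ff, one_mul, e]
  rcases ker h.toYD (S.mul_mem h.fS hg) h3 s6 with e2 | e2
  · rw [e2, one_mul] at h4; exact t1 h4.symm
  · rw [e2, tt] at h4; exact t1 h4.symm

theorem card_W0 (h : YF F Y S f) : Nat.card {w // f w = w} = Fintype.card F := by
  rw [← fx_zp]
  exact h.toYD.fx_cen h.fS h.ff h.f1 (h.zf _ h.tS).symm

theorem el_sup (h : YF F Y S f) (hA : A ≤ S) (h2 : El A) (h3 : f ∉ A) :
    A ⊔ zpowers f ≤ S ∧ El (A ⊔ zpowers f) ∧ ♯(A ⊔ zpowers f : Subgroup _) = ♯A * 2 := by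
  have hc : zpowers f ≤ C[A] := zpowers_le.2 (mem_C.2 fun a ha => h.zf a (hA ha))
  have hz : ∀ x ∈ zpowers f, x = 1 ∨ x = f := fun x hx => by
    classical
    have ho : orderOf f = 2 := orderOf_eq_prime (by rw [pow_two, h.ff]) h.f1
    obtain ⟨n, hn, rfl⟩ := (mem_zpowers_iff_mem_range_orderOf.1 hx |> Finset.mem_image.1)
    rw [ho, Finset.mem_range] at hn
    interval_cases n <;> simp
  refine ⟨sup_le hA (zpowers_le.2 h.fS), fun x hx => ?_, ?_⟩
  · obtain ⟨a, ha, b, hb, rfl⟩ := (mem_sup_of_norm (norm_of_cent hc)).1 hx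
    rcases hz b hb with rfl | rfl
    · rw [mul_one, h2 a ha]
    · calc a * b * (a * b) = a * (b * a) * b := by group
        _ = a * a * (b * b) := by rw [← h.zf a (hA ha)]; group
        _ = 1 := by rw [h2 a ha, h.ff, one_mul]
  · rw [card_sup_of_inf (norm_of_cent hc), card_zpowers',
      orderOf_eq_prime (by rw [pow_two, h.ff]) h.f1]
    rw [eq_bot_iff]
    rintro x ⟨h4, h5⟩
    rcases hz x h5 with rfl | rfl
    · exact one_mem _
    · exact absurd h4 h3

theorem le_of_SR {k : ℕ} (hS : H22.SR k (⊤ : Subgroup S)) (hA : A ≤ S) (h2 : El A) : ♯A ≤ k := by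
  have := H22.sr_top_iff.1 hS ⊥ A hA ⟨fun x hx => h2 x hx, fun x hx y hy => by
    rw [mem_bot, commutatorElement_eq_one_iff_mul_comm, h2.abl.comm hx hy]⟩
  rwa [relIndex_bot_left] at this

end YAx

theorem YF.sq (h : YF F Y S f) : Fintype.card F = 4 ∨ 16 ≤ Fintype.card F := by
  obtain ⟨σ, s1, s2⟩ := sl_f h
  have ho : orderOf σ = 2 := orderOf_eq_prime (by rw [pow_two, s1.sq h.ff]) s2
  have h1 := orderOf_dvd_natCard σ
  have h2 := aut_card h.two
  have h3 := h.four
  rw [ho] at h1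
  obtain ⟨k, hk⟩ := h1
  rw [hk] at h2
  rw [← h2] at h3 ⊢
  rcases k with _ | _ | k
  · simp at h3
  · left; rfl
  · right
    exact (Nat.pow_le_pow_right two_pos (by omega) : 2 ^ 4 ≤ 2 ^ (2 * (k + 1 + 1)))
theorem YF.conj (h : YF F Y S f) (hu : u ∈ S) (uu : u * u = 1) (h1 : u * tau F ≠ tau F * u) :
    ∃ g ∈ S, g * u * g⁻¹ = u * f := by
  obtain ⟨g, hg, e, -⟩ := dih h hu uu h1
  exact ⟨g, hg, e⟩
theorem YF.y1 (h : YF F Y S f) (hu : u ∈ S) (uu : u * u = 1) (u1 : u ≠ 1) :
    fx (zpowers u) ^ 2 ≤ Fintype.card F ^ 3 ∧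
      (fx (zpowers u) ^ 2 = Fintype.card F ^ 3 → ∀ w, f w = w → u w = w) := by
  have h4 := h.four
  by_cases hc : u * tau F = tau F * u
  · rw [h.toYD.fx_cen hu uu u1 hc]
    have : Fintype.card F ^ 2 < Fintype.card F ^ 3 := Nat.pow_lt_pow_right (by omega) (by omega)
    exact ⟨this.le, fun e => absurd e this.ne⟩
  obtain ⟨g, hg, e⟩ := h.conj hu uu hc
  have a1 := add' h.toYD hu
  have a2 := add' h.toYD (S.mul_mem hu h.fS)
  have a3 := add' h.toYD h.fS
  have c1 : Nat.card (Fx u a1) = Nat.card (Fx (u * f) a2) := by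
    refine Nat.card_congr (Equiv.subtypeEquiv g fun w => ?_)
    change u w = w ↔ (u * f) (g w) = g w
    rw [← e]
    simp
  have c2 : Nat.card (Fx f a3) = Fintype.card F := card_W0 h
  have l1 : Fx u a1 ⊓ Fx (u * f) a2 ≤ Fx f a3 := by
    rintro w ⟨h1, h2⟩
    change u w = w at h1
    change u (f w) = w at h2
    exact u.injective (h2.trans h1.symm)
  have l2 := card_ineq (Fx u a1) (Fx (u * f) a2)
  have l3 := AddSubgroup.card_le_of_le l1
  rw [← c1, card_W] at l2
  rw [c2] at l3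
  rw [fx_Fx a1]
  refine ⟨?_, fun e1 w hw => ?_⟩
  · calc _ = _ := pow_two _
      _ ≤ _ := l2
      _ ≤ Fintype.card F * Fintype.card F * Fintype.card F := by gcongr
      _ = _ := by ring
  · have l4 : Nat.card (Fx f a3) ≤ Nat.card (Fx u a1 ⊓ Fx (u * f) a2 : AddSubgroup _) := by
      rw [c2]
      refine Nat.le_of_mul_le_mul_left (c := Fintype.card F * Fintype.card F) ?_ (by positivity)
      rw [← pow_two, e1] at l2
      calc _ = Fintype.card F ^ 3 := by ring
        _ ≤ _ := l2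
    have l5 := AddSubgroup.eq_of_le_of_card_ge l1 l4
    have : w ∈ Fx u a1 ⊓ Fx (u * f) a2 := by rw [l5]; exact hw
    exact this.1
theorem YF.free (h : YF F Y S f) (w : F × F) : f w = w ↔ ∃ v, w = v + f v := by
  obtain ⟨σ, s1, s2⟩ := sl_f h
  exact YAx.free h.two (add' h.toYD h.fS) h.ff s1 s2 w
theorem YF.nml (h : YF F Y S f) (hA : A ≤ S) (h1 : S ≤ N[A]) (h2 : El A) : ♯A ≤ 4 := by
  by_cases hc : ∀ a ∈ A, a * tau F = tau F * a
  · exact card_le_four fun a ha => four h (hA ha) (h2 a ha) (hc a ha)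
  have h3 := le_fix_sq h2 (h1 h.tS) (by rw [h.toYD.tt.1]; exact one_mem _)
  have h4 : ♯(A ⊓ C{tau F} : Subgroup _) ≤ 2 := by
    refine card_le_two (a := 1) (b := f) ?_
    rintro a ⟨ha, ha'⟩
    rcases four h (hA ha) (h2 a ha) (mem_C1.1 ha') with e | e | e | e
    · exact Or.inl e
    · exact absurd (fun b hb => h2.abl.comm hb (e ▸ ha)) hc
    · exact Or.inr e
    · exact absurd (fun b hb => comm_of_ft h (hA hb) (h2.abl.comm hb (e ▸ ha))) hc
  exact h3.trans (Nat.pow_le_pow_left h4 2)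
theorem YF.rank (h : YF F Y S f) (hA : A ≤ S) (h2 : El A) : ♯A ≤ 16 := by
  refine le_of_SR (H22.macwilliams h.pi fun B hB hB2 => ?_) hA h2
  haveI := hB
  have := h.nml (nml_map_subtype B).le (nml_map_subtype B).norm (by
    rintro _ ⟨b, hb, rfl⟩
    exact congrArg Subtype.val (hB2 b hb))
  rwa [card_map_of_injective S.subtype_injective] at this
theorem YF.K (h : YF F Y S f) : ∃ K ≤ S, (∀ g ∈ S, g ∈ K ↔ ∀ w, f w = w → g w = w) ∧ f ∈ K ∧
    El K ∧ S ≤ N[K] ∧ ♯K ≤ 4 ∧ (∀ g ∈ K, ∀ w, f (g w + w) = g w + w) ∧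
    ∀ g ∈ K, g * tau F = tau F * g → g = 1 ∨ g = f := by
  let K : Subgroup (Equiv.Perm (F × F)) :=
    { carrier := {g | g ∈ S ∧ ∀ w, f w = w → g w = w}
      one_mem' := ⟨S.one_mem, fun _ _ => rfl⟩
      mul_mem' := fun {a b} ha hb => ⟨S.mul_mem ha.1 hb.1, fun w hw => by
        rw [Equiv.Perm.mul_apply, hb.2 w hw, ha.2 w hw]⟩
      inv_mem' := fun {a} ha => ⟨S.inv_mem ha.1, fun w hw => by
        rw [Equiv.Perm.inv_eq_iff_eq, ha.2 w hw]⟩ }
  have hK : K ≤ S := fun g hg => hg.1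
  have af := add' h.toYD h.fS
  have fg : ∀ g ∈ S, ∀ w, f (g w) = g (f w) := fun g hg w => by
    rw [← Equiv.Perm.mul_apply, ← h.zf g hg, Equiv.Perm.mul_apply]
  have h1 : ∀ g ∈ K, ∀ w, f (g w + w) = g w + w := fun g hg w => by
    have e := hg.2 _ ((h.free _).2 ⟨w, rfl⟩)
    rw [add' h.toYD hg.1] at e
    rw [af, fg g hg.1]
    apply eq_of_add h.two
    calc g (f w) + f w + (g w + w) = (g w + g (f w)) + (w + f w) := by abel
      _ = 0 := by rw [e, add_self h.two]
  have h2 : El K := fun g hg => by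
    refine Equiv.ext fun w => ?_
    have e := hg.2 _ (h1 g hg w)
    rw [add' h.toYD hg.1, add_comm (g w) w] at e
    exact add_right_cancel e
  have h3 : S ≤ N[K] := le_N_iff.2 fun s hs g hg =>
    ⟨S.mul_mem (S.mul_mem hs hg.1) (S.inv_mem hs), fun w hw => by
      rw [Equiv.Perm.mul_apply, Equiv.Perm.mul_apply, hg.2 _ (by rw [fg _ (S.inv_mem hs), hw])]
      simp⟩
  have hf : f ∈ K := ⟨h.fS, fun _ hw => hw⟩
  have ht : tau F ∉ K := by
    intro ht
    obtain ⟨σ, s1, s2⟩ := sl_f h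
    obtain ⟨a, ha⟩ := exists_ne s2
    have e : ∀ v : F × F, (f v).2 = v.2 := fun v => by
      have e1 := congrArg Prod.fst (ht.2 _ ((h.free _).2 ⟨v, rfl⟩))
      simp only [tau_apply, Prod.fst_add, Prod.snd_add, add_eq_left] at e1
      linear_combination e1 - v.2 * h.two
    have e2 := e (a • (0, 1))
    rw [s1, Prod.smul_snd, e] at e2
    exact ha (by simpa using e2)
  refine ⟨K, hK, fun g hg => ⟨fun e => e.2, fun e => ⟨hg, e⟩⟩, hf, h2, h3, h.nml hK h3 h2, h1,
    fun g hg hc => ?_⟩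
  rcases four h (hK hg) (h2 g hg) hc with e | e | e | e
  · exact Or.inl e
  · exact absurd (e ▸ hg) ht
  · exact Or.inr e
  · exact absurd ((K.mul_mem_cancel_left hf).1 (e ▸ hg)) ht
theorem YF.b1 (h : YF F Y S f) : (∀ A ≤ S, El A → f ∉ A → ♯A ≤ 2) ∨
    ((Fintype.card F = 16 ∨ 256 ≤ Fintype.card F) ∧
      ∃ ψ ∈ S, ψ * tau F = tau F * ψ ∧ ψ * ψ = f) := by
  obtain ⟨tt, t1⟩ := h.toYD.tt
  by_cases hc : ∀ g ∈ S, g * tau F = tau F * g → g * g = 1
  · left
    intro A hA h2 h3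
    let τ : S := ⟨_, h.tS⟩
    let φ : S := ⟨_, h.fS⟩
    have hB : ∀ x : S, x ∈ C{τ} ↔ x = 1 ∨ x = τ ∨ x = φ ∨ x = φ * τ := fun x => by
      rw [mem_C1]
      constructor
      · intro e
        have e' : x.1 * tau F = tau F * x.1 := congrArg Subtype.val e
        rcases four h x.2 (hc _ x.2 e') e' with e | e | e | e
        · exact Or.inl (Subtype.ext e)
        · exact Or.inr (Or.inl (Subtype.ext e))
        · exact Or.inr (Or.inr (Or.inl (Subtype.ext e)))
        · exact Or.inr (Or.inr (Or.inr (Subtype.ext e)))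
      · have e' : φ * τ = τ * φ := Subtype.ext (h.zf _ h.tS).symm
        rintro (rfl | rfl | rfl | rfl)
        · simp
        · rfl
        · exact e'
        · rw [← mul_assoc, e']
    have hφ : ∀ x : S, x * φ = φ * x := fun x => Subtype.ext (h.zf _ x.2)
    have c4 : ♯(C{τ}) = 2 ^ 2 := by
      have e : (C{τ} : Set S) = {1, τ, φ, φ * τ} := Set.ext fun x => hB x
      have n1 : (1 : S) ≠ τ := fun e => t1 (congrArg Subtype.val e).symm
      have n2 : (1 : S) ≠ φ := fun e => h.f1 (congrArg Subtype.val e).symm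
      have n3 : (1 : S) ≠ φ * τ := fun e => h.ft (by
        have e' : 1 = f * tau F := congrArg Subtype.val e
        rw [← h.ff] at e'
        exact mul_left_cancel e')
      have n4 : τ ≠ φ := fun e => h.ft (congrArg Subtype.val e).symm
      have n5 : τ ≠ φ * τ := fun e => n2 (Eq.symm (by simpa using e))
      have n6 : φ ≠ φ * τ := fun e => n1 (Eq.symm (by simpa using e))
      change Nat.card (C{τ} : Set S) = 4
      rw [e, Nat.card_coe_set_eq, Set.ncard_eq_four]
      exact ⟨_, _, _, _, n1, n2, n3, n4, n5, n6, rfl⟩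
    have cc : C[C{τ}] = C{τ} := by
      refine le_antisymm (C_le_C1 (self_mem_C1 τ)) fun x hx => mem_C.2 fun y hy => ?_
      have e := mem_C1.1 hx
      rcases (hB y).1 hy with rfl | rfl | rfl | rfl
      · simp
      · exact e.symm
      · exact (hφ x).symm
      · rw [mul_assoc, ← e, ← mul_assoc, ← hφ x, mul_assoc]
    obtain ⟨n, hn⟩ := IsPGroup.iff_card.1 h.pi
    have n3 : 3 ≤ n := by
      obtain ⟨g, hg, hg'⟩ := h.nz
      have : C{τ} < ⊤ := lt_top_iff_ne_top.2 fun e => hg' (by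
        have : (⟨g, hg⟩ : S) ∈ C{τ} := e ▸ mem_top _
        exact congrArg Subtype.val (mem_C1.1 this))
      have := card_lt this
      rw [c4, card_top, hn] at this
      exact (Nat.pow_lt_pow_iff_right (by decide)).1 this
    obtain ⟨Z, hZ, hZ2⟩ := Cfsg.Agent.S0113.result n n3 hn (Cfsg.Agent.S0112.result n hn _ c4 cc)
    have hsr := (H22.sr_two_of_isCyclic hZ).ext_index (S := ⊤)
    rw [relIndex_top_right, hZ2] at hsr
    obtain ⟨a1, a2, a3⟩ := el_sup h hA h2 h3
    have := le_of_SR hsr a1 a2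
    omega
  right
  push Not at hc
  obtain ⟨g, hg, h1, h2⟩ := hc
  obtain ⟨k, hk⟩ := h.pi ⟨g, hg⟩
  obtain ⟨n, h3, h4⟩ := exists_four (congrArg Subtype.val hk : g ^ 2 ^ k = 1) h2
  have h5 : g ^ n * tau F = tau F * g ^ n := ((show Commute g (tau F) from h1).pow_left n).eq
  have hx := S.pow_mem hg n
  generalize g ^ n = x at h3 h4 h5 hx
  have h6 : x * x * tau F = tau F * (x * x) := by rw [mul_assoc, h5, ← mul_assoc, h5, mul_assoc]
  rcases four h (S.mul_mem hx hx) h4 h6 with e | e | e | e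
  · exact absurd e h3
  · exact absurd e (sq_ne h hx h5)
  · refine ⟨?_, x, hx, h5, e⟩
    obtain ⟨σ, s1, -⟩ := cen' h.toYD hx h5
    obtain ⟨σ', s3, s4⟩ := sl_f h
    have s5 : σ * σ = σ' := (s1.mul s1).uniq (e ▸ s3)
    have ho : orderOf σ = 2 ^ (1 + 1) := orderOf_eq_prime_pow (by rw [pow_one, pow_two, s5]; exact s4)
      (by rw [show 2 ^ (1 + 1) = 2 * 2 from rfl, pow_mul, pow_two, pow_two, s5, s3.sq h.ff])
    have h7 := orderOf_dvd_natCard σ
    have h8 := aut_card h.two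
    have h9 := h.four
    rw [ho] at h7
    obtain ⟨k, hk⟩ := h7
    rw [hk] at h8
    rw [← h8] at h9 ⊢
    rcases k with _ | _ | k
    · simp at h9
    · left; rfl
    · right
      exact (Nat.pow_le_pow_right two_pos (by omega) : 2 ^ 8 ≤ 2 ^ (2 ^ (1 + 1) * (k + 1 + 1)))
  · exfalso
    obtain ⟨y, hy, e1⟩ := exists_swap h
    refine sq_ne h (g := y⁻¹ * x * y) (S.mul_mem (S.mul_mem (S.inv_mem hy) hx) hy) ?_ ?_
    · have e2 : x * (y * tau F * y⁻¹) = y * tau F * y⁻¹ * x := by rw [e1, ← e]; group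
      calc y⁻¹ * x * y * tau F = y⁻¹ * (x * (y * tau F * y⁻¹)) * y := by group
        _ = _ := by rw [e2]; group
    · calc y⁻¹ * x * y * (y⁻¹ * x * y) = y⁻¹ * (x * x) * y := by group
        _ = _ := by rw [e, ← e1]; group
end

end H23.L2
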