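import Mathlib
import Cfsg.Agent.H23.LDefs
import Cfsg.Agent.H23.YA
import Cfsg.Agent.H23.LB
import Cfsg.Agent.H3.MaxClass
import Cfsg.Agent.H6.RankThree

set_option autoImplicit false
set_option linter.unusedVariables false
set_option linter.unusedSectionVars false

namespace H23.L2

open Cfsg H24 Subgroup
open H2.SZ (St DD Goal)
open scoped MatrixGroups commutatorElement

universe u

variable {G : Type u} [Group G] [Finite G] {F : Type*} [Field F] [Fintype F]
  {L G0 D T B R Q S S1 A P N M H : Subgroup G} {t f g i j ρ z u : G} {X : LD F L} {n : ℕ}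
  {π s : G → F}

namespace YB2x

theorem two_cover {X : Subgroup G} (h : ∀ a ∈ A, ∀ b ∈ A, a ∉ X → b ∉ X → b * a ∈ X) :
    ♯A ≤ 2 * ♯(A ⊓ X : Subgroup G) := by
  by_cases hA : A ≤ X
  · rw [inf_eq_left.2 hA]; omega
  obtain ⟨a, ha, aX⟩ := SetLike.not_le_iff_exists.1 hA
  have h2 : X.relIndex A = 2 := relIndex_eq_two_iff_exists_notMem_and.2
    ⟨a, ha, aX, fun b hb => (em (b ∈ X)).elim Or.inr fun bX => Or.inl (h a ha b hb aX bX)⟩
  have h3 := (X.subgroupOf A).index_mul_card
  rw [← relIndex, h2, ← inf_subgroupOf_right,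
    Nat.card_congr (subgroupOfEquivOfLe (inf_le_right : X ⊓ A ≤ A)).toEquiv, inf_comm] at h3
  omega

theorem comm_of (h : El A) {x y : G} (hx : x ∈ A) (hy : y ∈ A) : x * y = y * x := by
  rw [← inv_eq_of_mul_eq_one_right (h _ (mul_mem hx hy)), mul_inv_rev,
    inv_eq_of_mul_eq_one_right (h x hx), inv_eq_of_mul_eq_one_right (h y hy)]

theorem zp {x y : G} (xx : x * x = 1) (hy : y ∈ zpowers x) : y = 1 ∨ y = x :=
  (H3.mem_zpowers_of_sq_eq_one (by rw [pow_two, xx]) hy)

theorem ext {x : G} (h : El A) (xx : x * x = 1) (hc : ∀ a ∈ A, a * x = x * a) (hx : x ∉ A) :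
    El (A ⊔ zpowers x) ∧ ♯(A ⊔ zpowers x : Subgroup G) = 2 * ♯A ∧
      ∀ y ∈ A ⊔ zpowers x, y ∈ A ∨ y * x ∈ A := by
  have x1 : x ≠ 1 := fun e => hx (e ▸ one_mem _)
  have hn : zpowers x ≤ N[A] := zpowers_le.2 (C_le_N _ (mem_C.2 hc))
  have ho : ♯(zpowers x) = 2 := by
    rw [Nat.card_zpowers]; exact orderOf_eq_prime (by rw [pow_two, xx]) x1
  refine ⟨fun y hy => ?_, ?_, fun y hy => ?_⟩
  · obtain ⟨a, ha, b, hb, rfl⟩ := (mem_sup_of_norm hn).1 hy
    rcases zp xx hb with rfl | rfl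
    · rw [mul_one]; exact h a ha
    · calc a * b * (a * b) = a * (b * a) * b := by group
        _ = a * a * (b * b) := by rw [← hc a ha]; group
        _ = 1 := by rw [h a ha, xx, one_mul]
  · rw [card_sup_of_inf hn (by
      rw [inf_comm]
      exact prime_inf_of_not_le (ho ▸ Nat.prime_two) fun h' => hx (zpowers_le.1 h')), ho, mul_comm]
  · obtain ⟨a, ha, b, hb, rfl⟩ := (mem_sup_of_norm hn).1 hy
    rcases zp xx hb with rfl | rfl
    · exact Or.inl (by rwa [mul_one])
    · exact Or.inr (by rwa [mul_assoc, xx, mul_one])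

theorem two_le (h : A ≤ B) (hne : A ≠ B) : 2 * ♯A ≤ ♯B := by
  obtain ⟨k, hk⟩ := card_dvd_of_le h
  have h0 : 0 < ♯B := Nat.card_pos
  have : ♯A ≠ ♯B := fun e => hne (eq_of_card_ge h e.ge)
  rcases k with _ | _ | k
  · omega
  · omega
  · rw [hk]; nlinarith

theorem cyc_inv (hc : IsCyclic A) {x y : G} (hx : x ∈ A) (hy : y ∈ A) (xx : x * x = 1) (yy : y * y = 1)
    (x1 : x ≠ 1) (y1 : y ≠ 1) : x = y := by
  classical
  by_contra hne
  have := Fintype.ofFinite A
  have h1 := IsCyclic.card_pow_eq_one_le (α := A) (n := 2) two_pos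
  have h2 : ({1, ⟨x, hx⟩, ⟨y, hy⟩} : Finset A) ⊆ Finset.univ.filter fun a : A => a ^ 2 = 1 := by
    intro a ha
    simp only [Finset.mem_insert, Finset.mem_singleton] at ha
    rcases ha with rfl | rfl | rfl <;> simp [pow_two, Subtype.ext_iff, xx, yy]
  have h3 := Finset.card_le_card h2
  rw [Finset.card_eq_three.2 ⟨_, _, _, fun e => x1 (congrArg Subtype.val e).symm,
    fun e => y1 (congrArg Subtype.val e).symm, fun e => hne (congrArg Subtype.val e), rfl⟩] at h3
  omega

theorem mc (hG : IsPGroup 2 G) (hx : ♯C{t} ≤ 4) (h8 : 8 ≤ Nat.card G) (h : El A) (h4 : 4 ≤ ♯A) :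
    ∃ c ∈ A, c ≠ 1 ∧ ∀ g, g * c * g⁻¹ = c := by
  obtain ⟨n, hn⟩ := hG.exists_card_eq
  have h3 : 3 ≤ n := by
    by_contra h'
    have : 2 ^ n ≤ 2 ^ 2 := Nat.pow_le_pow_right two_pos (by omega)
    omega
  obtain ⟨C, hC, hi⟩ := H3.exists_cyclic_index_two_of_maxClass h3 hn
    (H3.nilpotencyClass_eq_of_card_centralizer_le (by omega) hn (x := t) hx)
  have h1 := two_cover (A := A) (X := C) fun a _ b _ ha hb =>
    (mul_mem_iff_of_index_two hi).2 (iff_of_false hb ha)
  obtain ⟨c, hc, c1⟩ := exists_ne_one (H := A ⊓ C) fun e => by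
    rw [e, card_bot] at h1; omega
  have := normal_of_index_eq_two hi
  refine ⟨c, hc.1, c1, fun g => cyc_inv hC (this.conj_mem c hc.2 g) hc.2 ?_ (h c hc.1) ?_ c1⟩
  · calc _ = g * (c * c) * g⁻¹ := by group
      _ = 1 := by rw [h c hc.1]; group
  · intro e
    exact c1 (by simpa using e)

theorem abs (hG : IsPGroup 2 G) (tt : t * t = 1) (hc : ♯C{t} ≤ 8) (ff : f * f = 1) (f1 : f ≠ 1)
    (zf : ∀ g, g * f = f * g) (om : ∀ g, g * g = 1 → g * t = t * g → g = 1 ∨ g = t ∨ g = f ∨ g = f * t)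
    (nz : ∃ g, g * t ≠ t * g) (nml : ∀ B : Subgroup G, ⊤ ≤ N[B] → El B → ♯B ≤ 4)
    (hA : El A) (h3 : f ∉ A) : ♯A ≤ 4 := by
  by_contra h4
  have h8 : 8 ≤ ♯A := by
    obtain ⟨k, hk⟩ := (hG.to_subgroup A).exists_card_eq
    rcases k with _ | _ | _ | k
    · omega
    · omega
    · omega
    · rw [hk]; exact Nat.pow_le_pow_right two_pos (show 3 ≤ k + 1 + 1 + 1 by omega)
  obtain ⟨z, u, oz, ou, hz, uz, hu⟩ := H6.exists_normal_four hG A h8 fun e he => by rw [pow_two, hA e he]
  have zz : z * z = 1 := by rw [← pow_two, ← oz, pow_orderOf_eq_one]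
  have uu : u * u = 1 := by rw [← pow_two, ← ou, pow_orderOf_eq_one]
  have u1 : u ≠ 1 := fun e => by rw [e, orderOf_one] at ou; omega
  have hz' := mem_center_iff.1 hz
  obtain ⟨g0, hg0⟩ := nz
  obtain rfl : f = z := by
    rcases om z zz (hz' t).symm with e | e | e | e
    · rw [e, orderOf_one] at oz; omega
    · exact absurd (e ▸ hz' g0) hg0
    · exact e.symm
    · refine absurd (mul_left_cancel (a := f) ?_) hg0
      rw [← mul_assoc, ← zf, mul_assoc, ← e, hz', e, mul_assoc]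
  obtain ⟨e1, c1, -⟩ := ext hA ff (fun a _ => zf a) h3
  have cjf : ∀ b x : G, b * (x * f) * b⁻¹ = b * x * b⁻¹ * f := fun b x => by
    rw [← mul_assoc, mul_assoc _ f, ← zf, ← mul_assoc]
  have cov : ∀ {x : G}, (∀ g, g * x * g⁻¹ = x ∨ g * x * g⁻¹ = x * f) → ∀ a b, a ∉ C{x} → b ∉ C{x} →
      b * a ∈ C{x} := by
    intro x hx a b ha hb
    rw [mem_C1_iff_conj] at ha hb ⊢
    calc _ = b * (a * x * a⁻¹) * b⁻¹ := by group
      _ = b * x * b⁻¹ * f := by rw [(hx a).resolve_left ha, cjf]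
      _ = x := by rw [(hx b).resolve_left hb, mul_assoc, ff, mul_one]
  obtain ⟨E, hE, fE, uE, cE⟩ : ∃ E : Subgroup G, El E ∧ f ∈ E ∧ u ∈ E ∧ 16 ≤ ♯E := by
    have fE : f ∈ A ⊔ zpowers f := mem_sup_right (mem_zpowers f)
    by_cases h : u ∈ A ⊔ zpowers f
    · exact ⟨_, e1, fE, h, by omega⟩
    have h1 := two_cover (A := A ⊔ zpowers f) (X := C{u}) fun a _ b _ => cov hu a b
    obtain ⟨e2, c2, -⟩ := ext (A := (A ⊔ zpowers f) ⊓ C{u}) (fun a ha => e1 a ha.1) uu
      (fun a ha => H24.mem_C1.1 ha.2) fun h' => h h'.1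
    exact ⟨_, e2, mem_sup_left ⟨fE, H24.mem_C1.2 (zf u).symm⟩, mem_sup_right (mem_zpowers u), by omega⟩
  have Et : E ≠ ⊤ := fun e => by
    have := nml E (e ▸ norm_self _) hE
    omega
  have h32 := two_le le_top Et
  rw [card_top] at h32
  rcases hu t with ht | ht
  · have h1 : ∀ g, g * t * g⁻¹ = t ∨ g * t * g⁻¹ = t * f := by
      intro g
      rcases om u uu (mul_inv_eq_iff_eq_mul.1 ht).symm with e | e | e | e
      · exact absurd e u1
      · exact e ▸ hu g
      · exact absurd e uz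
      · have e' : t = u * f := by rw [e, ← zf, mul_assoc, ff, mul_one]
        have : g * t * g⁻¹ = g * u * g⁻¹ * f := by rw [e', cjf]
        rw [this, e']
        rcases hu g with h | h <;> rw [h]
        · exact Or.inl rfl
        · exact Or.inr rfl
    have h2 := two_cover (A := ⊤) (X := C{t}) fun a _ b _ => cov h1 a b
    rw [card_top, top_inf_eq] at h2
    omega
  have zf1 : El (zpowers f) := fun a ha => by rcases zp ff ha with rfl | rfl; exacts [mul_one _, ff]
  obtain ⟨e2, c2, m2⟩ := ext zf1 uu (fun a ha => by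
    rcases zp ff ha with rfl | rfl; exacts [by rw [mul_one, one_mul], (zf u).symm])
    fun h => (zp ff h).elim u1 uz
  have cf : ♯(zpowers f) = 2 := by
    rw [Nat.card_zpowers]; exact orderOf_eq_prime (by rw [pow_two, ff]) f1
  have fN : f ∈ zpowers f ⊔ zpowers u := mem_sup_left (mem_zpowers f)
  have uN : u ∈ zpowers f ⊔ zpowers u := mem_sup_right (mem_zpowers u)
  have nN : ∀ g, g ∈ N[(zpowers f ⊔ zpowers u : Subgroup G)] := fun g => mem_N_of_cj_le (by
    rw [cj_sup, cj_zpowers, cj_zpowers, zf, mul_inv_cancel_right]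
    refine sup_le le_sup_left (zpowers_le.2 ?_)
    rcases hu g with h | h <;> rw [h]
    exacts [uN, mul_mem uN fN])
  have NE : zpowers f ⊔ zpowers u ≤ E := sup_le (zpowers_le.2 fE) (zpowers_le.2 uE)
  generalize zpowers f ⊔ zpowers u = K at e2 c2 m2 fN uN nN NE
  have : K.Normal := ⟨fun x hx g => H24.conj_mem (nN g) hx⟩
  have cQ := card_eq_card_quotient_mul_card_subgroup K
  have cm : ∀ B : Subgroup (G ⧸ K), ♯(B.comap (QuotientGroup.mk' K)) = ♯B * 4 := fun B => by
    have a1 := (B.comap (QuotientGroup.mk' K)).card_mul_index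
    have a2 := B.card_mul_index
    rw [index_comap_of_surjective _ (QuotientGroup.mk'_surjective K), cQ, ← a2, c2, cf] at a1
    have a3 : 0 < B.index := Nat.pos_of_ne_zero B.index_ne_zero_of_finite
    nlinarith
  have hD : ♯C{(t : G ⧸ K)} ≤ 4 := by
    have a1 := cm C{(t : G ⧸ K)}
    have key : ∀ g ∈ (C{(t : G ⧸ K)}).comap (QuotientGroup.mk' K),
        g * t * g⁻¹ = t ∨ g * t * g⁻¹ = t * f := by
      intro g hg
      have b1 : ((t : G) : G ⧸ K) = (g * t * g⁻¹ : G) := (mem_C1_iff_conj.1 hg).symm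
      have b2 := QuotientGroup.eq.1 b1
      have b3 : t * (t⁻¹ * (g * t * g⁻¹)) * (t * (t⁻¹ * (g * t * g⁻¹))) = 1 := by
        calc _ = g * (t * t) * g⁻¹ := by group
          _ = 1 := by rw [tt]; group
      have b4 : g * t * g⁻¹ = t * (t⁻¹ * (g * t * g⁻¹)) := by group
      generalize t⁻¹ * (g * t * g⁻¹) = k at b2 b3 b4
      rw [b4]
      have tu : t * u * (t * u) = f := by
        calc _ = t * u * t⁻¹ * (t * t) * u := by group
          _ = f := by rw [ht, tt, mul_one, mul_assoc, ← zf, ← mul_assoc, uu, one_mul]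
      rcases m2 k b2 with h | h <;> rcases zp ff h with h | h
      · exact Or.inl (by rw [h, mul_one])
      · exact Or.inr (by rw [h])
      · rw [eq_inv_of_mul_eq_one_left h, inv_eq_of_mul_eq_one_right uu, tu] at b3
        exact absurd b3 f1
      · have : k = f * u := by rw [← h, mul_assoc, uu, mul_one]
        refine absurd ?_ f1
        calc f = t * u * (t * u) * (f * f) := by rw [tu, ff, mul_one]
          _ = t * (f * u) * (t * (f * u)) := by
            rw [← zf u, ← mul_assoc t u f]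
            generalize t * u = x
            calc x * x * (f * f) = x * (x * f) * f := by group
              _ = x * (f * x) * f := by rw [zf x]
              _ = _ := by group
          _ = 1 := by rw [← this, b3]
    have a2 := two_cover (A := (C{(t : G ⧸ K)}).comap (QuotientGroup.mk' K)) (X := C{t})
      fun a ha b hb h h' => by
        rw [mem_C1_iff_conj] at h h' ⊢
        calc _ = b * (a * t * a⁻¹) * b⁻¹ := by group
          _ = b * t * b⁻¹ * f := by rw [(key a ha).resolve_left h, cjf]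
          _ = t := by rw [(key b hb).resolve_left h', mul_assoc, ff, mul_one]
    have a3 := card_le (inf_le_right : (C{(t : G ⧸ K)}).comap (QuotientGroup.mk' K) ⊓ C{t} ≤ C{t})
    omega
  have hE' : (E.map (QuotientGroup.mk' K)).comap (QuotientGroup.mk' K) = E :=
    comap_map_eq_self (by rwa [QuotientGroup.ker_mk'])
  have a4 := cm (E.map (QuotientGroup.mk' K))
  rw [hE'] at a4
  obtain ⟨_, ⟨e, he, rfl⟩, c1', hc'⟩ := mc (hG.to_quotient K) hD (by rw [c2, cf] at cQ; omega)
    (A := E.map (QuotientGroup.mk' K)) (by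
      rintro _ ⟨x, hx, rfl⟩
      rw [← map_mul, hE x hx, map_one]) (by omega)
  have eK : e ∉ K := fun h => c1' ((QuotientGroup.eq_one_iff e).2 h)
  obtain ⟨e3, c3, -⟩ := ext e2 (hE e he) (fun a ha => comm_of hE (NE ha) he) eK
  have := nml _ (fun g _ => mem_N_of_cj_le (by
    rw [cj_sup, cj_zpowers, cj_of_mem_N (nN g)]
    refine sup_le le_sup_left (zpowers_le.2 ?_)
    have b1 : ((e : G) : G ⧸ K) = (g * e * g⁻¹ : G) := (hc' g).symm
    have b2 := QuotientGroup.eq.1 b1
    rw [show g * e * g⁻¹ = e * (e⁻¹ * (g * e * g⁻¹)) by group]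
    exact mul_mem (mem_sup_right (mem_zpowers e)) (mem_sup_left b2))) e3
  omega

theorem card_C {Y S : Subgroup (Equiv.Perm (F × F))} (h : YD F Y S) :
    ♯(S ⊓ C{tau F} : Subgroup _) ≤ 2 * Nat.card (RingAut F) := by
  have h1 : ∀ g : (S ⊓ C{tau F} : Subgroup _), ∃ (c m : F) (σ : RingAut F), c ≠ 0 ∧
      (∀ p, g.1 p = (c * σ p.1 + m * σ p.2, c * σ p.2)) ∧ (σ = 1 → m = 0 ∨ m = c) := fun g =>
    h.cen g (h.le g.2.1) (H24.mem_C1.1 g.2.2)
  choose c m σ hc hp hm using h1
  let φ : (S ⊓ C{tau F} : Subgroup _) →* RingAut F := MonoidHom.mk' σ fun a b => by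
    have e : ∀ x, c (a * b) * σ (a * b) x = c a * σ a (c b * σ b x) := fun x => by
      have e1 := congrArg Prod.snd (hp (a * b) (0, x))
      rw [coe_mul, Equiv.Perm.mul_apply, hp b, hp a] at e1
      exact e1.symm
    have e1 := e 1
    simp only [map_one, mul_one] at e1
    ext x
    have e2 := e x
    rw [map_mul, ← mul_assoc, ← e1] at e2
    exact mul_left_cancel₀ (hc _) e2
  have hk : ∀ g ∈ φ.ker, g.1 = 1 ∨ g.1 = tau F := by
    intro g hg
    have s1 : σ g = 1 := hg
    obtain ⟨k, hk⟩ := h.pi ⟨g.1, g.2.1⟩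
    have hk' : g.1 ^ 2 ^ k = 1 := congrArg Subtype.val hk
    have pw : ∀ n : ℕ, ((g.1 ^ n) (0, 1)).2 = c g ^ n := by
      intro n
      induction n with
      | zero => simp
      | succ n ih => rw [pow_succ', Equiv.Perm.mul_apply, hp g, s1, ih, pow_succ']; rfl
    have c1 : c g = 1 := by
      have := CharTwo.of_one_ne_zero_of_two_eq_zero (one_ne_zero' F) h.two
      have e1 := pw (2 ^ k)
      rw [hk'] at e1
      have e2 : (c g - 1) ^ 2 ^ k = 0 := by rw [sub_pow_char_pow, ← e1]; simp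
      exact sub_eq_zero.1 (pow_eq_zero_iff (by positivity) |>.1 e2)
    rcases hm g s1 with e | e
    · left; ext p <;> simp [hp g, s1, c1, e]
    · right; ext p <;> simp [hp g, s1, c1, e, tau_apply]
  have a1 := φ.ker.card_mul_index
  rw [index_ker] at a1
  have a2 : Nat.card φ.range ≤ Nat.card (RingAut F) := by
    have : Finite (RingAut F) := Finite.of_injective (fun σ : RingAut F => (σ : F → F)) DFunLike.coe_injective
    exact Nat.card_le_card_of_injective _ Subtype.val_injective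
  have a3 : Nat.card φ.ker ≤ 2 := by
    classical
    calc _ ≤ Nat.card Bool := Nat.card_le_card_of_injective (fun g : φ.ker => decide (g.1.1 = 1))
          fun a b e => Subtype.ext (Subtype.ext (by
            rcases hk a.1 a.2 with ea | ea <;> rcases hk b.1 b.2 with eb | eb <;>
              simp only [ea, eb, h.tt.2, decide_true, decide_false] at e ⊢ <;> simp at e))
      _ = 2 := by simp
  rw [← a1]
  exact Nat.mul_le_mul a3 a2

end YB2x

/-! ### YB2 -/

open YB2x in
theorem YF.y8 {Y S A : Subgroup (Equiv.Perm (F × F))} {f : Equiv.Perm (F × F)}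
    (h : YF F Y S f) (h16 : Fintype.card F = 16) (hA : A ≤ S) (h2 : El A) (h3 : f ∉ A) :
    ♯A ≤ 4 := by
  have c4 : Nat.card (RingAut F) = 4 :=
    Nat.pow_right_injective le_rfl ((aut_card h.two).trans h16 : 2 ^ _ = 2 ^ 4)
  have hc := card_C h.toYD
  rw [← Nat.card_congr (subgroupOfEquivOfLe hA).toEquiv]
  refine abs (t := (⟨tau F, h.tS⟩ : S)) (f := ⟨f, h.fS⟩) h.pi (Subtype.ext h.tt.1) ?_ (Subtype.ext h.ff)
    (fun e => h.f1 (congrArg Subtype.val e)) (fun g => Subtype.ext (h.zf g g.2)) (fun g gg gt => ?_)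
    ?_ (fun B hB hE => ?_) (fun a ha => Subtype.ext (h2 a ha)) h3
  · refine le_trans (Nat.card_le_card_of_injective
      (fun g : C{(⟨tau F, h.tS⟩ : S)} => (⟨g.1.1, g.1.2,
        H24.mem_C1.2 (congrArg Subtype.val (H24.mem_C1.1 g.2))⟩ : (S ⊓ C{tau F} : Subgroup _)))
      fun a b e => Subtype.ext (Subtype.ext (Subtype.ext_iff.1 e :))) (by omega)
  · simp only [Subtype.ext_iff]
    exact h.cen_two g.2 (congrArg Subtype.val gg) (congrArg Subtype.val gt) h.fS h.ff h.f1 h.ft
      (h.zf _ h.tS).symm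
  · obtain ⟨g, hg, e⟩ := h.nz
    exact ⟨⟨g, hg⟩, fun e' => e (congrArg Subtype.val e')⟩
  · rw [← card_map_of_injective S.subtype_injective]
    refine h.nml (map_subtype_le B) (fun g hg => mem_N_of_finite ?_) ?_
    · rintro _ ⟨x, hx, rfl⟩
      exact ⟨_, H24.conj_mem (hB (mem_top ⟨g, hg⟩)) hx, rfl⟩
    · rintro _ ⟨x, hx, rfl⟩
      exact congrArg Subtype.val (hE x hx)

end H23.L2
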