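import Mathlib
import Cfsg.Agent.H23.LDefs
import Cfsg.Agent.H23.YA
import Cfsg.Agent.H23.YB2

set_option autoImplicit false
set_option linter.unusedVariables false
set_option linter.unusedSectionVars false

namespace H23.L2

open Cfsg H24 Subgroup
open H2.SZ (St DD Goal)
open scoped MatrixGroups commutatorElement

universe u

variable {G : Type u} [Group G] [Finite G] {F : Type*} [Field F] [Fintype F]
  {L G0 D T B R Q S S1 A P N M H : Subgroup G} {t f g i j ρ z u : G} {X : LD F L} {n : ℕ}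
  {π s : G → F}

namespace YB1x

open Equiv

theorem enum4 {Γ : Type*} [Group Γ] [Finite Γ] {X : Subgroup Γ} {w p : Γ} (hw : w ∈ X) (hp : p ∈ X)
    (w1 : w ≠ 1) (p1 : p ≠ 1) (pw : p ≠ w) (ww : w * w = 1) :
    4 ≤ Nat.card X ∧ (Nat.card X ≤ 4 → ∀ x ∈ X, x = 1 ∨ x = w ∨ x = p ∨ x = p * w) := by
  have h1 : ({1, w, p, p * w} : Set Γ) ⊆ X := by
    rintro x (rfl | rfl | rfl | rfl)
    exacts [one_mem _, hw, hp, mul_mem hp hw]
  have a1 : p * w ≠ 1 := fun e => pw (mul_right_cancel (e.trans ww.symm))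
  have a2 : p * w ≠ w := fun e => p1 (mul_right_cancel (e.trans (one_mul w).symm))
  have a3 : p * w ≠ p := fun e => w1 (mul_left_cancel (e.trans (mul_one p).symm))
  have h2 : ({1, w, p, p * w} : Set Γ).ncard = 4 := by
    rw [Set.ncard_insert_of_notMem (by
        rintro (e | e | e); exacts [w1 e.symm, p1 e.symm, a1 e.symm]),
      Set.ncard_insert_of_notMem (by rintro (e | e); exacts [pw e.symm, a2 e.symm]),
      Set.ncard_pair a3.symm]
  have h3 : Nat.card X = (X : Set Γ).ncard := (Nat.card_coe_set_eq (X : Set Γ))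
  refine ⟨h3 ▸ h2 ▸ Set.ncard_le_ncard h1, fun h x hx => ?_⟩
  have := Set.eq_of_subset_of_ncard_le h1 (by rw [← h3, h2]; exact h)
  have hx' : x ∈ ({1, w, p, p * w} : Set Γ) := this ▸ hx
  exact hx'

variable {V : Type*} [AddCommGroup V] [Finite V]

theorem addEnum4 {X : AddSubgroup V} {w p : V} (hw : w ∈ X) (hp : p ∈ X)
    (w1 : w ≠ 0) (p1 : p ≠ 0) (pw : p ≠ w) (ww : w + w = 0) :
    4 ≤ Nat.card X ∧ (Nat.card X ≤ 4 → ∀ x ∈ X, x = 0 ∨ x = w ∨ x = p ∨ x = p + w) :=
  enum4 (Γ := Multiplicative V) (X := X.toSubgroup) hw hp w1 p1 pw ww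

open Classical in
/-- `v ↦ g v + v` -/
noncomputable def dl (g : Perm V) : V →+ V :=
  if h : ∀ p r, g (p + r) = g p + g r then
    AddMonoidHom.mk' (fun v => g v + v) fun a b => by rw [h]; abel
  else 0

theorem dl_ap {g : Perm V} (h : ∀ p r, g (p + r) = g p + g r) (v : V) : dl g v = g v + v := by
  rw [dl, dif_pos h]; rfl

theorem card_split (φ : V →+ V) (U : AddSubgroup V) :
    Nat.card U = Nat.card (U ⊓ φ.ker : AddSubgroup V) * Nat.card (U.map φ) := by
  have h3 := (φ.ker.addSubgroupOf U).card_mul_index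
  rw [← AddSubgroup.relIndex, AddSubgroup.relIndex_ker, ← AddSubgroup.inf_addSubgroupOf_right,
    Nat.card_congr (AddSubgroup.addSubgroupOfEquivOfLe
      (inf_le_right : φ.ker ⊓ U ≤ U)).toEquiv, inf_comm] at h3
  exact h3.symm

theorem card_mul_le {X Y W : AddSubgroup V} (hX : X ≤ W) (hY : Y ≤ W) (h : ∀ v ∈ X, v ∈ Y → v = 0) :
    Nat.card X * Nat.card Y ≤ Nat.card W := by
  rw [← Nat.card_prod]
  refine Nat.card_le_card_of_injective (fun p : X × Y => (⟨p.1 + p.2, add_mem (hX p.1.2) (hY p.2.2)⟩ : W)) ?_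
  rintro ⟨a, b⟩ ⟨c, d⟩ e
  have e' : (a : V) + b = c + d := congrArg Subtype.val e
  have e1 : (a : V) - c = d - b := by rw [sub_eq_sub_iff_add_eq_add, e', add_comm]
  have e2 := h _ (sub_mem a.2 c.2) (e1 ▸ sub_mem d.2 b.2)
  exact Prod.ext (Subtype.ext (sub_eq_zero.1 e2)) (Subtype.ext (sub_eq_zero.1 (e1 ▸ e2)).symm)

theorem inf_bot {X Y W : AddSubgroup V} (hX : X ≤ W) (hY : Y ≤ W)
    (h : ∀ w ∈ W, ∃ x ∈ X, ∃ y ∈ Y, w = x + y) (hc : Nat.card X * Nat.card Y ≤ Nat.card W) :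
    ∀ v ∈ X, v ∈ Y → v = 0 := by
  rw [← Nat.card_prod] at hc
  have h1 : Function.Surjective
      (fun p : X × Y => (⟨p.1 + p.2, add_mem (hX p.1.2) (hY p.2.2)⟩ : W)) := fun w => by
    obtain ⟨x, hx, y, hy, e⟩ := h w w.2
    exact ⟨(⟨x, hx⟩, ⟨y, hy⟩), Subtype.ext e.symm⟩
  intro v hv hv'
  have := (h1.bijective_of_nat_card_le hc).1 (a₁ := (⟨v, hv⟩, 0)) (a₂ := (0, ⟨v, hv'⟩))
    (Subtype.ext (by simp))
  exact congrArg (fun p : X × Y => (p.1 : V)) this

theorem fixpt {S : Subgroup (Perm V)} (hp : IsPGroup 2 S) {X : AddSubgroup V}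
    (hX : ∀ g ∈ S, ∀ x ∈ X, g x ∈ X) (h0 : ∀ g ∈ S, g 0 = 0) (h2 : 2 ∣ Nat.card X) :
    ∃ x ∈ X, x ≠ 0 ∧ ∀ g ∈ S, g x = x := by
  letI : MulAction S X :=
    { smul := fun g x => ⟨g.1 x, hX g g.2 x x.2⟩
      one_smul := fun _ => rfl
      mul_smul := fun _ _ _ => rfl }
  obtain ⟨b, hb, ne⟩ := hp.exists_fixed_point_of_prime_dvd_card_of_fixed_point X h2 (a := 0)
    fun g => Subtype.ext (h0 g g.2)
  exact ⟨b, b.2, fun e => ne (Subtype.ext e.symm), fun g hg => congrArg Subtype.val (hb ⟨g, hg⟩)⟩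

/-- the configuration -/
structure Cx (S : Subgroup (Perm V)) (τ f u : Perm V) : Prop where
  two : ∀ v : V, v + v = 0
  add : ∀ g ∈ S, ∀ p r, g (p + r) = g p + g r
  pi : IsPGroup 2 S
  tS : τ ∈ S
  fS : f ∈ S
  uS : u ∈ S
  tt : τ * τ = 1
  ff : f * f = 1
  f1 : f ≠ 1
  uu : u * u = 1
  zf : ∀ g ∈ S, g * f = f * g
  om : ∀ g ∈ S, g * g = 1 → g * τ = τ * g → g = 1 ∨ g = τ ∨ g = f ∨ g = f * τ
  cV : Nat.card V = 256
  cf : Nat.card (dl f).ker = 16
  cu : Nat.card (dl u).ker = 64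
  tu : τ * u * τ = u * f
  K : ∀ g ∈ S, (∀ w, f w = w → g w = w) ↔ g = 1 ∨ g = f ∨ g = u ∨ g = u * f
  im : ∀ w, f (u w + w) = u w + w
  fr : ∀ w, f w = w → ∃ v, w = v + f v

namespace Cx

variable {S : Subgroup (Perm V)} {τ f u a b g g' : Perm V} (c : Cx S τ f u)
include c

theorem eqa {x y : V} : x + y = 0 ↔ x = y :=
  ⟨fun h => by rw [← add_zero x, ← c.two y, ← add_assoc, h, zero_add], fun h => h ▸ c.two x⟩
theorem ker (hg : g ∈ S) {v : V} : v ∈ (dl g).ker ↔ g v = v := by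
  rw [AddMonoidHom.mem_ker, dl_ap (c.add g hg), c.eqa]
theorem rng (hg : g ∈ S) {x : V} : x ∈ (dl g).range ↔ ∃ v, g v + v = x := by
  simp only [AddMonoidHom.mem_range, dl_ap (c.add g hg)]
theorem zero (hg : g ∈ S) : g 0 = 0 := by
  have := c.add g hg 0 0
  rw [add_zero, c.two] at this; exact this
theorem ufS : u * f ∈ S := mul_mem c.uS c.fS
theorem fc (hg : g ∈ S) (v : V) : g (f v) = f (g v) := congrArg (· v) (c.zf g hg)
theorem tt' (v : V) : τ (τ v) = v := congrArg (· v) c.tt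
theorem ff' (v : V) : f (f v) = v := congrArg (· v) c.ff
theorem uu' (v : V) : u (u v) = v := congrArg (· v) c.uu
theorem ut : u * τ = τ * u * f := by
  calc u * τ = τ * (τ * u * τ) := by rw [← mul_assoc, ← mul_assoc, c.tt, one_mul]
    _ = _ := by rw [c.tu, mul_assoc]
theorem tu' : τ * u = u * f * τ := by rw [← c.tu, mul_assoc, c.tt, mul_one]

theorem symm : Cx S τ f (u * f) := by
  have e : u * f * f = u := by rw [mul_assoc, c.ff, mul_one]
  refine { c with uS := c.ufS, uu := ?_, cu := ?_, tu := ?_, K := fun g hg => ?_, im := fun w => ?_ }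
  · rw [mul_assoc, ← mul_assoc f, ← c.zf u c.uS, e, c.uu]
  · rw [← c.cu]
    refine Nat.card_congr (τ.subtypeEquiv fun v => ?_)
    rw [c.ker c.ufS, c.ker c.uS, ← c.tu, Perm.mul_apply, Perm.mul_apply]
    exact ⟨fun h => by conv_rhs => rw [← h, c.tt'], fun h => by rw [h, c.tt']⟩
  · rw [e, ← mul_assoc, mul_assoc _ f, ← c.zf τ c.tS, ← mul_assoc, c.tu, e]
  · rw [c.K g hg, e]; tauto
  · have : (u * f) w + w = u (f w) + f w + (f w + w) := by
      rw [Perm.mul_apply, add_assoc, ← add_assoc (f w), c.two, zero_add]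
    rw [this, c.add f c.fS, c.im, c.add f c.fS (f w), c.ff', add_comm w]

theorem c1 : Nat.card (dl u).range = 4 := by
  have := card_split (dl u) ⊤
  rw [AddSubgroup.card_top, top_inf_eq, c.cV, c.cu, ← AddMonoidHom.range_eq_map] at this
  omega
theorem w1 {x : V} (hx : x ∈ (dl u).range) : f x = x := by
  obtain ⟨v, rfl⟩ := (c.rng c.uS).1 hx
  exact c.im v
theorem uW {x : V} (hx : f x = x) : u x = x := (c.K u c.uS).2 (by simp) x hx
theorem dec {w : V} (hw : f w = w) : ∃ x ∈ (dl u).range, ∃ y ∈ (dl (u * f)).range, w = x + y := by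
  obtain ⟨v, rfl⟩ := c.fr w hw
  refine ⟨_, (c.rng c.uS).2 ⟨f v, rfl⟩, _, (c.rng c.ufS).2 ⟨v, rfl⟩, ?_⟩
  rw [Perm.mul_apply, add_add_add_comm, c.two, zero_add, add_comm]
theorem dj {v : V} (h1 : v ∈ (dl u).range) (h2 : v ∈ (dl (u * f)).range) : v = 0 :=
  inf_bot (W := (dl f).ker) (fun _ hx => (c.ker c.fS).2 (c.w1 hx)) (fun _ hx => (c.ker c.fS).2 (c.symm.w1 hx))
    (fun _ hw => c.dec ((c.ker c.fS).1 hw)) (by rw [c.c1, c.symm.c1, c.cf]) v h1 h2
theorem mv {k k' : Perm V} (hg : g ∈ S) (hk : k ∈ S) (hk' : k' ∈ S) (h : g * k = k' * g) {x : V}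
    (hx : x ∈ (dl k).range) : g x ∈ (dl k').range := by
  obtain ⟨v, rfl⟩ := (c.rng hk).1 hx
  exact (c.rng hk').2 ⟨g v, by rw [c.add g hg, ← Perm.mul_apply g, h, Perm.mul_apply]⟩
theorem cuf (hg : g ∈ S) (h : g * u = u * g) : g * (u * f) = u * f * g := by
  rw [← mul_assoc, h, mul_assoc, c.zf g hg, mul_assoc]
theorem t12 {x : V} (hx : x ∈ (dl u).range) : τ x ∈ (dl (u * f)).range := c.mv c.tS c.uS c.ufS c.tu' hx
theorem t21 {x : V} (hx : x ∈ (dl (u * f)).range) : τ x ∈ (dl u).range :=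
  c.mv c.tS c.ufS c.uS (by rw [← mul_assoc, ← c.ut]) hx

theorem four (hg : g ∈ S) (hg' : g' ∈ S) (h : g * u = u * g) (h' : g' * u = u * g')
    (n : ¬ ∀ x ∈ (dl u).range, g x = x) (n' : ¬ ∀ x ∈ (dl u).range, g' x = x) :
    ∀ x ∈ (dl u).range, (g * g') x = x := by
  obtain ⟨w, hw, w0, fw⟩ := fixpt (S := S ⊓ C{u}) (c.pi.to_le inf_le_left) (X := (dl u).range)
    (fun k hk x hx => c.mv hk.1 c.uS c.uS (H24.mem_C1.1 hk.2) hx) (fun k hk => c.zero hk.1)
    (by rw [c.c1]; norm_num)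
  obtain ⟨p, hp, np⟩ : ∃ p ∈ (dl u).range, g p ≠ p := by simpa using n
  have gw := fw g ⟨hg, H24.mem_C1.2 h⟩
  have gw' := fw g' ⟨hg', H24.mem_C1.2 h'⟩
  have p0 : p ≠ 0 := fun e => np (by rw [e, c.zero hg])
  have pw : p ≠ w := fun e => np (by rw [e, gw])
  have en := (addEnum4 hw hp w0 p0 pw (c.two w)).2 c.c1.le
  have all : ∀ k ∈ S, k w = w → k p = p → ∀ x ∈ (dl u).range, k x = x := fun k hk a1 a2 x hx => by
    rcases en x hx with rfl | rfl | rfl | rfl
    exacts [c.zero hk, a1, a2, by rw [c.add k hk, a1, a2]]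
  have key : ∀ k ∈ S, k * u = u * k → k w = w → k p ≠ p → k p = p + w := fun k hk a0 a1 a2 => by
    rcases en _ (c.mv hk c.uS c.uS a0 hp) with e | e | e | e
    · exact absurd (k.injective (e.trans (c.zero hk).symm)) p0
    · exact absurd (k.injective (e.trans a1.symm)) pw
    · exact absurd e a2
    · exact e
  refine all _ (mul_mem hg hg') (by rw [Perm.mul_apply, gw', gw]) ?_
  rw [Perm.mul_apply, key g' hg' h' gw' fun e => n' (all g' hg' gw' e), c.add g hg, key g hg h gw np, gw,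
    add_assoc, c.two, add_zero]

theorem sq (hg : g ∈ S) (h : g * u = u * g) : ∀ x ∈ (dl u).range, (g * g) x = x := by
  by_cases n : ∀ x ∈ (dl u).range, g x = x
  · intro x hx; rw [Perm.mul_apply, n x hx, n x hx]
  · exact c.four hg hg h h n n

theorem kk (hg : g ∈ S) (h1 : ∀ x ∈ (dl u).range, g x = x) (h2 : ∀ x ∈ (dl (u * f)).range, g x = x) :
    ∀ w, f w = w → g w = w := fun w hw => by
  obtain ⟨x, hx, y, hy, rfl⟩ := c.dec hw
  rw [c.add g hg, h1 x hx, h2 y hy]

theorem kt (hg : g ∈ S) (h : ∀ w, f w = w → g w = w) (hi : τ * g * τ * g = 1) : g = 1 ∨ g = f := by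
  rcases (c.K g hg).1 h with e | e | e | e
  · exact Or.inl e
  · exact Or.inr e
  · rw [e, c.tu, c.zf u c.uS, mul_assoc, c.uu, mul_one] at hi
    exact absurd hi c.f1
  · rw [e, c.symm.tu, mul_assoc u f f, c.ff, mul_one, ← mul_assoc, c.uu, one_mul] at hi
    exact absurd hi c.f1

theorem nt (hg : g ∈ S) (gg : g * g = 1) (h : g * τ = τ * g) (h' : g * u = u * g) : g = 1 ∨ g = f := by
  have k : τ * u ≠ u * τ := fun e => c.f1 (by
    rw [c.ut] at e; exact (mul_left_cancel ((mul_one _).trans e)).symm)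
  rcases c.om g hg gg h with e | e | e | e
  · exact Or.inl e
  · exact absurd (e ▸ h') k
  · exact Or.inr e
  · rw [e, ← mul_assoc, c.zf u c.uS, mul_assoc, mul_assoc] at h'
    exact absurd (mul_left_cancel h') k

theorem bu (ha : a ∈ S) (h : a * u = u * a) : τ * a * τ * u = u * (τ * a * τ) := by
  calc τ * a * τ * u = τ * (a * (u * f)) * τ := by rw [mul_assoc _ τ u, c.tu']; group
    _ = τ * u * f * a * τ := by rw [c.cuf ha h]; group
    _ = _ := by rw [← c.ut]; group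

theorem one (ha : a ∈ S) (aa : a * a = 1) (h : a * u = u * a) :
    (∀ x ∈ (dl u).range, a x = x) ∨ ∀ x ∈ (dl (u * f)).range, a x = x := by
  by_contra hn
  obtain ⟨n1, n2⟩ := not_or.1 hn
  have hb : τ * a * τ ∈ S := mul_mem (mul_mem c.tS ha) c.tS
  have m1 : ¬ ∀ x ∈ (dl u).range, (τ * a * τ) x = x := fun H => n2 fun x hx => τ.injective (by
    have := H _ (c.t21 hx)
    rwa [Perm.mul_apply, Perm.mul_apply, c.tt'] at this)
  have m2 : ¬ ∀ x ∈ (dl (u * f)).range, (τ * a * τ) x = x := fun H => n1 fun x hx => τ.injective (by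
    have := H _ (c.t12 hx)
    rwa [Perm.mul_apply, Perm.mul_apply, c.tt'] at this)
  have k := c.kk (mul_mem ha hb) (c.four ha hb h (c.bu ha h) n1 m1)
    (c.symm.four ha hb (c.cuf ha h) (c.cuf hb (c.bu ha h)) n2 m2)
  rcases c.kt (mul_mem ha hb) k (by
    calc _ = τ * a * τ * (a * (τ * τ) * a) * τ * a * τ := by group
      _ = τ * a * (τ * τ) * a * τ := by
        rw [show a * (τ * τ) * a = 1 by rw [c.tt, mul_one, aa]]; group
      _ = 1 := by rw [c.tt, mul_one, mul_assoc τ a a, aa, mul_one, c.tt]) with e | e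
  · have e1 : a * τ = τ * a := by
      calc a * τ = a * (τ * a * τ) * (τ * a) * (a * a) := by
            rw [aa]; calc a * τ = a * τ * (a * (τ * τ) * a) := by rw [c.tt, mul_one, aa, mul_one]
              _ = _ := by group
        _ = _ := by rw [e, aa]; group
    rcases c.nt ha aa e1 h with rfl | rfl
    · exact n1 fun _ _ => rfl
    · exact n1 fun _ hx => c.w1 hx
  · have e1 : a * τ = f * (τ * a) := by
      rw [← e]
      calc a * τ = a * τ * (a * (τ * τ) * a) := by rw [c.tt, mul_one, aa, mul_one]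
        _ = _ := by group
    have hau : a * u ∈ S := mul_mem ha c.uS
    rcases c.nt hau (by rw [mul_assoc, ← mul_assoc u, ← h, mul_assoc, c.uu, mul_one, aa]) (by
      rw [mul_assoc, c.ut, ← mul_assoc, ← mul_assoc, e1, c.zf _ (mul_mem (mul_mem c.fS (mul_mem c.tS ha)) c.uS),
        ← mul_assoc, ← mul_assoc, ← mul_assoc, ← mul_assoc, c.ff, one_mul]) (by rw [h, mul_assoc, h, ← mul_assoc]) with e2 | e2
    · refine n1 fun x hx => ?_
      conv_lhs => rw [← c.uW (c.w1 hx), ← Perm.mul_apply, e2]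
      rfl
    · refine n1 fun x hx => ?_
      conv_lhs => rw [← c.uW (c.w1 hx), ← Perm.mul_apply, e2]
      exact c.w1 hx

theorem core (ha : a ∈ S) (aa : a * a = 1) (h : a * u = u * a) (aK : ¬ ∀ w, f w = w → a w = w) :
    Nat.card ((dl u).ker ⊓ (dl a).ker : AddSubgroup V) ≤ 16 := by
  by_contra hc
  have h1 := card_split (dl a) (dl u).ker
  have h3 : Nat.card ((dl u).ker.map (dl a)) ≤ 3 := by
    by_contra h'
    have := Nat.mul_le_mul (not_le.1 hc) (not_le.1 h')
    rw [← h1, c.cu] at this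
    omega
  obtain ⟨w, fw, aw⟩ : ∃ w, f w = w ∧ a w ≠ w := by simpa using aK
  have mem : ∀ v, u v = v → a v + v ∈ (dl u).ker.map (dl a) := fun v hv =>
    ⟨v, (c.ker c.uS).2 hv, dl_ap (c.add a ha) v⟩
  have aa' : ∀ v, a (a v) = v := fun v => congrArg (· v) aa
  obtain ⟨e, e0, fe, ae, he⟩ : ∃ e, e ≠ 0 ∧ f e = e ∧ a e = e ∧ ∀ v, u v = v → a v + v = 0 ∨ a v + v = e := by
    have e0 : a w + w ≠ 0 := fun e => aw (c.eqa.1 e)
    refine ⟨a w + w, e0, by rw [c.add f c.fS, ← c.fc ha, fw], by rw [c.add a ha, aa', add_comm], fun v hv => ?_⟩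
    by_contra hn
    obtain ⟨n1, n2⟩ := not_or.1 hn
    have := (addEnum4 (mem w (c.uW fw)) (mem v hv) e0 n1 n2 (c.two _)).1
    omega
  have fU : ∀ v, u v = v → f v + v ∈ (dl (u * f)).range := fun v hv =>
    (c.rng c.ufS).2 ⟨v, by rw [Perm.mul_apply, c.fc c.uS, hv]⟩
  have big : ¬ ∀ v, u v = v → f v = v := fun H => by
    have : (dl u).ker ≤ (dl f).ker := fun v hv => (c.ker c.fS).2 (H v ((c.ker c.uS).1 hv))
    have := AddSubgroup.card_le_of_le this
    rw [c.cu, c.cf] at this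
    omega
  by_cases t1 : ∀ x ∈ (dl u).range, a x = x
  · refine aK (c.kk ha t1 fun x hx => ?_)
    have h4 := card_split (dl f) (dl u).ker
    have h5 := AddSubgroup.card_le_of_le (inf_le_right : (dl u).ker ⊓ (dl f).ker ≤ _)
    have h6 : (dl u).ker.map (dl f) = (dl (u * f)).range := AddSubgroup.eq_of_le_of_card_ge (by
      rintro _ ⟨v, hv, rfl⟩
      rw [dl_ap (c.add f c.fS)]
      exact fU v ((c.ker c.uS).1 hv)) (by
        rw [c.symm.c1]
        by_contra h'
        have := Nat.mul_le_mul h5 (Nat.le_of_lt_succ (not_le.1 h'))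
        rw [← h4, c.cu, c.cf] at this
        omega)
    obtain ⟨v, hv, rfl⟩ := h6.ge hx
    rw [dl_ap (c.add f c.fS), ← c.eqa, c.add a ha, c.fc ha, add_add_add_comm, ← c.add f c.fS]
    rcases he v ((c.ker c.uS).1 hv) with e' | e' <;> rw [e']
    · rw [c.zero c.fS, add_zero]
    · rw [fe, c.two]
  have t2 := (c.one ha aa h).resolve_left t1
  obtain ⟨x, hx, ax⟩ : ∃ x ∈ (dl u).range, a x ≠ x := by simpa using t1
  have ax1 := c.mv ha c.uS c.uS h hx
  have e1 : e ∈ (dl u).range :=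
    (he x (c.uW (c.w1 hx))).resolve_left (fun e => ax (c.eqa.1 e)) ▸ add_mem ax1 hx
  have hb : τ * a * τ ∈ S := mul_mem (mul_mem c.tS ha) c.tS
  have bu := c.bu ha h
  have b1 : ∀ y ∈ (dl u).range, (τ * a * τ) y = y := fun y hy => by
    rw [Perm.mul_apply, Perm.mul_apply, t2 _ (c.t12 hy), c.tt']
  have bb : τ * a * τ * (τ * a * τ) = 1 := by
    calc _ = τ * (a * (τ * τ) * a) * τ := by group
      _ = 1 := by rw [c.tt, mul_one, aa, mul_one, c.tt]
  have tb : τ * (τ * a * τ) * τ = a := by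
    calc _ = τ * τ * a * (τ * τ) := by group
      _ = a := by rw [c.tt, one_mul, mul_one]
  have bx : (τ * a * τ) (τ x) = τ (a x) := by rw [Perm.mul_apply, Perm.mul_apply, c.tt']
  have ta : τ * a * τ = τ * a * τ := rfl
  generalize hbd : τ * a * τ = b at hb bu b1 bb tb bx
  have hab := mul_mem ha hb
  have abu : a * b * u = u * (a * b) := by rw [mul_assoc, bu, ← mul_assoc, h, mul_assoc]
  rcases c.kt (mul_mem hab hab) (c.kk (mul_mem hab hab) (c.sq hab abu) (c.symm.sq hab (c.cuf hab abu))) (by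
    calc _ = τ * a * τ * (τ * b * τ) * (τ * a * τ) * (τ * b * τ) * (a * b * (a * b)) := by
          calc _ = τ * a * (τ * τ) * b * (τ * τ) * a * (τ * τ) * b * τ * (a * b * (a * b)) := by
                rw [c.tt]; group
            _ = _ := by group
      _ = b * (a * (b * (a * a) * b) * a) * b := by rw [tb, hbd]; group
      _ = 1 := by rw [aa, mul_one, bb, mul_one, aa, mul_one, bb]) with e' | e'
  · rcases c.one hab e' abu with H | H
    · have := H x hx
      rw [Perm.mul_apply, b1 x hx] at this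
      exact ax this
    · have := H _ (c.t12 hx)
      rw [Perm.mul_apply, bx, t2 _ (c.t12 ax1)] at this
      exact ax (τ.injective this)
  · refine big fun v hv => c.eqa.1 (c.dj ?_ (fU v hv))
    have bv : u (b v) = b v := by rw [← Perm.mul_apply, ← bu, Perm.mul_apply, hv]
    have bb' : b (b v) = v := congrArg (· v) bb
    have s1 : ∀ y, u y = y → ∃ ε ∈ (dl u).range, a ε = ε ∧ a y = y + ε := fun y hy => by
      rcases he y hy with r | r
      · exact ⟨0, zero_mem _, c.zero ha, by rw [add_zero, c.eqa.1 r]⟩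
      · exact ⟨e, e1, ae, by rw [← r, add_comm (a y), ← add_assoc, c.two, zero_add]⟩
    obtain ⟨ε, hε, aε, r⟩ := s1 _ bv
    obtain ⟨ε', hε', -, r'⟩ := s1 _ hv
    rw [← e', Perm.mul_apply, Perm.mul_apply, Perm.mul_apply, r, c.add b hb, bb', b1 ε hε, c.add a ha, aε, r',
      show v + ε' + ε + v = v + v + (ε' + ε) by abel, c.two, zero_add]
    exact add_mem hε' hε

theorem swp (ha : a ∈ S) (aa : a * a = 1) (h : a * u = u * f * a) : Nat.card (dl a).ker ≤ 16 := by
  have h1 := card_split (dl u) (dl a).ker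
  have h2 := AddSubgroup.card_le_of_le (AddSubgroup.map_le_range (dl u) (dl a).ker)
  have h' : a * (u * f) = u * a := by
    rw [← mul_assoc, h, c.zf _ (mul_mem c.ufS ha), ← mul_assoc, ← mul_assoc, ← c.zf u c.uS, mul_assoc u f f,
      c.ff, mul_one]
  have h3 := card_mul_le (X := (dl a).ker ⊓ (dl u).ker) (Y := (dl (u * f)).range) (W := (dl f).ker)
    (fun v hv => (c.ker c.fS).2 (u.injective (by
      have a1 := (c.ker ha).1 hv.1
      have a2 := (c.ker c.uS).1 hv.2
      have := congrArg (· v) h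
      simp only [Perm.mul_apply, a1, a2] at this
      rw [← this, a2])))
    (fun v hv => (c.ker c.fS).2 (c.symm.w1 hv))
    fun v hv hv' => c.dj ((c.ker ha).1 hv.1 ▸ c.mv ha c.ufS c.uS h' hv') hv'
  rw [c.symm.c1, c.cf] at h3
  rw [c.c1] at h2
  rw [h1]
  exact (Nat.mul_le_mul (show _ ≤ 4 by omega) h2)

theorem cover (ha : a ∈ S) (hb : b ∈ S) (aa : a * a = 1) (bb : b * b = 1) (ab : b * a * (b * a) = 1)
    (h : a * u = u * a) (h' : b * u = u * b) (aK : ¬ ∀ w, f w = w → a w = w)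
    (bK : ¬ ∀ w, f w = w → b w = w) : ∀ w, f w = w → (b * a) w = w := by
  have hba := mul_mem hb ha
  have bau : b * a * u = u * (b * a) := by rw [mul_assoc, h, ← mul_assoc, h', mul_assoc]
  rcases c.one ha aa h with a1 | a1 <;> rcases c.one hb bb h' with b1 | b1
  · exact c.kk hba (fun x hx => by rw [Perm.mul_apply, a1 x hx, b1 x hx])
      (c.symm.four hb ha (c.cuf hb h') (c.cuf ha h) (fun H => bK (c.kk hb b1 H)) fun H => aK (c.kk ha a1 H))
  · rcases c.one hba ab bau with H | H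
    · exact absurd (c.kk hb (fun x hx => by
        have := H x hx
        rwa [Perm.mul_apply, a1 x hx] at this) b1) bK
    · exact absurd (c.kk ha a1 fun x hx => by
        rw [← b1 _ (c.mv ha c.ufS c.ufS (c.cuf ha h) hx), ← Perm.mul_apply, H x hx]) aK
  · rcases c.one hba ab bau with H | H
    · exact absurd (c.kk ha (fun x hx => by
        rw [← b1 _ (c.mv ha c.uS c.uS h hx), ← Perm.mul_apply, H x hx]) a1) aK
    · exact absurd (c.kk hb b1 fun x hx => by
        have := H x hx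
        rwa [Perm.mul_apply, a1 x hx] at this) bK
  · exact c.kk hba (c.four hb ha h' h (fun H => bK (c.kk hb H b1)) fun H => aK (c.kk ha H a1))
      fun x hx => by rw [Perm.mul_apply, a1 x hx, b1 x hx]

end Cx

theorem fx_le {A : Subgroup (Perm V)} {X : AddSubgroup V} (h : ∀ w, (∀ g ∈ A, g w = w) → w ∈ X) :
    fx A ≤ Nat.card X :=
  Nat.card_le_card_of_injective (fun w : {w : V // ∀ g ∈ A, g w = w} => (⟨w.1, h w.1 w.2⟩ : X))
    fun _ _ e => Subtype.ext (Subtype.ext_iff.1 e :)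

theorem fx_eq {g : Perm V} (two : ∀ v : V, v + v = 0) (h : ∀ p r, g (p + r) = g p + g r) :
    fx (zpowers g) = Nat.card (dl g).ker := by
  refine Nat.card_congr (Equiv.subtypeEquivRight fun w => ?_)
  rw [AddMonoidHom.mem_ker, dl_ap h]
  constructor
  · intro H; rw [H g (mem_zpowers g), two]
  · intro H
    have : g ∈ MulAction.stabilizer (Perm V) w := by
      change g w = w
      rw [← add_zero (g w), ← two w, ← add_assoc, H, zero_add]
    exact fun k hk => zpowers_le.2 this hk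

end YB1x

/-! ### YB1 -/

open YB1x in
theorem YF.y16 {Y S A : Subgroup (Equiv.Perm (F × F))} {f u : Equiv.Perm (F × F)}
    (h : YF F Y S f) (h16 : Fintype.card F = 16) (hu : u ∈ S) (uu : u * u = 1) (u1 : u ≠ 1)
    (h64 : 64 ≤ fx (zpowers u)) (hA : A ≤ S) (h2 : El A) (h3 : f ∉ A) :
    ♯A ≤ 2 ∨ (♯A = 4 ∧ fx A ≤ 16) := by
  have two : ∀ v : F × F, v + v = 0 := fun v =>
    Prod.ext (by change v.1 + v.1 = 0; linear_combination v.1 * h.two)
      (by change v.2 + v.2 = 0; linear_combination v.2 * h.two)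
  have add : ∀ g ∈ S, ∀ p r, g (p + r) = g p + g r := fun g hg => h.add g (h.le hg)
  obtain ⟨y1, y2⟩ := h.y1 hu uu u1
  rw [h16] at y1 y2
  have cu : fx (zpowers u) = 64 := by nlinarith
  have cf : fx (zpowers f) = 16 := h16 ▸ h.fx_cen h.fS h.ff h.f1 (h.zf _ h.tS).symm
  obtain ⟨K, KS, mK, fK, eK, nK, cK, imK, tK⟩ := h.K
  have uK : u ∈ K := (mK u hu).2 (y2 (by rw [cu]; norm_num))
  have uf : u ≠ f := fun e => by rw [e, cf] at cu; omega
  have en := (enum4 fK uK h.f1 u1 uf h.ff).2 cK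
  have cj : ∀ g ∈ S, g * u * g⁻¹ = u ∨ g * u * g⁻¹ = u * f := fun g hg => by
    rcases en _ (H24.conj_mem (nK hg) uK) with e | e | e | e
    · exact absurd (by simpa using e) u1
    · refine absurd ?_ uf
      calc u = g⁻¹ * (g * u * g⁻¹) * g := by group
        _ = f := by rw [e, mul_assoc, ← h.zf g hg, inv_mul_cancel_left]
    · exact Or.inl e
    · exact Or.inr e
  have c : Cx S (tau F) f u :=
    { two := two, add := add, pi := h.pi, tS := h.tS, fS := h.fS, uS := hu, tt := h.tt.1, ff := h.ff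
      f1 := h.f1, uu := uu, zf := h.zf
      om := fun g hg gg gt => h.cen_two hg gg gt h.fS h.ff h.f1 h.ft (h.zf _ h.tS).symm
      cV := by rw [Nat.card_prod, Nat.card_eq_fintype_card, h16]
      cf := fx_eq two (add f h.fS) ▸ cf
      cu := fx_eq two (add u hu) ▸ cu
      tu := by
        have := (cj _ h.tS).resolve_left fun e =>
          (tK u uK (mul_inv_eq_iff_eq_mul.1 e).symm).elim u1 uf
        rwa [inv_eq_of_mul_eq_one_right h.tt.1] at this
      K := fun g hg => (mK g hg).symm.trans ⟨en g, by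
        rintro (rfl | rfl | rfl | rfl); exacts [one_mem _, fK, uK, mul_mem uK fK]⟩
      im := imK u uK
      fr := fun w => (h.free w).1 }
  have h4 := h.y8 h16 hA h2 h3
  refine (le_or_gt (♯A) 2).imp_right fun hc => ?_
  have c4 : ♯A = 4 := by
    obtain ⟨k, hk⟩ := (h.pi.to_le hA).exists_card_eq
    rcases k with _ | _ | k
    · omega
    · omega
    · rw [pow_succ, pow_succ] at hk; omega
  refine ⟨c4, ?_⟩
  by_cases hcm : ∀ a ∈ A, a * u = u * a
  swap
  · obtain ⟨a, ha, na⟩ : ∃ a ∈ A, a * u ≠ u * a := by simpa using hcm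
    exact (fx_le fun w hw => (c.ker (hA ha)).2 (hw a ha)).trans (c.swp (hA ha) (h2 a ha)
      (mul_inv_eq_iff_eq_mul.1 ((cj a (hA ha)).resolve_left fun e => na (mul_inv_eq_iff_eq_mul.1 e))))
  have h5 := YB2x.two_cover (A := A) (X := K) fun a ha b hb aK bK =>
    (mK _ (hA (mul_mem hb ha))).2 (c.cover (hA ha) (hA hb) (h2 a ha) (h2 b hb) (h2 _ (mul_mem hb ha))
      (hcm a ha) (hcm b hb) (fun H => aK ((mK a (hA ha)).2 H)) fun H => bK ((mK b (hA hb)).2 H))
  obtain ⟨k, hk, k1⟩ := exists_ne_one (H := A ⊓ K) fun e => by rw [e, card_bot] at h5; omega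
  obtain ⟨a, ha, aK⟩ := SetLike.not_le_iff_exists.1 fun H : A ≤ K => by
    have := YB2x.two_le H fun e => h3 (e ▸ fK)
    omega
  have aK' : ¬ ∀ w, f w = w → a w = w := fun H => aK ((mK a (hA ha)).2 H)
  refine (fx_le (X := (dl k).ker ⊓ (dl a).ker) fun w hw =>
    ⟨(c.ker (hA hk.1)).2 (hw k hk.1), (c.ker (hA ha)).2 (hw a ha)⟩).trans ?_
  rcases en k hk.2 with rfl | rfl | rfl | rfl
  · exact absurd rfl k1
  · exact absurd hk.1 h3
  · exact c.core (hA ha) (h2 a ha) (hcm a ha) aK'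
  · exact c.symm.core (hA ha) (h2 a ha) (c.cuf (hA ha) (hcm a ha)) aK'

end H23.L2
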