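import Mathlib
import Cfsg.Agent.H23.LDefs
import Cfsg.Agent.H23.YB1
import Cfsg.Agent.H23.YB2

set_option autoImplicit false
set_option linter.unusedVariables false
set_option linter.unusedSectionVars false

namespace H23.L2

open Cfsg H24 Subgroup
open H2.SZ (St DD Goal)
open scoped MatrixGroups commutatorElement

universe u

variable {G : Type u} [Group G] [Finite G] {F : Type*} [Field F] [Fintype F]
  {L G0 D T B R Q S S1 A P N M H : Subgroup G} {t f g i j ρ z u : G} {X : LD F L} {n : ℕ}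
  {π s : G → F}

open YAx

/-! ### YB3 -/
theorem YF.small {Y S A : Subgroup (Equiv.Perm (F × F))} {f : Equiv.Perm (F × F)}
    (h : YF F Y S f) (h4 : Fintype.card F ≠ 4) (h16 : Fintype.card F ≠ 16) (hA : A ≤ S)
    (h2 : El A) (h3 : f ∉ A) : ♯A ^ 2 < Fintype.card F := by
  have h5 := h.sq.resolve_left h4
  rcases h.b1 with h6 | ⟨h6, -⟩
  · have := Nat.pow_le_pow_left (h6 A hA h2 h3) 2
    omega
  · obtain ⟨a1, a2, a3⟩ := el_sup h hA h2 h3
    have h7 := h.rank a1 a2
    have := Nat.pow_le_pow_left (show ♯A ≤ 8 by omega) 2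
    omega
theorem YF.off {Y S A : Subgroup (Equiv.Perm (F × F))} {f : Equiv.Perm (F × F)}
    (h : YF F Y S f) (h4 : Fintype.card F ≠ 4) (hA : A ≤ S) (h2 : El A) (h3 : A ≠ ⊥) :
    ♯A * fx A < Fintype.card F ^ 2 := by
  have h5 := h.sq.resolve_left h4
  by_cases hf : f ∈ A
  · have c1 : fx (zpowers f) = Fintype.card F :=
      h.toYD.fx_cen h.fS h.ff h.f1 (h.zf _ h.tS).symm
    have c2 : fx A ≤ Fintype.card F := c1 ▸ fx_anti (zpowers_le.2 hf)
    obtain ⟨K, hK, hK1, -, -, -, hK4, -⟩ := h.K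
    by_cases hAK : A ≤ K
    · have := (card_le hAK).trans hK4
      calc ♯A * fx A ≤ 4 * Fintype.card F := Nat.mul_le_mul this c2
        _ < _ := by rw [pow_two]; exact Nat.mul_lt_mul_of_pos_right (by omega) (by omega)
    · have c3 : fx A < Fintype.card F := by
        refine lt_of_le_of_ne c2 fun e => hAK fun g hg => (hK1 g (hA hg)).2 fun w hw => ?_
        have a1 : ∀ g ∈ A, Add' g := fun g hg => add' h.toYD (hA hg)
        have l1 : FixS A a1 ≤ Fx f (a1 f hf) := fun w hw => hw f hf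
        have l2 := AddSubgroup.eq_of_le_of_card_ge l1 (by
          rw [← fx_Fx, c1, ← e]; exact le_rfl)
        have : w ∈ FixS A a1 := by rw [l2]; exact hw
        exact this g hg
      calc ♯A * fx A ≤ Fintype.card F * fx A := Nat.mul_le_mul_right _ ((h.rank hA h2).trans h5)
        _ < _ := by rw [pow_two]; exact Nat.mul_lt_mul_of_pos_left c3 (by omega)
  obtain ⟨⟨u, hu⟩, u1⟩ := (Subgroup.ne_bot_iff_exists_ne_one.1 h3)
  have u1' : u ≠ 1 := fun e => u1 (Subtype.ext e)
  have c1 : fx A ≤ fx (zpowers u) := fx_anti (zpowers_le.2 hu)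
  have c2 := (h.y1 (hA hu) (h2 u hu) u1').1
  by_cases h16 : Fintype.card F = 16
  · rw [h16] at c2 ⊢
    by_cases h64 : 64 ≤ fx (zpowers u)
    · have c3 : fx (zpowers u) ≤ 64 := by
        by_contra hc
        have := Nat.pow_le_pow_left (show 65 ≤ fx (zpowers u) by omega) 2
        omega
      rcases h.y16 h16 (hA hu) (h2 u hu) u1' h64 hA h2 hf with c4 | ⟨c4, c5⟩
      · have := Nat.mul_le_mul c4 (c1.trans c3)
        omega
      · rw [c4]; omega
    · have := Nat.mul_le_mul (h.y8 h16 hA h2 hf) (show fx A ≤ 63 by omega)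
      omega
  · have c3 := h.small h4 h16 hA h2 hf
    have c4 : fx A ^ 2 ≤ Fintype.card F ^ 3 := (Nat.pow_le_pow_left c1 2).trans c2
    refine lt_of_pow_lt_pow_left₀ 2 (Nat.zero_le _) ?_
    calc (♯A * fx A) ^ 2 = ♯A ^ 2 * fx A ^ 2 := by ring
      _ ≤ ♯A ^ 2 * Fintype.card F ^ 3 := by gcongr
      _ < Fintype.card F * Fintype.card F ^ 3 := Nat.mul_lt_mul_of_pos_right c3 (by positivity)
      _ = _ := by ring
theorem YF.y4 {Y S : Subgroup (Equiv.Perm (F × F))} {f : Equiv.Perm (F × F)}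
    (h : YF F Y S f) (h4 : Fintype.card F = 4) : ∃ n ∈ S, n * n = 1 ∧
      tau F * n * tau F = n * f ∧ (∀ w, f w = w → n w = w) ∧ ♯S = 8 ∧
      ∀ g ∈ S, (g = 1 ∨ g = f ∨ g = n ∨ g = n * f) ∨
        (g = tau F ∨ g = f * tau F ∨ g = n * tau F ∨ g = n * f * tau F) := by
  classical
  obtain ⟨tt, t1⟩ := h.toYD.tt
  obtain ⟨K, hK, hK1, fK, elK, nK, hK4, -, hK5⟩ := h.K
  have tK : tau F ∉ K := fun e => (hK5 _ e rfl).elim t1 h.ft.symm
  have fg : ∀ g ∈ S, ∀ w, f (g w) = g (f w) := fun g hg w => by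
    rw [← Equiv.Perm.mul_apply, ← h.zf g hg, Equiv.Perm.mul_apply]
  have pres : ∀ g : S, ∀ w, (f (g.1 w) = g.1 w ∧ g.1 w ≠ 0) ↔ (f w = w ∧ w ≠ 0) := fun g w => by
    rw [fg _ g.2, g.1.injective.eq_iff, ← (add' h.toYD g.2).zero, g.1.injective.ne_iff,
      (add' h.toYD g.2).zero]
  let ρ : S →* Equiv.Perm {w : F × F // f w = w ∧ w ≠ 0} :=
    MonoidHom.mk' (fun g => g.1.subtypePerm (pres g)) fun a b => Equiv.ext fun w => Subtype.ext rfl
  have hker : ∀ g : S, g ∈ ρ.ker ↔ g.1 ∈ K := fun g => by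
    rw [hK1 _ g.2, MonoidHom.mem_ker]
    constructor
    · intro e w hw
      by_cases w0 : w = 0
      · rw [w0, (add' h.toYD g.2).zero]
      · exact congrArg Subtype.val (congrArg (fun α : Equiv.Perm {w : F × F // f w = w ∧ w ≠ 0} =>
          α ⟨w, hw, w0⟩) e)
    · intro e
      exact Equiv.ext fun w => Subtype.ext (e w.1 w.2.1)
  have c3 : Nat.card {w : F × F // f w = w ∧ w ≠ 0} = 3 := by
    have e1 : ({w : F × F | f w = w}).ncard = 4 := h4 ▸ card_W0 h
    have e2 := Set.ncard_diff_singleton_of_mem (s := {w : F × F | f w = w})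
      (show (0 : F × F) ∈ _ from (add' h.toYD h.fS).zero)
    rw [e1] at e2
    exact e2
  have c6 : Nat.card ρ.range ∣ 6 := by
    have := card_subgroup_dvd_card ρ.range
    rwa [Nat.card_perm, c3] at this
  obtain ⟨k, hk⟩ := IsPGroup.iff_card.1 (h.pi.of_surjective _ ρ.rangeRestrict_surjective)
  have i2 : ρ.ker.index = 2 := by
    rw [index_ker, hk]
    rw [hk] at c6
    rcases k with _ | _ | k
    · exfalso
      have : ρ.ker.index = 1 := by rw [index_ker, hk]; rfl
      rw [index_eq_one] at this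
      exact tK ((hker ⟨_, h.tS⟩).1 (this ▸ mem_top _))
    · rfl
    · exact absurd ((show 4 ∣ 2 ^ (k + 1 + 1) from ⟨2 ^ k, by ring⟩).trans c6) (by decide)
  have dich : ∀ g ∈ S, g ∈ K ∨ g * tau F ∈ K := fun g hg => by
    by_cases hg' : g ∈ K
    · exact Or.inl hg'
    · refine Or.inr ((hker (⟨g, hg⟩ * ⟨_, h.tS⟩)).1 ?_)
      rw [mul_mem_iff_of_index_two i2, hker, hker]
      exact iff_of_false hg' tK
  have cK : ♯S = ♯K * 2 := by
    have e : ρ.ker = K.subgroupOf S := Subgroup.ext hker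
    rw [← ρ.ker.card_mul_index, i2, e, Nat.card_congr (subgroupOfEquivOfLe hK).toEquiv]
  obtain ⟨n, nK', hn⟩ : ∃ n ∈ K, n * tau F ≠ tau F * n := by
    obtain ⟨g, hg, hg'⟩ := h.nz
    rcases dich g hg with e | e
    · exact ⟨g, e, hg'⟩
    · exact ⟨_, e, fun e' => hg' (mul_right_cancel (b := tau F) (by rw [e', mul_assoc]))⟩
  have n1 : n ≠ 1 := by rintro rfl; simp at hn
  have nf : n ≠ f := by rintro rfl; exact hn (h.zf _ h.tS).symm
  have hset : ({1, f, n, n * f} : Set (Equiv.Perm (F × F))) = K := by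
    refine Set.eq_of_subset_of_ncard_le ?_ ?_
    · rintro x (rfl | rfl | rfl | rfl)
      · exact K.one_mem
      · exact fK
      · exact nK'
      · exact K.mul_mem nK' fK
    · refine hK4.trans (Eq.ge (Set.ncard_eq_four.2 ⟨_, _, _, _, h.f1.symm, n1.symm, ?_, nf.symm, ?_, ?_, rfl⟩))
      · intro e
        rw [← elK n nK'] at e
        exact nf (mul_left_cancel e)
      · intro e; exact n1 (by simpa using e)
      · intro e; exact h.f1 (by simpa using e)
  have memK : ∀ x ∈ K, x = 1 ∨ x = f ∨ x = n ∨ x = n * f := fun x hx => by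
    have : x ∈ ({1, f, n, n * f} : Set (Equiv.Perm (F × F))) := hset ▸ hx
    exact this
  have cK4 : ♯K = 4 := by
    refine le_antisymm hK4 ?_
    change 4 ≤ (K : Set (Equiv.Perm (F × F))).ncard
    rw [← hset]
    refine Eq.ge (Set.ncard_eq_four.2 ⟨_, _, _, _, h.f1.symm, n1.symm, ?_, nf.symm, ?_, ?_, rfl⟩)
    · intro e
      rw [← elK n nK'] at e
      exact nf (mul_left_cancel e)
    · intro e; exact n1 (by simpa using e)
    · intro e; exact h.f1 (by simpa using e)
  have ti : (tau F)⁻¹ = tau F := inv_eq_of_mul_eq_one_right tt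
  refine ⟨n, hK nK', elK n nK', ?_, (hK1 n (hK nK')).1 nK', by rw [cK, cK4], fun g hg => ?_⟩
  · have := H24.conj_mem (nK h.tS) nK'
    rcases memK _ this with e | e | e | e
    · exact absurd (by simpa using e) n1
    · rw [mul_inv_eq_iff_eq_mul, ← h.zf _ h.tS] at e
      exact absurd (mul_left_cancel e) nf
    · exact absurd (mul_inv_eq_iff_eq_mul.1 e).symm hn
    · rwa [ti] at e
  · rcases dich g hg with e | e
    · exact Or.inl (memK g e)
    · right
      have e1 : g = g * tau F * tau F := by rw [mul_assoc, tt, mul_one]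
      rcases memK _ e with e | e | e | e <;> rw [e] at e1
      · exact Or.inl (by rw [e1, one_mul])
      · exact Or.inr (Or.inl e1)
      · exact Or.inr (Or.inr (Or.inl e1))
      · exact Or.inr (Or.inr (Or.inr e1))

end H23.L2
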