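import Mathlib
import Cfsg.Agent.H23.LDefs
import Cfsg.Agent.H23.CA2
import Cfsg.Agent.H23.YB3

set_option autoImplicit false
set_option linter.unusedVariables false
set_option linter.unusedSectionVars false

namespace H23.L2

open Cfsg H24 Subgroup
open H2.SZ (St DD Goal)
open scoped MatrixGroups commutatorElement

universe u

variable {G : Type u} [Group G] [Finite G] {F : Type*} [Field F] [Fintype F]
  {L G0 D T B R Q S S1 A P N M H : Subgroup G} {t f g i j ρ z u : G} {X : LD F L} {n : ℕ}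
  {π s : G → F}

/-! ### CB -/
namespace CBx

/-- the common hypotheses -/
structure Cx (X : LD F L) (G0 : Subgroup G) (t : G) (D T Q : Subgroup G) (s : G → F)
    (S1 : Subgroup G) (e : F × F → G) (ρ : G → Equiv.Perm (F × F)) : Prop where
  h : C0 X G0 t D T Q s
  r : Rho X t Q e ρ
  hs : ∀ p, s (e p) = p.2
  hS : Syl 2 N[Q] S1
  QS : Q ≤ S1
  TS : T ≤ S1

theorem el_cj (h : El A) (g : G) : El (cj g A) := by
  rintro _ ⟨a, ha, rfl⟩
  rw [← map_mul, h a ha, map_one]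

theorem nd_cj (h : C0 X G0 t D T Q s) (hu : u ∈ cj g Q) : ¬ DD t u := fun d =>
  h.nd (mem_cj.1 hu) (by simpa using d.conj g⁻¹)

namespace Cx
variable {e : F × F → G} {ρ : G → Equiv.Perm (F × F)} (c : Cx X G0 t D T Q s S1 e ρ)
include c

theorem tS : t ∈ S1 := c.TS c.h.t_T
theorem yd : YD F (im ρ N[Q]) (im ρ S1) := c.h.yd c.r c.hs c.hS.pi c.hS.le c.tS
theorem cq (hg : g ∈ S1) (h : ρ g = 1) : g ∈ Q :=
  c.h.two_Q ((c.r.ker (c.hS.le hg)).1 h) (c.hS.pi.piElt hg)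
theorem one (hg : g ∈ Q) : ρ g = 1 := (c.r.ker (norm_self Q hg)).2 (c.h.el.abl.le_C hg)
theorem mem (hg : g ∈ S1) : ρ g ∈ im ρ S1 := (c.r.mem_im c.hS.le).2 ⟨g, hg, rfl⟩
theorem mul (hf : f ∈ S1) (hg : g ∈ S1) : ρ (f * g) = ρ f * ρ g :=
  c.r.mul (c.hS.le hf) (c.hS.le hg)
theorem inv (hg : g ∈ S1) : ρ g⁻¹ = (ρ g)⁻¹ :=
  eq_inv_of_mul_eq_one_left (by rw [← c.mul (inv_mem hg) hg, inv_mul_cancel, c.one (one_mem _)])
theorem sq (hg : g ∈ S1) (h : g * g = 1) : ρ g * ρ g = 1 := by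
  rw [← c.mul hg hg, h, c.one (one_mem _)]
theorem card (hA : A ≤ S1) : ♯A = ♯(A ⊓ Q : Subgroup G) * ♯(im ρ A) := by
  rw [c.r.card_im (hA.trans c.hS.le), show A ⊓ C[Q] = A ⊓ Q from le_antisymm
    (fun x hx => ⟨hx.1, c.h.two_Q hx.2 (c.hS.pi.piElt (hA hx.1))⟩)
    (inf_le_inf_left _ c.h.el.abl.le_C)]
theorem im_le (hA : A ≤ S1) : im ρ A ≤ im ρ S1 := closure_mono (Set.image_mono hA)
theorem el_im (hA : A ≤ S1) (h : El A) : El (im ρ A) := fun α ha => by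
  obtain ⟨x, hx, rfl⟩ := (c.r.mem_im (hA.trans c.hS.le)).1 ha
  exact c.sq (hA hx) (h x hx)
theorem two (hA : A ≤ S1) (β : Equiv.Perm (F × F)) (h : ∀ x ∈ A, ρ x = 1 ∨ ρ x = β) :
    ♯A ≤ 2 * ♯(A ⊓ Q : Subgroup G) := by
  have : ♯(im ρ A) ≤ 2 := by
    refine (Set.ncard_le_ncard (s := (im ρ A : Set _)) (t := {1, β}) fun α ha => ?_).trans
      ((Set.ncard_insert_le _ _).trans_eq (by rw [Set.ncard_singleton]))
    obtain ⟨x, hx, rfl⟩ := (c.r.mem_im (hA.trans c.hS.le)).1 ha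
    exact h x hx
  rw [c.card hA, mul_comm]
  exact Nat.mul_le_mul_right _ this
theorem tau_dd (hu : u ∈ S1) (uu : u * u = 1) (h : ρ u = tau F) : ∃ a ∈ Q, u = a * t * a⁻¹ :=
  c.h.tau_dd c.r (c.hS.pi.piElt hu) (c.hS.le hu) uu h (c.hS.pi.piElt (mul_mem c.tS hu))
theorem ntau (hu : u ∈ S1) (h : u ∈ cj g Q) : ρ u ≠ tau F := fun e0 =>
  let ⟨a, _, ha⟩ := c.tau_dd hu (el_cj c.h.el g u h) e0
  nd_cj c.h h ⟨a, ha⟩
theorem syl (wc : ∀ g, cj g Q ≤ S1 → cj g Q = Q) : Syl 2 ⊤ S1 :=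
  c.hS.of_norm_le Nat.prime_two le_top fun g hg =>
    mem_N_iff_cj.2 (wc g ((cj_mono g c.QS).trans (cj_of_mem_N hg.2).le))
theorem h16 : 16 ≤ ♯Q := by
  have := X.four
  rw [c.h.card]; nlinarith
theorem h32 : 32 ≤ ♯S1 := by
  have h1 := card_lt (lt_of_le_of_ne c.QS fun e0 => c.h.nd (e0 ▸ c.tS) (DD.refl t))
  obtain ⟨k, hk⟩ := card_dvd c.QS
  have := c.h16
  rcases k with _ | _ | k
  · omega
  · omega
  · nlinarith
theorem fix (hA : A ≤ S1) (h : El A) : ♯(A ⊓ Q : Subgroup G) ≤ fx (im ρ A) := by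
  rw [c.r.fx_im (hA.trans c.hS.le)]
  exact card_le fun x hx => ⟨hx.2, h.abl.le_C hx.1⟩
theorem f0 {α : Equiv.Perm (F × F)} (y : YF F (im ρ N[Q]) (im ρ S1) α) :
    ∃ f ∈ T, X.Out f ∧ ρ f = α ∧ Fr Q f :=
  c.h.lift_out c.r c.hS.pi c.hS.le c.QS c.TS y.fS (y.zf _ y.tS).symm y.ff y.f1 y.ft

/-- an outer involution is not fused into `Q` -/
theorem nf (h16 : 16 ≤ Fintype.card F) (wc : ∀ g, cj g Q ≤ S1 → cj g Q = Q) (hf : f ∈ T)
    (ho : X.Out f) (g : G) : f ∉ cj g Q := fun hg => by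
  have h := c.h
  have tf : t ∈ C{f} := mem_C1_comm.1 (h.syl.le hf)
  obtain ⟨P, hP, tP⟩ := Sylow_superset Nat.prime_two (c.hS.pi.piElt c.tS).isPi (zpowers_le.2 tf)
  obtain ⟨k, hk, QP⟩ := Sylow_Jsub Nat.prime_two hP (el_cj h.el g).pi
    fun x hx => mem_C1.2 ((el_cj h.el g).abl.comm hx hg)
  obtain ⟨m, -, Pm⟩ := Sylow_subJ Nat.prime_two (c.syl wc) hP.pi le_top
  rw [← cj_mul] at QP
  have e1 : cj (k * g) Q = cj m Q := by
    rw [← cj_cj_inv m (cj (k * g) Q), ← cj_mul m⁻¹,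
      wc _ (by rw [cj_mul]; exact le_cj_iff.1 (QP.trans Pm))]
  have fQ : f ∈ cj m Q := by
    rw [← e1, cj_mul, ← mem_C1_iff_conj.1 hk]; exact conj_mem_cj k hg
  have tN : t ∈ N[cj m Q] := by
    rw [← cj_N]; exact cj_mono m c.hS.le (Pm (tP (mem_zpowers t)))
  have e2 := le_fix_sq (el_cj h.el m) tN (by rw [h.tt]; exact one_mem _)
  have el : El (cj m Q ⊓ C{t}) := fun a ha => el_cj h.el m a ha.1
  obtain ⟨y, hy, AT⟩ := Sylow_Jsub Nat.prime_two h.syl el.pi inf_le_right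
  have yL : y ∈ N[L] := h.Ct y (mem_C1.1 hy)
  have f' : y * f * y⁻¹ ∈ cj y (cj m Q ⊓ C{t}) := conj_mem_cj y ⟨fQ, h.syl.le hf⟩
  have o' : X.Out (y * f * y⁻¹) := ⟨h.T_L (AT f'), h.T_V (AT f'), el_cj el y _ f', by
    rw [X.φ_conj yL ho.nL]; exact ho.ne⟩
  have e3 := h.idx2 X (el_cj el y) (AT.trans h.syl.le) (AT.trans h.T_V)
  have e4 : ♯(cj y (cj m Q ⊓ C{t}) ⊓ X.E t : Subgroup G) ≤
      ♯(X.V ⊓ C{y * f * y⁻¹} : Subgroup G) := card_le fun x hx => by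
    refine ⟨?_, mem_C1.2 ((el_cj el y).abl.comm hx.1 f')⟩
    obtain ⟨b, rfl | rfl⟩ := (h.mem_E X).1 hx.2
    · exact X.z_V b
    · exact absurd (h.dd b) (nd_cj h (g := y * m) (by
        rw [cj_mul]; exact cj_mono y inf_le_left hx.1))
  have e5 := (X.out_card o').1
  rw [card_cj] at e3
  rw [card_cj, h.card] at e2
  have := Nat.pow_le_pow_left (e3.trans (Nat.mul_le_mul_left 2 e4)) 2
  rw [mul_pow, e5] at this
  nlinarith

end Cx
end CBx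

section
variable {e : F × F → G} {ρ : G → Equiv.Perm (F × F)}
theorem C0.cb1 (h : C0 X G0 t D T Q s) (r : Rho X t Q e ρ) (hs : ∀ p, s (e p) = p.2)
    (hS : Syl 2 N[Q] S1) (QS : Q ≤ S1) (TS : T ≤ S1)
    (h1 : ∀ α ∈ im ρ S1, α * tau F = tau F * α) : IsLieTypeChar 2 G0 := by
  have c : CBx.Cx X G0 t D T Q s S1 e ρ := ⟨h, r, hs, hS, QS, TS⟩
  have k1 : ∀ g, ∀ A' ≤ cj g Q, A' ≤ S1 → ♯A' ≤ 2 * ♯(A' ⊓ Q : Subgroup G) := fun g A' a1 a2 => by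
    by_cases k : ∃ x ∈ A', ρ x ≠ 1
    · obtain ⟨x, hx, x1⟩ := k
      have xx := c.sq (a2 hx) (CBx.el_cj h.el g x (a1 hx))
      refine c.two a2 (ρ x) fun y hy => ?_
      rcases c.yd.cen_two (c.mem (a2 hy)) (c.sq (a2 hy) (CBx.el_cj h.el g y (a1 hy)))
        (h1 _ (c.mem (a2 hy))) (c.mem (a2 hx)) xx x1 (c.ntau (a2 hx) (a1 hx))
        (h1 _ (c.mem (a2 hx))) with k | k | k | k
      · exact .inl k
      · exact absurd k (c.ntau (a2 hy) (a1 hy))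
      · exact .inr k
      · exact absurd (by rw [c.mul (a2 hx) (a2 hy), k, ← mul_assoc, xx, one_mul])
          (c.ntau (a2 (mul_mem hx hy)) (a1 (mul_mem hx hy)))
    · push Not at k
      exact c.two a2 1 fun x hx => .inl (k x hx)
  have k2 : ∀ g, ∀ u ∈ cj g Q, u ∈ S1 → u ∉ Q → 2 * ♯(Q ⊓ C{u} : Subgroup G) < ♯Q :=
    fun g u a1 a2 a3 => by
      have := X.four
      rw [← r.fx_one (hS.le a2), c.yd.fx_cen (c.mem a2) (c.sq a2 (CBx.el_cj h.el g u a1))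
        (fun e0 => a3 (c.cq a2 e0)) (h1 _ (c.mem a2)), h.card]
      nlinarith
  have wc : ∀ g, cj g Q ≤ S1 → cj g Q = Q := fun g hg => by
    refine eq_of_card_eq (fun u hu => by_contra fun a3 => ?_) (card_cj g Q)
    have b1 := k1 g _ le_rfl hg
    have b2 := k2 g u hu (hg hu) a3
    have b3 : ♯(cj g Q ⊓ Q : Subgroup G) ≤ ♯(Q ⊓ C{u} : Subgroup G) := card_le fun x hx =>
      ⟨hx.2, mem_C1.2 ((CBx.el_cj h.el g).abl.comm hx.1 hu)⟩
    rw [card_cj] at b1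
    omega
  exact St2.gold h.toSt2 X (c.syl wc) c.h32 QS h.el.abl h.V_Q fun a ha g hg =>
    sc2 (c.syl wc) QS h.el hS.le 2 (fun g _ => k1 g) (fun g _ => k2 g) a ha g trivial hg

theorem C0.cb2 (h : C0 X G0 t D T Q s) (r : Rho X t Q e ρ) (hs : ∀ p, s (e p) = p.2)
    (hS : Syl 2 N[Q] S1) (QS : Q ≤ S1) (TS : T ≤ S1) {α : Equiv.Perm (F × F)}
    (y : YF F (im ρ N[Q]) (im ρ S1) α) (h4 : Fintype.card F ≠ 4) : IsLieTypeChar 2 G0 := by
  have c : CBx.Cx X G0 t D T Q s S1 e ρ := ⟨h, r, hs, hS, QS, TS⟩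
  have wc : ∀ g, cj g Q ≤ S1 → cj g Q = Q := fun g hg => by
    have el := CBx.el_cj h.el g
    have b1 := c.card hg
    by_cases k : im ρ (cj g Q) = ⊥
    · rw [k, card_bot, mul_one] at b1
      exact eq_of_card_eq (inf_eq_left.1 (eq_of_card_eq inf_le_left b1.symm)) (card_cj g Q)
    have b2 := y.off h4 (c.im_le hg) (c.el_im hg el) k
    have b3 := Nat.mul_le_mul_left ♯(im ρ (cj g Q)) (c.fix hg el)
    rw [card_cj, h.card, mul_comm] at b1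
    omega
  obtain ⟨f, fT, fo, fα, fr⟩ := c.f0 y
  have nf := c.nf (y.sq.resolve_left h4) wc fT fo
  refine St2.gold h.toSt2 X (c.syl wc) c.h32 QS h.el.abl h.V_Q fun a ha g hg => by_contra fun k => ?_
  obtain ⟨g, -, u, ug, A1, AQ, uS, uQ, -, BS, CA, b0⟩ :=
    sc (c.syl wc) QS h.el (fun g _ => wc g) ha trivial hg k
  have el : El (cj g⁻¹ A1) := CBx.el_cj (fun a ha => h.el a (AQ ha)) _
  have na : α ∉ im ρ (cj g⁻¹ A1) := fun k => by
    obtain ⟨x, hx, e0⟩ := (r.mem_im (BS.trans hS.le)).1 k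
    have hq := c.cq (mul_mem (inv_mem (TS fT)) (BS hx)) (by
      rw [c.mul (inv_mem (TS fT)) (BS hx), c.inv (TS fT), fα, e0, inv_mul_cancel])
    obtain ⟨d, -, hd⟩ := fr.2 _ hq (by rw [mul_inv_cancel_left]; exact el x hx)
    rw [mul_inv_cancel_left] at hd
    refine nf (d⁻¹ * g⁻¹) ?_
    rw [cj_mul, mem_cj, inv_inv, ← hd]
    exact cj_mono _ AQ hx
  have uu := c.sq uS (CBx.el_cj h.el g u ug)
  have u1 : ρ u ≠ 1 := fun e0 => uQ (c.cq uS e0)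
  have b1 := c.card BS
  have b2 : ♯(cj g⁻¹ A1 ⊓ Q : Subgroup G) ≤ ♯(Q ⊓ cj g Q : Subgroup G) := by
    rw [← card_cj g, cj_inf, cj_cj_inv]
    exact card_le (inf_le_inf_right _ AQ)
  have b3 := (y.y1 (c.mem uS) uu u1).1
  have b4 := r.fx_one (hS.le uS)
  have b5 := card_pos (Q ⊓ cj g Q)
  rw [card_cj] at b1
  rw [h.card, ← b4] at b0
  have b6 : Fintype.card F ^ 2 ≤ ♯(im ρ (cj g⁻¹ A1)) * fx (zpowers (ρ u)) := by
    refine Nat.le_of_mul_le_mul_left (b0.trans ?_) b5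
    rw [b1, ← mul_assoc]
    exact Nat.mul_le_mul_right _ (Nat.mul_le_mul_right _ b2)
  by_cases h16 : Fintype.card F = 16
  swap
  · have b7 := y.small h4 h16 (c.im_le BS) (c.el_im BS el) na
    have b8 := Nat.pow_le_pow_left b6 2
    have b9 := Nat.mul_lt_mul_of_lt_of_le b7 b3 (by have := X.four; positivity)
    rw [mul_pow] at b8
    have : (Fintype.card F ^ 2) ^ 2 = Fintype.card F * Fintype.card F ^ 3 := by ring
    omega
  have b7 := y.y8 h16 (c.im_le BS) (c.el_im BS el) na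
  rw [h16] at b0 b3 b6
  have b8 : fx (zpowers (ρ u)) ≤ 64 := by nlinarith
  have b9 : 64 ≤ fx (zpowers (ρ u)) := by nlinarith
  obtain ⟨d1, d2⟩ := (y.y16 h16 (c.mem uS) uu u1 b9 (c.im_le BS) (c.el_im BS el) na).resolve_left
    fun k => by nlinarith
  have d3 := c.fix BS el
  have d4 := card_le CA
  rw [d1] at b1
  have d5 : Q ⊓ C{u} = A1 := eq_of_card_ge CA (by omega)
  have d6 : cj g⁻¹ A1 ⊓ Q = Q ⊓ C[cj g⁻¹ A1] :=
    eq_of_card_ge (fun x hx => ⟨hx.2, el.abl.le_C hx.1⟩) (by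
      rw [← r.fx_im (BS.trans hS.le)]; omega)
  have d7 : g⁻¹ * u * g⁻¹⁻¹ ∈ Q ⊓ C[cj g⁻¹ A1] := by
    refine ⟨by simpa using mem_cj.1 ug, ?_⟩
    rw [← cj_C]
    exact conj_mem_cj _ (mem_C_iff_le_C1.2 (d5 ▸ inf_le_right))
  rw [← d6] at d7
  exact uQ (AQ (conj_mem_cj_iff.1 d7.1))
end

end H23.L2
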