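import Mathlib
import Cfsg.Agent.H23.LDefs
import Cfsg.Agent.H23.CA2
import Cfsg.Agent.H23.YB3
import Cfsg.Agent.H23.CB

set_option autoImplicit false
set_option linter.unusedVariables false
set_option linter.unusedSectionVars false

namespace H23.L2

open Cfsg H24 Subgroup
open H2.SZ (St DD Goal)
open scoped MatrixGroups commutatorElement

universe u

variable {G : Type u} [Group G] [Finite G] {F : Type*} [Field F] [Fintype F]
  {L G0 D T B R Q S S1 A P N M H : Subgroup G} {t f g i j ρ z u : G} {X : LD F L} {n : ℕ}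
  {π s : G → F}

/-! ### CC -/
namespace CCx

theorem d8 {Γ : Type*} [Group Γ] {τ f n : Γ} (tt : τ * τ = 1) (ff : f * f = 1) (nn : n * n = 1)
    (tf : τ * f = f * τ) (nf : n * f = f * n) (tn : τ * n * τ = n * f) :
    n⁻¹ * (f * τ) * n = τ ∧ n * τ * (n * τ) = f ∧ n * f * τ * (n * f * τ) = f ∧
      n * (n * τ) = τ ∧ n * (n * f * τ) = f * τ ∧ n * f * (n * τ) = f * τ ∧
      n * f * (n * f * τ) = τ := by
  have h0 : τ * n = n * (f * τ) := by rw [← mul_assoc, ← tn, mul_assoc (τ * n), tt, mul_one]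
  have h1 : ∀ x, τ * (n * x) = n * (f * (τ * x)) := fun x => by rw [← mul_assoc, h0]; group
  have h2 : ∀ x, τ * (f * x) = f * (τ * x) := fun x => by rw [← mul_assoc, tf, mul_assoc]
  have h3 : ∀ x, f * (n * x) = n * (f * x) := fun x => by rw [← mul_assoc, ← nf, mul_assoc]
  have h4 : ∀ x, n * (n * x) = x := fun x => by rw [← mul_assoc, nn, one_mul]
  have h5 : ∀ x, f * (f * x) = x := fun x => by rw [← mul_assoc, ff, one_mul]
  simp only [inv_eq_of_mul_eq_one_right nn, mul_assoc, h0, h1, h2, h3, h4, h5, tt, mul_one,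
    and_self]

theorem cent {d x w : G} (hd : S ≤ C{d}) (hx : x ∈ S) (hw : w ∈ S) : ⁅d * x, w⁆ = ⁅x, w⁆ := by
  have := mem_C1_iff_conj.1 (mem_C1_comm.1 (hd (mul_mem (mul_mem hx hw) (inv_mem hx))))
  rw [commutatorElement_def, commutatorElement_def, ← this]; group

theorem card_cls (hu : u ∈ S) (h1 : S ≤ C[A]) (h2 : ∀ x ∈ S, ⁅x, u⁆ ∈ A) (h3 : A ≤ S) :
    ♯S ≤ ♯(S ⊓ C{u} : Subgroup G) * ♯A := by
  let φ : S →* G := MonoidHom.mk' (fun x => ⁅(x : G), u⁆) fun x y => by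
    have k1 := mem_C'.1 (h1 x.2) _ (h2 y y.2)
    have k2 := mem_C'.1 (h1 (h3 (h2 x x.2))) _ (h2 y y.2)
    rw [k2, ← mul_inv_eq_iff_eq_mul.2 k1, commutatorElement_def, commutatorElement_def,
      commutatorElement_def, coe_mul]
    group
  have e := φ.ker.card_mul_index
  rw [index_ker] at e
  rw [← e, ← card_map_of_injective S.subtype_injective]
  refine Nat.mul_le_mul (card_le ?_) (card_le ?_)
  · rintro _ ⟨x, hx, rfl⟩
    exact ⟨x.2, mem_C1.2 (commutatorElement_eq_one_iff_mul_comm.1 hx)⟩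
  · rintro _ ⟨x, rfl⟩
    exact h2 x x.2

end CCx

theorem C0.cc {e : F × F → G} {ρ : G → Equiv.Perm (F × F)}
    (h : C0 X G0 t D T Q s) (r : Rho X t Q e ρ) (hs : ∀ p, s (e p) = p.2)
    (hS : Syl 2 N[Q] S1) (QS : Q ≤ S1) (TS : T ≤ S1) {α : Equiv.Perm (F × F)}
    (y : YF F (im ρ N[Q]) (im ρ S1) α) (h4 : Fintype.card F = 4) : IsLieTypeChar 2 G0 := by
  have c : CBx.Cx X G0 t D T Q s S1 e ρ := ⟨h, r, hs, hS, QS, TS⟩
  obtain ⟨f, fT, fo, rfl, fr⟩ := c.f0 y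
  have fS := TS fT
  obtain ⟨_, nS, nn, tn, nf, c8, en⟩ := y.y4 h4
  obtain ⟨K, KS, mK, fK, elK, nK, -, -, cK⟩ := y.K
  obtain ⟨m, mS, rfl⟩ := (r.mem_im hS.le).1 nS
  obtain ⟨tt, t1⟩ := y.tt
  obtain ⟨d1, d2, d3, d4, d5, d6, d7⟩ := CCx.d8 tt y.ff nn (y.zf _ y.tS) (y.zf _ nS) tn
  have mK' : ρ m ∈ K := (mK _ nS).2 nf
  have tK : tau F ∉ K := fun k => (cK _ k rfl).elim t1 y.ft.symm
  have q16 : ♯Q = 16 := by rw [h.card, h4]; rfl
  have q4 : ♯(Q ⊓ C{f} : Subgroup G) = 4 :=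
    Nat.pow_left_injective two_ne_zero (fr.1.trans q16)
  obtain ⟨S0, hS0⟩ : ∃ S0, S0 = S1 ⊓ C[Q ⊓ C{f}] := ⟨_, rfl⟩
  have S01 : S0 ≤ S1 := hS0 ▸ inf_le_left
  have S0C : S0 ≤ C[Q ⊓ C{f}] := hS0 ▸ inf_le_right
  have Q0S : Q ⊓ C{f} ≤ S0 := hS0 ▸ le_inf (inf_le_left.trans QS)
    (h.el.abl.cents inf_le_left inf_le_left)
  have m0 : ∀ g ∈ S1, g ∈ S0 ↔ ρ g ∈ K := fun g hg => by
    rw [mK _ (c.mem hg)]
    refine ⟨fun k w hw => r.e_inj ?_, fun k => hS0 ▸ ⟨hg, mem_C'.2 fun a ha => ?_⟩⟩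
    · rw [r.spec g (hS.le hg), mem_C'.1 (S0C k) _ ⟨(r.mem _).2 ⟨w, rfl⟩, mem_C1_comm.1
        (mem_C1_iff_conj.2 (by rw [← r.spec f (hS.le fS), hw]))⟩, mul_inv_cancel_right]
    · obtain ⟨w, rfl⟩ := (r.mem _).1 ha.1
      rw [← mul_inv_eq_iff_eq_mul, ← r.spec g (hS.le hg), k w (r.e_inj (by
        rw [r.spec f (hS.le fS), mem_C1_iff_conj.1 (mem_C1_comm.1 ha.2)]))]
  have out : ∀ g ∈ S1, g ∉ S0 → ρ g = tau F ∨ ρ g = ρ f * tau F ∨ ρ g = ρ m * tau F ∨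
      ρ g = ρ m * ρ f * tau F := fun g hg k => (en _ (c.mem hg)).resolve_left fun k' =>
    k ((m0 g hg).2 (by
      rcases k' with k' | k' | k' | k' <;> rw [k']
      exacts [one_mem _, fK, mK', mul_mem mK' fK]))
  have out' : ∀ g ∈ S1, g ∉ S0 → ρ g * tau F ∈ K := fun g hg k => by
    rcases out g hg k with k' | k' | k' | k' <;> rw [k']
    · rw [tt]; exact one_mem _
    · rwa [mul_assoc, tt, mul_one]
    · rwa [mul_assoc, tt, mul_one]
    · rw [mul_assoc, tt, mul_one]; exact mul_mem mK' fK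
  have idx : ∀ x ∈ S1, ∀ y ∈ S1, x ∈ S0 ∨ y ∈ S0 ∨ x * y ∈ S0 := fun x hx w hw =>
    or_iff_not_imp_left.2 fun k1 => or_iff_not_imp_left.2 fun k2 => (m0 _ (mul_mem hx hw)).2 (by
      have := mul_mem (out' x hx k1) (H24.conj_mem (nK y.tS) (out' w hw k2))
      rwa [← mul_assoc (tau F), mul_inv_cancel_right, mul_assoc, ← mul_assoc (tau F), tt, one_mul,
        ← c.mul hx hw] at this)
  have cmQ : ∀ x ∈ S0, ∀ w ∈ S0, ⁅x, w⁆ ∈ Q := fun x hx w hw => by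
    have a1 := S01 hx
    have a2 := S01 hw
    refine c.cq (mul_mem (mul_mem (mul_mem a1 a2) (inv_mem a1)) (inv_mem a2)) ?_
    rw [commutatorElement_def, c.mul (mul_mem (mul_mem a1 a2) (inv_mem a1)) (inv_mem a2), c.mul (mul_mem a1 a2) (inv_mem a1),
      c.mul a1 a2, c.inv a1, c.inv a2, elK.abl.comm ((m0 x a1).1 hx) ((m0 w a2).1 hw)]
    group
  have f0 : f ∈ S0 := (m0 f fS).2 fK
  have cmf : ∀ x ∈ S0, S0 ≤ C{⁅f, x⁆} := fun x hx => by
    have a1 := cmQ f f0 x hx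
    refine mem_C_iff_le_C1.1 (le_centralizer_iff.1 S0C ⟨a1, mem_C1_comm.1 (mem_C1_iff_conj.2 ?_)⟩)
    refine Eq.trans ?_ (inv_eq_of_mul_eq_one_right (h.el _ a1))
    rw [commutatorElement_inv, commutatorElement_def, commutatorElement_def,
      inv_eq_of_mul_eq_one_right fo.sq, ← mul_assoc, ← mul_assoc, ← mul_assoc, fo.sq, one_mul]
  have cm : ∀ x ∈ S0, ∀ w ∈ S0, ⁅x, w⁆ ∈ Q ⊓ C{f} := fun x hx w hw => by
    refine ⟨cmQ x hx w hw, mem_C1_comm.1 (mem_C1_iff_conj.2 ?_)⟩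
    have a : ∀ x, f * x * f⁻¹ = ⁅f, x⁆ * x := fun x => by rw [commutatorElement_def]; group
    rw [conjugate_commutatorElement, a x, CCx.cent (cmf x hx) hx
      (mul_mem (mul_mem f0 hw) (inv_mem f0)), a w, ← commutatorElement_inv,
      CCx.cent (cmf w hw) hw hx, commutatorElement_inv]
  have c64 : 64 ≤ ♯S0 := by
    have a1 := c.card le_rfl
    rw [inf_eq_right.2 QS, q16, c8] at a1
    have a2 := card_mul_relIndex S01
    have a3 : S0.relIndex S1 ≤ 2 := Nat.le_of_dvd two_pos (index_dvd_two_iff.2 ⟨⟨t, c.tS⟩, fun b =>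
      (idx b b.2 t c.tS).elim .inr fun k => .inl (k.resolve_left fun k' =>
        tK (r.ρ_t ▸ (m0 t c.tS).1 k'))⟩)
    nlinarith
  have fE : f ∉ X.E t := fun k => by
    obtain ⟨b, rfl | rfl⟩ := (h.mem_E X).1 k
    · exact y.f1 (c.one (h.V_Q (X.z_V b)))
    · exact y.ft (by rw [c.mul c.tS (QS (h.V_Q (X.z_V b))), c.one (h.V_Q (X.z_V b)), mul_one, r.ρ_t])
  obtain ⟨T16, -, -, Z4⟩ := h.T4 h4 fT fE
  have nd0 : ∀ u ∈ S0, ¬ DD t u := fun u hu d => by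
    have a1 := CCx.card_cls hu S0C (fun x hx => cm x hx u hu) Q0S
    obtain ⟨g, -, hg⟩ := h.toT d ((hS.pi.of_le S01).inf_left C{u}) inf_le_right
    have a2 : cj g⁻¹ (S0 ⊓ C{u}) = T := eq_of_card_ge (by
      rintro _ ⟨a, ha, rfl⟩
      simpa using hg a ha) (by rw [q4] at a1; rw [card_cj]; omega)
    rw [← a2, ← cj_C, ← cj_inf, card_cj] at Z4
    have a3 : Q ⊓ C{f} < S0 ⊓ C{u} ⊓ C[S0 ⊓ C{u}] := lt_of_le_of_ne (fun a ha =>
      ⟨⟨Q0S ha, mem_C1.2 (mem_C.1 (S0C hu) a ha)⟩, mem_C'.2 fun b hb => mem_C.1 (S0C hb.1) a ha⟩)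
      fun e0 => h.nd (e0.ge ⟨⟨hu, mem_C1.2 rfl⟩, mem_C.2 fun b hb => mem_C1.1 hb.2⟩).1 d
    have := card_lt a3
    omega
  have cjm : ∀ u ∈ S1, ρ u = ρ f * tau F → ρ (m⁻¹ * u * m) = tau F := fun u hu k => by
    rw [c.mul (mul_mem (inv_mem mS) hu) mS, c.mul (inv_mem mS) hu, c.inv mS, k, d1]
  have syl : Syl 2 ⊤ S1 := h.syl_of hS.pi TS fun u hu d => by
    have uu : u * u = 1 := by
      obtain ⟨g, rfl⟩ := d
      rw [conj_mul, h.tt, mul_one, mul_inv_cancel]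
    have u2 := c.sq hu uu
    rcases out u hu fun k => nd0 u k d with k | k | k | k
    · obtain ⟨a, ha, e0⟩ := c.tau_dd hu uu k
      exact ⟨a, QS ha, e0⟩
    · obtain ⟨a, ha, e0⟩ := c.tau_dd (mul_mem (mul_mem (inv_mem mS) hu) mS)
        (by rw [show m⁻¹ * u * m * (m⁻¹ * u * m) = m⁻¹ * (u * u) * m by group, uu]; group)
        (cjm u hu k)
      exact ⟨m * a, mul_mem mS (QS ha), by
        rw [show m * a * t * (m * a)⁻¹ = m * (a * t * a⁻¹) * m⁻¹ by group, ← e0]; group⟩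
    · exact absurd (by rw [← d2, ← k, u2]) y.f1
    · exact absurd (by rw [← d3, ← k, u2]) y.f1
  have tG : t ∉ G0 := fun k =>
    let ⟨g, _, hg⟩ := thom h.toSt (fun a => X.nab (a.of_le h.le)) le_top syl S01 idx k h.tt
    nd0 _ hg ⟨g, rfl⟩
  have syl0 := (h.syl0 syl).1
  have Q00 : Q ≤ S1 ⊓ G0 := le_inf QS h.le_G0
  have h16 : 16 ≤ ♯(S1 ⊓ G0 : Subgroup G) := q16 ▸ card_le Q00
  have nt : ∀ u ∈ S1 ⊓ G0, ρ u ≠ tau F := fun u hu k => tG ((mul_mem_cancel_right (show u ∈ G0 from hu.2)).1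
    (h.le_G0 (c.cq (mul_mem c.tS hu.1) (by rw [c.mul c.tS hu.1, r.ρ_t, k, tt]))))
  have nt' : ∀ u ∈ S1 ⊓ G0, ρ u ≠ ρ f * tau F := fun u hu k =>
    nt _ (mem_inf.2 ⟨mul_mem (mul_mem (inv_mem mS) hu.1) mS, h.nrm.conj_mem' u hu.2 m⟩)
      (cjm u hu.1 k)
  by_cases hA : S1 ⊓ G0 ≤ S0
  · exact cl2 h.toSt syl0 h16 (commutator_le.2 fun x hx w hw => mem_C'.2 fun b hb =>
      mem_C.1 (S0C (hA hb)) _ (cm x (hA hx) w (hA hw)))
  obtain ⟨x, hx, x0⟩ := SetLike.not_le_iff_exists.1 hA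
  have xx := ((out x hx.1 x0).resolve_left (nt x hx)).resolve_left (nt' x hx)
  have key : ∀ u ∈ S1 ⊓ G0, u * u = 1 → ρ u = 1 ∨ ρ u = ρ f := fun u hu uu => by
    have u2 := c.sq hu.1 uu
    have a1 := nt _ (mul_mem hu hx)
    have a2 := nt' _ (mul_mem hu hx)
    rw [c.mul hu.1 hx.1] at a1 a2
    rcases en _ (c.mem hu.1) with (k | k | k | k) | k | k | k | k
    · exact .inl k
    · exact .inr k
    · rcases xx with k' | k' <;> rw [k, k'] at a1 a2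
      exacts [absurd d4 a1, absurd d5 a2]
    · rcases xx with k' | k' <;> rw [k, k'] at a1 a2
      exacts [absurd d6 a2, absurd d7 a1]
    · exact absurd k (nt u hu)
    · exact absurd k (nt' u hu)
    · exact absurd (by rw [← d2, ← k, u2]) y.f1
    · exact absurd (by rw [← d3, ← k, u2]) y.f1
  refine gold2 h.toSt syl0 h16 Q00 h.el.abl (fun e0 => ?_) (sc2 syl0 Q00 h.el
    (inf_le_left.trans hS.le) 2 (fun g _ A' a1 a2 => c.two (a2.trans inf_le_left) (ρ f) fun w hw =>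
      key w (a2 hw) (CBx.el_cj h.el g w (a1 hw))) fun g _ u a1 a2 a3 => ?_)
  · rw [e0, card_bot] at q16
    omega
  · rw [← r.fx_one (hS.le a2.1), (key u a2 (CBx.el_cj h.el g u a1)).resolve_left
      fun e0 => a3 (c.cq a2.1 e0), r.fx_one (hS.le fS), q4, q16]
    norm_num

end H23.L2
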