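import Mathlib
import Cfsg.Agent.H23.LDefs
import Cfsg.Agent.H23.TH

set_option autoImplicit false
set_option linter.unusedVariables false
set_option linter.unusedSectionVars false

namespace H23.L2

open Cfsg H24 Subgroup
open H2.SZ (St DD Goal)
open scoped MatrixGroups commutatorElement

universe u

variable {G : Type u} [Group G] [Finite G] {F : Type*} [Field F] [Fintype F]
  {L G0 D T B R Q S S1 A P N M H : Subgroup G} {t f g i j ρ z u : G} {X : LD F L} {n : ℕ}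
  {π s : G → F}

namespace TSx

/-- torus-equivariant bimultiplicative maps into `V` -/
theorem bl (X : LD F L) {R1 R2 : Subgroup G} {s1 s2 : G → F} (f : G → G → G)
    (o1 : ∀ y, ∃ r ∈ R1, s1 r = y) (o2 : ∀ y, ∃ r ∈ R2, s2 r = y)
    (m1 : ∀ a ∈ R1, ∀ b ∈ R1, s1 (a * b) = s1 a + s1 b)
    (m2 : ∀ a ∈ R2, ∀ b ∈ R2, s2 (a * b) = s2 a + s2 b)
    (fV : ∀ a ∈ R1, ∀ b ∈ R2, f a b ∈ X.V)
    (f1 : ∀ a ∈ R1, ∀ a' ∈ R1, ∀ b ∈ R2, f (a * a') b = f a b * f a' b)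
    (f2 : ∀ a ∈ R1, ∀ b ∈ R2, ∀ b' ∈ R2, f a (b * b') = f a b * f a b')
    (k1 : ∀ a ∈ R1, ∀ b ∈ R2, s1 a = 0 → f a b = 1) (k2 : ∀ a ∈ R1, ∀ b ∈ R2, s2 b = 0 → f a b = 1)
    (e1 : ∀ k, ∀ a ∈ R1, X.h k * a * (X.h k)⁻¹ ∈ R1 ∧ s1 (X.h k * a * (X.h k)⁻¹) = k * s1 a)
    (e2 : ∀ k, ∀ a ∈ R2, X.h k * a * (X.h k)⁻¹ ∈ R2 ∧ s2 (X.h k * a * (X.h k)⁻¹) = k * s2 a)
    (e : ∀ g a b, f (g * a * g⁻¹) (g * b * g⁻¹) = g * f a b * g⁻¹) :
    ∃ c, ∀ a ∈ R1, ∀ b ∈ R2, ∀ y, f a b = X.z y → y ^ 2 = c * s1 a * s2 b := by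
  choose ρ1 hρ1 hs1 using o1
  choose ρ2 hρ2 hs2 using o2
  have wd : ∀ a ∈ R1, ∀ b ∈ R2, f a b = f (ρ1 (s1 a)) (ρ2 (s2 b)) := fun a ha b hb => by
    have h1 := mul_mem (inv_mem ha) (hρ1 (s1 a))
    have h2 := mul_mem (inv_mem hb) (hρ2 (s2 b))
    have z1 := m1 a ha _ h1
    have z2 := m2 b hb _ h2
    rw [mul_inv_cancel_left, hs1, left_eq_add] at z1
    rw [mul_inv_cancel_left, hs2, left_eq_add] at z2
    have e1 := f1 a ha _ h1 _ (hρ2 (s2 b))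
    have e2 := f2 a ha b hb _ h2
    rw [mul_inv_cancel_left, k1 _ h1 _ (hρ2 _) z1, mul_one] at e1
    rw [mul_inv_cancel_left, k2 _ ha _ h2 z2, mul_one] at e2
    rw [e1, e2]
  choose β hβ using fun x y => X.mem_V.1 (fV _ (hρ1 x) _ (hρ2 y))
  obtain ⟨c, hc⟩ := bil X.two β (fun x x' y => X.z_inj (by
      rw [← X.z_mul, ← hβ, ← hβ, ← hβ, ← f1 _ (hρ1 _) _ (hρ1 _) _ (hρ2 _),
        wd _ (mul_mem (hρ1 x) (hρ1 x')) _ (hρ2 y), m1 _ (hρ1 _) _ (hρ1 _), hs1, hs1, hs2]))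
    (fun x y y' => X.z_inj (by
      rw [← X.z_mul, ← hβ, ← hβ, ← hβ, ← f2 _ (hρ1 _) _ (hρ2 _) _ (hρ2 _),
        wd _ (hρ1 x) _ (mul_mem (hρ2 y) (hρ2 y')), m2 _ (hρ2 _) _ (hρ2 _), hs1, hs2, hs2]))
    (fun k x y => X.z_inj (by
      rw [← X.h_z, ← hβ, ← hβ, ← e, wd _ (e1 k _ (hρ1 x)).1 _ (e2 k _ (hρ2 y)).1,
        (e1 k _ (hρ1 x)).2, (e2 k _ (hρ2 y)).2, hs1, hs2]))
  refine ⟨c, fun a ha b hb y hy => ?_⟩
  rw [wd a ha b hb, hβ] at hy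
  rw [← X.z_inj hy, hc]

theorem π_one (h : Th X G0 t D T B n π) : π 1 = 0 := by
  have := h.π_sq (one_mem B)
  rwa [mul_one] at this

theorem s_eq (h : Rz X G0 t D T B n π R s) (hf : f ∈ R) {b : G} (e : f * t * f⁻¹ = t * b) :
    s f = π b := by
  obtain ⟨b', -, e', hs⟩ := h.spec f hf
  rw [← hs, mul_left_cancel (e.symm.trans e')]

theorem π_h (h : Th X G0 t D T B n π) (k : Fˣ) (hf : f ∈ B) :
    X.h k * f * (X.h k)⁻¹ ∈ B ∧ π (X.h k * f * (X.h k)⁻¹) = k * π f :=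
  ⟨(mem_N.1 (h.hB k) _).1 hf, X.z_inj (by rw [h.π_conj (h.hB k) hf, X.h_z])⟩

end TSx

open TSx

/-! ### TS -/
theorem Rz.π_R (h : Rz X G0 t D T B n π R s) (hg : g ∈ R) (hf : f ∈ B) :
    π (g * f * g⁻¹) = π f := X.z_inj (by
  rw [h.toTh.π_conj (h.RB hg) hf, ← mem_C.1 (h.RV hg) _ (X.z_V _), mul_inv_cancel_right])
theorem Rz.s_mul (h : Rz X G0 t D T B n π R s) (hf : f ∈ R) (hg : g ∈ R) :
    s (f * g) = s f + s g := by
  obtain ⟨a, ha, ea, sa⟩ := h.spec f hf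
  obtain ⟨b, hb, eb, sb⟩ := h.spec g hg
  rw [s_eq h (mul_mem hf hg) (b := a * (f * b * f⁻¹)) (by
    rw [← mul_assoc, ← ea, conj_mul, ← eb]; group),
    h.toTh.π_mul ha ((mem_N.1 (h.RB hf) _).1 hb), h.π_R hf hb, sa, sb]
theorem Rz.s_B (h : Rz X G0 t D T B n π R s) (hf : f ∈ B) : s f = 0 := by
  rw [s_eq h (h.B_R hf) (b := f⁻¹ * f⁻¹) (by
    rw [← mul_assoc t]
    congr 1
    rw [← h.inv f hf, ← mul_assoc, ← mul_assoc, h.tt, one_mul]), h.toTh.π_sq (inv_mem hf)]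
theorem Rz.s_conj (h : Rz X G0 t D T B n π R s) (hg : g ∈ N[B]) (gR : g ∈ N[R])
    (gt : g * t = t * g) (hf : f ∈ R) : X.z (s (g * f * g⁻¹)) = g * X.z (s f) * g⁻¹ := by
  obtain ⟨a, ha, ea, sa⟩ := h.spec f hf
  have e : g * t * g⁻¹ = t := by rw [gt, mul_inv_cancel_right]
  rw [s_eq h ((mem_N.1 gR _).1 hf) (b := g * a * g⁻¹) (by
    conv_lhs => rw [← e]
    conv_rhs => rw [← e]
    rw [conj_mul, conj_mul, ← ea]; group), h.toTh.π_conj hg ha, sa]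
theorem Rz.card (h : Rz X G0 t D T B n π R s) : ♯R = Fintype.card F ^ (n + 1) := by
  let φ : R →* Multiplicative F := MonoidHom.mk' (fun r => Multiplicative.ofAdd (s r))
    fun a b => by rw [← ofAdd_add, ← h.s_mul a.2 b.2]; rfl
  have hs : Function.Surjective φ := fun y => by
    obtain ⟨r, hr, e⟩ := h.s_onto y.toAdd
    exact ⟨⟨r, hr⟩, congrArg Multiplicative.ofAdd e⟩
  have hk : φ.ker = B.subgroupOf R := by
    ext r
    exact ⟨fun e => h.s_ker r r.2 e, fun e => congrArg Multiplicative.ofAdd (h.s_B e)⟩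
  have e := φ.ker.card_mul_index
  rw [index_ker, MonoidHom.range_eq_top.2 hs, hk, Subgroup.card_top,
    Nat.card_congr (subgroupOfEquivOfLe h.B_R).toEquiv, h.cardB, Nat.card_eq_fintype_card,
    Fintype.card_multiplicative] at e
  rw [pow_succ, e]
theorem Rz.C_t (h : Rz X G0 t D T B n π R s) (hg : g ∈ R) (h1 : g * t = t * g) : g ∈ X.V :=
  h.toTw.C_t (h.s_ker g hg (by
    rw [s_eq h hg (b := 1) (by rw [h1, mul_inv_cancel_right, mul_one]), π_one h.toTh])) h1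
theorem Rz.tR (h : Rz X G0 t D T B n π R s) : t ∉ R := fun e =>
  h.toTw.tB (h.V_B (h.C_t e rfl))
theorem Rz.cls (h : Rz X G0 t D T B n π R s) (hf : f ∈ B) : ∃ r ∈ R, t * f = r * t * r⁻¹ := by
  obtain ⟨r, hr, e⟩ := h.s_onto (π f)
  obtain ⟨b, hb, eb, sb⟩ := h.spec r hr
  obtain ⟨c, hc, ec⟩ := (h.toTh.cls (mul_mem hf (inv_mem hb))).1 (by
    rw [h.toTh.π_mul hf (inv_mem hb), h.toTh.π_inv hb, sb, e, X.add_self])
  refine ⟨c * r, mul_mem (h.B_R hc) hr, ?_⟩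
  calc t * f = t * (f * b⁻¹) * b := by group
    _ = c * t * (c⁻¹ * b) := by rw [ec, mul_assoc]
    _ = c * (t * b) * c⁻¹ := by rw [h.abl.comm (inv_mem hc) hb]; group
    _ = _ := by rw [← eb]; group

namespace TSx

theorem s_h (h : Rz X G0 t D T B n π R s) (k : Fˣ) (hf : f ∈ R) :
    X.h k * f * (X.h k)⁻¹ ∈ R ∧ s (X.h k * f * (X.h k)⁻¹) = k * s f :=
  ⟨(mem_N.1 (h.hR k) _).1 hf, X.z_inj (by
    rw [h.s_conj (h.hB k) (h.hR k) (mul_inv_eq_iff_eq_mul.1 (h.toSt2.th X k)) hf, X.h_z])⟩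

theorem s_inv (h : Rz X G0 t D T B n π R s) (hf : f ∈ R) : s f⁻¹ = s f := by
  have := h.s_mul (inv_mem hf) hf
  rw [inv_mul_cancel, h.s_B (one_mem _)] at this
  exact X.eq_of_add this.symm

theorem comm_B (h : Rz X G0 t D T B n π R s) (hf : f ∈ R) (hg : g ∈ R) : ⁅f, g⁆ ∈ B := by
  have i := @inv_mem _ _ _ _ _ R
  refine h.s_ker _ (mul_mem (mul_mem (mul_mem hf hg) (i hf)) (i hg)) ?_
  rw [commutatorElement_def, h.s_mul (mul_mem (mul_mem hf hg) (i hf)) (i hg),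
    h.s_mul (mul_mem hf hg) (i hf), h.s_mul hf hg, s_inv h hf, s_inv h hg]
  linear_combination (s f + s g) * X.two

theorem abl_of (h : Rz X G0 t D T B n π R s) (hC : R ≤ C[B]) : Abl R := by
  have cm : ∀ a ∈ R, ∀ b ∈ B, a * b = b * a := fun a ha b hb => (mem_C.1 (hC ha) b hb).symm
  have f1 : ∀ a ∈ R, ∀ a' ∈ R, ∀ b ∈ R, ⁅a * a', b⁆ = ⁅a, b⁆ * ⁅a', b⁆ := fun a ha a' ha' b hb => by
    rw [h.abl.comm (comm_B h ha hb) (comm_B h ha' hb),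
      show ⁅a * a', b⁆ = a * ⁅a', b⁆ * a⁻¹ * ⁅a, b⁆ by simp only [commutatorElement_def]; group,
      cm a ha _ (comm_B h ha' hb), mul_inv_cancel_right]
  have k1 : ∀ a ∈ B, ∀ b ∈ R, ⁅a, b⁆ = 1 := fun a ha b hb =>
    commutatorElement_eq_one_iff_mul_comm.2 (cm b hb a ha).symm
  obtain ⟨c, hc⟩ := bl X (fun a b => ⁅a, b⁆) h.s_onto h.s_onto (fun a ha b hb => h.s_mul ha hb)
    (fun a ha b hb => h.s_mul ha hb)
    (fun a ha b hb => h.om _ (comm_B h ha hb) (by rw [← f1 a ha a ha b hb, k1 _ (h.sq a ha) b hb]))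
    f1 (fun a ha b hb b' hb' => by
      rw [show ⁅a, b * b'⁆ = ⁅a, b⁆ * (b * ⁅a, b'⁆ * b⁻¹) by simp only [commutatorElement_def]; group,
        cm b hb _ (comm_B h ha hb'), mul_inv_cancel_right])
    (fun a ha b hb e => k1 a (h.s_ker a ha e) b hb)
    (fun a ha b hb e => commutatorElement_eq_one_iff_mul_comm.2 (cm a ha b (h.s_ker b hb e)))
    (fun k a ha => s_h h k ha) (fun k a ha => s_h h k ha)
    (fun g a b => by simp only [commutatorElement_def]; group)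
  obtain ⟨r, hr, e⟩ := h.s_onto 1
  have c0 := hc r hr r hr 0 (by rw [commutatorElement_self, X.z_zero])
  rw [e, mul_one, mul_one, zero_pow two_ne_zero] at c0
  refine abl_iff.2 fun a ha => mem_C.2 fun b hb => commutatorElement_eq_one_iff_mul_comm.1 ?_
  obtain ⟨y, hy⟩ := h.om _ (comm_B h hb ha) (by rw [← f1 b hb b hb a ha, k1 _ (h.sq b hb) a ha])
  have := hc b hb a ha y hy
  rw [← c0, zero_mul, zero_mul, pow_eq_zero_iff two_ne_zero] at this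
  rw [hy, this, X.z_zero]

theorem not_om (h : Rz X G0 t D T B n π R s) (mx : ∀ B', Tw X G0 t D T B' → ♯B' ≤ ♯B)
    (hC : R ≤ C[B]) : ∃ r ∈ R, r * r = 1 ∧ r ∉ B := by
  by_contra k
  push Not at k
  have := mx R ⟨h.toLz, h.piR, abl_of h hC, h.V_B.trans h.B_R,
    fun b hb e => h.om b (k b hb e) e, h.hR, h.TR, h.RD⟩
  rw [h.card, h.cardB] at this
  have h4 := X.four
  exact absurd this (not_le.2 (Nat.pow_lt_pow_right (by omega) (Nat.lt_succ_self n)))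

end TSx

theorem Rz.one (h : Rz X G0 t D T B 1 π R s) (mx : ∀ B', Tw X G0 t D T B' → ♯B' ≤ ♯B) :
    C0 X G0 t D T R s := by
  obtain ⟨e, hπ⟩ := h.toTh.one
  have hC : R ≤ C[B] := e ▸ h.RV
  obtain ⟨r, hr, r2, rB⟩ := not_om h mx hC
  refine ⟨h.toLz, fun a ha => ?_, h.V_B.trans h.B_R, h.RD, h.hR, h.TR, fun a ha => ?_, h.s_onto,
    fun a ha k => e ▸ h.s_ker a ha k⟩
  · by_cases a0 : s a = 0
    · exact X.el_V a (e ▸ h.s_ker a ha a0)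
    have r0 : s r ≠ 0 := fun k => rB (h.s_ker r hr k)
    obtain ⟨m, sm⟩ := s_h h (Units.mk0 (s a / s r) (div_ne_zero a0 r0)) hr
    rw [Units.val_mk0, div_mul_cancel₀ _ r0] at sm
    have c2 : ∀ g : G, g * r * g⁻¹ * (g * r * g⁻¹) = 1 := fun g => by
      rw [conj_mul, r2, mul_one, mul_inv_cancel]
    have c3 := c2 (X.h (Units.mk0 (s a / s r) (div_ne_zero a0 r0)))
    generalize X.h (Units.mk0 (s a / s r) (div_ne_zero a0 r0)) * r *
      (X.h (Units.mk0 (s a / s r) (div_ne_zero a0 r0)))⁻¹ = p at m sm c3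
    have hv : p * a ∈ X.V := e ▸ h.s_ker _ (mul_mem m ha) (by rw [h.s_mul m ha, sm, X.add_self])
    have := X.el_V _ hv
    rwa [show p * a * (p * a) = p * (a * p) * a by group, (abl_of h hC).comm ha m,
      show p * (p * a) * a = p * p * (a * a) by group, c3, one_mul] at this
  · obtain ⟨b, hb, eb, sb⟩ := h.spec a ha
    obtain ⟨c, rfl⟩ := X.mem_V.1 (e ▸ hb)
    rw [eb, ← sb, hπ]

end H23.L2
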