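import Mathlib
import Cfsg.Agent.H23.LDefs
import Cfsg.Agent.H23.TS
import Cfsg.Agent.H23.PU

set_option autoImplicit false
set_option linter.unusedVariables false
set_option linter.unusedSectionVars false

namespace H23.L2

open Cfsg H24 Subgroup
open H2.SZ (St DD Goal)
open scoped MatrixGroups commutatorElement

universe u

variable {G : Type u} [Group G] [Finite G] {F : Type*} [Field F] [Fintype F]
  {L G0 D T B R Q S S1 A P N M H : Subgroup G} {t f g i j ρ z u : G} {X : LD F L} {n : ℕ}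
  {π s : G → F}

/-! ### FZa -/
theorem Fz.mem_RT (h : Fz X G0 t D T B π R s) :
    g ∈ R ⊔ T ↔ ∃ r ∈ R, ∃ y ∈ T, g = r * y := mem_sup_of_norm h.TR

namespace FZax

theorem cnt (A W K : Subgroup G) (φ : G → G) (h1 : ∀ a ∈ A, φ a ∈ W)
    (h2 : ∀ a ∈ A, ∀ b ∈ A, φ a = φ b → a⁻¹ * b ∈ K) : ♯A ≤ ♯W * ♯(A ⊓ K : Subgroup G) := by
  classical
  have : ∀ w, ∃ a ∈ A, (∃ b ∈ A, φ b = w) → φ a = w := fun w => by
    by_cases e : ∃ b ∈ A, φ b = w
    · obtain ⟨b, hb, e⟩ := e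
      exact ⟨b, hb, fun _ => e⟩
    · exact ⟨1, one_mem _, fun e' => (e e').elim⟩
  choose r hr e using this
  rw [← Nat.card_prod]
  refine Nat.card_le_card_of_injective (fun a : A => ((⟨φ a, h1 a a.2⟩, ⟨(r (φ a))⁻¹ * a,
    A.mul_mem (A.inv_mem (hr _)) a.2, h2 _ (hr _) _ a.2 (e _ ⟨a, a.2, rfl⟩)⟩) : W × (A ⊓ K : Subgroup G)))
    fun a b k => ?_
  have k1 : φ a = φ b := congrArg (fun p => p.1.1) k
  have k2 : (r (φ a))⁻¹ * a = (r (φ b))⁻¹ * b := congrArg (fun p => p.2.1) k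
  rw [k1] at k2
  exact Subtype.ext (mul_left_cancel k2)

theorem VR (h : Fz X G0 t D T B π R s) : X.V ≤ R := h.V_B.trans h.B_R

theorem RT (h : Fz X G0 t D T B π R s) (h1 : g ∈ R) (h2 : g ∈ T) : g ∈ X.V :=
  h.toRz.C_t h1 (mem_C1.1 (h.syl.le h2))

theorem tN (h : Fz X G0 t D T B π R s) : t ∈ N[R] := h.TR h.toLb.t_T

theorem tR (h : Fz X G0 t D T B π R s) (h1 : g ∈ R) : t * g * t ∈ R := by
  have := H24.conj_mem (tN h) h1
  rwa [inv_eq_of_mul_eq_one_right h.tt] at this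

/-- an outer involution is `r y` with `y ∈ T` outer -/
theorem dec (h : Fz X G0 t D T B π R s) (hf : f ∈ R ⊔ T) (ff : f * f = 1) (h1 : f ∉ R)
    (h2 : t * f ∉ R) : ∃ r ∈ R, ∃ y ∈ T, X.Out y ∧ f = r * y := by
  obtain ⟨r, hr, y, hy, rfl⟩ := h.mem_RT.1 hf
  obtain ⟨b, hb⟩ := h.toLc.T_out hy (fun e => by
    obtain ⟨b, rfl | rfl⟩ := (h.toSt2.mem_E X).1 e
    · exact h1 (mul_mem hr (VR h (X.z_V b)))
    · exact h2 (by
        rw [← mul_assoc, ← mul_assoc]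
        exact mul_mem (tR h hr) (VR h (X.z_V b)))) (RT h (by
      rw [show y * y = (r * (y * r * y⁻¹))⁻¹ * (r * y * (r * y)) by group, ff, mul_one]
      exact inv_mem (mul_mem hr (H24.conj_mem (h.TR hy) hr))) (mul_mem hy hy))
  refine ⟨r * (y * X.z b * y⁻¹), mul_mem hr (H24.conj_mem (h.TR hy) (VR h (X.z_V b))), _,
    mul_mem hy (h.V_T (X.z_V b)), hb, ?_⟩
  rw [show r * (y * X.z b * y⁻¹) * (y * X.z b) = r * y * (X.z b * X.z b) by group, X.z_sq, mul_one]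

theorem s_inv (h : Fz X G0 t D T B π R s) (hg : g ∈ R) : s g⁻¹ = s g := by
  have := h.toRz.s_mul (inv_mem hg) hg
  rw [inv_mul_cancel, h.toRz.s_B (one_mem _)] at this
  exact X.eq_of_add this.symm

theorem card_S (h : Fz X G0 t D T B π R s) :
    ♯(R ⊔ T : Subgroup G) = Fintype.card F ^ 2 * ♯T := by
  have e := card_sup h.TR
  rw [show R ⊓ T = X.V from le_antisymm (fun g hg => RT h hg.1 hg.2) (le_inf (VR h) h.V_T),
    X.card_V, h.toRz.card] at e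
  exact Nat.eq_of_mul_eq_mul_right Fintype.card_pos (e.trans (by ring))

theorem pi_S (h : Fz X G0 t D T B π R s) : IsPi {2} (R ⊔ T : Subgroup G) :=
  h.piR.sup h.syl.pi h.TR

end FZax

open FZax

theorem Fz.comm_R (h : Fz X G0 t D T B π R s) : ⁅R, R⁆ ≤ X.V := commutator_le.2 fun a ha b hb => by
  rw [show ⁅a, b⁆ = a * b * (a * b) * (b⁻¹ * a⁻¹ * b * (b⁻¹ * a⁻¹ * b)) * (b⁻¹ * b⁻¹) by
    rw [commutatorElement_def]; group]
  exact mul_mem (mul_mem (h.sqV _ (mul_mem ha hb))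
    (h.sqV _ (mul_mem (mul_mem (inv_mem hb) (inv_mem ha)) hb))) (h.sqV _ (inv_mem hb))
theorem Fz.comm_RT (h : Fz X G0 t D T B π R s) : ⁅R ⊔ T, R ⊔ T⁆ ≤ R :=
  commutator_le.2 fun a ha b hb => by
  obtain ⟨r, hr, y, hy, rfl⟩ := h.mem_RT.1 ha
  obtain ⟨r', hr', y', hy', rfl⟩ := h.mem_RT.1 hb
  rw [show ⁅r * y, r' * y'⁆ = r * (y * r' * y⁻¹) * ⁅y, y'⁆ * (y' * r⁻¹ * y'⁻¹) * r'⁻¹ by
    simp only [commutatorElement_def]; group]
  exact mul_mem (mul_mem (mul_mem (mul_mem hr (H24.conj_mem (h.TR hy) hr'))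
    (VR h (h.toLc.comm_T (commutator_mem_commutator hy hy'))))
    (H24.conj_mem (h.TR hy') (inv_mem hr))) (inv_mem hr')
theorem Fz.big (h : Fz X G0 t D T B π R s) (hu : u ∈ R) :
    Fintype.card F ^ 2 ≤ ♯(R ⊓ C{u} : Subgroup G) := by
  have e := cnt R X.V C{u} (fun r => ⁅r, u⁆)
    (fun a ha => h.comm_R (commutator_mem_commutator ha hu)) fun a _ b _ e => mem_C1.2 (by
      have e : a * u * a⁻¹ * u⁻¹ = b * u * b⁻¹ * u⁻¹ := e
      calc a⁻¹ * b * u = a⁻¹ * (b * u * b⁻¹ * u⁻¹) * u * b := by group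
        _ = _ := by rw [← e]; group)
  rw [X.card_V, h.toRz.card, pow_succ'] at e
  exact Nat.le_of_mul_le_mul_left e Fintype.card_pos
theorem Fz.out (h : Fz X G0 t D T B π R s) (hf : f ∈ R ⊔ T) (ff : f * f = 1) (h1 : f ∉ R)
    (h2 : t * f ∉ R) : Fr R f ∧ ♯(X.V ⊓ C{f} : Subgroup G) ^ 2 = Fintype.card F ∧
      (∀ A ≤ R ⊓ C{f}, A ⊓ B ≤ X.V → ♯A ≤ Fintype.card F) ∧
      ♯((R ⊔ T) ⊓ C{f} : Subgroup G) ^ 2 = Fintype.card F * ♯T ^ 2 := by
  obtain ⟨r, hr, y, hy, ho, e⟩ := dec h hf ff h1 h2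
  have aV : ∀ v ∈ X.V, f * v * f⁻¹ = y * v * y⁻¹ := fun v hv => by
    rw [← conj_eq_of_mem_C (h.RV hr) (H24.conj_mem ho.nV hv), e]; group
  have aR : ∀ a ∈ R, X.z (s (f * a * f⁻¹)) = f * X.z (s a) * f⁻¹ := fun a ha => by
    have := H24.conj_mem (h.TR hy) ha
    rw [aV _ (X.z_V _), ← h.toRz.s_conj (h.TB hy) (h.TR hy) (mem_C1.1 (h.syl.le hy)) ha,
      show f * a * f⁻¹ = r * (y * a * y⁻¹) * r⁻¹ by rw [e]; group,
      h.toRz.s_mul (mul_mem hr this) (inv_mem hr), h.toRz.s_mul hr this, s_inv h hr, add_right_comm,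
      X.add_self, zero_add]
  obtain ⟨c, -, hc⟩ := X.actV ho.nL ho.nV
  have fB : f ∈ N[B] := sup_le h.RB h.TB hf
  have SR : R ⊔ T ≤ N[R] := sup_le le_normalizer h.TR
  have k1 : Fr R f := fr_ext X.two h.B_R h.RB (SR hf) fB ff
    (h.toTh.fr fB ff (fun x => (aV _ (X.z_V x)).trans (hc x)) ho.ne) (fun a ha b hb => h.toRz.s_mul ha hb)
    (fun a ha => ⟨h.s_ker a ha, h.toRz.s_B⟩) h.s_onto
    (fun a ha => X.z_inj ((aR a ha).trans ((aV _ (X.z_V _)).trans (hc _)))) ho.ne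
  have k2 : ♯(X.V ⊓ C{f} : Subgroup G) ^ 2 = Fintype.card F := by
    rw [← (X.out_card ho).1]
    congr 3
    ext v
    refine and_congr_right fun hv => ?_
    change v ∈ C{f} ↔ v ∈ C{y}
    rw [mem_C1_comm, mem_C1_iff_conj, aV v hv, ← mem_C1_iff_conj, mem_C1_comm]
  refine ⟨k1, k2, fun A hA hB => ?_, ?_⟩
  · rw [← k2, sq]
    refine (cnt A (X.V ⊓ C{f}) B (fun a => X.z (s a)) (fun a ha => ⟨X.z_V _, ?_⟩)
      fun a ha b hb e => h.s_ker _ (mul_mem (inv_mem (hA ha).1) (hA hb).1) ?_).trans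
      (Nat.mul_le_mul_left _ (card_le (le_inf hB (inf_le_left.trans (hA.trans inf_le_right)))))
    · refine mem_C1_comm.1 (mem_C1_iff_conj.2 ?_)
      rw [← aR a (hA ha).1, mem_C1_iff_conj.1 (mem_C1_comm.1 (hA ha).2)]
    · rw [h.toRz.s_mul (inv_mem (hA ha).1) (hA hb).1, s_inv h (hA ha).1, X.z_inj e, X.add_self]
  have k3 := k1.card ff le_sup_left SR hf fun g hg => by
    have := h.comm_RT (commutator_mem_commutator hg hf)
    rwa [commutatorElement_def, inv_eq_of_mul_eq_one_right ff] at this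
  have k4 := k1.1
  rw [card_S h, h.toRz.card] at k3
  rw [h.toRz.card] at k4
  have q0 : 0 < Fintype.card F ^ 6 := pow_pos Fintype.card_pos _
  refine Nat.eq_of_mul_eq_mul_right q0 ?_
  generalize Fintype.card F = q at *
  calc _ = (♯((R ⊔ T) ⊓ C{f} : Subgroup G) * q ^ (2 + 1)) ^ 2 := by ring
    _ = _ := by rw [← k3, mul_pow, k4]; ring
theorem Fz.dS (h : Fz X G0 t D T B π R s) (hu : u ∈ R ⊔ T) (h1 : DD t u) :
    ∃ r ∈ R, u = r * t * r⁻¹ := by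
  have uu := (H2.SZ.DD.sq h.toSt h1).1
  have q4 := X.four
  by_cases h2 : u ∈ R
  · have := (h.big h2).trans (h.toLc.ec h.zn h1 (h.RV h2) (h.piR.inf_left _) inf_le_right
      (inf_le_left.trans h.RV))
    nlinarith
  by_cases h3 : t * u ∈ R
  · obtain ⟨b, hb, e, k⟩ := h.spec _ h3
    have e1 : b = (t * u)⁻¹ * (t * u)⁻¹ := mul_left_cancel (a := t) (by
      rw [← e, mul_inv_rev, inv_eq_of_mul_eq_one_right uu, inv_eq_of_mul_eq_one_right h.tt]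
      group)
    obtain ⟨r, hr, e2⟩ := h.toRz.cls (h.s_ker _ h3 (by
      rw [← k, h.toTh.π_V le_rfl (e1 ▸ h.sqV _ (inv_mem h3))]))
    exact ⟨r, hr, by rw [← e2, ← mul_assoc, h.tt, one_mul]⟩
  have k1 := (h.out hu uu h2 h3).2.2.2
  have k2 := Nat.pow_le_pow_left (h.toLb.card_le h1 ((pi_S h).inf_left C{u}) inf_le_right) 2
  have := pow_pos (card_pos T) 2
  nlinarith
theorem Fz.sylS (h : Fz X G0 t D T B π R s) : Syl 2 ⊤ (R ⊔ T) ∧ t ∉ G0 ∧ R ≤ G0 := by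
  have hS := h.toLb.syl_of (pi_S h) le_sup_right fun u hu h1 => by
    obtain ⟨r, hr, e⟩ := h.dS hu h1
    exact ⟨r, mem_sup_left hr, e⟩
  refine ⟨hS, tr_not h.toSt (fun e => X.nab (e.of_le h.le)) le_top hS h.comm_RT
    (mem_sup_right h.toLb.t_T) h.tt h.toRz.tR fun g _ hg => ?_,
    h.toLc.le_G0 h.piR h.RV (tN h) h.toRz.tR h.hR⟩
  obtain ⟨r, hr, e⟩ := h.dS hg ⟨g, rfl⟩
  rw [e, mul_assoc, mul_assoc, ← mul_assoc t]
  exact mul_mem hr (tR h (inv_mem hr))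

end H23.L2
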