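import Mathlib
import Cfsg.Agent.H23.LDefs
import Cfsg.Agent.H23.FZa

set_option autoImplicit false
set_option linter.unusedVariables false
set_option linter.unusedSectionVars false

namespace H23.L2

open Cfsg H24 Subgroup
open H2.SZ (St DD Goal)
open scoped MatrixGroups commutatorElement

universe u

variable {G : Type u} [Group G] [Finite G] {F : Type*} [Field F] [Fintype F]
  {L G0 D T B R Q S S1 A P N M H : Subgroup G} {t f g i j ρ z u : G} {X : LD F L} {n : ℕ}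
  {π s : G → F}

namespace FZbx

open FZax

theorem E0 (h : Fz X G0 t D T B π R s) (hg : g ∈ X.E t) (g0 : g ∈ G0) : g ∈ X.V := by
  obtain ⟨b, rfl | rfl⟩ := (h.toSt2.mem_E X).1 hg
  · exact X.z_V b
  · exact (h.sylS.2.1 ((G0.mul_mem_cancel_right (h.le (X.z_mem b))).1 g0)).elim

theorem nt (h : Fz X G0 t D T B π R s) (g0 : g ∈ G0) : t * g ∉ R := fun e =>
  h.sylS.2.1 ((G0.mul_mem_cancel_right g0).1 (h.sylS.2.2 e))

theorem two (h : Fz X G0 t D T B π R s) (hf : f ∈ R ⊔ T) (ff : f * f = 1) (f0 : f ∈ G0)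
    (h1 : f ∉ R) (hg : g ∈ R ⊔ T) (gg : g * g = 1) (g0 : g ∈ G0) (h2 : g ∉ R) : f * g ∈ R := by
  obtain ⟨r, hr, y, hy, ho, rfl⟩ := dec h hf ff h1 (nt h f0)
  obtain ⟨r', hr', y', hy', ho', rfl⟩ := dec h hg gg h2 (nt h g0)
  have k : ∀ {y}, X.Out y → X.φ y * X.φ y = 1 := fun o => by
    rw [← X.φ_mul _ o.nL _ o.nL, o.sq, X.φ_one]
  rw [show r * y * (r' * y') = r * (y * r' * y⁻¹) * (y * y') by group]
  refine mul_mem (mul_mem hr (H24.conj_mem (h.TR hy) hr')) (VR h (E0 h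
    (h.toLc.T_φ (mul_mem hy hy') ?_) (mul_mem ((G0.mul_mem_cancel_left (h.sylS.2.2 hr)).1 f0)
      ((G0.mul_mem_cancel_left (h.sylS.2.2 hr')).1 g0))))
  rw [X.φ_mul _ ho.nL _ ho'.nL, aut_two (k ho) (k ho') ho.ne ho'.ne, k ho']

theorem key (h : Fz X G0 t D T B π R s) (hu : u ∈ R) (uu : u * u = 1) {w : G}
    (hw : cj w (R ⊓ C{u}) ≤ R ⊔ T) : w * u * w⁻¹ ∈ R := by
  by_contra h1
  have U0 : cj w (R ⊓ C{u}) ≤ G0 := fun x hx => by
    obtain ⟨y, hy, rfl⟩ := mem_cj'.1 hx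
    exact h.nrm.conj_mem _ (h.sylS.2.2 hy.1) _
  have UC : cj w (R ⊓ C{u}) ≤ C{w * u * w⁻¹} := cj_C1 w u ▸ cj_mono w inf_le_right
  have fU : w * u * w⁻¹ ∈ cj w (R ⊓ C{u}) := conj_mem_cj w ⟨hu, self_mem_C1 u⟩
  have ff : w * u * w⁻¹ * (w * u * w⁻¹) = 1 := by rw [conj_mul, uu, mul_one, mul_inv_cancel]
  obtain ⟨-, k2, k3, k4⟩ := h.out (hw fU) ff h1 (nt h (U0 fU))
  obtain ⟨k, k5, -, -, k6, -⟩ := h.toLc.card_T
  have q4 := X.four
  by_cases hV : u ∈ X.V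
  · have e := Nat.pow_le_pow_left (card_le (le_inf hw UC)) 2
    rw [card_cj, inf_eq_left.2 fun x hx => mem_C1.2 (mem_C'.1 (h.RV hx) u hV), h.toRz.card, k4,
      k5] at e
    generalize Fintype.card F = q at *
    have e2 : q ^ 4 * (q * q) ≤ q ^ 4 * 4 := calc
      _ = (q ^ (2 + 1)) ^ 2 := by ring
      _ ≤ _ := e
      _ = 4 * q ^ 3 * k ^ 2 := by ring
      _ ≤ 4 * q ^ 3 * q := Nat.mul_le_mul_left _ k6
      _ = _ := by ring
    have := Nat.le_of_mul_le_mul_left e2 (by positivity)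
    nlinarith
  obtain ⟨r, hr, rV, rr, rU⟩ : ∃ r ∈ R, r ∉ X.V ∧ r * r = 1 ∧ cj w (R ⊓ C{u}) ≤ C{r} := by
    by_contra hn
    have hn : ∀ r ∈ R, r * r = 1 → cj w (R ⊓ C{u}) ≤ C{r} → r ∈ X.V := fun r hr h1 h2 => by
      by_contra h3
      exact hn ⟨r, hr, h3, h1, h2⟩
    have : ∀ b, ∃ v : (X.V ⊓ C{w * u * w⁻¹} : Subgroup G),
        v.1 = w * X.z b * w⁻¹ ∨ v.1 = w * (X.z b * u) * w⁻¹ := fun b => by
      have zU : X.z b ∈ R ⊓ C{u} := ⟨VR h (X.z_V b), mem_C1.2 (mem_C.1 (h.RV hu) _ (X.z_V b))⟩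
      have zz : w * X.z b * w⁻¹ * (w * X.z b * w⁻¹) = 1 := by
        rw [conj_mul, X.z_sq, mul_one, mul_inv_cancel]
      have zc : cj w (R ⊓ C{u}) ≤ C{w * X.z b * w⁻¹} := cj_C1 w _ ▸ cj_mono w fun x hx =>
        mem_C1.2 (mem_C'.1 (h.RV hx.1) _ (X.z_V b))
      have z1 := conj_mem_cj w zU
      by_cases e : w * X.z b * w⁻¹ ∈ R
      · exact ⟨⟨_, hn _ e zz zc, UC z1⟩, Or.inl rfl⟩
      · refine ⟨⟨_, hn _ (two h (hw z1) zz (U0 z1) e (hw fU) ff (U0 fU) h1) ?_ fun x hx => ?_,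
          UC (mul_mem z1 fU)⟩, Or.inr (conj_mul ..)⟩
        · rw [(show Commute _ _ from (mem_C1.1 (UC z1)).symm).mul_mul_mul_comm, ff, zz, mul_one]
        · exact mem_C1_comm.1 (mul_mem (mem_C1_comm.1 (zc hx)) (mem_C1_comm.1 (UC hx)))
    choose v hv using this
    have e := Nat.card_le_card_of_injective v fun a b e => by
      have c : ∀ {a b}, w * X.z a * w⁻¹ = w * (X.z b * u) * w⁻¹ → False := fun {a b} e =>
        hV ((X.V.mul_mem_cancel_left (X.z_V b)).1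
          (mul_left_cancel (mul_right_cancel e) ▸ X.z_V a))
      rcases hv a with e1 | e1 <;> rcases hv b with e2 | e2 <;> rw [e, e2] at e1
      · exact (X.z_inj (mul_left_cancel (mul_right_cancel e1))).symm
      · exact (c e1.symm).elim
      · exact (c e1).elim
      · exact (X.z_inj (mul_right_cancel (mul_left_cancel (mul_right_cancel e1)))).symm
    rw [Nat.card_eq_fintype_card] at e
    nlinarith
  have e1 := k3 (R ⊓ cj w (R ⊓ C{u})) (inf_le_inf_left R UC) fun b hb =>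
    h.cb r hr (fun e => rV (h.om r e rr)) b hb.2 (mem_C1.1 (rU hb.1.2)).symm
  have e2 := card_sup (hw.trans (sup_le le_normalizer h.TR))
  have e3 := card_le (sup_le (le_inf le_sup_left h.sylS.2.2) (le_inf hw U0))
  have e4 := (h.toSt2.syl0 h.sylS.1).2.2 h.sylS.2.1
  have e5 := h.big hu
  rw [card_cj, h.toRz.card] at e2
  rw [card_S h, k5] at e4
  generalize Fintype.card F = q at *
  have e6 : ♯((R ⊔ T) ⊓ G0 : Subgroup G) = q ^ 3 * k := by linarith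
  have e7 : q ^ 4 * q ≤ q ^ 4 * k := calc
    _ = q ^ (2 + 1) * q ^ 2 := by ring
    _ ≤ _ := Nat.mul_le_mul_left _ e5
    _ = _ := e2.symm
    _ ≤ q ^ 3 * k * q := Nat.mul_le_mul (e6 ▸ e3) e1
    _ = _ := by ring
  have := Nat.le_of_mul_le_mul_left e7 (by positivity)
  nlinarith

theorem nf (h : Fz X G0 t D T B π R s) (hf : f ∈ T) (ho : X.Out f) : g * f * g⁻¹ ∉ R := fun hu => by
  obtain ⟨P, hP, TP⟩ := Sylow_superset Nat.prime_two (h.syl.pi.inf_left C{f}) inf_le_right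
  obtain ⟨x, -, hx⟩ := Sylow_Jsub Nat.prime_two h.sylS.1 hP.pi le_top
  obtain ⟨r, hr, e⟩ := h.dS (hx (conj_mem_cj x (TP ⟨h.toLb.t_T, mem_C1_comm.1 (h.syl.le hf)⟩)))
    ⟨x, rfl⟩
  have xL : r⁻¹ * x ∈ N[L] := h.Ct _ (by
    rw [mul_assoc, mul_inv_eq_iff_eq_mul.1 e]; group)
  have hx' : cj (r⁻¹ * x) P ≤ R ⊔ T := cj_mul r⁻¹ x P ▸ cj_le_of_mem hx (mem_sup_left (inv_mem hr))
  generalize r⁻¹ * x = y at xL hx'
  have hP' := hP.cj y
  rw [cj_C1] at hP'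
  obtain ⟨c, hc, k⟩ := Sylow_Jsub Nat.prime_two hP'
    ((h.piR.inf_left C{g * f * g⁻¹}).cj (y * g⁻¹)) ((cj_mono _ inf_le_right).trans (by
      rw [cj_C1, show y * g⁻¹ * (g * f * g⁻¹) * (y * g⁻¹)⁻¹ = y * f * y⁻¹ by group]))
  rw [← cj_mul] at k
  have e1 := key h hu (by rw [conj_mul, ho.sq, mul_one, mul_inv_cancel]) (k.trans hx')
  rw [show c * (y * g⁻¹) * (g * f * g⁻¹) * (c * (y * g⁻¹))⁻¹ = c * (y * f * y⁻¹) * c⁻¹ by group,
    mem_C1_iff_conj.1 hc] at e1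
  exact ho.ne ((X.φ_conj xL ho.nL).symm.trans
    (X.φ_CV (mul_mem (mul_mem xL ho.nL) (inv_mem xL)) (h.RV e1)))

theorem TE (h : Fz X G0 t D T B π R s) (m : ℕ) : ∀ y ∈ T, y ∈ G0 → y ^ 2 ^ m = 1 → y ∈ X.E t := by
  induction m with
  | zero => exact fun y _ _ e => (pow_one y).symm.trans e ▸ one_mem _
  | succ m ih =>
    intro y hy y0 e
    by_contra h1
    obtain ⟨b, ho⟩ := h.toLc.T_out hy h1 (E0 h (ih _ (mul_mem hy hy) (mul_mem y0 y0) (by
      rw [← sq, ← pow_mul, ← pow_succ', e])) (mul_mem y0 y0))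
    have hf := mul_mem hy (h.V_T (X.z_V b))
    have f0 := mul_mem y0 (h.le (X.z_mem b))
    have fR : y * X.z b ∉ R := fun e => nf h hf ho (g := 1) (by simpa using e)
    refine tr_not h.toSt (fun e => X.nab (e.of_le h.le)) le_top h.sylS.1 h.comm_RT
      (mem_sup_right hf) ho.sq fR (fun g _ hg => ?_) f0
    exact two h hg (by rw [conj_mul, ho.sq, mul_one, mul_inv_cancel]) (h.nrm.conj_mem _ f0 g)
      (nf h hf ho) (mem_sup_right hf) ho.sq f0 fR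

end FZbx

/-! ### FZb -/
theorem Fz.goal (h : Fz X G0 t D T B π R s) : IsLieTypeChar 2 G0 := by
  have hS := (h.toSt2.syl0 h.sylS.1).1
  rw [show (R ⊔ T) ⊓ G0 = R from le_antisymm (fun g hg => by
    obtain ⟨r, hr, y, hy, rfl⟩ := h.mem_RT.1 hg.1
    have y0 := (G0.mul_mem_cancel_left (h.sylS.2.2 hr)).1 hg.2
    obtain ⟨m, e⟩ := (h.syl.pi.piElt hy).exists_pow Nat.prime_two
    exact mul_mem hr (FZax.VR h (FZbx.E0 h (FZbx.TE h m y hy y0 (e ▸ pow_orderOf_eq_one y)) y0)))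
    (le_inf le_sup_left h.sylS.2.2)] at hS
  refine cl2 h.toSt hS ?_ (h.comm_R.trans fun v hv => mem_C.2 fun r hr => mem_C'.1 (h.RV hr) v hv)
  rw [h.toRz.card]
  exact le_trans (by norm_num) (Nat.pow_le_pow_left X.four _)

end H23.L2
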