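import Mathlib
import Cfsg.Agent.H23.LDefs

set_option autoImplicit false
set_option linter.unusedVariables false
set_option linter.unusedSectionVars false

namespace H23.L2

open Cfsg H24 Subgroup
open H2.SZ (St DD Goal)
open scoped MatrixGroups commutatorElement

universe u

variable {G : Type u} [Group G] [Finite G] {F : Type*} [Field F] [Fintype F]
  {L G0 D T B R Q S S1 A P N M H : Subgroup G} {t f g i j ρ z u : G} {X : LD F L} {n : ℕ}
  {π s : G → F}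

/-! ### G8 -/
/-- the additive permutations of `F` -/
def Ad (F : Type*) [Field F] : Subgroup (Equiv.Perm F) where
  carrier := {α | ∀ x y, α (x + y) = α x + α y}
  mul_mem' := fun {a b} ha hb x y => by
    simp only [Equiv.Perm.mul_apply]; rw [hb x y, ha]
  one_mem' := fun _ _ => rfl
  inv_mem' := fun {a} ha x y => a.injective (by rw [ha]; simp)

namespace G8x

theorem add {α : Equiv.Perm F} (ha : α ∈ Ad F) (x y : F) : α (x + y) = α x + α y := ha x y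
theorem zero {α : Equiv.Perm F} (ha : α ∈ Ad F) : α 0 = 0 := by
  have := add ha 0 0
  rw [add_zero] at this
  exact left_eq_add.1 this

def bb (x i a : ℕ) : ℕ := bif x.testBit i then a else 0
def ap (n x : ℕ) : ℕ := bb x 0 (n % 8) ^^^ bb x 1 (n / 8 % 8) ^^^ bb x 2 (n / 64 % 8)
def ml (m n : ℕ) : ℕ := ap m (n % 8) + 8 * ap m (n / 8 % 8) + 64 * ap m (n / 64 % 8)
def AL : List ℕ := [84, 85, 86, 87, 92, 93, 94, 95, 98, 99, 102, 103, 106, 107, 110, 111, 114, 115,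
  116, 117, 122, 123, 124, 125, 140, 141, 142, 143, 156, 157, 158, 159, 161, 163, 165, 167,
  169, 171, 172, 174, 177, 179, 181, 183, 185, 187, 188, 190, 204, 205, 206, 207, 212, 213,
  214, 215, 225, 226, 229, 230, 233, 234, 236, 239, 241, 242, 244, 247, 249, 250, 253, 254,
  266, 267, 270, 271, 273, 275, 277, 279, 281, 282, 285, 286, 298, 299, 302, 303, 305, 307,
  309, 311, 313, 314, 317, 318, 330, 331, 334, 335, 337, 339, 340, 342, 345, 346, 348, 351,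
  354, 355, 358, 359, 369, 370, 372, 375, 377, 379, 380, 382, 394, 395, 396, 397, 401, 403,
  405, 407, 409, 410, 412, 415, 417, 419, 421, 423, 425, 426, 428, 431, 442, 443, 444, 445,
  458, 459, 460, 461, 465, 467, 468, 470, 473, 474, 477, 478, 481, 482, 485, 486, 489, 491,
  492, 494, 498, 499, 500, 501]
def IV : List ℕ := [84, 124, 161, 167, 214, 233, 266, 275, 277, 279, 281, 302, 305, 309, 313, 337, 345, 401,
  403, 458, 465]
def UL : List ℕ := [273, 281, 337, 345]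
def PL : List ℕ := [273, 281, 337, 345, 401, 409, 465, 473]

theorem bb_lt (x i : ℕ) {a : ℕ} (h : a < 8) : bb x i a < 8 := by
  unfold bb; cases x.testBit i <;> simp [h]
theorem ap_lt (n x : ℕ) : ap n x < 8 :=
  Nat.xor_lt_two_pow (n := 3) (Nat.xor_lt_two_pow (n := 3) (bb_lt _ _ (Nat.mod_lt _ (by norm_num)))
    (bb_lt _ _ (Nat.mod_lt _ (by norm_num)))) (bb_lt _ _ (Nat.mod_lt _ (by norm_num)))
theorem xor_lt {x y : ℕ} (hx : x < 8) (hy : y < 8) : x ^^^ y < 8 :=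
  Nat.xor_lt_two_pow (n := 3) hx hy
theorem ap1 (n : ℕ) : ap n 1 = n % 8 := by
  change (n % 8 ^^^ 0) ^^^ 0 = _; simp
theorem ap2 (n : ℕ) : ap n 2 = n / 8 % 8 := by
  change (0 ^^^ n / 8 % 8) ^^^ 0 = _; simp
theorem ap4 (n : ℕ) : ap n 4 = n / 64 % 8 := by
  change (0 ^^^ 0) ^^^ n / 64 % 8 = _; simp

theorem d_mem : ∀ n < 512, (∀ x < 8, ap n x = 0 → x = 0) → n ∈ AL := by decide +kernel
theorem d_inj : ∀ n ∈ AL, n < 512 ∧ ∀ x < 8, ∀ y < 8, ap n x = ap n y → x = y := by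
  decide +kernel
theorem d_nd : AL.Nodup := by decide +kernel
theorem d_iv : ∀ n ∈ AL, ml n n = 273 → n ≠ 273 → n ∈ IV := by decide +kernel
theorem d_iv' : ∀ n ∈ IV, n ∈ AL ∧ ml n n = 273 ∧ n ≠ 273 := by decide +kernel
theorem d_conj : ∀ a ∈ IV, ∀ b ∈ IV, ∃ g ∈ AL, ml b g = ml g a := by decide +kernel
theorem d_inv3 : ∀ a ∈ IV, ∃ b ∈ IV, ml (ml a b) (ml (ml a b) (ml a b)) = 273 ∧ ml a b ≠ 273 := by
  decide +kernel
theorem d_nml : ∀ x ∈ AL, x = 273 ∨ x ∈ IV ∨ ∃ g ∈ AL, ∃ i ∈ IV, ml x (ml g x) = ml i g := by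
  decide +kernel
theorem d_gen : ∀ g ∈ AL, ∃ i ∈ 273 :: IV, ∃ j ∈ 273 :: IV, ml i (ml j g) ∈ 273 :: IV := by
  decide +kernel
theorem d_fix : ∀ a ∈ IV, ((Finset.range 8).filter fun x => ap a x = x).card = 4 ∧
    ∃ c < 8, c ≠ 0 ∧ ∀ x < 8, ap a x = x ∨ ap a x = x ^^^ c := by decide +kernel
theorem d_U : ∀ n ∈ AL, n ∈ UL ↔ ∀ x < 8, ap n x = x ∨ ap n x = x ^^^ 1 := by decide +kernel
theorem d_U2 : ∀ n ∈ UL, ml n n = 273 := by decide +kernel
theorem d_U3 : ∀ x < 8, (∀ n ∈ UL, ap n x = x) → x = 0 ∨ x = 1 := by decide +kernel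
theorem d_b : ∀ n ∈ AL, ap n 1 = 1 → ml n (ml n n) = 273 → n ≠ 273 →
    (∀ x < 8, ap n x = x ∨ ap n x = x ^^^ 1 → x = 0 ∨ x = 1) ∧
      ∀ m ∈ UL, ml n m = ml m n → m = 273 := by decide +kernel
theorem d_b0 : ∃ n ∈ AL, ap n 1 = 1 ∧ ml n (ml n n) = 273 ∧ n ≠ 273 := by decide +kernel
theorem d_CU : ∀ n ∈ AL, (∀ m ∈ UL, ml m n = ml n m) → n ∈ UL := by decide +kernel
theorem d_NP : ∀ n ∈ AL, ml n (ml n n) = 273 → n ≠ 273 →
    ∃ m ∈ PL, ml (ml n m) (ml n n) ∉ PL := by decide +kernel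
theorem d_PA : ∀ n ∈ PL, n ∈ AL := by decide +kernel
theorem d_P : ∀ n ∈ PL, n = 273 ∨ n = 281 ∨ n = 401 ∨ n = ml 281 401 ∨ n = ml 401 281 ∨
    n = ml 281 (ml 401 281) ∨ n = ml 401 (ml 281 401) ∨ n = ml 281 (ml 401 (ml 281 401)) := by
  decide +kernel

def bf (x i : ℕ) (e : F) : F := bif x.testBit i then e else 0

theorem bf_xor (two : (2 : F) = 0) (x y i : ℕ) (e : F) : bf (x ^^^ y) i e = bf x i e + bf y i e := by
  unfold bf
  rw [Nat.testBit_xor]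
  cases x.testBit i <;> cases y.testBit i <;> simp
  linear_combination -e * two

theorem map_bf {α : Equiv.Perm F} (ha : α ∈ Ad F) (x i : ℕ) (e : F) :
    α (bf x i e) = bf x i (α e) := by
  unfold bf
  cases x.testBit i <;> simp [zero ha]

theorem two (h8 : Fintype.card F = 8) : (2 : F) = 0 := by
  have := FiniteField.cast_card_eq_zero F
  rw [h8] at this
  exact pow_eq_zero_iff (n := 3) (by norm_num) |>.1 (by push_cast at this; linear_combination this)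

/-- coordinates -/
structure Bs (F : Type*) [Field F] where
  two : (2 : F) = 0
  v : ℕ → F
  dec : ∀ x, v x = bf x 0 (v 1) + bf x 1 (v 2) + bf x 2 (v 4)
  inj : ∀ x < 8, ∀ y < 8, v x = v y → x = y
  sur : ∀ z, ∃ x < 8, v x = z

theorem exists_out (h8 : Fintype.card F = 8) (a b c d : F) : ∃ x, x ≠ a ∧ x ≠ b ∧ x ≠ c ∧ x ≠ d := by
  classical
  by_contra h
  have : (Finset.univ : Finset F) ⊆ {a, b, c, d} := fun x _ => by
    by_contra hx
    exact h ⟨x, by simpa [not_or] using hx⟩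
  have h1 := (Finset.card_le_card this).trans Finset.card_le_four
  rw [Finset.card_univ] at h1
  omega

theorem exists_bs (h8 : Fintype.card F = 8) {c : F} (hc : c ≠ 0) : ∃ B : Bs F, B.v 1 = c := by
  classical
  have tw := two h8
  obtain ⟨d, d0, d1, -⟩ := exists_out h8 0 c c c
  obtain ⟨e, e0, e1, e2, e3⟩ := exists_out h8 0 c d (c + d)
  let v : ℕ → F := fun x => bf x 0 c + bf x 1 d + bf x 2 e
  have v1 : v 1 = c := by change c + 0 + 0 = c; ring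
  have v2 : v 2 = d := by change 0 + d + 0 = d; ring
  have v4 : v 4 = e := by change 0 + 0 + e = e; ring
  have vx : ∀ x y, v (x ^^^ y) = v x + v y := fun x y => by
    simp only [v, bf_xor tw]; ring
  have v0 : ∀ x < 8, v x = 0 → x = 0 := by
    intro x hx h
    interval_cases x
    · rfl
    · exact absurd (v1 ▸ h) hc
    · exact absurd (v2 ▸ h) d0
    · have : c + d + 0 = 0 := h
      exact absurd (by linear_combination this - c * tw) d1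
    · exact absurd (v4 ▸ h) e0
    · have : c + 0 + e = 0 := h
      exact absurd (by linear_combination this - c * tw) e1
    · have : 0 + d + e = 0 := h
      exact absurd (by linear_combination this - d * tw) e2
    · have : c + d + e = 0 := h
      exact absurd (by linear_combination this - (c + d) * tw) e3
  have inj : ∀ x < 8, ∀ y < 8, v x = v y → x = y := fun x hx y hy h =>
    Nat.eq_of_xor_eq_zero (v0 _ (xor_lt hx hy) (by rw [vx, h]; linear_combination v y * tw))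
  refine ⟨⟨tw, v, fun x => by rw [v1, v2, v4], inj, fun z => ?_⟩, v1⟩
  have : Function.Bijective fun x : Fin 8 => v x :=
    (Fintype.bijective_iff_injective_and_card _).2
      ⟨fun x y h => Fin.ext (inj _ x.2 _ y.2 h), by simp [h8]⟩
  obtain ⟨x, hx⟩ := this.2 z
  exact ⟨x, x.2, hx⟩

namespace Bs
variable (B : Bs F) {α β γ : Equiv.Perm F}

theorem xor (x y : ℕ) : B.v (x ^^^ y) = B.v x + B.v y := by
  rw [B.dec (x ^^^ y), B.dec x, B.dec y]; simp only [bf_xor B.two]; ring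
theorem v0 : B.v 0 = 0 := by
  rw [B.dec 0]; change (0 : F) + 0 + 0 = 0; ring
theorem v_bb (x i a : ℕ) : B.v (bb x i a) = bf x i (B.v a) := by
  unfold bb bf; cases x.testBit i <;> simp [B.v0]
theorem v_ap (n x : ℕ) : B.v (ap n x) =
    bf x 0 (B.v (n % 8)) + bf x 1 (B.v (n / 8 % 8)) + bf x 2 (B.v (n / 64 % 8)) := by
  simp only [ap, B.xor, B.v_bb]
theorem v_iff {x y : ℕ} (hx : x < 8) (hy : y < 8) : B.v x = B.v y ↔ x = y :=
  ⟨B.inj x hx y hy, fun h => h ▸ rfl⟩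
theorem all {p : F → Prop} : (∀ z, p z) ↔ ∀ x < 8, p (B.v x) :=
  ⟨fun h _ _ => h _, fun h z => by obtain ⟨x, hx, rfl⟩ := B.sur z; exact h x hx⟩

noncomputable def ix (z : F) : ℕ := (B.sur z).choose
theorem ix_lt (z : F) : B.ix z < 8 := (B.sur z).choose_spec.1
theorem v_ix (z : F) : B.v (B.ix z) = z := (B.sur z).choose_spec.2
theorem ix_v {x : ℕ} (hx : x < 8) : B.ix (B.v x) = x := B.inj _ (B.ix_lt _) _ hx (B.v_ix _)

noncomputable def cd (α : Equiv.Perm F) : ℕ :=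
  B.ix (α (B.v 1)) + 8 * B.ix (α (B.v 2)) + 64 * B.ix (α (B.v 4))

theorem app (ha : α ∈ Ad F) (x : ℕ) : α (B.v x) = B.v (ap (B.cd α) x) := by
  have h1 := B.ix_lt (α (B.v 1))
  have h2 := B.ix_lt (α (B.v 2))
  have h4 := B.ix_lt (α (B.v 4))
  have e1 : B.cd α % 8 = B.ix (α (B.v 1)) := by unfold cd; omega
  have e2 : B.cd α / 8 % 8 = B.ix (α (B.v 2)) := by unfold cd; omega
  have e4 : B.cd α / 64 % 8 = B.ix (α (B.v 4)) := by unfold cd; omega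
  rw [B.v_ap, e1, e2, e4, B.dec x, add ha, add ha]
  simp only [map_bf ha, B.v_ix]

theorem app_iff (ha : α ∈ Ad F) (x : ℕ) {y : ℕ} (hy : y < 8) :
    α (B.v x) = B.v y ↔ ap (B.cd α) x = y := by
  rw [B.app ha, B.v_iff (ap_lt _ _) hy]

theorem mem (ha : α ∈ Ad F) : B.cd α ∈ AL := by
  have h1 := B.ix_lt (α (B.v 1))
  have h2 := B.ix_lt (α (B.v 2))
  have h4 := B.ix_lt (α (B.v 4))
  refine d_mem _ (by unfold cd; omega) fun x hx h => B.inj _ hx _ (by norm_num) (α.injective ?_)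
  rw [B.app ha, h, B.v0, zero ha]

theorem mul (ha : α ∈ Ad F) (hb : β ∈ Ad F) : B.cd (α * β) = ml (B.cd α) (B.cd β) := by
  conv_lhs => unfold cd
  simp only [Equiv.Perm.mul_apply, B.app hb, B.app ha, B.ix_v (ap_lt _ _)]
  rw [ap1, ap2, ap4]
  rfl

theorem one : B.cd 1 = 273 := by
  unfold cd
  simp only [Equiv.Perm.one_apply]
  rw [B.ix_v (by norm_num), B.ix_v (by norm_num), B.ix_v (by norm_num)]

theorem ext (ha : α ∈ Ad F) (hb : β ∈ Ad F) (h : B.cd α = B.cd β) : α = β :=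
  Equiv.ext (B.all.2 fun x _ => by rw [B.app ha, B.app hb, h])

theorem eq_one (ha : α ∈ Ad F) : α = 1 ↔ B.cd α = 273 :=
  ⟨fun h => h ▸ B.one, fun h => B.ext ha (one_mem _) (h.trans B.one.symm)⟩

theorem ex {n : ℕ} (hn : n ∈ AL) : ∃ α ∈ Ad F, B.cd α = n := by
  obtain ⟨h1, h2⟩ := d_inj n hn
  have hi : Function.Injective fun z => B.v (ap n (B.ix z)) := fun z w h => by
    rw [← B.v_ix z, h2 _ (B.ix_lt z) _ (B.ix_lt w) (B.inj _ (ap_lt _ _) _ (ap_lt _ _) h), B.v_ix]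
  refine ⟨Equiv.ofBijective _ (Finite.injective_iff_bijective.1 hi), ?_, ?_⟩
  · refine B.all.2 fun x hx => B.all.2 fun y hy => ?_
    simp only [Equiv.ofBijective_apply]
    rw [← B.xor, B.ix_v hx, B.ix_v hy, B.ix_v (xor_lt hx hy)]
    simp only [B.v_ap, bf_xor B.two]
    ring
  · unfold cd
    simp only [Equiv.ofBijective_apply]
    rw [B.ix_v (x := 1) (by norm_num), B.ix_v (x := 2) (by norm_num),
      B.ix_v (x := 4) (by norm_num)]
    simp only [B.ix_v (ap_lt _ _)]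
    rw [ap1, ap2, ap4]
    omega

theorem card {U : Subgroup (Equiv.Perm F)} (hU : U ≤ Ad F) {l : List ℕ} (nd : l.Nodup)
    (hl : ∀ n ∈ l, n ∈ AL) (h : ∀ α ∈ Ad F, α ∈ U ↔ B.cd α ∈ l) : ♯U = l.length := by
  rw [← List.toFinset_card_of_nodup nd, ← Fintype.card_coe, ← Nat.card_eq_fintype_card]
  refine Nat.card_congr (Equiv.ofBijective
    (fun α => ⟨B.cd α.1, List.mem_toFinset.2 ((h _ (hU α.2)).1 α.2)⟩) ⟨fun α β e => ?_, ?_⟩)
  · exact Subtype.ext (B.ext (hU α.2) (hU β.2) (congrArg Subtype.val e))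
  · rintro ⟨n, hn⟩
    obtain ⟨α, ha, rfl⟩ := B.ex (hl n (List.mem_toFinset.1 hn))
    exact ⟨⟨α, (h α ha).2 (List.mem_toFinset.1 hn)⟩, rfl⟩

def sub (l : List ℕ) (h : 273 ∈ l ∧ (∀ m ∈ l, ∀ n ∈ l, ml m n ∈ l) ∧
    ∀ m ∈ l, ∀ n ∈ AL, ml m n = 273 → n ∈ l) : Subgroup (Equiv.Perm F) where
  carrier := {α | α ∈ Ad F ∧ B.cd α ∈ l}
  mul_mem' := fun ha hb => ⟨mul_mem ha.1 hb.1, B.mul ha.1 hb.1 ▸ h.2.1 _ ha.2 _ hb.2⟩
  one_mem' := ⟨one_mem _, B.one ▸ h.1⟩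
  inv_mem' := fun ha => ⟨inv_mem ha.1, h.2.2 _ ha.2 _ (B.mem (inv_mem ha.1))
    (by rw [← B.mul ha.1 (inv_mem ha.1), mul_inv_cancel, B.one])⟩

def U : Subgroup (Equiv.Perm F) := B.sub UL (by decide +kernel)
def P0 : Subgroup (Equiv.Perm F) := B.sub PL (by decide +kernel)
theorem mem_U : α ∈ B.U ↔ α ∈ Ad F ∧ B.cd α ∈ UL := Iff.rfl
theorem mem_P : α ∈ B.P0 ↔ α ∈ Ad F ∧ B.cd α ∈ PL := Iff.rfl
theorem U_le : B.U ≤ Ad F := fun _ h => h.1
theorem P_le : B.P0 ≤ Ad F := fun _ h => h.1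
theorem card_U : ♯B.U = 4 :=
  B.card B.U_le (l := UL) (by decide) (by decide +kernel) fun α ha => by simp [mem_U, ha]
theorem card_P : ♯B.P0 = 8 :=
  B.card B.P_le (l := PL) (by decide) (by decide +kernel) fun α ha => by simp [mem_P, ha]
theorem card_Ad (B : Bs F) : ♯(Ad F) = 168 :=
  B.card le_rfl d_nd (fun _ h => h) fun α ha => by simp [ha, B.mem ha]

theorem iv (ha : α ∈ Ad F) (a2 : α * α = 1) (a1 : α ≠ 1) : B.cd α ∈ IV :=
  d_iv _ (B.mem ha) (by rw [← B.mul ha ha, a2, B.one]) fun h => a1 ((B.eq_one ha).2 h)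

theorem ex_iv {n : ℕ} (hn : n ∈ IV) : ∃ α ∈ Ad F, B.cd α = n ∧ α * α = 1 ∧ α ≠ 1 := by
  obtain ⟨h1, h2, h3⟩ := d_iv' n hn
  obtain ⟨α, ha, rfl⟩ := B.ex h1
  exact ⟨α, ha, rfl, (B.eq_one (mul_mem ha ha)).2 (by rw [B.mul ha ha, h2]),
    fun h => h3 ((B.eq_one ha).1 h)⟩

theorem ord3 (ha : α ∈ Ad F) : orderOf α = 3 ↔
    ml (B.cd α) (ml (B.cd α) (B.cd α)) = 273 ∧ B.cd α ≠ 273 := by
  haveI : Fact (Nat.Prime 3) := ⟨by norm_num⟩
  rw [orderOf_eq_prime_iff, ← B.mul ha ha, ← B.mul ha (mul_mem ha ha),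
    ← B.eq_one (mul_mem ha (mul_mem ha ha)), Ne, Ne, ← B.eq_one ha, pow_three]

theorem syl (B : Bs F) {P : Subgroup (Equiv.Perm F)} (h1 : P ≤ Ad F) (hP : ♯P = 8) : Syl 2 (Ad F) P := by
  refine Syl.mk' Nat.prime_two h1 (isPi_of_card (n := 3) Nat.prime_two hP) ?_
  have := card_mul_relIndex h1
  rw [hP, B.card_Ad] at this
  omega

theorem conjP {P : Subgroup (Equiv.Perm F)} (h1 : P ≤ Ad F) (hP : ♯P = 8) :
    ∃ γ ∈ Ad F, P = cj γ B.P0 :=
  Sylow_trans Nat.prime_two (B.syl B.P_le B.card_P) (B.syl h1 hP)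

theorem sylP : ∃ a ∈ B.P0, ∃ b ∈ B.P0, a * a = 1 ∧ b * b = 1 ∧ a ≠ 1 ∧ b ≠ 1 ∧
    orderOf (a * b) = 4 ∧ B.P0 = closure {a, b} := by
  obtain ⟨a, ha, ea, a2, a1⟩ := B.ex_iv (n := 281) (by decide)
  obtain ⟨b, hb, eb, b2, b1⟩ := B.ex_iv (n := 401) (by decide)
  have aP : a ∈ B.P0 := ⟨ha, ea ▸ by decide⟩
  have bP : b ∈ B.P0 := ⟨hb, eb ▸ by decide⟩
  have hab := mul_mem ha hb
  refine ⟨a, aP, b, bP, a2, b2, a1, b1, ?_, le_antisymm ?_ ?_⟩
  · refine orderOf_eq_prime_pow (p := 2) (n := 1) ?_ ?_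
    · rw [pow_one, sq, B.eq_one (mul_mem hab hab), B.mul hab hab, B.mul ha hb, ea, eb]
      decide +kernel
    · have : (a * b) ^ 2 ^ (1 + 1) = a * b * (a * b) * (a * b * (a * b)) := by
        rw [← sq, ← sq, ← pow_mul]; norm_num
      rw [this, B.eq_one (mul_mem (mul_mem hab hab) (mul_mem hab hab)),
        B.mul (mul_mem hab hab) (mul_mem hab hab), B.mul hab hab, B.mul ha hb, ea, eb]
      decide +kernel
  · rintro x ⟨hx, hx'⟩
    have ca : a ∈ closure ({a, b} : Set (Equiv.Perm F)) := subset_closure (by simp)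
    have cb : b ∈ closure ({a, b} : Set (Equiv.Perm F)) := subset_closure (by simp)
    have hba := mul_mem hb ha
    rcases d_P _ hx' with e | e | e | e | e | e | e | e
    · rw [(B.eq_one hx).2 e]; exact one_mem _
    · rw [B.ext hx ha (e.trans ea.symm)]; exact ca
    · rw [B.ext hx hb (e.trans eb.symm)]; exact cb
    · rw [B.ext hx hab (by rw [B.mul ha hb, ea, eb, e])]; exact mul_mem ca cb
    · rw [B.ext hx hba (by rw [B.mul hb ha, ea, eb, e])]; exact mul_mem cb ca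
    · rw [B.ext hx (mul_mem ha hba) (by rw [B.mul ha hba, B.mul hb ha, ea, eb, e])]
      exact mul_mem ca (mul_mem cb ca)
    · rw [B.ext hx (mul_mem hb hab) (by rw [B.mul hb hab, B.mul ha hb, ea, eb, e])]
      exact mul_mem cb (mul_mem ca cb)
    · rw [B.ext hx (mul_mem ha (mul_mem hb hab))
        (by rw [B.mul ha (mul_mem hb hab), B.mul hb hab, B.mul ha hb, ea, eb, e])]
      exact mul_mem ca (mul_mem cb (mul_mem ca cb))
  · exact (closure_le _).2 (Set.insert_subset aP (Set.singleton_subset_iff.2 bP))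

theorem notN (hb : β ∈ Ad F) (h3 : orderOf β = 3) : β ∉ N[B.P0] := by
  intro h
  obtain ⟨e1, e2⟩ := (B.ord3 hb).1 h3
  obtain ⟨m, hm, h1⟩ := d_NP _ (B.mem hb) e1 e2
  obtain ⟨α, ha, rfl⟩ := B.ex (d_PA m hm)
  have e : β⁻¹ = β * β := by
    rw [inv_eq_iff_mul_eq_one, ← pow_three, ← h3, pow_orderOf_eq_one]
  have := (H24.conj_mem h (show α ∈ B.P0 from ⟨ha, hm⟩)).2
  rw [e, B.mul (mul_mem hb ha) (mul_mem hb hb), B.mul hb ha, B.mul hb hb] at this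
  exact h1 this

theorem tv (ha : α ∈ Ad F) : α ∈ B.U ↔ ∀ x, α x = x ∨ α x = x + B.v 1 := by
  rw [mem_U, d_U _ (B.mem ha), B.all, and_iff_right ha]
  refine forall₂_congr fun x hx => ?_
  rw [← B.xor, B.app_iff ha x hx, B.app_iff ha x (xor_lt hx (by norm_num))]

end Bs

theorem bs (h8 : Fintype.card F = 8) : Nonempty (Bs F) :=
  ⟨(exists_bs h8 one_ne_zero).choose⟩

end G8x

open G8x

theorem LD.exists_lam (X : LD F L) : ∃ l : G → Equiv.Perm F,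
    (∀ g ∈ N[X.V], l g ∈ Ad F ∧ ∀ c, g * X.z c * g⁻¹ = X.z (l g c)) ∧
    (∀ f ∈ N[X.V], ∀ g ∈ N[X.V], l (f * g) = l f * l g) ∧
    ∀ g ∈ N[X.V], l g = 1 ↔ g ∈ C[X.V] := by
  classical
  have h : ∀ g : G, ∃ α : Equiv.Perm F, g ∈ N[X.V] → ∀ c, g * X.z c * g⁻¹ = X.z (α c) := by
    intro g
    by_cases hg : g ∈ N[X.V]
    · choose p hp using fun c => X.mem_V.1 (H24.conj_mem hg (X.z_V c))
      have hi : Function.Injective p := fun a b e => X.z_inj (by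
        have := (hp a).trans (e ▸ (hp b).symm)
        simpa using this)
      exact ⟨Equiv.ofBijective p (Finite.injective_iff_bijective.1 hi), fun _ => hp⟩
    · exact ⟨1, fun h => absurd h hg⟩
  choose l hl using h
  refine ⟨l, fun g hg => ⟨fun x y => X.z_inj ?_, hl g hg⟩, fun f hf g hg => ?_, fun g hg => ?_⟩
  · rw [← X.z_mul, ← hl g hg, ← hl g hg, ← hl g hg, ← X.z_mul]; group
  · refine Equiv.ext fun c => X.z_inj ?_
    rw [Equiv.Perm.mul_apply, ← hl _ (mul_mem hf hg), ← hl f hf, ← hl g hg]; group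
  · refine ⟨fun e => mem_C'.2 ?_, fun e => Equiv.ext fun c => X.z_inj ?_⟩
    · rintro _ ⟨c, rfl⟩
      have := hl g hg c
      rw [e, Equiv.Perm.one_apply] at this
      exact mul_inv_eq_iff_eq_mul.1 this
    · rw [← hl g hg, conj_eq_of_mem_C e (X.z_V c), Equiv.Perm.one_apply]
section
variable {α β : Equiv.Perm F} {P : Subgroup (Equiv.Perm F)}
theorem Ad_equiv (ha : α ∈ Ad F) : ∃ e : F ≃+ F, ∀ x, e x = α x :=
  ⟨{ α with map_add' := ha }, fun _ => rfl⟩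
theorem Ad_card (h8 : Fintype.card F = 8) : ♯(Ad F) = 168 := (bs h8).some.card_Ad
theorem Ad_conj (h8 : Fintype.card F = 8) (ha : α ∈ Ad F) (a2 : α * α = 1) (a1 : α ≠ 1)
    (hb : β ∈ Ad F) (b2 : β * β = 1) (b1 : β ≠ 1) : ∃ γ ∈ Ad F, β = γ * α * γ⁻¹ := by
  obtain ⟨B⟩ := bs h8
  obtain ⟨g, hg, e⟩ := d_conj _ (B.iv ha a2 a1) _ (B.iv hb b2 b1)
  obtain ⟨γ, hγ, rfl⟩ := B.ex hg
  refine ⟨γ, hγ, eq_mul_inv_of_mul_eq (B.ext (mul_mem hb hγ) (mul_mem hγ ha) ?_)⟩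
  rw [B.mul hb hγ, B.mul hγ ha, e]
theorem Ad_nml (h8 : Fintype.card F = 8) (h1 : P ≤ Ad F) (h2 : Ad F ≤ N[P]) (h3 : P ≠ ⊥) :
    P = Ad F := by
  obtain ⟨B⟩ := bs h8
  obtain ⟨⟨x, hx⟩, x1⟩ := (ne_bot_iff_exists_ne_one).1 h3
  have x1' : x ≠ 1 := fun e => x1 (Subtype.ext e)
  have hi : ∃ i ∈ P, i * i = 1 ∧ i ≠ 1 := by
    rcases d_nml _ (B.mem (h1 hx)) with e | e | ⟨g, hg, i, hi, e⟩
    · exact absurd ((B.eq_one (h1 hx)).2 e) x1'
    · obtain ⟨i, hi, e', i2, i1⟩ := B.ex_iv e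
      exact ⟨i, B.ext hi (h1 hx) e' ▸ hx, i2, i1⟩
    · obtain ⟨γ, hγ, rfl⟩ := B.ex hg
      obtain ⟨i, hi, ei, i2, i1⟩ := B.ex_iv hi
      rw [← ei] at e
      refine ⟨i, ?_, i2, i1⟩
      have : x * (γ * x) = i * γ := B.ext (mul_mem (h1 hx) (mul_mem hγ (h1 hx))) (mul_mem hi hγ)
        (by rw [B.mul (h1 hx) (mul_mem hγ (h1 hx)), B.mul hγ (h1 hx), B.mul hi hγ, e])
      have e2 : i = x * (γ * x * γ⁻¹) := by rw [← mul_assoc, this]; group
      exact e2 ▸ mul_mem hx (H24.conj_mem (h2 hγ) hx)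
  obtain ⟨i, hi, i2, i1⟩ := hi
  have all : ∀ n ∈ 273 :: IV, ∃ j ∈ P, B.cd j = n := by
    intro n hn
    rcases List.mem_cons.1 hn with rfl | hn
    · exact ⟨1, one_mem _, B.one⟩
    · obtain ⟨j, hj, e, j2, j1⟩ := B.ex_iv hn
      obtain ⟨γ, hγ, e'⟩ := Ad_conj h8 (h1 hi) i2 i1 hj j2 j1
      exact ⟨j, e' ▸ H24.conj_mem (h2 hγ) hi, e⟩
  refine le_antisymm h1 fun g hg => ?_
  obtain ⟨a', ha', b', hb', e⟩ := d_gen _ (B.mem hg)
  obtain ⟨a, ha, rfl⟩ := all a' ha'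
  obtain ⟨b, hb, rfl⟩ := all b' hb'
  obtain ⟨c, hc, e⟩ := all _ e
  have : c = a * (b * g) := B.ext (h1 hc) (mul_mem (h1 ha) (mul_mem (h1 hb) hg))
    (by rw [B.mul (h1 ha) (mul_mem (h1 hb) hg), B.mul (h1 hb) hg, e])
  rw [this] at hc
  exact (P.mul_mem_cancel_left hb).1 ((P.mul_mem_cancel_left ha).1 hc)
theorem Ad_inv3 (h8 : Fintype.card F = 8) (ha : α ∈ Ad F) (a2 : α * α = 1) (a1 : α ≠ 1) :
    ∃ γ ∈ Ad F, orderOf (α * (γ * α * γ⁻¹)) = 3 := by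
  obtain ⟨B⟩ := bs h8
  obtain ⟨b, hb, e⟩ := d_inv3 _ (B.iv ha a2 a1)
  obtain ⟨β, hβ, rfl, b2, b1⟩ := B.ex_iv hb
  obtain ⟨γ, hγ, e'⟩ := Ad_conj h8 ha a2 a1 hβ b2 b1
  exact ⟨γ, hγ, by rw [← e', B.ord3 (mul_mem ha hβ), B.mul ha hβ]; exact e⟩
theorem Ad_fix (h8 : Fintype.card F = 8) (ha : α ∈ Ad F) (a2 : α * α = 1) (a1 : α ≠ 1) :
    fx (zpowers α) = 4 ∧ ∃ c, c ≠ 0 ∧ ∀ x, α x = x ∨ α x = x + c := by
  obtain ⟨B⟩ := bs h8
  obtain ⟨h1, c, hc, c0, h2⟩ := d_fix _ (B.iv ha a2 a1)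
  refine ⟨?_, B.v c, fun e => c0 (B.inj _ hc _ (by norm_num) (e.trans B.v0.symm)),
    B.all.2 fun x hx => ?_⟩
  · rw [← h1, ← Fintype.card_coe, ← Nat.card_eq_fintype_card]
    have hf : ∀ x ∈ (Finset.range 8).filter fun x => G8x.ap (B.cd α) x = x,
        ∀ g ∈ zpowers α, g (B.v x) = B.v x := fun x hx' => by
      have hx := Finset.mem_filter.1 hx'
      have := (B.app_iff ha x (Finset.mem_range.1 hx.1)).2 hx.2
      rintro _ ⟨k, rfl⟩
      exact Equiv.Perm.zpow_apply_eq_self_of_apply_eq_self this k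
    refine (Nat.card_congr (Equiv.ofBijective (fun x => ⟨B.v x.1, hf _ x.2⟩)
      ⟨fun x y e => ?_, ?_⟩)).symm
    · exact Subtype.ext (B.inj _ (Finset.mem_range.1 (Finset.mem_filter.1 x.2).1) _
        (Finset.mem_range.1 (Finset.mem_filter.1 y.2).1) (congrArg Subtype.val e))
    · rintro ⟨w, hw⟩
      obtain ⟨x, hx, rfl⟩ := B.sur w
      exact ⟨⟨x, Finset.mem_filter.2 ⟨Finset.mem_range.2 hx,
        (B.app_iff ha x hx).1 (hw α (mem_zpowers α))⟩⟩, rfl⟩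
  · rw [← B.xor, B.app_iff ha x hx, B.app_iff ha x (xor_lt hx hc)]
    exact h2 x hx
theorem Ad_syl (h8 : Fintype.card F = 8) (h1 : P ≤ Ad F) (hP : ♯P = 8) :
    ∃ a ∈ P, ∃ b ∈ P, a * a = 1 ∧ b * b = 1 ∧ a ≠ 1 ∧ b ≠ 1 ∧ orderOf (a * b) = 4 ∧
      P = closure {a, b} := by
  obtain ⟨B⟩ := bs h8
  obtain ⟨γ, hγ, rfl⟩ := B.conjP h1 hP
  obtain ⟨a, ha, b, hb, a2, b2, a1, b1, h4, e⟩ := B.sylP
  have cm : ∀ x y : Equiv.Perm F, γ * x * γ⁻¹ * (γ * y * γ⁻¹) = γ * (x * y) * γ⁻¹ :=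
    fun x y => by group
  refine ⟨_, conj_mem_cj γ ha, _, conj_mem_cj γ hb, by rw [cm, a2]; group, by rw [cm, b2]; group,
    fun h => a1 (by simpa using h), fun h => b1 (by simpa using h), ?_, ?_⟩
  · rw [cm, ← h4]
    exact (MulAut.conj γ).orderOf_eq (a * b)
  · rw [e, cj_def, MonoidHom.map_closure, Set.image_pair]; rfl
theorem Ad_tv (h8 : Fintype.card F = 8) {c : F} (hc : c ≠ 0) : ∃ U ≤ Ad F,
    (∀ α ∈ Ad F, α ∈ U ↔ ∀ x, α x = x ∨ α x = x + c) ∧ ♯U = 4 ∧ El U ∧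
    (∀ x, (∀ α ∈ U, α x = x) → x = 0 ∨ x = c) ∧
    (∀ P ≤ Ad F, IsPi {2} P → (∀ α ∈ P, α c = c) → IsPi {2} (P ⊔ U : Subgroup _)) ∧
    (∀ α ∈ Ad F, α c = c → α ∈ N[U]) ∧
    (∃ β ∈ Ad F, β c = c ∧ orderOf β = 3) ∧
    (∀ β ∈ Ad F, β c = c → orderOf β = 3 → (∀ x, β x = x ∨ β x = x + c → x = 0 ∨ x = c) ∧
      (∀ α ∈ U, β * α = α * β → α = 1) ∧
      ∀ P ≤ Ad F, ♯P = 8 → β ∉ N[P]) ∧
    ∀ α ∈ Ad F, α c = c → α ∉ U → PiElt {2} α → α ∉ C[U] := by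
  obtain ⟨B, rfl⟩ := exists_bs h8 hc
  have UG : ∀ n ∈ UL, n ∈ AL := by decide +kernel
  have hN : ∀ α ∈ Ad F, α (B.v 1) = B.v 1 → α ∈ N[B.U] := fun α ha e =>
    mem_N_of_finite fun x hx => by
      refine (B.tv (mul_mem (mul_mem ha hx.1) (inv_mem ha))).2 fun y => ?_
      simp only [Equiv.Perm.mul_apply]
      rcases (B.tv hx.1).1 hx (α⁻¹ y) with h | h
      · left; rw [h]; simp
      · right; rw [h, add ha, e]; simp
  refine ⟨B.U, B.U_le, fun α ha => B.tv ha, B.card_U, fun a ha => ?_, B.all.2 fun x hx h => ?_,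
    fun P hP h2 h => ?_, hN, ?_, fun β hb e h3 => ?_, fun α ha _ h1 _ h2 => h1 ⟨ha, ?_⟩⟩
  · rw [B.eq_one (mul_mem ha.1 ha.1), B.mul ha.1 ha.1]; exact d_U2 _ ha.2
  · rw [← B.v0, B.v_iff hx (by norm_num), B.v_iff hx (by norm_num)]
    refine d_U3 x hx fun n hn => ?_
    obtain ⟨α, ha, rfl⟩ := B.ex (UG n hn)
    exact (B.app_iff ha x hx).1 (h α ⟨ha, hn⟩)
  · exact h2.sup' (isPi_of_card (n := 2) Nat.prime_two B.card_U) fun α ha => hN α (hP ha) (h α ha)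
  · obtain ⟨n, hn, e1, e2⟩ := d_b0
    obtain ⟨β, hb, rfl⟩ := B.ex hn
    exact ⟨β, hb, (B.app_iff hb 1 (by norm_num)).2 e1, (B.ord3 hb).2 e2⟩
  · obtain ⟨e1, e2⟩ := (B.ord3 hb).1 h3
    obtain ⟨k1, k2⟩ := d_b _ (B.mem hb) ((B.app_iff hb 1 (by norm_num)).1 e) e1 e2
    refine ⟨B.all.2 fun x hx h => ?_, fun α ha h => ?_, fun P hP h8' hn => ?_⟩
    · rw [← B.v0, B.v_iff hx (by norm_num), B.v_iff hx (by norm_num)]
      rw [← B.xor, B.app_iff hb x hx, B.app_iff hb x (xor_lt hx (by norm_num))] at h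
      exact k1 x hx h
    · exact (B.eq_one ha.1).2 (k2 _ ha.2 (by rw [← B.mul hb ha.1, ← B.mul ha.1 hb, h]))
    · obtain ⟨γ, hγ, rfl⟩ := B.conjP hP h8'
      refine B.notN (β := γ⁻¹ * β * γ) (mul_mem (mul_mem (inv_mem hγ) hb) hγ) ?_
        (mem_N_of_finite fun x hx => ?_)
      · rw [← h3]
        simpa using (MulAut.conj γ⁻¹).orderOf_eq β
      · have := mem_cj.1 (H24.conj_mem hn (conj_mem_cj γ hx))
        convert this using 1
        group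
  · refine d_CU _ (B.mem ha) fun m hm => ?_
    obtain ⟨μ, hμ, rfl⟩ := B.ex (UG m hm)
    rw [← B.mul hμ ha, ← B.mul ha hμ, mem_C.1 h2 μ ⟨hμ, hm⟩]
end

end H23.L2
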