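import Mathlib
import Cfsg.Agent.H23.LDefs
import Cfsg.Agent.H23.TH

set_option autoImplicit false
set_option linter.unusedVariables false
set_option linter.unusedSectionVars false

namespace H23.L2

open Cfsg H24 Subgroup
open H2.SZ (St DD Goal)
open scoped MatrixGroups commutatorElement

universe u

variable {G : Type u} [Group G] [Finite G] {F : Type*} [Field F] [Fintype F]
  {L G0 D T B R Q S S1 A P N M H : Subgroup G} {t f g i j ρ z u : G} {X : LD F L} {n : ℕ}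
  {π s : G → F}

namespace TRx

/-- the coordinate of the image of `t` -/
def sv (π : G → F) (t r : G) : F := π (t * (r * t * r⁻¹))

variable (h : Th X G0 t D T B n π) {r r' : G}
include h

theorem bb (hr : r ∈ Mx B t) : t * (r * t * r⁻¹) ∈ B := by
  obtain ⟨b, hb, e⟩ := h.toTw.Mx_t hr
  rwa [e, ← mul_assoc, h.tt, one_mul]

theorem sv_eq {b : G} (e : r * t * r⁻¹ = t * b) : sv π t r = π b := by
  rw [sv, e, ← mul_assoc, h.tt, one_mul]

theorem spec (r : G) : r * t * r⁻¹ = t * (t * (r * t * r⁻¹)) := by rw [← mul_assoc, h.tt, one_mul]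

theorem π_one : π 1 = 0 := by simpa using h.π_sq (one_mem B)

theorem sv_t (e : r * t = t * r) : sv π t r = 0 := by
  rw [sv, e, mul_inv_cancel_right, h.tt, π_one h]

theorem sv_mul (hr : r ∈ Mx B t) (hr' : r' ∈ Mx B t) :
    X.z (sv π t (r * r')) = X.z (sv π t r) * (r * X.z (sv π t r') * r⁻¹) := by
  rw [sv, sv, sv, ← h.π_conj hr.1 (bb h hr'), X.z_mul, ← h.π_mul (bb h hr) (H24.conj_mem hr.1 (bb h hr'))]
  congr 2
  rw [mul_assoc t, conj_mul, ← mul_assoc t t, h.tt]; group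

theorem sv_mul0 (hr : r ∈ Mx B t) (hV : r ∈ C[X.V]) (hr' : r' ∈ Mx B t) :
    sv π t (r * r') = sv π t r + sv π t r' := X.z_inj (by
  rw [sv_mul h hr hr', ← mem_C.1 hV _ (X.z_V _), mul_inv_cancel_right, X.z_mul])

theorem sv_zero : ∀ {r}, r ∈ Mx B t → (sv π t r = 0 ↔ ∃ c ∈ B, r * t * r⁻¹ = c * t * c⁻¹) :=
  fun {r} hr => by rw [sv, h.cls (bb h hr), ← spec h]

theorem sv_B (hr : r ∈ B) : sv π t r = 0 := (sv_zero h (h.toTw.le_Mx.1 hr)).2 ⟨r, hr, rfl⟩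

theorem sv_conj (hg : g ∈ Mx B t) (gt : g * t = t * g) (hr : r ∈ Mx B t) :
    X.z (sv π t (g * r * g⁻¹)) = g * X.z (sv π t r) * g⁻¹ := by
  rw [sv, sv, ← h.π_conj hg.1 (bb h hr)]
  congr 2
  have : g * t * g⁻¹ = t := mul_inv_eq_iff_eq_mul.2 gt
  conv_lhs => rw [← this]
  group

theorem E_P : X.E t ≤ B ⊔ zpowers t := sup_le le_sup_right (h.V_B.trans le_sup_left)

theorem P_pi : IsPi {2} (B ⊔ zpowers t : Subgroup G) :=
  h.toTw.pi_BT.of_le (sup_le_sup_left (zpowers_le.2 h.toLb.t_T) _)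

theorem ker (hr : r ∈ Mx B t) (hV : r ∈ C[X.V]) (e : sv π t r = 0) :
    ∃ p ∈ B ⊔ zpowers t, ∃ d ∈ D, r = p * d := by
  obtain ⟨c, hc, e⟩ := (sv_zero h hr).1 e
  obtain ⟨a, ha, d, hd, e'⟩ := h.toLc.CVt (g := c⁻¹ * r) (mul_mem (inv_mem (h.toTw.BV hc)) hV) (by
    rw [mul_assoc, mul_inv_eq_iff_eq_mul.1 e]; group)
  exact ⟨c * a, mul_mem (mem_sup_left hc) (E_P h ha), d, hd, by rw [mul_assoc, ← e', mul_inv_cancel_left]⟩

theorem P_D : B ⊔ zpowers t ≤ C[D] :=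
  sup_le h.BD (zpowers_le.2 (mem_C.2 fun d hd => mem_C1.1 (h.D_t hd)))

theorem ker2 (hr : r ∈ Mx B t) (hV : r ∈ C[X.V]) (e : sv π t r = 0) (h2 : PiElt {2} r) :
    r ∈ B ⊔ zpowers t := by
  obtain ⟨p, hp, d, hd, rfl⟩ := ker h hr hV e
  have := (((P_pi h).piElt hp).inv.mul h2 (by
    rw [inv_mul_cancel_left, ← mem_C.1 (P_D h hp) d hd, mul_inv_cancel_right])).eq_one
      (by rw [inv_mul_cancel_left]; exact h.odd.piElt hd)
  rw [inv_mul_cancel_left] at this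
  rwa [this, mul_one]

theorem odd (hr : r ∈ Mx B t) (hV : r ∈ C[X.V]) (h2 : PiElt {2}ᶜ r) : r ∈ D := by
  obtain ⟨k, hk⟩ : Odd (orderOf r) := Nat.not_even_iff_odd.1 fun e =>
    h2 2 Nat.prime_two (even_iff_two_dvd.1 e) rfl
  obtain ⟨p, hp, d, hd, rfl⟩ := ker h hr hV (by
    have := sv_t h (r := r ^ orderOf r) (by simp)
    rwa [hk, pow_succ, two_mul, pow_add, sv_mul0 h (mul_mem (pow_mem hr _) (pow_mem hr _))
      (mul_mem (pow_mem hV _) (pow_mem hV _)) hr, sv_mul0 h (pow_mem hr _) (pow_mem hV _) (pow_mem hr _),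
      X.add_self, zero_add] at this)
  have := ((P_pi h).piElt hp).eq_one (by
    have := h2.mul (h.odd.piElt hd).inv (by
      rw [mul_inv_cancel_right, ← mem_C.1 (P_D h hp) d hd, inv_mul_cancel_left])
    rwa [mul_inv_cancel_right] at this)
  rwa [this, one_mul]

theorem tM : t ∈ Mx B t := h.toTw.le_Mx.2.1 h.toLb.t_T
theorem tC : t ∈ C[X.V] := C_anti X.V_le h.tC

end TRx
open TRx

/-! ### TR -/
theorem Th.exists_rz (h : Th X G0 t D T B n π)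
    (tr : ∀ y, ∃ m ∈ Mx B t, m ∈ C[X.V] ∧ ∃ b ∈ B, m * t * m⁻¹ = t * b ∧ π b = y) :
    ∃ R s, Rz X G0 t D T B n π R s := by
  obtain ⟨l1, l2, l3, l4⟩ := h.toTw.le_Mx
  have nM : Mx B t ≤ N[Mx B t ⊓ C[X.V]] :=
    norm_inf (norm_self _) (norm_C (inf_le_left.trans h.toTw.NV))
  obtain ⟨R, r1, r2, r3, r4, r5, r6⟩ := h.toLc.lift (M := Mx B t ⊓ C[X.V]) ⟨tM h, tC h⟩
    (le_inf l3 (h.D_L.trans (C_anti X.V_le))) inf_le_right (fun k => nM (l4 k))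
    fun g hg => odd h hg.1 hg.2
  have nR := nM.trans r5
  have cls : ∀ b ∈ B, ∃ m ∈ C[X.V], t * b = m * t * m⁻¹ := fun b hb => by
    obtain ⟨m, m1, m2, a, a1, a2, a3⟩ := tr (π b)
    obtain ⟨c, c1, c2⟩ := (h.cls (f := m⁻¹ * (a⁻¹ * b) * m⁻¹⁻¹)
      (H24.conj_mem (Subgroup.inv_mem _ m1.1) (mul_mem (inv_mem a1) hb))).1 (X.z_eq_one.1 (by
        rw [h.π_conj (Subgroup.inv_mem _ m1.1) (mul_mem (inv_mem a1) hb), h.π_mul (inv_mem a1) hb, h.π_inv a1, a3,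
          X.add_self, X.z_zero]; group))
    refine ⟨m * c, mul_mem m2 (h.toTw.BV c1), ?_⟩
    calc t * b = m * t * m⁻¹ * (a⁻¹ * b) := by rw [a2]; group
      _ = m * (t * (m⁻¹ * (a⁻¹ * b) * m⁻¹⁻¹)) * m⁻¹ := by group
      _ = _ := by rw [c2]; group
  have ti : t⁻¹ = t := inv_eq_of_mul_eq_one_right h.tt
  have sq : ∀ r ∈ R, r * r ∈ B := fun r hr => by
    refine (h.toTw.mem_P.1 (ker2 h (r2 (mul_mem hr hr)).1 (r2 (mul_mem hr hr)).2 (by
      rw [sv_mul0 h (r2 hr).1 (r2 hr).2 (r2 hr).1, X.add_self]) (r1.piElt (mul_mem hr hr)))).resolve_right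
      fun e => h.t1 ?_
    obtain ⟨m, m1, m2⟩ := cls _ e
    rw [← mul_assoc, h.tt, one_mul] at m2
    have e1 : m⁻¹ * r * m⁻¹⁻¹ * (m⁻¹ * r * m⁻¹⁻¹) = t := by rw [conj_mul, m2]; group
    rw [← e1]
    exact h.toSt2.el_E X _ (h.toLc.two_E (mul_mem (mul_mem (inv_mem m1) (r2 hr).2) (inv_mem (inv_mem m1)))
      (by rw [← e1, mul_assoc (_ * _ * _)]) ((r1.piElt hr).conj _))
  have cm : ∀ x ∈ R, ∀ y ∈ R, x * y * x⁻¹ * y⁻¹ ∈ B := fun x hx y hy => by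
    have := mul_mem (mul_mem (sq _ (mul_mem hx hy)) (H24.conj_mem' (r2 hy).1.1 (inv_mem (sq x hx))))
      (inv_mem (sq y hy))
    convert this using 1; group
  have BR : B ≤ R := fun b hb => r4 b ⟨l1 hb, h.toTw.BV hb⟩ (h.pi.piElt hb)
  have tR : t ∈ R := r4 t ⟨tM h, tC h⟩ ((P_pi h).piElt (mem_sup_right (mem_zpowers t)))
  obtain ⟨k, hk⟩ := X.exists_unit
  have k1 : (k : F) + 1 ≠ 0 := fun e => hk (Units.ext (X.eq_of_add e))
  have ht : ∀ l, X.h l * t = t * X.h l := fun l => mul_inv_eq_iff_eq_mul.1 (h.toSt2.th X l)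
  have cR : ∀ l, ∀ x ∈ R, X.h l * x * (X.h l)⁻¹ * x⁻¹ ∈ R := fun l x hx =>
    mul_mem (H24.conj_mem (nR (l4 l)) hx) (inv_mem hx)
  let K : Subgroup G :=
    { carrier := {r | ∃ x ∈ R, ∃ b ∈ B, r = X.h k * x * (X.h k)⁻¹ * x⁻¹ * b}
      one_mem' := ⟨1, one_mem _, 1, one_mem _, by group⟩
      mul_mem' := by
        rintro _ _ ⟨x, hx, b, hb, rfl⟩ ⟨y, hy, c, hc, rfl⟩
        refine ⟨x * y, mul_mem hx hy, _, mul_mem (mul_mem (cm x hx _ (inv_mem (cR k y hy)))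
          (H24.conj_mem' (r2 (cR k y hy)).1.1 hb)) hc, by group⟩
      inv_mem' := by
        rintro _ ⟨x, hx, b, hb, rfl⟩
        exact ⟨x, hx, _, mul_mem hb (inv_mem (sq _ (mul_mem (cR k x hx) (BR hb)))), by group⟩ }
  have KR : K ≤ R := by
    rintro _ ⟨x, hx, b, hb, rfl⟩
    exact mul_mem (cR k x hx) (BR hb)
  have BK : B ≤ K := fun b hb => ⟨1, one_mem _, b, hb, by group⟩
  have sK : ∀ x ∈ R, ∀ b ∈ B, sv π t (X.h k * x * (X.h k)⁻¹ * x⁻¹ * b) = (k + 1) * sv π t x :=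
    fun x hx b hb => by
      have x1 := r2 (H24.conj_mem (nR (l4 k)) hx)
      have e := sv_mul0 h (r2 hx).1 (r2 hx).2 (inv_mem (r2 hx).1)
      rw [mul_inv_cancel, sv_t h (by simp)] at e
      rw [sv_mul0 h (r2 (cR k x hx)).1 (r2 (cR k x hx)).2 (l1 hb), sv_B h hb,
        sv_mul0 h x1.1 x1.2 (inv_mem (r2 hx).1), ← X.eq_of_add e.symm,
        X.z_inj ((sv_conj h (l4 k) (ht k) (r2 hx).1).trans (X.h_z _ _))]
      ring
  have on : ∀ y, ∃ r ∈ K, sv π t r = y := fun y => by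
    obtain ⟨m, m1, m2, a, a1, a2, a3⟩ := tr (y / (k + 1))
    obtain ⟨x, hx, d, hd, rfl⟩ := r6 m ⟨m1, m2⟩
    refine ⟨_, ⟨x, hx, 1, one_mem _, rfl⟩, ?_⟩
    have := sv_eq h a2
    rw [sv_mul0 h (r2 hx).1 (r2 hx).2 (l3 hd), sv_t h (mem_C1.1 (h.D_t hd)), add_zero, a3] at this
    rw [sK x hx 1 (one_mem _), this, mul_div_cancel₀ _ k1]
  have cP : ∀ l, ∀ x ∈ B ⊔ zpowers t, X.h l * x * (X.h l)⁻¹ * x⁻¹ ∈ B := fun l x hx => by
    rcases h.toTw.mem_P.1 hx with e | e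
    · exact mul_mem (H24.conj_mem (h.hB l) e) (inv_mem e)
    · have := mul_mem (H24.conj_mem (h.hB l) e) (inv_mem e)
      rw [← conj_mul, h.toSt2.th X l] at this
      simpa [mul_assoc] using H24.conj_mem' (tM h).1 this
  have hK : ∀ l, X.h l ∈ N[K] := fun l => mem_N_of_finite (by
    rintro _ ⟨x, hx, b, hb, rfl⟩
    refine ⟨_, H24.conj_mem (nR (l4 l)) hx, _, H24.conj_mem (h.hB l) hb, ?_⟩
    have : X.h l * X.h k * (X.h l)⁻¹ = X.h k := by rw [X.h_comm, mul_inv_cancel_right]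
    conv_rhs => rw [← this]
    group)
  have cK : ∀ l, ∀ x ∈ R, X.h l * x * (X.h l)⁻¹ * x⁻¹ ∈ K := fun l x hx => by
    obtain ⟨y, hy, e⟩ := on (sv π t x)
    have y1 := mul_mem (inv_mem (KR hy)) hx
    have := cP l _ (ker2 h (r2 y1).1 (r2 y1).2 (by
      have := sv_mul0 h (r2 (KR hy)).1 (r2 (KR hy)).2 (r2 y1).1
      rw [mul_inv_cancel_left, e] at this
      exact left_eq_add.1 this) (r1.piElt y1))
    have := mul_mem (mul_mem (H24.conj_mem (hK l) hy) (BK this)) (inv_mem hy)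
    convert this using 1; group
  refine ⟨K, sv π t, h, r1.of_le KR, BK, fun r hr => (r2 (KR hr)).1.1, fun r hr => (r2 (KR hr)).2,
    KR.trans r3, hK, fun g hg => mem_N_of_finite ?_,
    fun r hr => ⟨_, bb h (r2 (KR hr)).1, spec h r, rfl⟩, on, ?_, fun r hr => sq r (KR hr), fun b hb => ?_⟩
  · rintro _ ⟨x, hx, b, hb, rfl⟩
    obtain ⟨a, l, -, e⟩ := X.conj_h (h.toLb.T_L hg) (h.toLb.T_V hg) k
    have x1 := H24.conj_mem (nR (l2 hg)) hx
    have := mul_mem (mul_mem (BK (cm _ (BR (h.V_B (X.z_V a))) _ (H24.conj_mem (nR (l4 l)) x1))) (cK l _ x1))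
      (BK (H24.conj_mem (h.TB hg) hb))
    convert this using 1
    calc _ = g * X.h k * g⁻¹ * (g * x * g⁻¹) * (g * X.h k * g⁻¹)⁻¹ * (g * x * g⁻¹)⁻¹ * (g * b * g⁻¹) := by
          group
      _ = _ := by rw [e]; group
  · rintro _ ⟨x, hx, b, hb, rfl⟩ e
    rw [sK x hx b hb, mul_eq_zero, or_iff_right k1] at e
    exact mul_mem (cP k x (ker2 h (r2 hx).1 (r2 hx).2 e (r1.piElt hx))) hb
  · obtain ⟨m, -, e⟩ := cls b hb
    refine eq_inv_of_mul_eq_one_left ?_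
    rw [mul_assoc, e, conj_mul, h.tt, mul_one, mul_inv_cancel]

end H23.L2
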