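import Mathlib
import Cfsg.Agent.H23.LDefs
import Cfsg.Agent.H23.TH
import Cfsg.Agent.H23.G8
import Cfsg.Agent.H23.TR

set_option autoImplicit false
set_option linter.unusedVariables false
set_option linter.unusedSectionVars false

namespace H23.L2

open Cfsg H24 Subgroup
open H2.SZ (St DD Goal)
open scoped MatrixGroups commutatorElement

universe u

variable {G : Type u} [Group G] [Finite G] {F : Type*} [Field F] [Fintype F]
  {L G0 D T B R Q S S1 A P N M H : Subgroup G} {t f g i j ρ z u : G} {X : LD F L} {n : ℕ}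
  {π s : G → F}

open TRx

namespace XA0x

theorem lam (h : Ex X G0 t D T B n π) : ∃ f : Mx B t →* Equiv.Perm F,
    img f (Mx B t) = Ad F ∧ pre f ⊥ = Mx B t ⊓ C[X.V] := by
  obtain ⟨l, l1, l2, l3⟩ := X.exists_lam
  have nV : Mx B t ≤ N[X.V] := inf_le_left.trans h.toTw.NV
  refine ⟨MonoidHom.mk' (fun g => l g) fun a b => l2 _ (nV a.2) _ (nV b.2), ?_, ?_⟩
  · ext α
    rw [mem_img_of_le le_rfl]
    constructor
    · rintro ⟨x, hx, rfl⟩
      rw [ap_of_mem _ hx]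
      exact (l1 x (nV hx)).1
    · intro ha
      obtain ⟨e, he⟩ := Ad_equiv ha
      obtain ⟨m, hm, e1⟩ := h.sur e
      refine ⟨m, hm, ?_⟩
      rw [ap_of_mem _ hm]
      exact Equiv.ext fun c => (X.z_inj (((l1 m (nV hm)).2 c).symm.trans (e1 c))).trans (he c)
  · ext x
    rw [mem_pre, mem_bot, mem_inf]
    refine and_congr_right fun hx => ?_
    rw [ap_of_mem _ hx]
    exact l3 x (nV hx)

theorem P_nml (h : Th X G0 t D T B n π) : (B ⊔ zpowers t) ⊴ Mx B t :=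
  ⟨sup_le h.toTw.le_Mx.1 (zpowers_le.2 (tM h)), inf_le_right⟩

theorem P_V (h : Th X G0 t D T B n π) : B ⊔ zpowers t ≤ C[X.V] :=
  sup_le h.toTw.BV (zpowers_le.2 (tC h))

theorem card_P (h : Th X G0 t D T B n π) : ♯(B ⊔ zpowers t : Subgroup G) = ♯B * 2 := by
  rw [card_sup_of_inf (zpowers_le.2 (tM h).1), card_zpowers',
    orderOf_eq_prime (p := 2) (by rw [sq, h.tt]) h.t1]
  rw [eq_bot_iff]
  rintro x ⟨h1, h2⟩
  rcases (H2.SZ.mem_zp_inv h.tt).1 h2 with rfl | rfl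
  · exact one_mem _
  · exact absurd h1 h.toTw.tB

end XA0x
open XA0x

/-! ### XA0 -/
theorem Ex.inv (h : Ex X G0 t D T B n π) : ∀ b ∈ B, t * b * t = b⁻¹ := by
  obtain ⟨m, hm, e⟩ := h.mov
  refine h.toTh.inv_of ⟨_, bb h.toTh hm, fun e1 => ?_, ?_⟩
  · obtain ⟨c, hc, e2⟩ := (sv_zero h.toTh hm).1 e1
    exact e c hc e2
  · rw [← spec h.toTh, conj_mul, h.tt, mul_one, mul_inv_cancel]

theorem Ex.CV (h : Ex X G0 t D T B n π) (hg : g ∈ Mx B t) (h1 : g ∈ C[X.V]) :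
    ∃ p ∈ B ⊔ zpowers t, ∃ d ∈ D, g = p * d :=
  ker h.toTh hg h1 ((sv_zero h.toTh hg).2 (h.ntr g hg h1))

theorem Ex.two_P (h : Ex X G0 t D T B n π) (hg : g ∈ Mx B t) (h1 : g ∈ C[X.V])
    (h2 : PiElt {2} g) : g ∈ B ⊔ zpowers t :=
  ker2 h.toTh hg h1 ((sv_zero h.toTh hg).2 (h.ntr g hg h1)) h2

theorem Ex.card_syl (h : Ex X G0 t D T B n π) (hS : Syl 2 (Mx B t) S1) :
    B ⊔ zpowers t ≤ S1 ∧ ♯S1 = 16 * 8 ^ n ∧ ∀ b ∈ B, ∃ g ∈ S1, t * b = g * t * g⁻¹ := by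
  have PS : B ⊔ zpowers t ≤ S1 := hS.nml_le (P_pi h.toTh) (P_nml h.toTh)
  have cB : ♯B = 8 ^ n := by rw [h.cardB, h.q8]
  have cS : ♯S1 = 16 * 8 ^ n := by
    obtain ⟨f, f1, f2⟩ := lam h
    have a1 := hS.img f le_rfl
    have a2 := card_img_mul f hS.le
    rw [f1] at a1
    obtain ⟨k, hk⟩ := a1.pi.card_eq_pow Nat.prime_two
    have a3 : 2 ^ 3 ∣ 2 ^ k := hk ▸ a1.dvd_card (piNat_self_pow Nat.prime_two 3) (by rw [Ad_card h.q8]; norm_num)
    have a4 : ¬ 2 ^ 4 ∣ 2 ^ k := fun e => by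
      have := (hk ▸ e).trans (card_dvd a1.le)
      rw [Ad_card h.q8] at this
      norm_num at this
    rw [Nat.pow_dvd_pow_iff_le_right one_lt_two] at a3 a4
    obtain rfl : k = 3 := by omega
    have a5 : pre f ⊥ ⊓ S1 = B ⊔ zpowers t := by
      rw [f2]
      exact le_antisymm (fun x hx => h.two_P hx.1.1 hx.1.2 (hS.pi.piElt hx.2))
        (le_inf (le_inf (P_nml h.toTh).le (P_V h.toTh)) PS)
    rw [← a2, a5, hk, card_P h.toTh, cB]; ring
  refine ⟨PS, cS, fun b hb => ?_⟩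
  have TE := h.toLc.T8 h.q8
  have c1 : C{t} ⊓ S1 = X.E t := le_antisymm
    (fun x hx => TE ▸ h.toLb.cen hS.pi (TE ▸ (E_P h.toTh).trans PS) hx.2 (mem_C1.1 hx.1))
    (le_inf (TE ▸ h.syl.le) ((E_P h.toTh).trans PS))
  have c2 := card_inf_mul_relIndex C{t} S1
  rw [c1, h.toSt2.card_E X, h.q8, cS] at c2
  let q : S1 ⧸ (C{t} : Subgroup G).subgroupOf S1 → B := Quotient.lift
    (fun g : S1 => (⟨t * (g * t * g⁻¹), bb h.toTh (hS.le g.2)⟩ : B)) fun a c e => Subtype.ext (by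
      have := mem_C1.1 (mem_subgroupOf.1 (QuotientGroup.leftRel_apply.1 e))
      simp only [coe_mul, coe_inv] at this ⊢
      congr 1
      calc _ = (a : G) * (t * ((a : G)⁻¹ * c)) * (c : G)⁻¹ := by group
        _ = _ := by rw [← this]; group)
  have qi : Function.Injective q := by
    rintro ⟨a⟩ ⟨c⟩ e
    have e1 : (a : G) * t * (a : G)⁻¹ = c * t * (c : G)⁻¹ := mul_left_cancel (congrArg Subtype.val e)
    refine Quotient.sound' (QuotientGroup.leftRel_apply.2 (mem_subgroupOf.2 (mem_C1.2 ?_)))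
    simp only [coe_mul, coe_inv]
    calc _ = (a : G)⁻¹ * (c * t * (c : G)⁻¹) * c := by group
      _ = _ := by rw [← e1]; group
  obtain ⟨⟨a⟩, e⟩ := ((Nat.bijective_iff_injective_and_card q).2 ⟨qi, by
    rw [cB]; exact Nat.eq_of_mul_eq_mul_left (by norm_num) c2⟩).2 ⟨b, hb⟩
  exact ⟨a, a.2, by rw [← show t * ((a : G) * t * (a : G)⁻¹) = b from congrArg Subtype.val e, ← spec h.toTh]⟩

theorem Ex.noinv (h : Ex X G0 t D T B n π)
    (h1 : ∀ u ∈ Mx B t, u * u = 1 → u ∈ C[X.V]) : IsLieTypeChar 2 G0 := by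
  obtain ⟨S, hS⟩ := Sylow_exists Nat.prime_two (Mx B t)
  obtain ⟨PS, cS, cl⟩ := h.card_syl hS
  have key : ∀ u ∈ S, u * u = 1 → u ∈ X.V ∨ ∃ g ∈ S, u = g * t * g⁻¹ := fun u hu uu => by
    rcases h.toTw.mem_P.1 (h.two_P (hS.le hu) (h1 u (hS.le hu) uu) (hS.pi.piElt hu)) with e | e
    · exact .inl (h.om u e uu)
    · obtain ⟨g, hg, e1⟩ := cl _ e
      rw [← mul_assoc, h.tt, one_mul] at e1
      exact .inr ⟨g, hg, e1⟩
  have ES := (E_P h.toTh).trans PS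
  refine h.toSt2.gold X (S := S) (h.toLb.syl_of hS.pi (h.toLc.T8 h.q8 ▸ ES) ?_) ?_
    ((X.V_E t).trans ES) X.el_V.abl le_rfl ?_
  · rintro _ hu ⟨g, rfl⟩
    exact (key _ hu (by rw [conj_mul, h.tt, mul_one, mul_inv_cancel])).resolve_left
      fun e => h.toTw.nd (h.V_B e) ⟨g, rfl⟩
  · have := Nat.pow_le_pow_right (n := 8) (by norm_num) h.pos
    omega
  · rintro _ ⟨c, rfl⟩ g hg
    exact (key _ hg (by rw [conj_mul, X.z_sq, mul_one, mul_inv_cancel])).resolve_right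
      fun ⟨m, _, e⟩ => h.zn c (DD.of_conj ⟨m, e⟩)

theorem Ex.two_D (h : Ex X G0 t D T B n π) (hg : g ∈ Mx B t) (h2 : PiElt {2} g) :
    g ∈ C[D] := by
  obtain ⟨f, f1, f2⟩ := lam h
  obtain ⟨l1, l2, l3, l4⟩ := h.toTw.le_Mx
  have nD : Mx B t ≤ N[D] := le_N_iff.2 fun m hm d hd =>
    odd h.toTh (mul_mem (mul_mem hm (l3 hd)) (inv_mem hm))
      (H24.conj_mem (N_le_NC _ (h.toTw.NV hm.1)) (C_anti X.V_le (h.D_L hd))) ((h.odd.piElt hd).conj m)
  have hK : (Mx B t ⊓ C[D]) ⊴ Mx B t := nml_inf_of_norm (norm_C nD)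
  have a1 := hK.img f
  rw [f1] at a1
  obtain ⟨k, hk⟩ := X.exists_unit
  have a2 := Ad_nml h.q8 a1.le a1.norm fun e => hk (by
    rw [img_eq_bot hK.le, f2] at e
    have := X.h_z k 1
    rw [conj_eq_of_mem_C (e ⟨l4 k, cents_symm h.D_L (X.h_mem k)⟩).2 (X.z_V 1), mul_one] at this
    exact Units.ext (X.z_inj this).symm)
  have a3 := (img_le_img_iff (f := f) le_rfl hK.le).1 (f1.trans a2.symm).le
  have a4 : Mx B t ⊓ C[D] ⊔ D = Mx B t := le_antisymm (sup_le hK.le l3) (a3.trans (sup_le le_sup_left (by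
    rw [f2]
    intro x hx
    obtain ⟨p, hp, d, hd, rfl⟩ := h.CV hx.1 hx.2
    exact mul_mem_sup ⟨(P_nml h.toTh).le hp, P_D h.toTh hp⟩ hd)))
  refine (zpowers_le.1 (le_of_idx_compl hK ?_ h2.isPi (zpowers_le.2 hg))).2
  have := relIndex_sup_of_norm (l3.trans hK.norm)
  rw [a4] at this
  exact this ▸ h.odd.relIndex _

end H23.L2
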