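import Mathlib
import Cfsg.Agent.H23.LDefs
import Cfsg.Agent.H23.XA0

set_option autoImplicit false
set_option linter.unusedVariables false
set_option linter.unusedSectionVars false

namespace H23.L2

open Cfsg H24 Subgroup
open H2.SZ (St DD Goal)
open scoped MatrixGroups commutatorElement

universe u

variable {G : Type u} [Group G] [Finite G] {F : Type*} [Field F] [Fintype F]
  {L G0 D T B R Q S S1 A P N M H : Subgroup G} {t f g i j ρ z u : G} {X : LD F L} {n : ℕ}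
  {π s : G → F}

namespace GA1x

/-- the action of `N(V)` on `V ≅ F` -/
structure Lam (X : LD F L) (l : N[X.V] →* Equiv.Perm F) : Prop where
  ad : ∀ g ∈ N[X.V], ap l g ∈ Ad F
  z : ∀ g ∈ N[X.V], ∀ c, g * X.z c * g⁻¹ = X.z (ap l g c)
  ker : ∀ g ∈ N[X.V], ap l g = 1 ↔ g ∈ C[X.V]

theorem exists_Lam (X : LD F L) : ∃ l, Lam X l := by
  obtain ⟨l, h1, h2, h3⟩ := X.exists_lam
  refine ⟨MonoidHom.mk' (fun g => l g) (fun a b => h2 a a.2 b b.2), ?_, ?_, ?_⟩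
  · intro g hg
    rw [ap_of_mem _ hg]
    exact (h1 g hg).1
  · intro g hg
    rw [ap_of_mem _ hg]
    exact (h1 g hg).2
  · intro g hg
    rw [ap_of_mem _ hg]
    exact h3 g hg

variable {l : N[X.V] →* Equiv.Perm F}

theorem Lam.card_fix (hl : Lam X l) (hg : g ∈ N[X.V]) :
    ♯(X.V ⊓ C{g} : Subgroup G) = fx (zpowers (ap l g)) := by
  symm
  refine Nat.card_congr (Equiv.ofBijective (fun w => ⟨X.z w.1, mem_inf.2 ⟨X.z_V _, ?_⟩⟩) ⟨?_, ?_⟩)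
  · rw [mem_C1_comm, mem_C1_iff_conj, hl.z g hg, w.2 _ (mem_zpowers _)]
  · intro a b e
    exact Subtype.ext (X.z_inj (congrArg Subtype.val e))
  · rintro ⟨x, hx⟩
    obtain ⟨⟨c, rfl⟩, h2⟩ := mem_inf.1 hx
    rw [mem_C1_comm, mem_C1_iff_conj, hl.z g hg] at h2
    have h3 := X.z_inj h2
    refine ⟨⟨c, fun a ha => ?_⟩, rfl⟩
    have : zpowers (ap l g) ≤ MulAction.stabilizer (Equiv.Perm F) c := zpowers_le.2 h3
    exact this ha

theorem Lam.card (hl : Lam X l) (hA : A ≤ N[X.V]) :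
    ♯(A ⊓ C[X.V] : Subgroup G) * ♯(img l A) = ♯A := by
  have := card_img_mul l hA
  rwa [show pre l ⊥ ⊓ A = A ⊓ C[X.V] from ?_] at this
  ext x
  simp only [mem_inf, mem_pre_bot]
  exact ⟨fun h => ⟨h.2, (hl.ker x h.1.1).1 h.1.2⟩,
    fun h => ⟨⟨hA h.1, (hl.ker x (hA h.1)).2 h.2⟩, h.1⟩⟩

theorem Lam.eq (hl : Lam X l) (hf : f ∈ N[X.V]) (hg : g ∈ N[X.V]) :
    ap l f = ap l g ↔ f⁻¹ * g ∈ C[X.V] := by
  rw [← hl.ker _ (mul_mem (inv_mem hf) hg), ap_mul _ (inv_mem hf) hg, ap_inv _ hf,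
    inv_mul_eq_one]

theorem Lam.img_le (hl : Lam X l) (A : Subgroup G) : img l A ≤ Ad F := by
  intro α ha
  obtain ⟨x, -, hx, rfl⟩ := mem_img.1 ha
  exact hl.ad x hx

theorem Lam.invol (hl : Lam X l) (hg : g ∈ N[X.V]) (h1 : g * g ∈ C[X.V]) :
    ap l g * ap l g = 1 := by
  rw [← ap_mul _ hg hg]
  exact (hl.ker _ (mul_mem hg hg)).2 h1

theorem MV : Mx X.V t ≤ N[X.V] := inf_le_left
theorem EE : X.V ⊔ zpowers t = X.E t := sup_comm _ _
theorem ME : Mx X.V t ≤ N[X.E t] := by rw [← EE]; exact inf_le_right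

theorem pn4 : PiNat {2} 4 := fun p hp hd =>
  (Nat.prime_dvd_prime_iff_eq hp Nat.prime_two).1 (hp.dvd_of_dvd_pow (n := 2) hd)
theorem pn2 : PiNat {2} 2 := fun p hp hd => (Nat.prime_dvd_prime_iff_eq hp Nat.prime_two).1 hd
theorem pe2 (h : g * g = 1) : PiElt {2} g := piElt_of_pow_eq_one pn2 (by rw [sq, h])

section
variable (h : Ex X G0 t D T X.V 1 π)
include h

theorem TE : T = X.E t := h.toTh.toTw.toLz.toLc.T8 h.q8
theorem st2 : St2 L G0 t := h.toTh.toTw.toLz.toLc.toLb.toSt2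
theorem EM : X.E t ≤ Mx X.V t := TE h ▸ h.toTh.toTw.le_Mx.2.1
theorem elE : El (X.E t) := (st2 h).el_E X
theorem EC : X.E t ≤ C[X.V] := (elE h).abl.cents le_rfl (X.V_E t)
theorem cardE : ♯(X.E t) = 16 := by rw [(st2 h).card_E X, h.q8]
theorem twoE (hg : g ∈ Mx X.V t) (h1 : g ∈ C[X.V]) (h2 : PiElt {2} g) : g ∈ X.E t :=
  EE (X := X) (t := t) ▸ h.two_P hg h1 h2

theorem sur (hl : Lam X l) {α : Equiv.Perm F} (ha : α ∈ Ad F) : ∃ m ∈ Mx X.V t, ap l m = α := by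
  obtain ⟨e, he⟩ := Ad_equiv ha
  obtain ⟨m, hm, h1⟩ := h.sur e
  exact ⟨m, hm, Equiv.ext fun c => X.z_inj (by rw [← hl.z m (MV hm), h1, he])⟩

/-- `M` acts trivially on `E / V` -/
theorem commE (hg : g ∈ Mx X.V t) {e : G} (he : e ∈ X.E t) : g * e * g⁻¹ * e ∈ X.V := by
  obtain ⟨b, rfl | rfl⟩ := ((st2 h).mem_E X).1 he
  · exact mul_mem (H24.conj_mem (MV hg) (X.z_V b)) (X.z_V b)
  · obtain ⟨c, hc, e1⟩ := h.toTh.toTw.Mx_t hg
    have h2 := H24.conj_mem (MV hg) (X.z_V b)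
    have h3 := comm_of_cent (EC h) (X.t_E t) (mul_mem hc h2)
    have : g * (t * X.z b) * g⁻¹ * (t * X.z b) =
        (t * (c * (g * X.z b * g⁻¹))) * t * X.z b := by
      rw [← mul_assoc t c, ← e1]; group
    rw [this, h3, mul_assoc _ t t, (st2 h).tt, mul_one]
    exact mul_mem (mul_mem hc h2) (X.z_V b)

theorem c3 (hu : u ∈ Mx X.V t) (uu : u * u = 1) (h1 : u ∉ C[X.V]) (hg : g ∈ Mx X.V t)
    (gg : g * g ∈ C[X.V]) (g2 : PiElt {2} g) (h2 : g ∉ C[X.V]) :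
    ∃ m ∈ Mx X.V t, ∃ e ∈ X.E t, g = m * u * m⁻¹ * e := by
  obtain ⟨l, hl⟩ := exists_Lam X
  obtain ⟨γ, hγ, e1⟩ := Ad_conj h.q8 (hl.ad u (MV hu)) (hl.invol (MV hu) (uu ▸ one_mem _))
    (fun e => h1 ((hl.ker u (MV hu)).1 e)) (hl.ad g (MV hg)) (hl.invol (MV hg) gg)
    (fun e => h2 ((hl.ker g (MV hg)).1 e))
  obtain ⟨m, hm, rfl⟩ := sur h hl hγ
  have hs : m * u * m⁻¹ ∈ Mx X.V t := mul_mem (mul_mem hm hu) (inv_mem hm)
  have ss : m * u * m⁻¹ * (m * u * m⁻¹) = 1 := by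
    rw [show m * u * m⁻¹ * (m * u * m⁻¹) = m * (u * u) * m⁻¹ by group, uu]; group
  rw [← ap_conj _ (MV hm) (MV hu), eq_comm, hl.eq (MV hs) (MV hg)] at e1
  obtain ⟨p, hp, d, hd, e2⟩ := h.CV (mul_mem (inv_mem hs) hg) e1
  rw [EE] at hp
  refine ⟨m, hm, p, hp, ?_⟩
  generalize m * u * m⁻¹ = s at hs ss e2 ⊢
  have e3 : g = s * p * d := by rw [mul_assoc, ← e2]; group
  have y4 : (s * p) ^ 4 = 1 := by
    have := elE h _ (mul_mem (H24.conj_mem (ME hs) hp) hp)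
    rw [inv_eq_of_mul_eq_one_right ss] at this
    rw [← this]
    simp only [pow_succ, pow_zero, one_mul, mul_assoc]
  have y2 : PiElt {2} (s * p) := piElt_of_pow_eq_one pn4 y4
  have yd : s * p * d = d * (s * p) :=
    (mem_C'.1 (h.two_D (mul_mem hs (EM h hp)) y2) d hd)
  have d2 : PiElt {2} d := by
    have : d = (s * p)⁻¹ * g := by rw [e3]; group
    rw [this]
    refine y2.inv.mul g2 ?_
    have c1 : Commute (s * p) g := by
      rw [e3]; exact (Commute.refl _).mul_right yd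
    exact c1.inv_left.eq
  have d1 : d = 1 := d2.eq_one (h.odd.piElt hd)
  rw [e3, d1, mul_one]

/-- an involution outside `C(V)` fixes no point of `tV` -/
theorem nofix (hg : g ∈ Mx X.V t) (gg : g * g = 1) (h2 : g ∉ C[X.V]) :
    X.E t ⊓ C{g} = X.V ⊓ C{g} := by
  refine le_antisymm (fun e he => ?_) (inf_le_inf_right _ (X.V_E t))
  obtain ⟨h3, h4⟩ := mem_inf.1 he
  obtain ⟨b, rfl | rfl⟩ := ((st2 h).mem_E X).1 h3
  · exact mem_inf.2 ⟨X.z_V b, h4⟩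
  exfalso
  obtain ⟨S1, hS⟩ := Sylow_exists Nat.prime_two (Mx X.V t)
  obtain ⟨y, hy, e1⟩ := (h.card_syl hS).2.2 _ (X.z_V b)
  have yV := MV (hS.le hy)
  rw [e1, mem_C1] at h4
  have c1 : y⁻¹ * g * y * t = t * (y⁻¹ * g * y) := by
    calc _ = y⁻¹ * (g * (y * t * y⁻¹)) * y := by group
      _ = _ := by rw [← h4]; group
  have c2 : y⁻¹ * g * y * (y⁻¹ * g * y) = 1 := by
    calc _ = y⁻¹ * (g * g) * y := by group
      _ = _ := by rw [gg]; group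
  have c3 : y⁻¹ * g * y ∉ X.E t := fun e =>
    h2 ((conj_mem_iff' (N_le_NC _ yV)).1 (EC h e))
  have := (X.out_card ((st2 h).out X c1 (mul_mem (mul_mem (inv_mem yV) (MV hg)) yV) c2 c3)).2
  have := h.q8
  omega

theorem card4 (hg : g ∈ Mx X.V t) (gg : g * g = 1) (h2 : g ∉ C[X.V]) :
    ♯(X.E t ⊓ C{g} : Subgroup G) = 4 := by
  obtain ⟨l, hl⟩ := exists_Lam X
  rw [nofix h hg gg h2, hl.card_fix (MV hg)]
  exact (Ad_fix h.q8 (hl.ad g (MV hg)) (hl.invol (MV hg) (gg ▸ one_mem _))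
    (fun e => h2 ((hl.ker g (MV hg)).1 e))).1

theorem frE (hg : g ∈ Mx X.V t) (gg : g * g = 1) (h2 : g ∉ C[X.V]) : Fr (X.E t) g :=
  fr_of_le (elE h) (ME hg) gg (by rw [card4 h hg gg h2, cardE h]; norm_num)

omit h in
theorem conj_out {m : G} (hm : m ∈ Mx X.V t) (hu : u ∈ Mx X.V t) (uu : u * u = 1)
    (h1 : u ∉ C[X.V]) : m * u * m⁻¹ ∈ Mx X.V t ∧ m * u * m⁻¹ * (m * u * m⁻¹) = 1 ∧
      m * u * m⁻¹ ∉ C[X.V] :=
  ⟨mul_mem (mul_mem hm hu) (inv_mem hm),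
    by rw [show m * u * m⁻¹ * (m * u * m⁻¹) = m * (u * u) * m⁻¹ by group, uu]; group,
    fun e => h1 ((conj_mem_iff (N_le_NC _ (MV hm))).1 e)⟩

theorem c4 (hu : u ∈ Mx X.V t) (uu : u * u = 1) (h1 : u ∉ C[X.V]) (hg : g ∈ Mx X.V t)
    (gg : g * g = 1) (h2 : g ∉ C[X.V]) : ∃ m ∈ Mx X.V t, g = m * u * m⁻¹ := by
  obtain ⟨m, hm, e, he, e1⟩ := c3 h hu uu h1 hg (gg ▸ one_mem _) (pe2 gg) h2
  obtain ⟨a1, a2, a3⟩ := conj_out hm hu uu h1
  obtain ⟨c, hc, e2⟩ := (frE h a1 a2 a3).2 e he (e1 ▸ gg)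
  exact ⟨c * m, mul_mem (EM h hc) hm, by rw [e1, e2]; group⟩

theorem ES (hS : Syl 2 (Mx X.V t) S1) : X.E t ≤ S1 := EE (X := X) (t := t) ▸ (h.card_syl hS).1
theorem cardS (hS : Syl 2 (Mx X.V t) S1) : ♯S1 = 128 := by rw [(h.card_syl hS).2.1]; norm_num
theorem SC (hS : Syl 2 (Mx X.V t) S1) : S1 ⊓ C[X.V] = X.E t :=
  le_antisymm (fun x hx => twoE h (hS.le hx.1) hx.2 (hS.pi.piElt hx.1)) (le_inf (ES h hS) (EC h))
theorem card_img8 (hl : Lam X l) (hS : Syl 2 (Mx X.V t) S1) : ♯(img l S1) = 8 := by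
  have := hl.card (hS.le.trans MV)
  rw [SC h hS, cardE h, cardS h hS] at this
  omega

/-- lifting involutions -/
theorem lift (hu : u ∈ Mx X.V t) (uu : u * u = 1) (h1 : u ∉ C[X.V]) (hl : Lam X l)
    (hS : Syl 2 (Mx X.V t) S1) {α : Equiv.Perm F} (ha : α ∈ img l S1) (a2 : α * α = 1)
    (a1 : α ≠ 1) : ∃ s ∈ S1, s * s = 1 ∧ ap l s = α := by
  obtain ⟨g, hg, gV, rfl⟩ := mem_img.1 ha
  obtain ⟨m, hm, e, he, e1⟩ := c3 h hu uu h1 (hS.le hg)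
    ((hl.ker _ (mul_mem gV gV)).1 (by rw [ap_mul _ gV gV, a2])) (hS.pi.piElt hg)
    (fun e => a1 ((hl.ker g gV).2 e))
  obtain ⟨b1, b2, b3⟩ := conj_out hm hu uu h1
  refine ⟨_, ?_, b2, (hl.eq (MV b1) gV).2 ?_⟩
  · rw [show m * u * m⁻¹ = g * e⁻¹ by rw [e1]; group]
    exact mul_mem hg (inv_mem (ES h hS he))
  · rw [e1, inv_mul_cancel_left]
    exact EC h he

omit h in
theorem cen4 {W : Type*} [Group W] {a b : W} (aa : a * a = 1) (bb : b * b = 1)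
    (h4 : (a * b) ^ 2 * (a * b) ^ 2 = 1) :
    a * (a * b) ^ 2 = (a * b) ^ 2 * a ∧ b * (a * b) ^ 2 = (a * b) ^ 2 * b := by
  have ia := inv_eq_of_mul_eq_one_right aa
  have ib := inv_eq_of_mul_eq_one_right bb
  have e : (b * a) ^ 2 = (a * b) ^ 2 := by
    rw [← inv_eq_of_mul_eq_one_right h4, ← inv_pow, mul_inv_rev, ia, ib]
  constructor
  · rw [← e]; nth_rewrite 2 [e]; simp only [sq, mul_assoc]
  · nth_rewrite 2 [← e]; simp only [sq, mul_assoc]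

theorem not_dd (hu : u ∈ Mx X.V t) (uu : u * u = 1) (h1 : u ∉ C[X.V]) : ¬ DD t u := by
  intro hd
  obtain ⟨l, hl⟩ := exists_Lam X
  obtain ⟨S1, hS⟩ := Sylow_exists Nat.prime_two (Mx X.V t)
  obtain ⟨a, ha, b, hb, aa, bb, -, -, o4, gen⟩ := Ad_syl h.q8 (hl.img_le S1) (card_img8 h hl hS)
  have h4 : (a * b) ^ 2 * (a * b) ^ 2 = 1 := by
    rw [← pow_add]; exact orderOf_dvd_iff_pow_eq_one.1 (by rw [o4])
  have h2 : (a * b) ^ 2 ≠ 1 := pow_ne_one_of_lt_orderOf (by norm_num) (by omega)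
  obtain ⟨s, hs, ss, e⟩ := lift h hu uu h1 hl hS (pow_mem (mul_mem ha hb) 2) h4 h2
  have sM := hS.le hs
  have sC : s ∉ C[X.V] := fun e' => h2 (e ▸ (hl.ker s (MV sM)).2 e')
  have cen : img l S1 ≤ C{(a * b) ^ 2} := by
    rw [gen, closure_le]
    rintro x (rfl | rfl)
    exacts [mem_C1.2 (cen4 aa bb h4).1, mem_C1.2 (cen4 aa bb h4).2]
  have c := (frE h sM ss sC).card ss (ES h hS) (hS.le.trans ME) hs (fun g hg => by
    have gV := MV (hS.le hg)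
    have m1 : g * s * g⁻¹ * s ∈ S1 := mul_mem (mul_mem (mul_mem hg hs) (inv_mem hg)) hs
    rw [← SC h hS]
    refine mem_inf.2 ⟨m1, (hl.ker _ (MV (hS.le m1))).1 ?_⟩
    rw [ap_mul _ (mul_mem (mul_mem gV (MV sM)) (inv_mem gV)) (MV sM), ap_conj _ gV (MV sM), e,
      mem_C1_iff_conj.1 (cen (ap_mem_img l hg gV)), h4])
  rw [cardS h hS, card4 h sM ss sC, cardE h] at c
  obtain ⟨m, hm, e1⟩ := c4 h hu uu h1 sM ss sC
  have := h.toTh.toTw.toLz.toLc.toLb.card_le (u := s) (e1 ▸ hd.conj m) (hS.pi.inf_left C{s})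
    inf_le_right
  rw [TE h, cardE h] at this
  omega

/-- the conjugates of `t` in `M` lie in `tV` -/
theorem dd_M (hg : g ∈ Mx X.V t) (hd : DD t g) : ∃ b, g = t * X.z b := by
  have gg : g * g = 1 := by
    obtain ⟨k, rfl⟩ := hd
    rw [show k * t * k⁻¹ * (k * t * k⁻¹) = k * (t * t) * k⁻¹ by group, (st2 h).tt]; group
  by_cases hc : g ∈ C[X.V]
  · obtain ⟨b, rfl | rfl⟩ := ((st2 h).mem_E X).1 (twoE h hg hc (pe2 gg))
    · exact absurd hd (h.zn b)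
    · exact ⟨b, rfl⟩
  · exact absurd hd (not_dd h hg gg hc)

theorem syl (hS : Syl 2 (Mx X.V t) S1) : Syl 2 ⊤ S1 := by
  refine h.toTh.toTw.toLz.toLc.toLb.syl_of hS.pi (TE h ▸ ES h hS) fun w hw hd => ?_
  obtain ⟨b, rfl⟩ := dd_M h (hS.le hw) hd
  exact (h.card_syl hS).2.2 _ (X.z_V b)

omit h in
theorem comm_clos {W : Type*} [Group W] {a b c : W} (aa : a * a = 1) (bb : b * b = 1)
    (h4 : (a * b) ^ 2 * (a * b) ^ 2 = 1) (ca : c * a = a * c) (cb : c * b = b * c) :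
    ⁅closure {a, b, c}, closure {a, b, c}⁆ ≤ zpowers ((a * b) ^ 2) := by
  have ia := inv_eq_of_mul_eq_one_right aa
  have ib := inv_eq_of_mul_eq_one_right bb
  have hN : closure {a, b, c} ≤ N[zpowers ((a * b) ^ 2)] := by
    refine norm_zpowers_of_cent ?_
    rw [closure_le]
    rintro x (rfl | rfl | rfl)
    exacts [mem_C1.2 (cen4 aa bb h4).1, mem_C1.2 (cen4 aa bb h4).2,
      mem_C1.2 ((Commute.mul_right ca cb).pow_right 2).eq]
  have sub : ({a, b, c} : Set W) ⊆ N[zpowers ((a * b) ^ 2)] := fun x hx => hN (subset_closure hx)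
  have key : ∀ x ∈ ({a, b, c} : Set W), ∀ y ∈ ({a, b, c} : Set W),
      ⁅x, y⁆ ∈ zpowers ((a * b) ^ 2) := by
    have e1 : ⁅a, b⁆ ∈ zpowers ((a * b) ^ 2) := by
      rw [commutatorElement_def, ia, ib, mul_assoc, ← sq]; exact mem_zpowers _
    have e0 : ∀ x y : W, x * y = y * x → ⁅x, y⁆ ∈ zpowers ((a * b) ^ 2) := fun x y e => by
      rw [commutatorElement_eq_one_iff_mul_comm.2 e]; exact one_mem _
    rintro x (rfl | rfl | rfl) y (rfl | rfl | rfl)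
    exacts [e0 _ _ rfl, e1, e0 _ _ ca.symm, by rw [← commutatorElement_inv]; exact inv_mem e1,
      e0 _ _ rfl, e0 _ _ cb.symm, e0 _ _ ca, e0 _ _ cb, e0 _ _ rfl]
  rw [← abl_quo hN, quo, img_closure _ sub, abl_iff, closure_le]
  rintro _ ⟨x, hx, rfl⟩
  rw [SetLike.mem_coe, mem_C_iff_le_C1, closure_le]
  rintro _ ⟨y, hy, rfl⟩
  rw [SetLike.mem_coe, mem_C1, ← commutatorElement_eq_one_iff_mul_comm,
    ← ap_commutator _ (sub hy) (sub hx)]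
  exact cs_of_mem (key y hy x hx)

theorem tG (hu : u ∈ Mx X.V t) (uu : u * u = 1) (h1 : u ∉ C[X.V]) : t ∉ G0 := by
  obtain ⟨l, hl⟩ := exists_Lam X
  obtain ⟨S1, hS⟩ := Sylow_exists Nat.prime_two (Mx X.V t)
  obtain ⟨a, ha, b, hb, aa, bb, a1, b1, o4, gen⟩ :=
    Ad_syl h.q8 (hl.img_le S1) (card_img8 h hl hS)
  have h4 : (a * b) ^ 2 * (a * b) ^ 2 = 1 := by
    rw [← pow_add]; exact orderOf_dvd_iff_pow_eq_one.1 (by rw [o4])
  have h2 : (a * b) ^ 2 ≠ 1 := pow_ne_one_of_lt_orderOf (by norm_num) (by omega)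
  obtain ⟨x, hx, xx, ex⟩ := lift h hu uu h1 hl hS ha aa a1
  obtain ⟨y, hy, yy, ey⟩ := lift h hu uu h1 hl hS hb bb b1
  have SV := hS.le.trans (MV (X := X) (t := t))
  have hc : (x * y) ^ 2 ∈ S1 := pow_mem (mul_mem hx hy) 2
  have ec : ap l ((x * y) ^ 2) = (a * b) ^ 2 := by
    rw [ap_pow _ (SV (mul_mem hx hy)), ap_mul _ (SV hx) (SV hy), ex, ey]
  have cC : (x * y) ^ 2 ∉ C[X.V] := fun e => h2 (ec ▸ (hl.ker _ (SV hc)).2 e)
  have c2 : (x * y) ^ 2 * (x * y) ^ 2 ∈ X.V := by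
    obtain ⟨m, hm, e, he, e1⟩ := c3 h hu uu h1 (hS.le hc) ((hl.ker _ (SV (mul_mem hc hc))).1
      (by rw [ap_mul _ (SV hc) (SV hc), ec, h4])) (hS.pi.piElt hc) cC
    obtain ⟨b1, b2, -⟩ := conj_out hm hu uu h1
    have := commE h b1 he
    rw [inv_eq_of_mul_eq_one_right b2] at this
    rw [e1, ← mul_assoc]
    exact this
  have tS : t ∈ S1 := ES h hS (X.t_E t)
  have tc : ∀ g ∈ S1, cs X.V t * cs X.V g = cs X.V g * cs X.V t := fun g hg => by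
    rw [← ap_mul _ (SV tS) (SV hg), ← ap_mul _ (SV hg) (SV tS),
      cs_eq_cs (SV (mul_mem tS hg)) (SV (mul_mem hg tS))]
    have := commE h (inv_mem (hS.le hg)) (X.t_E t)
    rw [inv_inv] at this
    rwa [mul_inv_rev, inv_eq_of_mul_eq_one_right (st2 h).tt, ← mul_assoc]
  have sq1 : ∀ g ∈ S1, g * g ∈ X.V → cs X.V g * cs X.V g = 1 := fun g hg e => by
    rw [← ap_mul _ (SV hg) (SV hg)]; exact cs_of_mem e
  have ec2 : cs X.V ((x * y) ^ 2) = (cs X.V x * cs X.V y) ^ 2 := by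
    rw [cs, ap_pow _ (SV (mul_mem hx hy)), ap_mul _ (SV hx) (SV hy)]
  have k4 := sq1 _ hc c2
  rw [ec2] at k4
  have cm := comm_clos (sq1 x hx (xx ▸ one_mem _)) (sq1 y hy (yy ▸ one_mem _)) k4 (tc x hx)
    (tc y hy)
  have sub : ({x, y} : Set G) ⊆ N[X.V] := by
    rintro _ (rfl | rfl)
    exacts [SV hx, SV hy]
  have cS : closure {x, y} ≤ S1 := by
    rw [closure_le]
    rintro _ (rfl | rfl)
    exacts [hx, hy]
  have qS : quo S1 X.V ≤ closure {cs X.V x, cs X.V y, cs X.V t} := by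
    intro w hw
    obtain ⟨g, hg, gV, rfl⟩ := mem_quo.1 hw
    have m1 := ap_mem_img l hg gV
    rw [gen, ← ex, ← ey, ← Set.image_pair, ← img_closure _ sub] at m1
    obtain ⟨k, hk, kV, e1⟩ := mem_img.1 m1
    have m2 : k⁻¹ * g ∈ X.E t := by
      rw [← SC h hS]
      exact mem_inf.2 ⟨mul_mem (inv_mem (cS hk)) hg, (hl.eq kV gV).1 e1⟩
    have m3 : cs X.V k ∈ closure {cs X.V x, cs X.V y, cs X.V t} := by
      have := cs_mem_quo hk kV
      rw [quo, img_closure _ sub, Set.image_pair] at this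
      exact closure_mono (Set.insert_subset_insert (by simp)) this
    have m4 : cs X.V (k⁻¹ * g) ∈ closure {cs X.V x, cs X.V y, cs X.V t} := by
      obtain ⟨c, e | e⟩ := ((st2 h).mem_E X).1 m2
      · rw [e, cs_of_mem (X.z_V c)]; exact one_mem _
      · rw [e, show cs X.V (t * X.z c) = _ from ap_mul _ (SV tS) (norm_self _ (X.z_V c))]
        exact mul_mem (subset_closure (by simp)) (by
          rw [show ap (coset X.V) (X.z c) = 1 from cs_of_mem (X.z_V c)]; exact one_mem _)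
    have := mul_mem m3 m4
    rwa [← ap_mul _ kV (mul_mem (inv_mem kV) gV), mul_inv_cancel_left] at this
  refine tr_not (st2 h).toSt (fun e => X.nab (e.of_le (st2 h).le)) le_top (syl h hS)
    (N := coq X.V (zpowers ((cs X.V x * cs X.V y) ^ 2))) ?_ tS (st2 h).tt ?_ ?_
  · rw [← quo_le_iff ((der1_le _).trans SV), quo_comm SV SV]
    exact (der1_mono qS).trans cm
  · intro e
    obtain ⟨k, hk⟩ := (mem_coq.1 e).2
    have hk' : ((cs X.V x * cs X.V y) ^ 2) ^ k = cs X.V t := hk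
    rcases Int.even_or_odd' k with ⟨j, rfl | rfl⟩
    · rw [zpow_mul, zpow_two, k4, one_zpow, eq_comm, cs_eq_one (SV tS)] at hk'
      exact (st2 h).tV X hk'
    · rw [zpow_add, zpow_mul, zpow_two, k4, one_zpow, one_mul, zpow_one, ← ec2, eq_comm,
        cs_eq_cs (SV tS) (SV hc)] at hk'
      exact cC ((mul_mem_cancel_left (inv_mem (EC h (X.t_E t)))).1 (EC h (X.V_E t hk')))
  · intro g _ hg
    obtain ⟨b, e⟩ := dd_M h (hS.le hg) ⟨g, rfl⟩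
    rw [e, mul_assoc, (st2 h).tz X, ← mul_assoc, (st2 h).tt, one_mul]
    exact le_coq _ (X.z_V b)

end

end GA1x

/-! ### GA1 -/
theorem Ex.ga1 (h : Ex X G0 t D T B 1 π) (hu : u ∈ Mx B t) (uu : u * u = 1) (h1 : u ∉ C[X.V])
    (hS : Syl 2 (Mx B t) S1) :
    Syl 2 ⊤ S1 ∧ t ∉ G0 ∧
      (∀ g ∈ Mx B t, g * g ∈ C[X.V] → PiElt {2} g → g ∉ C[X.V] →
        ∃ m ∈ Mx B t, ∃ e ∈ X.E t, g = m * u * m⁻¹ * e) ∧
      ∀ g ∈ Mx B t, g * g = 1 → g ∉ C[X.V] →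
        (∃ m ∈ Mx B t, g = m * u * m⁻¹) ∧ ♯(X.E t ⊓ C{g} : Subgroup G) = 4 := by
  obtain rfl : B = X.V := h.toTh.one.1
  exact ⟨GA1x.syl h hS, GA1x.tG h hu uu h1, fun g hg a b c => GA1x.c3 h hu uu h1 hg a b c,
    fun g hg a b => ⟨GA1x.c4 h hu uu h1 hg a b, GA1x.card4 h hg a b⟩⟩

end H23.L2
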