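import Mathlib
import Cfsg.Agent.H23.LDefs
import Cfsg.Agent.H23.GA1

set_option autoImplicit false
set_option linter.unusedVariables false
set_option linter.unusedSectionVars false

namespace H23.L2

open Cfsg H24 Subgroup
open H2.SZ (St DD Goal)
open scoped MatrixGroups commutatorElement

universe u

variable {G : Type u} [Group G] [Finite G] {F : Type*} [Field F] [Fintype F]
  {L G0 D T B R Q S S1 A P N M H : Subgroup G} {t f g i j ρ z u : G} {X : LD F L} {n : ℕ}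
  {π s : G → F}

namespace GA2x
open GA1x

theorem mem_z2 {x : G} (zz : z * z = 1) : x ∈ zpowers z ↔ x = 1 ∨ x = z := by
  refine ⟨?_, ?_⟩
  · rintro ⟨k, rfl⟩
    rcases Int.even_or_odd' k with ⟨j, rfl | rfl⟩
    · left; simp only; rw [zpow_mul, zpow_two, zz, one_zpow]
    · right; simp only; rw [zpow_add, zpow_mul, zpow_two, zz, one_zpow, one_mul, zpow_one]
  · rintro (rfl | rfl)
    exacts [one_mem _, mem_zpowers _]

theorem half {W : Type*} [Group W] [Finite W] {A B : Subgroup W} (h : A ≤ B) (h1 : A ≠ B) :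
    2 * ♯A ≤ ♯B := by
  obtain ⟨k, hk⟩ := card_dvd h
  have h2 := card_lt (lt_of_le_of_ne h h1)
  have h3 := card_pos A
  rw [hk] at h2 ⊢
  have : 2 ≤ k := by
    by_contra c
    have : k = 0 ∨ k = 1 := by omega
    rcases this with rfl | rfl <;> omega
  rw [mul_comm]
  exact Nat.mul_le_mul_left _ this

variable {l : N[X.V] →* Equiv.Perm F}

theorem zz (X : LD F L) {a b c : F} :
    X.z a * (X.z b)⁻¹ ∈ zpowers (X.z c) ↔ a = b ∨ a = b + c := by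
  rw [mem_z2 (X.z_sq c), X.z_inv, X.z_mul, X.z_eq_one]
  refine or_congr ⟨X.eq_of_add, fun e => e ▸ X.add_self _⟩ ⟨fun e => ?_, fun e => ?_⟩
  · have := X.z_inj e
    linear_combination this - b * X.two
  · congr 1
    linear_combination e + b * X.two

section
variable (h : Ex X G0 t D T X.V 1 π)
include h

theorem two_mem (hS : Syl 2 (Mx X.V t) S1) (hg : g ∈ Mx X.V t) (g2 : PiElt {2} g) (hf : f ∈ S1)
    (h1 : f⁻¹ * g ∈ C[X.V]) : g ∈ S1 := by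
  obtain ⟨p, hp, d, hd, e2⟩ := h.CV (mul_mem (inv_mem (hS.le hf)) hg) h1
  rw [EE] at hp
  have m1 : f * p ∈ S1 := mul_mem hf (ES h hS hp)
  have e3 : g = f * p * d := by rw [mul_assoc, ← e2]; group
  have y2 := hS.pi.piElt m1
  have yd : f * p * d = d * (f * p) := (mem_C'.1 (h.two_D (hS.le m1) y2) d hd)
  have d2 : PiElt {2} d := by
    have : d = (f * p)⁻¹ * g := by rw [e3]; group
    rw [this]
    refine y2.inv.mul g2 ?_
    have c1 : Commute (f * p) g := by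
      rw [e3]; exact (Commute.refl _).mul_right yd
    exact c1.inv_left.eq
  rw [e3, d2.eq_one (h.odd.piElt hd), mul_one]
  exact m1

theorem VG : X.V ≤ G0 := X.V_le.trans (st2 h).le

theorem EG (tG : t ∉ G0) (he : g ∈ X.E t) (hg : g ∈ G0) : g ∈ X.V := by
  obtain ⟨b, rfl | rfl⟩ := ((st2 h).mem_E X).1 he
  · exact X.z_V b
  · exact absurd ((mul_mem_cancel_right (VG h (X.z_V b))).1 hg) tG

theorem twoV (tG : t ∉ G0) (hS : Syl 2 (Mx X.V t) S1) (hg : g ∈ S1 ⊓ G0) (h1 : g ∈ C[X.V]) :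
    g ∈ X.V := EG h tG (twoE h (hS.le hg.1) h1 (hS.pi.piElt hg.1)) hg.2

theorem exists_c (hS : Syl 2 (Mx X.V t) S1) : ∃ c, c ≠ 0 ∧ S1 ≤ C{X.z c} := by
  have := meet_center_nil (hS.pi.nil Nat.prime_two)
    (K := X.V) ⟨(X.V_E t).trans (ES h hS), hS.le.trans MV⟩
    (fun e => X.z1 (mem_bot.1 (e ▸ X.z_V 1)))
  obtain ⟨⟨x, ⟨c, rfl⟩, h3, h2⟩, h1⟩ := (ne_bot_iff_exists_ne_one).1 this
  exact ⟨c, fun e => h1 (Subtype.ext (X.z_eq_one.2 e)), mem_C_iff_le_C1.1 h2⟩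

theorem img_S (hl : Lam X l) (hS : Syl 2 (Mx X.V t) S1) : img l (S1 ⊓ G0) = img l S1 := by
  refine le_antisymm (img_mono _ inf_le_left) fun α ha => ?_
  obtain ⟨g, hg, gV, rfl⟩ := mem_img.1 ha
  rcases (st2 h).gen g with e | e
  · exact ap_mem_img l (mem_inf.2 ⟨hg, e⟩) gV
  · have tS : t ∈ S1 := ES h hS (X.t_E t)
    have tV := MV (hS.le tS)
    have := ap_mem_img l (mem_inf.2 ⟨mul_mem hg tS, e⟩) (mul_mem gV tV)
    rwa [ap_mul _ gV tV, (hl.ker t tV).2 (EC h (X.t_E t)), mul_one] at this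

theorem exists_rho (hl : Lam X l) (hS : Syl 2 (Mx X.V t) S1) {c : F} (hc : S1 ≤ C{X.z c})
    {β : Equiv.Perm F} (hb : β ∈ Ad F) (bc : β c = c) (b3 : orderOf β = 3) :
    ∃ ρ ∈ Mx X.V t, ρ * t = t * ρ ∧ PiElt {3} ρ ∧ ap l ρ c = c ∧ orderOf (ap l ρ) = 3 := by
  obtain ⟨m, hm, e⟩ := sur h hl hb
  obtain ⟨y, w, y3, w3, hy, hw, e1⟩ := exists_piElt_decomp {3} m
  have mM : zpowers m ≤ Mx X.V t := zpowers_le.2 hm
  have yM := mM hy
  have w1 : ap l w = 1 := by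
    refine PiElt.eq_one (π := {3}) ?_ (w3.ap l (MV (mM hw)))
    refine (piElt_of_orderOf_prime Nat.prime_three b3).of_mem_zpowers ?_
    rw [← e, ← img_zpowers _ (MV hm)]
    exact ap_mem_img l hw (MV (mM hw))
  have ey : ap l y = β := by
    rw [← e, e1, ap_mul _ (MV yM) (MV (mM hw)), w1, mul_one]
  have yM' : zpowers y ≤ Mx X.V t := zpowers_le.2 yM
  have pr := coprime_isProd_of_quo_cent (V := X.V) (K := X.E t) (A := zpowers y)
    ⟨X.V_E t, (EM h).trans MV⟩ (yM'.trans MV)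
    (X.el_V.pi.coprime_of_ne y3.isPi (by norm_num)) (.inl (X.el_V.pi.sol Nat.prime_two))
    ((quo_cents (yM'.trans MV) ((EM h).trans MV)).2 (commutator_le.2 fun a ha e he => by
      rw [commutatorElement_def, inv_eq_of_mul_eq_one_right (elE h e he)]
      exact commE h (yM' ha) he))
  obtain ⟨v, ⟨b, rfl⟩, e', he, e2⟩ := pr.mul t (X.t_E t)
  have e3 : e' = t * X.z b := by
    rw [← (st2 h).tz X]
    nth_rewrite 1 [e2]
    rw [← mul_assoc, X.z_sq, one_mul]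
  obtain ⟨k, hk, e4⟩ := (h.card_syl hS).2.2 _ (X.z_V b)
  have kM := hS.le hk
  have c1 := mem_C.1 (mem_inf.1 he).2 y (mem_zpowers y)
  rw [e3, e4] at c1
  have lk : ap l k c = c := X.z_inj (by rw [← hl.z k (MV kM), mem_C1_iff_conj.1 (hc hk)])
  have ec : ap l (k⁻¹ * y * k) = (ap l k)⁻¹ * β * ap l k := by
    rw [ap_mul _ (mul_mem (inv_mem (MV kM)) (MV yM)) (MV kM), ap_mul _ (inv_mem (MV kM)) (MV yM),
      ap_inv _ (MV kM), ey]
  refine ⟨k⁻¹ * y * k, mul_mem (mul_mem (inv_mem kM) yM) kM, ?_, ?_, ?_, ?_⟩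
  · calc _ = k⁻¹ * (y * (k * t * k⁻¹)) * k := by group
      _ = _ := by rw [c1]; group
  · simpa using y3.conj k⁻¹
  · rw [ec, Equiv.Perm.mul_apply, Equiv.Perm.mul_apply, lk, bc, Equiv.Perm.inv_eq_iff_eq, lk]
  · rw [ec, ← b3]
    exact SemiconjBy.orderOf_eq (ap l k) (by rw [SemiconjBy]; group)

theorem gd (hu : u ∈ Mx X.V t) (uu : u * u = 1) (h1 : u ∉ C[X.V]) (uG : u ∈ G0)
    (hS : Syl 2 (Mx X.V t) S1) {a : G} (ha : a ∈ X.V) (hd : DD a u) :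
    ∃ S Q ρ z, GD X G0 t D T S Q ρ z := by
  obtain ⟨l, hl⟩ := exists_Lam X
  have tG := tG h hu uu h1
  have nrm := (st2 h).nrm
  obtain ⟨sylS, -, cS⟩ := (st2 h).syl0 (syl h hS)
  replace cS := cS tG
  rw [cardS h hS] at cS
  obtain ⟨c, c0, hc⟩ := exists_c h hS
  obtain ⟨U, UA, U1, U2, U2', U3, U4, U5, ⟨β, hb, bc, b3⟩, U7, U8⟩ := Ad_tv h.q8 c0
  obtain ⟨ρ, ρM, ρt, ρ3, ρc, ρo⟩ := exists_rho h hl hS hc hb bc b3
  have SV : S1 ≤ N[X.V] := hS.le.trans MV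
  have lc : ∀ g ∈ S1, ap l g c = c := fun g hg =>
    X.z_inj (by rw [← hl.z g (SV hg), mem_C1_iff_conj.1 (hc hg)])
  have c8 := card_img8 h hl hS
  have UP : U ≤ img l (S1 ⊓ G0) := by
    rw [img_S h hl hS]
    have p2 := U4 _ (hl.img_le S1) (hS.pi.img l) (fun α hα => by
      obtain ⟨g, hg, -, rfl⟩ := mem_img.1 hα
      exact lc g hg)
    obtain ⟨k, hk⟩ := p2.card_eq_pow Nat.prime_two
    have d := card_dvd (sup_le (hl.img_le S1) UA)
    rw [Ad_card h.q8, hk] at d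
    have k3 : k ≤ 3 := by
      by_contra e
      have := (Nat.pow_dvd_pow 2 (show 4 ≤ k by omega)).trans d
      norm_num at this
    have := eq_of_card_ge (le_sup_left : img l S1 ≤ img l S1 ⊔ U) (by
      rw [hk, c8]; exact Nat.pow_le_pow_right (n := 2) (j := 3) two_pos k3)
    rw [this]; exact le_sup_right
  set Q := (S1 ⊓ G0) ⊓ pre l U with hQ
  have mQ : ∀ {x}, x ∈ Q ↔ x ∈ S1 ⊓ G0 ∧ ap l x ∈ U := fun {x} =>
    ⟨fun hx => ⟨hx.1, (mem_pre.1 hx.2).2⟩, fun hx => ⟨hx.1, mem_pre.2 ⟨SV hx.1.1, hx.2⟩⟩⟩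
  have QS : Q ≤ S1 := fun x hx => hx.1.1
  have VC : X.V ≤ C[X.V] := X.el_V.abl.le_C
  have VS : X.V ≤ S1 ⊓ G0 := le_inf ((X.V_E t).trans (ES h hS)) (VG h)
  have VQ : X.V ≤ Q := fun x hx => mQ.2 ⟨VS hx, by
    rw [(hl.ker x (norm_self _ hx)).2 (VC hx)]; exact one_mem _⟩
  have iQ : img l Q = U := by rw [hQ, img_inf_pre, inf_eq_right.2 UP]
  have nQ : ∀ m ∈ Mx X.V t, ap l m c = c → m ∈ N[Q] := fun m hm mc => by
    refine mem_N_of_finite fun x hx => ?_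
    obtain ⟨h2, h3⟩ := mQ.1 hx
    have yM : m * x * m⁻¹ ∈ Mx X.V t := mul_mem (mul_mem hm (hS.le h2.1)) (inv_mem hm)
    have yU : ap l (m * x * m⁻¹) ∈ U := by
      rw [ap_conj _ (MV hm) (SV h2.1)]
      exact H24.conj_mem (U5 _ (hl.ad m (MV hm)) mc) h3
    obtain ⟨k, hk, kV, e⟩ := mem_img.1 (UP yU)
    exact mQ.2 ⟨mem_inf.2 ⟨two_mem h hS yM ((hS.pi.piElt h2.1).conj m) hk.1
      ((hl.eq kV (MV yM)).1 e), nrm.conj_mem _ h2.2 m⟩, yU⟩
  have tS : t ∈ S1 := ES h hS (X.t_E t)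
  have lt : ap l t = 1 := (hl.ker t (SV tS)).2 (EC h (X.t_E t))
  have zC : zpowers (X.z c) ≤ C[S1] := zpowers_le.2 (mem_C_iff_le_C1.2 hc)
  have zCV : zpowers (X.z c) ≤ C[X.V] := zpowers_le.2 (VC (X.z_V c))
  have dQ : ∀ x ∈ Q, x ∉ X.V → ∃ s ∈ Mx X.V t, ∃ b, s * s = 1 ∧ s ∉ C[X.V] ∧ ap l s ∈ U ∧
      x = s * X.z b := fun x hx hV => by
    obtain ⟨h2, h3⟩ := mQ.1 hx
    have xV := SV h2.1
    obtain ⟨m, hm, e, he, e1⟩ := c3 h hu uu h1 (hS.le h2.1) ((hl.ker _ (mul_mem xV xV)).1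
      (by rw [ap_mul _ xV xV]; exact U2' _ h3)) (hS.pi.piElt h2.1) (fun e => hV (twoV h tG hS h2 e))
    obtain ⟨b1, b2, b3⟩ := conj_out hm hu uu h1
    obtain ⟨b, rfl⟩ := EG h tG he ((mul_mem_cancel_left (nrm.conj_mem _ uG m)).1 (e1 ▸ h2.2))
    refine ⟨_, b1, b, b2, b3, ?_, e1⟩
    rw [(hl.eq (MV b1) xV).2 (by rw [e1, inv_mul_cancel_left]; exact VC (X.z_V b))]
    exact h3
  have sqQ : ∀ x ∈ Q, x * x ∈ zpowers (X.z c) := fun x hx => by
    by_cases hV : x ∈ X.V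
    · rw [X.el_V x hV]; exact one_mem _
    obtain ⟨s, hs, b, ss, -, sU, rfl⟩ := dQ x hx hV
    have := (zz X).2 ((U1 _ (UA sU)).1 sU b)
    rwa [← hl.z s (MV hs), inv_eq_of_mul_eq_one_right ss, X.z_inv, mul_assoc] at this
  have ρ2 : PiElt {2}ᶜ ρ := ρ3.of_mem (by norm_num)
  have l3 : ap l ρ ≠ 1 := fun e => by rw [e, orderOf_one] at ρo; omega
  obtain ⟨U7a, U7b, U7c⟩ := U7 _ (hl.ad ρ (MV ρM)) ρc ρo
  refine ⟨S1 ⊓ G0, Q, ρ, X.z c, h.toTh.toTw.toLz, h.q8, tG, sylS, by omega, X.z_V c,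
    fun e => c0 (X.z_eq_one.1 e), inf_le_left.trans hc, VQ, inf_le_left, ?_,
    norm_inf (norm_self S1) (norm_of_normal S1 G0) tS, nQ t (hS.le tS) (by rw [lt]; rfl), ?_, ρt,
    ?_, nQ ρ ρM ρc, ?_, ρ3, ?_, ?_, ?_, sqQ, ?_, ?_, ?_, ?_, ?_⟩
  · have := hl.card (QS.trans SV)
    rw [iQ, U2, show Q ⊓ C[X.V] = X.V from le_antisymm (fun x hx => twoV h tG hS hx.1.1 hx.2)
      (le_inf VQ VC), X.card_V, h.q8] at this
    omega
  · have : ρ ∈ zpowers (ρ ^ 2) := mem_zpowers_pow_iff.2 <|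
      (Nat.Prime.coprime_iff_not_dvd Nat.prime_two).2 fun e => ρ2 2 Nat.prime_two e rfl
    exact (zpowers_le.2 (by rw [sq]; exact (st2 h).sq ρ) : zpowers (ρ ^ 2) ≤ G0) this
  · rw [← mem_C1, mem_C1_iff_conj, hl.z ρ (MV ρM), ρc]
  · intro e
    have := ap_mem_N l e (MV ρM)
    rw [img_S h hl hS] at this
    exact U7c _ (hl.img_le S1) c8 this
  · intro e
    obtain ⟨k, -, hk⟩ := X.actV ((st2 h).Ct ρ ρt) (MV ρM)
    have e1 : ∀ b, ap l ρ b = k * b := fun b => X.z_inj (by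
      rw [← hl.z ρ (MV ρM), hk, e]; rfl)
    have k1 : k = 1 := mul_right_cancel₀ c0 (by rw [← e1, ρc, one_mul])
    exact l3 (Equiv.ext fun b => by rw [e1, k1, one_mul]; rfl)
  · have : ρ ^ 3 ∈ D := h.toTh.toTw.toLz.toLc.odd_D ((hl.ker _ (pow_mem (MV ρM) 3)).1 (by
      rw [ap_pow _ (MV ρM), ← ρo, pow_orderOf_eq_one])) (Commute.pow_left ρt 3).eq (ρ2.pow 3)
    exact cents_symm (fun x hx => h.two_D (hS.le (QS hx)) (hS.pi.piElt (QS hx))) this
  · refine commutator_le.2 fun x hx y hy => ?_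
    have a1 := sqQ x hx
    have a2 := sqQ y hy
    have c1 := mem_C.1 (zC (inv_mem a1)) y (QS hy)
    have : ⁅x, y⁆ = x * y * (x * y) * (x * x)⁻¹ * (y * y)⁻¹ := by
      calc ⁅x, y⁆ = x * y * x * ((x * x)⁻¹ * y) * (y * y)⁻¹ := by
            rw [commutatorElement_def]; group
        _ = _ := by rw [← c1]; group
    rw [this]
    exact mul_mem (mul_mem (sqQ _ (mul_mem hx hy)) (inv_mem a1)) (inv_mem a2)
  · intro x hx
    obtain ⟨h2, h3⟩ := mem_inf.1 hx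
    obtain ⟨b, rfl⟩ := twoV h tG hS (mQ.1 h2).1 (C_anti VQ h3)
    rcases U3 b (fun α hα => by
      rw [← iQ] at hα
      obtain ⟨g, hg, gV, rfl⟩ := mem_img.1 hα
      exact X.z_inj (by rw [← hl.z g gV, mem_C.1 h3 g hg, mul_inv_cancel_right])) with rfl | rfl
    · rw [X.z_zero]; exact one_mem _
    · exact mem_zpowers _
  · intro x hx e
    obtain ⟨h2, h3⟩ := mQ.1 hx
    have xV := SV h2.1
    have ρV := MV ρM
    have e1 := (hl.ker _ (mul_mem (mul_mem (mul_mem ρV xV) (inv_mem ρV)) (inv_mem xV))).2 (zCV e)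
    rw [ap_mul _ (mul_mem (mul_mem ρV xV) (inv_mem ρV)) (inv_mem xV), ap_conj _ ρV xV,
      ap_inv _ xV, mul_inv_eq_one, mul_inv_eq_iff_eq_mul] at e1
    obtain ⟨b, rfl⟩ := twoV h tG hS h2 ((hl.ker x xV).1 (U7b _ h3 e1))
    rw [hl.z ρ ρV, zz] at e
    rcases U7a b e with rfl | rfl
    · rw [X.z_zero]; exact one_mem _
    · exact mem_zpowers _
  · intro x hx e
    by_contra hV
    obtain ⟨s, hs, b, ss, sC, sU, rfl⟩ := dQ x hx hV
    have nf : ∀ b, s * (t * X.z b) ≠ t * X.z b * s := fun b e => by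
      have : t * X.z b ∈ X.E t ⊓ C{s} :=
        mem_inf.2 ⟨mul_mem (X.t_E t) (X.V_E t (X.z_V b)), mem_C1.2 e.symm⟩
      rw [nofix h hs ss sC] at this
      exact (st2 h).tV X ((mul_mem_cancel_right (X.z_V b)).1 this.1)
    have e1 : t * (s * X.z b) * t⁻¹ * (s * X.z b)⁻¹ = t * (s * t * s⁻¹) := by
      rw [inv_eq_of_mul_eq_one_right (st2 h).tt]
      calc _ = t * s * (X.z b * t) * (X.z b)⁻¹ * s⁻¹ := by group
        _ = _ := by rw [(st2 h).tz X]; group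
    have e2 : s * t * s⁻¹ = t * (t * (s * t * s⁻¹)) := by
      rw [← mul_assoc t t, (st2 h).tt, one_mul]
    rw [e1, mem_z2 (X.z_sq c)] at e
    rcases e with e | e
    · rw [e, mul_one] at e2
      exact nf 0 (by rw [X.z_zero, mul_one, ← mul_inv_eq_iff_eq_mul, e2])
    · rw [e] at e2
      have : ∃ b, ap l s b = b + c := by
        by_contra c1
        exact sC ((hl.ker s (MV hs)).1 (Equiv.ext fun b =>
          ((U1 _ (UA sU)).1 sU b).resolve_right fun e => c1 ⟨b, e⟩))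
      obtain ⟨b, hb⟩ := this
      refine nf b ?_
      rw [← mul_inv_eq_iff_eq_mul,
        show s * (t * X.z b) * s⁻¹ = s * t * s⁻¹ * (s * X.z b * s⁻¹) by group, e2,
        hl.z s (MV hs), hb, mul_assoc, X.z_mul]
      congr 2
      linear_combination c * X.two
  · intro x hx hxQ A AQ hA
    have xV := SV hx.1
    have xU : ap l x ∉ U := fun e => hxQ (mQ.2 ⟨hx, e⟩)
    have AV := (AQ.trans QS).trans SV
    have k := hl.card AV
    have k1 : 2 * ♯(img l A) ≤ ♯U := half (iQ ▸ img_mono l AQ) fun e => by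
      refine U8 _ (hl.ad x xV) (lc x hx.1) xU ((hS.pi.piElt hx.1).ap l xV) ?_
      rw [← e, mem_C']
      intro α hα
      obtain ⟨g, hg, gV, rfl⟩ := mem_img.1 hα
      have e1 := (hl.ker _ (mul_mem (mul_mem (mul_mem xV gV) (inv_mem xV)) (inv_mem gV))).2
        (zCV (hA g hg))
      rwa [ap_mul _ (mul_mem (mul_mem xV gV) (inv_mem xV)) (inv_mem gV), ap_conj _ xV gV,
        ap_inv _ gV, mul_inv_eq_one, mul_inv_eq_iff_eq_mul] at e1
    have k2 : 2 * ♯(A ⊓ C[X.V] : Subgroup G) ≤ ♯X.V :=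
      half (fun y hy => twoV h tG hS (AQ hy.1).1 hy.2) fun e => by
        refine xU ((U1 _ (hl.ad x xV)).2 fun b => ?_)
        have : X.z b ∈ A ⊓ C[X.V] := e.symm ▸ X.z_V b
        have := hA _ this.1
        rwa [hl.z x xV, zz] at this
    rw [X.card_V, h.q8] at k2
    rw [U2] at k1
    rw [← k]
    exact Nat.mul_le_mul (show _ ≤ 4 by omega) (show _ ≤ 2 by omega)
  · intro w wG ww w1
    have vz : ∀ v ∈ X.V, v ≠ 1 → DD (X.z c) v := by
      rintro _ ⟨b, rfl⟩ e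
      obtain ⟨k, hk⟩ := X.exists_h c0 (b := b) fun e' => e (X.z_eq_one.2 e')
      exact ⟨_, hk.symm⟩
    have key : DD (X.z c) w := by
      obtain ⟨k, -, hk⟩ := Sylow_Jsub Nat.prime_two sylS (pe2 ww).isPi (zpowers_le.2 wG)
      have m1 := hk (conj_mem_cj k (mem_zpowers w))
      refine DD.of_conj (g := k) ?_
      have w2 : k * w * k⁻¹ * (k * w * k⁻¹) = 1 := by
        rw [show k * w * k⁻¹ * (k * w * k⁻¹) = k * (w * w) * k⁻¹ by group, ww]; group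
      by_cases e : k * w * k⁻¹ ∈ C[X.V]
      · exact vz _ (twoV h tG hS m1 e) fun e' => w1 (by simpa using e')
      · obtain ⟨m, -, e1⟩ := c4 h hu uu h1 (hS.le m1.1) w2 e
        obtain ⟨y, rfl⟩ := hd
        rw [e1]
        refine ((vz a ha ?_).conj y).conj m
        rintro rfl
        exact h1 (by simp)
    obtain ⟨k, rfl⟩ := key
    rcases (st2 h).gen k with e | e
    · exact ⟨k, e, rfl⟩
    · refine ⟨k * t, e, ?_⟩
      calc _ = k * (X.z c * t) * t⁻¹ * k⁻¹ := by group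
        _ = _ := by rw [(st2 h).tz X]; group

end

end GA2x

/-! ### GA2 -/
theorem Ex.ga (h : Ex X G0 t D T B 1 π) :
    IsLieTypeChar 2 G0 ∨ ∃ S Q ρ z, GD X G0 t D T S Q ρ z := by
  obtain rfl : B = X.V := h.toTh.one.1
  by_cases h0 : ∀ u ∈ Mx X.V t, u * u = 1 → u ∈ C[X.V]
  · exact .inl (h.noinv h0)
  push Not at h0
  obtain ⟨u, hu, uu, h1⟩ := h0
  obtain ⟨S1, hS⟩ := Sylow_exists Nat.prime_two (Mx X.V t)
  have tG := GA1x.tG h hu uu h1
  have st := GA1x.st2 h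
  by_cases hsc : ∀ a ∈ X.V, ∀ g ∈ G0, g * a * g⁻¹ ∈ S1 ⊓ G0 → g * a * g⁻¹ ∈ X.V
  · obtain ⟨sylS, -, cS⟩ := st.syl0 (GA1x.syl h hS)
    replace cS := cS tG
    rw [GA1x.cardS h hS] at cS
    exact .inl (gold2 st.toSt sylS (by omega)
      (le_inf ((X.V_E t).trans (GA1x.ES h hS)) (GA2x.VG h)) X.el_V.abl
      (fun e => X.z1 (mem_bot.1 (e ▸ X.z_V 1))) hsc)
  push Not at hsc
  obtain ⟨a, ha, g, hg, h2, h3⟩ := hsc
  refine .inr (GA2x.gd h (hS.le h2.1) ?_ (fun e => h3 (GA2x.twoV h tG hS h2 e)) h2.2 hS ha ⟨g, rfl⟩)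
  rw [show g * a * g⁻¹ * (g * a * g⁻¹) = g * (a * a) * g⁻¹ by group, X.el_V a ha]
  group

end H23.L2
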