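import Mathlib
import Cfsg.Agent.H2.ZDefs
import Cfsg.Agent.H26.B71C
import Cfsg.Agent.H3.Split
import Cfsg.Agent.H14.MinNorm

/-! Simple groups with abelian Sylow `2`-subgroups (copy of a part of `H2/UM1`, free of `H2/UDefs`). -/

set_option autoImplicit false
set_option linter.unusedVariables false
set_option linter.unusedSectionVars false

namespace H23.GBu

open Cfsg H24 Subgroup

universe u v

theorem two_of_sq {G : Type*} [Group G] {x : G} (h : x * x = 1) : PiElt {2} x :=
  piElt_of_pow_eq_one (n := 2) (fun p hp hd => (Nat.prime_dvd_prime_iff_eq hp Nat.prime_two).1 hd)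
    (by rw [sq, h])

/-- a `2`-element is conjugate into a Sylow subgroup -/
theorem into {G : Type*} [Group G] [Finite G] {H S : Subgroup G} {x : G} (hS : Syl 2 H S)
    (hx : PiElt {2} x) (xH : x ∈ H) : ∃ g ∈ H, g * x * g⁻¹ ∈ S := by
  obtain ⟨g, hg, e⟩ := Sylow_Jsub Nat.prime_two hS hx.isPi (zpowers_le.2 xH)
  exact ⟨g, hg, e (conj_mem_cj g (mem_zpowers x))⟩


/-- what is used of a simple group with abelian Sylow `2`-subgroups -/
def Good (T : Type*) [Group T] : Prop :=
  ∀ S : Subgroup T, Syl 2 ⊤ S → Abl S → (∀ x ∈ S, x * x = 1) ∧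
    (∀ x ∈ S, x ≠ 1 → ∀ y ∈ S, y ≠ 1 → ∃ g, y = g * x * g⁻¹) ∧ ∀ x ∈ S, ∃ y ∈ S, y ≠ 1 ∧ y ≠ x




theorem no_two {T : Type*} [Group T] [Finite T] [IsSimpleGroup T] (nab : ¬ IsMulCommutative T)
    {R : Subgroup T} {m : ℕ} (hm : Odd m) (hR : R.index = 2 * m) {x : T} (hx : x * x = 1) :
    ∃ g, g * x * g⁻¹ ∈ R := by
  by_contra h
  push Not at h
  obtain ⟨H, h2, -⟩ := H6.thompson_transfer hm hR hx h
  rcases (normal_of_index_eq_two h2).eq_bot_or_eq_top with e | e
  · rw [e, index_bot] at h2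
    have := isCyclic_of_prime_card (p := 2) h2
    exact nab inferInstance
  · rw [e, index_top] at h2
    omega

theorem odd_idx {T : Type*} [Group T] [Finite T] {S : Subgroup T} (hS : Syl 2 ⊤ S) : Odd S.index := by
  have := hS.not_dvd Nat.prime_two
  rw [relIndex_top_right] at this
  exact Nat.odd_iff.2 (by omega)

theorem good {T : Type*} [Group T] [Finite T] [IsSimpleGroup T] (nab : ¬ IsMulCommutative T) :
    Good T := by
  intro S hS ab
  have o2 : ∀ x : T, x * x = 1 → x ≠ 1 → orderOf x = 2 := fun x h h1 =>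
    orderOf_eq_prime (by rw [sq, h]) h1
  have big : 2 < ♯S → ∀ x ∈ S, ∃ y ∈ S, y ≠ 1 ∧ y ≠ x := fun h x hx => by
    by_contra k
    push Not at k
    have : (S : Set T) ⊆ {1, x} := fun y hy => (eq_or_ne y 1).imp_right (k y hy)
    have h1 := Set.ncard_le_ncard this
    have h2 := Set.ncard_insert_le 1 ({x} : Set T)
    rw [Set.ncard_singleton] at h2
    have h3 : (S : Set T).ncard = ♯S := (Nat.card_coe_set_eq _).symm
    omega
  rcases H26.Gold.abelian_sylow nab hS ab with ⟨H, hH⟩ | ⟨el, h4⟩ | ⟨el, h8, tr, -⟩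
  · obtain ⟨t, Q, s, r, hG⟩ := H3.B71.bender_simple hH
    have tz := H26.Gold.tz_of_hyp hG
    obtain ⟨g, -, rfl⟩ := Sylow_trans Nat.prime_two tz.syl hS
    have hQ : Abl Q := abl_cj.1 ab
    have el : ∀ x ∈ cj g Q, x * x = 1 := fun x hx => by
      obtain ⟨y, hy, rfl⟩ := mem_cj'.1 hx
      rw [conj_mul, hG.struct'.ab (fun x hx y hy => hQ.comm hx hy) y hy, mul_one, mul_inv_cancel]
    refine ⟨el, fun x hx x1 y hy y1 => (H26.BR.conj_of_se hH (o2 x (el x hx) x1)
      (o2 y (el y hy) y1)).imp fun _ e => e.symm, big ?_⟩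
    have h1 := hG.four_le_card_Q0
    have h2 := card_le_of_le (H8.Suz.Q0_le (Q := Q))
    rw [card_cj]
    omega
  · refine ⟨fun x hx => (sq x).symm.trans (el.2 x hx), fun x hx x1 y hy y1 => ?_, big (by omega)⟩
    have h1 := relIndex_mul_index (zpowers_le.2 hy)
    have h2 := card_mul_index ((zpowers y).subgroupOf S)
    rw [card_subgroupOf_of_le (zpowers_le.2 hy), card_zpowers', o2 y ((sq y).symm.trans (el.2 y hy)) y1, h4] at h2
    obtain ⟨g, hg⟩ := no_two nab (R := zpowers y) (odd_idx hS)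
      (by rw [← h1, relIndex, show ((zpowers y).subgroupOf S).index = 2 by omega]) ((sq x).symm.trans (el.2 x hx))
    refine ⟨g, ?_⟩
    rcases (H25.Sg.mem_zpowers_two ((sq y).symm.trans (el.2 y hy))).1 hg with e | e
    · exact absurd (conj_eq_one_iff.1 e) x1
    · exact e.symm
  · exact ⟨fun x hx => (sq x).symm.trans (el.2 x hx), fun x hx x1 y hy y1 => (tr x hx x1 y hy y1).imp fun _ e => e.2,
      big (by omega)⟩


end H23.GBu
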