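import Mathlib
import Cfsg.Agent.H23.LDefs
import Cfsg.Agent.H23.LC
import Cfsg.Agent.H23.LE
import Cfsg.Agent.H23.Ext
import Cfsg.Agent.H23.GBu
import Cfsg.Agent.H8.PC1
import Cfsg.Agent.H26.GBase
import Cfsg.Agent.H26.Coprime
import Cfsg.Agent.H3.Transfer

set_option autoImplicit false
set_option linter.unusedVariables false
set_option linter.unusedSectionVars false

namespace H23.L2

open Cfsg H24 Subgroup
open H2.SZ (St DD Goal)
open scoped MatrixGroups commutatorElement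

universe u

variable {G : Type u} [Group G] [Finite G] {F : Type*} [Field F] [Fintype F]
  {L G0 D T B R Q S S1 A P N M H : Subgroup G} {t f g i j ρ z u : G} {X : LD F L} {n : ℕ}
  {π s : G → F}

namespace GBx
open H26 H26.Gold H8.PC

theorem tc {K : Subgroup G} (hK : ⁅K, K⁆ = K) (hA : Syl 2 K A) (hx : g ∈ A) (hc : g ∈ C[K]) :
    g ∈ ⁅A, A⁆ := by
  have h1 := H3.pow_index_mem_commutator_of_center (G := K) (H := A.subgroupOf K)
    (z := ⟨g, hA.le hx⟩) hx (mem_center_iff.2 fun k => Subtype.ext (mem_C.1 hc k k.2)) (by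
      rw [← mem_map_iff_mem K.subtype_injective, map_subtype_commutator, hK]; exact hA.le hx)
  have h2 := mem_map_of_mem K.subtype h1
  rw [Subgroup.map_commutator, map_subgroupOf_eq_of_le hA.le, map_pow] at h2
  exact H23.mem_of_pow_mem_of_coprime (PiNat.coprime (hA.pi.piElt hx) hA.idx) h2

theorem foc (hS : Syl 2 H S) (idx : ∀ x ∈ S, ∀ y ∈ S, x ∉ Q → y ∉ Q → x⁻¹ * y ∈ Q)
    (sc : ∀ a ∈ Q, ∀ g ∈ H, g * a * g⁻¹ ∈ S → g * a * g⁻¹ ∈ Q) (hg : g ∈ ⁅H, H⁆) (gS : g ∈ S) :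
    g ∈ Q := by
  have h1 := H3.focal_eq_of_hall (G := H) (H := S.subgroupOf H) (by
    rw [card_subgroupOf_of_le hS.le]; exact hS.coprime)
  have h2 : focalSubgroup (S.subgroupOf H) ≤ Q.subgroupOf H := H3.focal_le_iff.2 fun x hx k hk => by
    by_cases xQ : (x : G) ∈ Q
    · exact mul_mem (inv_mem xQ) (sc x xQ k k.2 hk)
    · refine idx x hx _ hk xQ fun e => xQ ?_
      have := sc _ e (k⁻¹ : H) (k⁻¹).2 (by simpa [mul_assoc] using mem_subgroupOf.1 hx)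
      simpa [mul_assoc] using this
  exact h2 (h1.ge (x := ⟨g, hS.le gS⟩) (mem_inf.2 ⟨by
    rw [← mem_map_iff_mem H.subtype_injective, map_subtype_commutator]; exact hg, gS⟩))

theorem core {K : Subgroup G} (hK : IsComponent K) (hA : Syl 2 K (Q ⊓ K)) (zc : ∀ g, g * z = z * g)
    (zz : z * z = 1) (pQ : IsPi {2} Q) (cm : ∀ x ∈ Q, ∀ y ∈ Q, ⁅x, y⁆ ∈ zpowers z)
    (sq : ∀ x ∈ Q, x * x ∈ zpowers z) (ZQ : Q ⊓ C[Q] ≤ zpowers z) (tQ : t ∈ N[Q]) (tt : t * t = 1)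
    (tf : ∀ x ∈ Q, t * x * t⁻¹ * x⁻¹ ∈ zpowers z → x * x = 1) (sol : Sol C{t}) : False := by
  have pf := H23.IsComponent.perfect hK
  have zp : ∀ w ∈ zpowers z, ∀ g, g * w = w * g := fun w hw g => by
    rcases (H2.SZ.mem_zp_inv zz).1 hw with rfl | rfl
    · simp
    · exact zc g
  have z2 : ∀ w ∈ zpowers z, w * w = 1 := fun w hw => by
    rcases (H2.SZ.mem_zp_inv zz).1 hw with rfl | rfl
    · simp
    · exact zz
  have zC : zpowers z ≤ C[K] := fun w hw => mem_C.2 fun g _ => zp w hw g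
  have AA : ⁅Q ⊓ K, Q ⊓ K⁆ ≤ zpowers z := commutator_le.2 fun x hx y hy => cm x hx.1 y hy.1
  have ZA : ∀ a ∈ Q ⊓ K, a ∈ C[K] → a ∈ zpowers z := fun a ha hc => AA (tc pf hA ha hc)
  -- the simple quotient
  have := hK.2.2
  let φ : K →* ↥K ⧸ center ↥K := QuotientGroup.mk' _
  have k1 : ∀ x ∈ K, ap φ x = 1 ↔ x ∈ C[K] := fun x hx => by
    rw [ap_of_mem φ hx]
    refine (QuotientGroup.eq_one_iff _).trans (mem_center_iff.trans ?_)
    exact ⟨fun e => mem_C.2 fun k hk => congrArg Subtype.val (e ⟨k, hk⟩),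
      fun e k => Subtype.ext (mem_C.1 e k k.2)⟩
  have top : img φ K = ⊤ := by
    rw [img_dom, MonoidHom.range_eq_top.2 (QuotientGroup.mk'_surjective _)]
  have nab : ¬ IsMulCommutative (↥K ⧸ center ↥K) := fun e => by
    have h1 := (abl_img_iff (f := φ) (le_refl K)).1 (top ▸ abl_top_iff.2 e)
    rw [pf] at h1
    have h2 : Abl K := abl_iff.2 fun x hx => (k1 x hx).1 (mem_pre.1 (h1 hx)).2
    exact H23.IsComponent.ne_bot hK (perfect_eq_bot pf h2.sol)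
  obtain ⟨-, tr, big⟩ := H23.GBu.good nab (img φ (Q ⊓ K)) (top ▸ hA.img φ le_rfl)
    ((abl_img_iff inf_le_right).2 fun x hx => mem_pre.2
      ⟨comm_le_of_le inf_le_right inf_le_right hx,
        (k1 x (comm_le_of_le inf_le_right inf_le_right hx)).2 (zC (AA hx))⟩)
  obtain ⟨y, hy, y1, -⟩ := big 1 (one_mem _)
  obtain ⟨a0, ha0, rfl⟩ := (mem_img_of_le inf_le_right).1 hy
  have a0C : a0 ∉ C[K] := fun e => y1 ((k1 _ ha0.2).2 e)
  have QK : Q ≤ N[K] := fun x hx => mem_N_iff_cj.2 (by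
    refine ((H23.IsComponent.eq_or_comm (H23.IsComponent.conj hK x) hK).resolve_right fun e => a0C ?_)
    have h1 : x * a0 * x⁻¹ ∈ C[K] := comm_eq_bot.1 e (conj_mem_cj x ha0.2)
    have h2 := mul_mem (inv_mem (zC (cm x hx a0 ha0.1))) h1
    rwa [commutatorElement_def, show (x * a0 * x⁻¹ * a0⁻¹)⁻¹ * (x * a0 * x⁻¹) = a0 by group] at h2)
  obtain ⟨c, hc, c1⟩ := exists_ne_one ((pQ.nil Nat.prime_two).inf_C_ne_bot (K := Q ⊓ K)
    ⟨inf_le_left, norm_inf (norm_self Q) QK⟩ (ne_bot_of_mem ha0 fun e => a0C (e ▸ one_mem _)))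
  obtain ⟨b, hb, b2⟩ : ∃ b ∈ Q ⊓ K, b * b ≠ 1 := by
    by_contra k
    push Not at k
    have := tc pf hA hc.1 (zC (ZQ ⟨hc.1.1, hc.2⟩))
    rw [der1_eq_bot.2 (El.abl k)] at this
    exact c1 this
  have bC : b ∉ C[K] := fun e => b2 (z2 b (ZA b hb e))
  have key : ∀ a ∈ Q ⊓ K, a ∉ C[K] → a * a ≠ 1 := fun a ha aC a2 => by
    obtain ⟨γ, e⟩ := tr _ (ap_mem_img φ ha ha.2) (fun e => aC ((k1 a ha.2).1 e))
      _ (ap_mem_img φ hb hb.2) (fun e => bC ((k1 b hb.2).1 e))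
    obtain ⟨k, hk, rfl⟩ := (mem_img_of_le le_rfl).1 (top.ge (mem_top γ))
    have m : k * a * k⁻¹ ∈ K := mul_mem (mul_mem hk ha.2) (inv_mem hk)
    have a3 : k * a * k⁻¹ * (k * a * k⁻¹) = 1 := by rw [conj_mul, a2, mul_one, mul_inv_cancel]
    rw [← ap_conj φ hk ha.2, eq_comm, ← inv_mul_eq_one, ← ap_inv φ m, ← ap_mul φ (inv_mem m) hb.2,
      k1 _ (mul_mem (inv_mem m) hb.2)] at e
    generalize k * a * k⁻¹ = a' at m a3 e
    have wK := mul_mem (inv_mem m) hb.2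
    have eb : b = a' * (a'⁻¹ * b) := by group
    generalize a'⁻¹ * b = w at e wK eb
    have e2 : b * b = w * w := by
      rw [eb, show a' * w * (a' * w) = a' * (w * a') * w by group, ← mem_C.1 e a' m,
        show a' * (a' * w) * w = a' * a' * (w * w) by group, a3, one_mul]
    have w2 : PiElt {2} w := piElt_of_pow_eq_one (n := 4) (fun p hp hd =>
      (Nat.prime_dvd_prime_iff_eq hp Nat.prime_two).1 (hp.dvd_of_dvd_pow (n := 2) hd)) (by
        rw [show w ^ 4 = w * w * (w * w) by simp only [pow_succ, pow_zero, one_mul, mul_assoc], ← e2, z2 _ (sq b hb.1)])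
    have wA := hA.nml_le w2.isPi ⟨zpowers_le.2 wK, norm_of_cent (cents_symm (zpowers_le.2 e))⟩
      (mem_zpowers w)
    exact b2 (e2 ▸ z2 w (ZA w wA e))
  rcases H23.IsComponent.eq_or_comm (H23.IsComponent.conj hK t) hK with e | e
  · have tA := zpowers_le.1 (norm_inf (zpowers_le.2 tQ) (zpowers_le.2 (mem_N_iff_cj.2 e)))
    have m : t * a0 * t⁻¹ ∈ Q ⊓ K := (mem_N.1 tA _).1 ha0
    by_cases k : a0 * (t * a0 * t⁻¹) ∈ C[K]
    · refine key a0 ha0 a0C (tf a0 ha0.1 ?_)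
      have h1 := ZA _ (mul_mem ha0 m) k
      rw [show t * a0 * t⁻¹ * a0⁻¹ = a0⁻¹ * (a0 * (t * a0 * t⁻¹)) * a0⁻¹ by group, zp _ h1, mul_assoc,
        ← mul_inv_rev]
      exact mul_mem h1 (inv_mem (sq a0 ha0.1))
    · refine key _ (mul_mem ha0 m) k (tf _ (mul_mem ha0 m).1 ?_)
      have ti : t⁻¹ = t := inv_eq_of_mul_eq_one_right tt
      have := cm _ m.1 _ ha0.1
      rwa [show t * (a0 * (t * a0 * t⁻¹)) * t⁻¹ * (a0 * (t * a0 * t⁻¹))⁻¹ =
        t * a0 * t⁻¹ * (t * t * a0 * (t * t)⁻¹) * (t * a0 * t⁻¹)⁻¹ * a0⁻¹ by group, tt, one_mul, inv_one,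
        mul_one]
  · have cc : ∀ a ∈ K, ∀ b ∈ K, t * a * t⁻¹ * b = b * (t * a * t⁻¹) := fun a ha b hb =>
      (mem_C.1 (comm_eq_bot.1 e (conj_mem_cj t ha)) b hb).symm
    let δ : K →* G := MonoidHom.mk' (fun k => k * (t * k * t⁻¹)) fun a b => by
      calc _ = a * (b * (t * a * t⁻¹)) * (t * b * t⁻¹) := by rw [coe_mul]; group
        _ = _ := by rw [← cc a a.2 b b.2]; group
    have h1 : δ.range ≤ C{t} := by
      rintro _ ⟨k, rfl⟩
      refine mem_C1_comm.1 (mem_C1_iff_conj.2 ?_)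
      change t * (k * (t * k * t⁻¹)) * t⁻¹ = k * (t * k * t⁻¹)
      rw [show t * (k * (t * k * t⁻¹)) * t⁻¹ = t * k * t⁻¹ * (t * t * k * (t * t)⁻¹) by group, tt,
        one_mul, inv_one, mul_one, cc k k.2 k k.2]
    have h2 : δ.range = ⊥ := perfect_eq_bot (by
      rw [MonoidHom.range_eq_map, ← Subgroup.map_commutator]
      exact congrArg _ hK.2.1.commutator_eq_top) (sol.of_le h1)
    refine a0C ?_
    have h3 : a0 * (t * a0 * t⁻¹) = 1 := mem_bot.1 (h2.le ⟨⟨a0, ha0.2⟩, rfl⟩)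
    rw [eq_inv_of_mul_eq_one_left h3]
    exact inv_mem (comm_eq_bot.1 e (conj_mem_cj t ha0.2))

theorem zQ (h : GD X G0 t D T S Q ρ z) : z ∈ Q := h.V_Q h.zV
theorem zz (h : GD X G0 t D T S Q ρ z) : z * z = 1 := X.el_V z h.zV

theorem ix (h : GD X G0 t D T S Q ρ z) (hf : f ∈ S) (hg : g ∈ S) :
    f * g ∈ Q ↔ (f ∈ Q ↔ g ∈ Q) := by
  have e := card_mul_relIndex h.Q_S
  rw [h.cardQ, h.cardS] at e
  exact mul_mem_iff_of_index_two (H := Q.subgroupOf S) (a := ⟨f, hf⟩) (b := ⟨g, hg⟩)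
    (show Q.relIndex S = 2 by omega)

theorem S_C (h : GD X G0 t D T S Q ρ z) : S ≤ G0 ⊓ C{z} := le_inf h.sylS.le h.Sz

/-- `Q` is strongly closed in `S` with respect to `C(z)` -/
theorem scQ (h : GD X G0 t D T S Q ρ z) (hf : f ∈ Q) (hg : g ∈ G0 ⊓ C{z}) (h1 : g * f * g⁻¹ ∈ S) :
    g * f * g⁻¹ ∈ Q := by
  have SC := S_C h
  have QC := h.Q_S.trans SC
  have zq : zpowers z ≤ Q := zpowers_le.2 (zQ h)
  obtain ⟨Y, _, _, φ, hφ⟩ := exists_quo (R := zpowers z) (H := G0 ⊓ C{z})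
    ⟨zq.trans QC, norm_of_cent (cents_symm (zpowers_le.2 (mem_C.2 fun x hx => mem_C1.1 hx.2)))⟩
  have mQ : ∀ x ∈ G0 ⊓ C{z}, ap φ x ∈ img φ Q → x ∈ Q := fun x hx e => by
    have := (hφ.mem_iff hx QC).1 e
    rwa [sup_eq_left.2 zq] at this
  have cz : ♯(zpowers z) = 2 := by
    rw [card_zpowers', orderOf_eq_prime (by rw [_root_.sq, zz h]) h.z1]
  have cd : ∀ A, zpowers z ≤ A → A ≤ G0 ⊓ C{z} → 2 * ♯(img φ A) = ♯A := fun A h1 h2 => by
    have := card_img_mul φ h2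
    rwa [hφ.ker, inf_eq_left.2 h1, cz] at this
  have SQ : S ≤ N[Q] := le_N_iff.2 fun a ha x hx => by
    rw [ix h (mul_mem ha (h.Q_S hx)) (inv_mem ha), ix h ha (h.Q_S hx), inv_mem_iff]
    tauto
  have := sc2 (H := ⊤) (hφ.img_top ▸ (h.sylS.of_le SC inf_le_left).img φ le_rfl)
    (img_mono φ h.Q_S) (fun a ha => by
      obtain ⟨x, hx, rfl⟩ := (mem_img_of_le QC).1 ha
      rw [← ap_mul φ (QC hx) (QC hx), hφ.ap_ker (h.sqQ x hx)]) (img_norm φ SQ) 2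
    (fun g _ A _ hA => by
      by_cases k : A ≤ img φ Q
      · exact LBx.card_le_two 1 fun a ha => .inl ⟨ha, k ha⟩
      obtain ⟨u, hu, uQ⟩ := SetLike.not_le_iff_exists.1 k
      refine LBx.card_le_two u fun a ha => or_iff_not_imp_left.2 fun e => ⟨mul_mem hu ha, ?_⟩
      obtain ⟨x, hx, rfl⟩ := (mem_img_of_le SC).1 (hA hu)
      obtain ⟨y, hy, rfl⟩ := (mem_img_of_le SC).1 (hA ha)
      rw [← ap_mul φ (SC hx) (SC hy)]
      exact ap_mem_img φ ((ix h hx hy).2 (iff_of_false (fun k => uQ (ap_mem_img φ k (SC hx)))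
        fun k => e ⟨ha, ap_mem_img φ k (SC hy)⟩)) (mul_mem (SC hx) (SC hy)))
    (fun g _ u _ hu uQ => by
      obtain ⟨x, hx, rfl⟩ := (mem_img_of_le SC).1 hu
      have h1 := h.free x hx (fun k => uQ (ap_mem_img φ k (SC hx))) (Q ⊓ pre φ C{ap φ x}) inf_le_left
        fun a ha => by
          have ac := QC ha.1
          rw [← hφ.eq_one (mul_mem (mul_mem (mul_mem (SC hx) ac) (inv_mem (SC hx))) (inv_mem ac)),
            ap_mul φ (mul_mem (mul_mem (SC hx) ac) (inv_mem (SC hx))) (inv_mem ac),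
            ap_conj φ (SC hx) ac, ap_inv φ ac, ← mem_C1.1 (mem_pre.1 ha.2).2]
          group
      have h2 := cd (Q ⊓ pre φ C{ap φ x}) (le_inf zq (hφ.le_pre _)) (inf_le_left.trans QC)
      have h3 := cd Q zq QC
      rw [img_inf_pre] at h2
      rw [h.cardQ] at h3
      omega)
    _ (ap_mem_img φ hf (QC hf)) (ap φ g) (mem_top _)
  rw [← ap_conj φ hg (QC hf)] at this
  exact mQ _ (SC h1) (this (ap_mem_img φ h1 (SC h1)))

theorem solC (h : GD X G0 t D T S Q ρ z) : Sol (C{z} ⊓ C{t} : Subgroup G) := by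
  have hL := h.toLz.toLc
  have h2 := hL.toLb.toSt2
  obtain ⟨b, hb⟩ := h.zV
  have b0 : b ≠ 0 := fun e => h.z1 (by rw [hb, e, X.z_zero])
  have nV : C{z} ⊓ C{t} ≤ N[X.V] := fun g hg => X.TI (h2.Ct g (mem_C1.1 hg.2)) b0 (by
    rw [← hb, mem_C1_iff_conj.1 hg.1]; exact h.zV)
  have le : X.E t ≤ C{z} ⊓ C{t} := fun e he =>
    ⟨mem_C1.2 ((h2.el_E X).abl.comm he (X.V_E t h.zV)), mem_C1.2 ((h2.el_E X).abl.comm he (X.t_E t))⟩
  have nE : C{z} ⊓ C{t} ≤ N[X.E t] := norm_sup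
    (norm_of_cent (cents_symm (zpowers_le.2 (mem_C.2 fun x hx => mem_C1.1 hx.2)))) nV
  have sy : Syl 2 (C{z} ⊓ C{t}) (X.E t) := (hL.T8 h.q8 ▸ hL.syl).of_le le inf_le_right
  obtain ⟨Y, _, _, φ, hφ⟩ := exists_quo (R := X.E t) ⟨le, nE⟩
  refine sol_of_img (f := φ) le_rfl ?_ (OddG.sol ((sy.img φ le_rfl).isPi_compl_of_eq_bot
    ((hφ.eq_bot le).2 le_rfl)))
  rw [hφ.ker]
  exact (h2.el_E X).abl.sol.of_le inf_le_left

end GBx

open GBx H26 H26.Gold H8.PC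

/-! ### GB -/
theorem GD.nocomp (h : GD X G0 t D T S Q ρ z) : ¬ IsComponentType G0 := by
  rintro ⟨x, hx, K0, hK0⟩
  have := h.nrm
  obtain ⟨J0, h0, -⟩ := H23.exists_isPComponent (p := 2) hK0
  obtain ⟨g, hg, eg⟩ := h.one x x.2 (by rw [← coe_mul, ← _root_.sq, ← hx, pow_orderOf_eq_one, coe_one])
    fun e => by rw [OneMemClass.coe_eq_one.1 e, orderOf_one] at hx; omega
  have h1 := ((H23.isPCompOf_map_subtype h0).map_of_injective G0.subtype_injective).conj g⁻¹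
  have e1 : ((centralizer {x}).map G0.subtype).map (MulAut.conj g⁻¹).toMonoidHom = G0 ⊓ C{z} := by
    have e2 : (centralizer {x}).map G0.subtype = G0 ⊓ C{(x : G)} := by
      ext y
      exact ⟨fun ⟨w, hw, e⟩ => e ▸ ⟨w.2, mem_C1.2 (congrArg Subtype.val (mem_C1.1 hw))⟩,
        fun ⟨h1, h2⟩ => ⟨⟨y, h1⟩, mem_C1.2 (Subtype.ext (mem_C1.1 h2)), rfl⟩⟩
    rw [e2, ← cj_def, cj_inf, cj_of_mem (inv_mem hg), cj_C1, eg]
    congr 3; group
  rw [e1] at h1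
  obtain ⟨J, h1⟩ : ∃ J, H23.IsPCompOf 2 J (G0 ⊓ C{z}) := ⟨_, h1⟩
  have nC : G0 ⊓ C{z} ⊴ C{z} := ⟨inf_le_right, norm_inf (norm_of_normal _ _) (norm_self _)⟩
  have hJ := h1.trans inf_le_right nC.sbn.2
  have hK : IsComponent (img (H23.piO 2 C{z}) J) := (H23.isPComponent_iff'.1 hJ.2).2.2
  have hφ : Quo (H23.piO 2 C{z}) Od[C{z}] := ⟨QuotientGroup.mk'_surjective _, by
    rw [pcore_compl_singleton Nat.prime_two, pre, MonoidHom.comap_bot, H23.ker_piO]⟩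
  generalize H23.piO 2 C{z} = φ at hK hφ
  have SC := S_C h
  have SH := h.Sz
  have QH := h.Q_S.trans SH
  have pQ : IsPi {2} Q := h.sylS.pi.of_le h.Q_S
  have zH : z ∈ C{z} := QH (zQ h)
  have tH : t ∈ C{z} := mem_C1.2 ((h.toLz.toLc.toLb.toSt2.el_E X).abl.comm (X.t_E t) (X.V_E t h.zV))
  have inj : ∀ x ∈ Q, ap φ x = 1 → x = 1 := fun x hx e =>
    (pQ.piElt hx).eq_one ((Od_odd _).piElt ((hφ.eq_one (QH hx)).1 e))
  have mz : ∀ x ∈ Q, ap φ x ∈ zpowers (ap φ z) → x ∈ zpowers z := fun x hx e => by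
    obtain ⟨n, e⟩ := e
    have := inj (x⁻¹ * z ^ n) (mul_mem (inv_mem hx) (zpow_mem (zQ h) n)) (by
      rw [ap_mul φ (inv_mem (QH hx)) (zpow_mem zH n), ap_inv φ (QH hx), ap_zpow φ zH, inv_mul_eq_one]
      exact e.symm)
    exact ⟨n, (inv_mul_eq_one.1 this).symm⟩
  have zm : ∀ x ∈ zpowers z, ap φ x ∈ zpowers (ap φ z) := fun x hx =>
    img_zpowers φ zH ▸ ap_mem_img φ hx (zpowers_le.2 zH hx)
  have s1 : Syl 2 (img φ J) (img φ S ⊓ img φ J) :=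
    ((sbn_top_iff.2 hK.1).of_le (img_mono φ h1.1) le_top).hall_inf
      ((h.sylS.of_le SC inf_le_left).img φ inf_le_right)
  have e2 : img φ S ⊓ img φ J = img φ Q ⊓ img φ J := by
    refine le_antisymm (le_inf (fun y ⟨y1, y2⟩ => ?_) inf_le_right)
      (inf_le_inf_right _ (img_mono φ h.Q_S))
    obtain ⟨s, hs, rfl⟩ := (mem_img_of_le SH).1 y1
    obtain ⟨j, hj, ej⟩ := (mem_img_of_le hJ.1).1 y2
    have o := (hφ.eq_iff (hJ.1 hj) (SH hs)).1 ej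
    have jC : j ∈ ⁅G0 ⊓ C{z}, G0 ⊓ C{z}⁆ := commutator_mono h1.1 h1.1 (h1.perfect.ge hj)
    obtain ⟨Y, _, _, ψ, hψ⟩ := exists_quo (der1_nml (G0 ⊓ C{z}))
    have e3 := ap_mul ψ (inv_mem (h1.1 hj)) (SC hs)
    rw [hψ.ap_ker (inv_mem jC), one_mul] at e3
    have e4 := ((h.sylS.pi.piElt hs).ap ψ (SC hs)).eq_one
      (e3 ▸ ((Od_odd _).piElt o).ap ψ (mul_mem (inv_mem (h1.1 hj)) (SC hs)))
    exact ap_mem_img φ (foc (h.sylS.of_le SC inf_le_left)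
      (fun x hx y hy xQ yQ => (ix h (inv_mem hx) hy).2 (iff_of_false (mt inv_mem_iff.1 xQ) yQ))
      (fun a ha g hg => scQ h ha hg) ((hψ.eq_one (SC hs)).1 e4) hs) (SH hs)
  refine core (z := ap φ z) (t := ap φ t) hK (e2 ▸ s1) (fun g => ?_) ?_ (pQ.img φ) (fun x hx y hy => ?_)
    (fun x hx => ?_) (fun x hx => ?_) (ap_mem_N φ h.tQ tH) ?_ (fun x hx e => ?_) ?_
  · obtain ⟨x, hx, rfl⟩ := hφ.exists_ap g
    rw [← ap_mul φ hx zH, mem_C1.1 hx, ap_mul φ zH hx]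
  · rw [← ap_mul φ zH zH, zz h, ap_one']
  · obtain ⟨a, ha, rfl⟩ := (mem_img_of_le QH).1 hx
    obtain ⟨b, hb, rfl⟩ := (mem_img_of_le QH).1 hy
    rw [← ap_commutator φ (QH ha) (QH hb)]
    exact zm _ (h.cm (commutator_mem_commutator ha hb))
  · obtain ⟨a, ha, rfl⟩ := (mem_img_of_le QH).1 hx
    rw [← ap_mul φ (QH ha) (QH ha)]
    exact zm _ (h.sqQ a ha)
  · obtain ⟨a, ha, rfl⟩ := (mem_img_of_le QH).1 hx.1
    refine zm _ (h.ZQ ⟨ha, mem_C.2 fun b hb => commutatorElement_eq_one_iff_mul_comm.1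
      (inj _ (comm_le_of_le le_rfl le_rfl (commutator_mem_commutator hb ha)) ?_)⟩)
    rw [ap_commutator φ (QH hb) (QH ha)]
    exact commutatorElement_eq_one_iff_mul_comm.2 (mem_C.1 hx.2 _ (ap_mem_img φ hb (QH hb)))
  · rw [← ap_mul φ tH tH, h.tt, ap_one']
  · obtain ⟨a, ha, rfl⟩ := (mem_img_of_le QH).1 hx
    have m : t * a * t⁻¹ ∈ Q := (mem_N.1 h.tQ _).1 ha
    rw [← ap_conj φ tH (QH ha), ← ap_inv φ (QH ha), ← ap_mul φ (QH m) (inv_mem (QH ha))] at e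
    rw [← ap_mul φ (QH ha) (QH ha), X.el_V a (h.tfix a ha (mz _ (mul_mem m (inv_mem ha)) e)), ap_one']
  · refine ((solC h).img φ).of_le fun y hy => ?_
    obtain ⟨g, hg, rfl⟩ := hφ.exists_ap y
    have tz : zpowers t ≤ C{z} := zpowers_le.2 tH
    obtain ⟨v, hv, hc⟩ := coprime_lift_cent (tz.trans hφ.nml.norm)
      (cop (Od_odd _) (H2.SZ.piElt_of_sq h.tt).isPi) (.inl (Od_sol _)) (g := g)
      fun a ha => (hφ.comm_le tz (zpowers_le.2 hg)).2 (by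
        rw [img_zpowers φ hg, img_zpowers φ tH]
        exact zpowers_le.2 (mem_C_iff_le_C1.2 (zpowers_le.2 hy)))
        (commutator_mem_commutator ha (mem_zpowers g))
    have := ap_mem_img φ (A := C{z} ⊓ C{t}) ⟨mul_mem (hφ.le hv) hg,
      mem_C1.2 (mem_C'.1 hc t (mem_zpowers t))⟩ (mul_mem (hφ.le hv) hg)
    rwa [ap_mul φ (hφ.le hv) hg, hφ.ap_ker hv, one_mul] at this

end H23.L2
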