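import Mathlib
import Cfsg.Agent.H23.LDefs
import Cfsg.Agent.H23.GB
import Cfsg.Agent.H23.LB
import Cfsg.Agent.H23.Components
import Cfsg.Agent.H2.ZL
import Cfsg.Agent.H3.Extraspecial
import Cfsg.Agent.H9.M24
import Cfsg.Agent.S0243
import Cfsg.Agent.S0280
import Cfsg.Agent.S1296
import Cfsg.Agent.H7.XMain
import Cfsg.Agent.S1619
import Cfsg.Agent.S1625

set_option autoImplicit false
set_option linter.unusedVariables false
set_option linter.unusedSectionVars false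

namespace H23.L2

open Cfsg H24 Subgroup
open H2.SZ (St DD Goal)
open scoped MatrixGroups commutatorElement

universe u

variable {G : Type u} [Group G] [Finite G] {F : Type*} [Field F] [Fintype F]
  {L G0 D T B R Q S S1 A P N M H : Subgroup G} {t f g i j ρ z u : G} {X : LD F L} {n : ℕ}
  {π s : G → F}

namespace GCx

/-- the elements acting trivially on `O / ⟨ζ⟩` -/
def Kz {Γ : Type*} [Group Γ] (O : Subgroup Γ) [hO : O.Normal] (ζ : Γ) (c : ∀ x, x * ζ = ζ * x)
    (e : ζ * ζ = 1) : Subgroup Γ where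
  carrier := {x | ∀ o ∈ O, x * o * x⁻¹ = o ∨ x * o * x⁻¹ = ζ * o}
  one_mem' := fun o _ => .inl (by simp)
  mul_mem' := by
    intro x y hx hy o ho
    have e1 : x * y * o * (x * y)⁻¹ = x * (y * o * y⁻¹) * x⁻¹ := by group
    have e2 : x * (ζ * o) * x⁻¹ = ζ * (x * o * x⁻¹) := by rw [← mul_assoc, c x]; group
    rw [e1]
    rcases hy o ho with a | a <;> rw [a]
    · exact hx o ho
    · rw [e2]
      rcases hx o ho with b | b <;> rw [b]
      · exact .inr rfl
      · exact .inl (by rw [← mul_assoc, e, one_mul])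
  inv_mem' := by
    intro x hx o ho
    have e1 : x * (x⁻¹ * o * x⁻¹⁻¹) * x⁻¹ = o := by group
    rcases hx _ (hO.conj_mem o ho x⁻¹) with a | a <;> rw [e1] at a
    · exact .inl a.symm
    · exact .inr (by rw [a, ← mul_assoc ζ ζ, e, one_mul, ← a])

theorem Kz_le {Γ : Type*} [Group Γ] (hc : IsOfCharacteristicTwo Γ) {ζ : Γ}
    (c : ∀ x, x * ζ = ζ * x) (e : ζ * ζ = 1) : Kz (pCore 2 Γ) ζ c e ≤ pCore 2 Γ := by
  refine H2.le_pCore ⟨fun x hx y o ho => ?_⟩ fun ⟨x, hx⟩ => ?_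
  · have e1 : y * x * y⁻¹ * o * (y * x * y⁻¹)⁻¹ = y * (x * (y⁻¹ * o * y⁻¹⁻¹) * x⁻¹) * y⁻¹ := by group
    rw [e1]
    rcases hx _ ((inferInstance : (pCore 2 Γ).Normal).conj_mem o ho y⁻¹) with a | a <;> rw [a]
    · exact .inl (by group)
    · exact .inr (by rw [← mul_assoc y ζ, c y]; group)
  · have h2 : x * x ∈ pCore 2 Γ := hc (mem_centralizer_iff.2 fun o ho => by
      have e1 : x * x * o * (x * x)⁻¹ = x * (x * o * x⁻¹) * x⁻¹ := by group
      have e2 : x * (ζ * o) * x⁻¹ = ζ * (x * o * x⁻¹) := by rw [← mul_assoc, c x]; group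
      refine (mul_inv_eq_iff_eq_mul.1 ?_).symm
      rw [e1]
      rcases hx o ho with a | a
      · rw [a, a]
      · rw [a, e2, a, ← mul_assoc, e, one_mul])
    obtain ⟨m, hm⟩ := H2.pCore_isPGroup 2 Γ ⟨_, h2⟩
    refine ⟨m + 1, Subtype.ext ?_⟩
    have := congrArg Subtype.val hm
    simp only [SubgroupClass.coe_pow, OneMemClass.coe_one] at this ⊢
    rw [pow_succ', pow_mul, pow_two, this]

theorem zz (h : GD X G0 t D T S Q ρ z) : z * z = 1 := X.el_V z h.zV

theorem zG (h : GD X G0 t D T S Q ρ z) : z ∈ G0 := h.le (X.V_le h.zV)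

section
variable {Γ : Type*} [Group Γ] [Finite Γ] (h : GD X G0 t D T S Q ρ z) {ι : Γ →* G}
  (hι : Function.Injective ι) (hr : ι.range = G0 ⊓ C{z}) {ζ : Γ} (hζ : ι ζ = z)
include h hι hr hζ

theorem cen (x : Γ) : x * ζ = ζ * x := hι (by
  rw [map_mul, map_mul, hζ]
  exact mem_C1.1 (hr.le (⟨x, rfl⟩ : ι x ∈ ι.range)).2)

theorem ζζ : ζ * ζ = 1 := hι (by rw [map_mul, hζ, zz h, map_one])

theorem two {x : Γ} (hx : ι x ∈ zpowers z) : x = 1 ∨ x = ζ :=
  ((H2.SZ.mem_zp_inv (zz h)).1 hx).imp (fun e => hι (e.trans (map_one _).symm))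
    fun e => hι (e.trans hζ.symm)

theorem zp {x : Γ} (hx : ι x ∈ zpowers z) : x ∈ zpowers ζ := by
  rcases two h hι hr hζ hx with rfl | rfl
  exacts [one_mem _, mem_zpowers _]

theorem SC : S ≤ ι.range := hr ▸ le_inf h.sylS.le h.Sz

theorem card_Q : Nat.card (Q.comap ι) = 32 := by
  rw [← card_map_of_injective hι, map_comap_eq_self (h.Q_S.trans (SC h hι hr hζ)), h.cardQ]

theorem core (hc : IsOfCharacteristicTwo Γ) : pCore 2 Γ = Q.comap ι := by
  have hO2 : IsPi {2} ((pCore 2 Γ).map ι) :=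
    isPi_of_isPGroup Nat.prime_two ((H2.pCore_isPGroup 2 Γ).map _)
  have hn : ι.range ≤ N[(pCore 2 Γ).map ι] := by
    rintro _ ⟨y, rfl⟩
    refine mem_N_of_finite ?_
    rintro _ ⟨o, ho, rfl⟩
    exact ⟨y * o * y⁻¹, (inferInstance : (pCore 2 Γ).Normal).conj_mem o ho y, by simp⟩
  have OS : (pCore 2 Γ).map ι ≤ S :=
    h.sylS.le_of_norm' hO2 ((map_le_range _ _).trans (hr ▸ inf_le_left)) ((SC h hι hr hζ).trans hn)
  have OQ : (pCore 2 Γ).map ι ≤ Q := by
    have h1 : Q ⊔ (pCore 2 Γ).map ι ≤ S := sup_le h.Q_S OS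
    obtain ⟨m, hm⟩ := H24.card_dvd (le_sup_left : Q ≤ Q ⊔ (pCore 2 Γ).map ι)
    have h2 := H24.card_dvd h1
    rw [hm, h.cardQ, h.cardS] at h2
    rcases (Nat.dvd_prime Nat.prime_two).1 (Nat.dvd_of_mul_dvd_mul_left (by norm_num : 0 < 32) h2)
      with rfl | rfl
    · exact le_sup_right.trans (eq_of_card_eq le_sup_left (by rw [hm, mul_one])).ge
    · refine absurd ?_ h.ρS
      rw [← eq_of_card_eq h1 (by rw [hm, h.cardQ, h.cardS])]
      exact normalizer_inf_normalizer_le_normalizer_sup _ _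
        ⟨h.ρQ, hn (hr ▸ ⟨h.ρG, mem_C1.2 h.ρz⟩)⟩
  refine le_antisymm (map_le_iff_le_comap.1 OQ) fun x hx =>
    Kz_le hc (cen h hι hr hζ) (ζζ h hι hr hζ) fun o ho => ?_
  have h1 : ι ⁅x, o⁆ ∈ zpowers z := by
    rw [map_commutatorElement]
    exact h.cm (commutator_mem_commutator hx (OQ ⟨o, ho, rfl⟩))
  rw [commutatorElement_def] at h1
  exact (two h hι hr hζ h1).imp (fun e => mul_inv_eq_one.1 e) fun e => mul_inv_eq_iff_eq_mul.1 e

theorem ord : orderOf ζ = 2 :=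
  orderOf_eq_prime (by rw [pow_two, ζζ h hι hr hζ]) fun e => h.z1 (by rw [← hζ, e, map_one])

theorem xs : IsExtraspecial 2 (Q.comap ι) := by
  refine H3.XS.isExtraspecial (z := ζ) ⟨ord h hι hr hζ, ?_, fun x _ => (cen h hι hr hζ x).symm,
    fun x hx y hy => zp h hι hr hζ ?_, fun x hx => zp h hι hr hζ ?_,
    fun x hx hc => zp h hι hr hζ (h.ZQ ⟨hx, mem_centralizer_iff.2 fun y hy => ?_⟩)⟩ fun e => ?_
  · change ι ζ ∈ Q
    rw [hζ]; exact h.V_Q h.zV
  · rw [map_commutatorElement]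
    exact h.cm (commutator_mem_commutator hx hy)
  · rw [pow_two, map_mul]
    exact h.sqQ _ hx
  · obtain ⟨y, rfl⟩ := SC h hι hr hζ (h.Q_S hy)
    rw [← map_mul, ← map_mul, (hc y hy).eq]
  · have := card_Q h hι hr hζ
    rw [← e, Nat.card_zpowers, ord h hι hr hζ] at this
    omega

end

theorem card_mod (h : GD X G0 t D T S Q ρ z) : Nat.card G0 % 128 = 64 := by
  have h1 := h.sylS.card
  have h2 := h.sylS.not_dvd Nat.prime_two
  rw [h.cardS] at h1
  omega

theorem seven (h : GD X G0 t D T S Q ρ z) : Nat.card G0 % 7 = 0 := by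
  have h1 := H24.card_dvd h.le
  rw [X.card, h.q8] at h1
  omega

theorem char2 (h : GD X G0 t D T S Q ρ z) : IsCharacteristicTwoType G0 := by
  have := h.simple
  have hm := card_mod h
  rcases Cfsg.Agent.S1296.result (G := G0) (Nat.even_iff.2 (by omega)) (fun K hK e => by
      rcases hK.eq_bot_or_eq_top with rfl | rfl
      · rw [index_bot] at e; omega
      · rw [index_top] at e; omega) (by
      refine (inferInstance : (oddCore G0).Normal).eq_bot_or_eq_top.resolve_right fun e => ?_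
      have := H2.not_dvd_card_pPrimeCore 2 G0
      rw [show pPrimeCore 2 G0 = ⊤ from e, card_top] at this
      omega) with e | e | e
  · have hV : X.V ≤ G0 := X.V_le.trans h.le
    have := e (X.V.subgroupOf G0) ⟨⟨fun a b => Subtype.ext (Subtype.ext (by
      obtain ⟨c, hc⟩ := mem_subgroupOf.1 a.2
      obtain ⟨d, hd⟩ := mem_subgroupOf.1 b.2
      change a.1.1 * b.1.1 = b.1.1 * a.1.1
      rw [hc, hd, X.z_comm]))⟩⟩ fun a ha => Subtype.ext (by
      rw [pow_two]; exact X.el_V _ ha)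
    rw [Nat.card_congr (subgroupOfEquivOfLe hV).toEquiv, X.card_V, h.q8] at this
    omega
  · exact absurd e h.nocomp
  · exact e

/-- two involutions of `G0` are conjugate -/
theorem conj (h : GD X G0 t D T S Q ρ z) {Y : Type*} [Group Y] (e : G0 ≃* Y) {a b : Y}
    (a2 : a * a = 1) (a1 : a ≠ 1) (b2 : b * b = 1) (b1 : b ≠ 1) : IsConj a b := by
  have key : ∀ c : Y, c * c = 1 → c ≠ 1 → IsConj (e ⟨z, zG h⟩) c := fun c c2 c1 => by
    obtain ⟨y, hy, ey⟩ := h.one (e.symm c) (e.symm c).2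
      (by rw [← coe_mul, ← map_mul, c2, map_one, coe_one])
      fun e1 => c1 (e.symm.injective ((Subtype.ext e1).trans (map_one _).symm))
    refine isConj_iff.2 ⟨e ⟨y, hy⟩, e.symm.injective (Subtype.ext ?_)⟩
    rw [ey]; simp
  exact (key a a2 a1).symm.trans (key b b2 b1)

theorem alt (h : GD X G0 t D T S Q ρ z) {α : Type} [Fintype α] [DecidableEq α]
    (e : G0 ≃* alternatingGroup α) (a b : Equiv.Perm α) (ha : Equiv.Perm.sign a = 1)
    (hb : Equiv.Perm.sign b = 1) (a2 : a * a = 1) (a1 : a ≠ 1) (b2 : b * b = 1) (b1 : b ≠ 1) :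
    a.support.card = b.support.card := by
  obtain ⟨c, hc⟩ := isConj_iff.1 (conj h e (a := ⟨a, ha⟩) (b := ⟨b, hb⟩) (Subtype.ext a2)
    (fun e1 => a1 (congrArg Subtype.val e1)) (Subtype.ext b2)
    fun e1 => b1 (congrArg Subtype.val e1))
  have : c.1 * a * c.1⁻¹ = b := congrArg Subtype.val hc
  rw [← this, Equiv.Perm.card_support_conj]

end GCx

/-! ### GC -/
theorem GD.goal (h : GD X G0 t D T S Q ρ z) : Gl (Fintype.card F) G0 := by
  have := h.simple
  let ζ : G0 := ⟨z, GCx.zG h⟩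
  have hz : orderOf ζ = 2 :=
    orderOf_eq_prime (Subtype.ext (by rw [pow_two]; exact GCx.zz h))
      fun e => h.z1 (congrArg Subtype.val e)
  have hN : N[zpowers ζ] = C{ζ} := by
    refine le_antisymm (fun y hy => ?_) (norm_zpowers_of_cent le_rfl)
    have z2 : ζ * ζ = 1 := Subtype.ext (GCx.zz h)
    rcases (H2.SZ.mem_zp_inv z2).1 (H24.conj_mem hy (mem_zpowers ζ)) with e | e
    · exact absurd (congrArg Subtype.val (conj_eq_one_iff.1 e)) h.z1
    · exact mem_C1_iff_conj.2 e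
  have hc : IsOfCharacteristicTwo C{ζ} := hN ▸ (GCx.char2 h).2 (zpowers ζ)
    (IsPGroup.of_card (n := 1) (by rw [Nat.card_zpowers, hz, pow_one]))
    (zpowers_ne_bot.2 fun e => h.z1 (congrArg Subtype.val e))
  let ι : C{ζ} →* G := G0.subtype.comp (C{ζ}).subtype
  have hι : Function.Injective ι := G0.subtype_injective.comp (C{ζ}).subtype_injective
  have hr : ι.range = G0 ⊓ C{z} := by
    ext y
    refine ⟨?_, fun hy => ⟨⟨⟨y, hy.1⟩, mem_C1.2 (Subtype.ext (mem_C1.1 hy.2))⟩, rfl⟩⟩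
    rintro ⟨y, rfl⟩
    exact ⟨y.1.2, mem_C1.2 (congrArg Subtype.val (mem_C1.1 y.2))⟩
  have hζ : ι ⟨ζ, mem_C1.2 rfl⟩ = z := rfl
  have hF : generalizedFittingSubgroup C{ζ} = Q.comap ι := by
    rw [← GCx.core h hι hr hζ hc, H23.fstar_eq_pCore_iff]; exact hc
  have hT : generalizedFittingSubgroup G0 = ⊤ :=
    (H23.fstar_normal G0).eq_bot_or_eq_top.resolve_left H23.fstar_ne_bot
  have ε : G0 ≃* generalizedFittingSubgroup G0 :=
    (hT ▸ topEquiv : generalizedFittingSubgroup G0 ≃* G0).symm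
  have hm := GCx.card_mod h
  have h7 := GCx.seven h
  have cd : ∀ {Y : Type} [Group Y], generalizedFittingSubgroup G0 ≃* Y →
      Nat.card Y % 128 = 64 ∧ Nat.card Y % 7 = 0 :=
    fun e => Nat.card_congr (ε.trans e).toEquiv ▸ ⟨hm, h7⟩
  have hL := H7.X32.s1759 hz (hF ▸ GCx.xs h hι hr hζ) (by rw [hF, GCx.card_Q h hι hr hζ])
    (ε.isSimpleGroup_congr.1 inferInstance) fun hc => X.nab (abl_iff.2 fun a ha b hb =>
      congrArg Subtype.val (ε.injective (a₁ := ⟨b, h.le hb⟩ * ⟨a, h.le ha⟩)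
        (a₂ := ⟨a, h.le ha⟩ * ⟨b, h.le hb⟩) (by rw [map_mul, map_mul]; exact hc.is_comm.comm _ _)))
  rcases hL with ⟨E, _, _, hE, ⟨⟨e⟩⟩ | ⟨⟨e⟩⟩⟩ | ⟨E, _, _, hE, ⟨e⟩⟩ | ⟨E, _, _, hE, ⟨⟨e⟩⟩ | ⟨⟨e⟩⟩⟩ |
    ⟨⟨e⟩⟩ | ⟨⟨e⟩⟩ | ⟨⟨e⟩⟩ | ⟨⟨e⟩⟩ | ⟨E, _, _, ω, hE, hω, ⟨e⟩⟩
  · have h1 := Cfsg.Agent.S0280.result (F := E) (q := 3) hE 3 (by norm_num)
    have h2 := cd e
    simp only [Finset.prod_range_succ, Finset.prod_range_zero] at h1
    norm_num at h1
    omega
  · have h1 := Cfsg.Agent.S0280.result (F := E) (q := 3) hE 4 (by norm_num)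
    have h2 := cd e
    simp only [Finset.prod_range_succ, Finset.prod_range_zero] at h1
    norm_num at h1
    omega
  · have h1 := Cfsg.Agent.S0280.result (F := E) (q := 2) hE 4 (by norm_num)
    have h2 := cd e
    simp only [Finset.prod_range_succ, Finset.prod_range_zero] at h1
    norm_num at h1
    omega
  · have h1 := Cfsg.Agent.S0243.result (F := E) hE 4 (by norm_num)
    have h2 := cd e
    simp only [Fin.prod_univ_four] at h1
    norm_num at h1
    omega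
  · exact .inr (.inr ⟨h.q8, E, inferInstance, inferInstance, hE, ⟨ε.trans e⟩⟩)
  · exact absurd (GCx.alt h (ε.trans e) (Equiv.swap 0 1 * Equiv.swap 2 3)
      (Equiv.swap 0 1 * Equiv.swap 2 3 * (Equiv.swap 4 5 * Equiv.swap 6 7)) (by decide) (by decide)
      (by decide) (by decide) (by decide) (by decide)) (by decide)
  · exact absurd (GCx.alt h (ε.trans e) (Equiv.swap 0 1 * Equiv.swap 2 3)
      (Equiv.swap 0 1 * Equiv.swap 2 3 * (Equiv.swap 4 5 * Equiv.swap 6 7)) (by decide) (by decide)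
      (by decide) (by decide) (by decide) (by decide)) (by decide)
  · have h2 := cd e
    rw [H9.card_M12] at h2
    omega
  · have h2 := cd e
    rw [Cfsg.Agent.S1619.result.2.2.2] at h2
    omega
  · have h2 := cd e
    rw [(Cfsg.Agent.S1625.result E hE ω hω).2.2.1] at h2
    omega

end H23.L2
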