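import Mathlib
import Cfsg.Agent.H23.LDefs
import Cfsg.Agent.H23.LC
import Cfsg.Agent.H23.LE
import Cfsg.Agent.H2.ZR
import Cfsg.Agent.H2.ZE
import Cfsg.Agent.S0494
import Cfsg.Agent.S1644

set_option autoImplicit false
set_option linter.unusedVariables false
set_option linter.unusedSectionVars false

namespace H23.L2

open Cfsg H24 Subgroup
open H2.SZ (St DD Goal)
open scoped MatrixGroups commutatorElement

universe u

variable {G : Type u} [Group G] [Finite G] {F : Type*} [Field F] [Fintype F]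
  {L G0 D T B R Q S S1 A P N M H : Subgroup G} {t f g i j ρ z u : G} {X : LD F L} {n : ℕ}
  {π s : G → F}

/-! ### L1 -/
namespace L1x

theorem φ_E (h : Lc X G0 t D T) (e : f ∈ X.E t) : X.φ f = 1 := by
  obtain ⟨b, rfl | rfl⟩ := (h.toSt2.mem_E X).1 e
  · exact X.φ_L (X.z_mem b)
  · rw [X.φ_mul _ (C_le_N _ h.tC) _ (norm_self L (X.z_mem b)), X.φ_C h.tC, X.φ_L (X.z_mem b),
      mul_one]

theorem TE (h : Lc X G0 t D T) (dz : ∀ b, b ≠ 0 → DD t (X.z b)) : T = X.E t := by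
  refine le_antisymm (fun g hg => ?_) h.toLb.E_T
  have h0 : ⁅T, T⁆ = ⊥ := by
    by_contra hn
    obtain ⟨x, hx, x1⟩ := exists_ne_one (IsPi.inf_C_ne_bot Nat.prime_two h.syl.pi
      (h.syl.pi.of_le (der1_le T)) (norm_comm (norm_self T) (norm_self T)) hn)
    obtain ⟨b, rfl⟩ := h.comm_T hx.1
    obtain ⟨k, hk, e⟩ := h.toSt.fus h.syl (dz b fun e => x1 (X.z_eq_one.2 e))
      (mem_C_iff_le_C1.1 hx.2)
    have h1 : X.z b ∈ ⁅T, T⁆ := hx.1
    rw [e, conj_mem_iff (norm_comm le_rfl le_rfl hk)] at h1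
    exact h.toSt2.tV X (h.comm_T h1)
  exact h.two_E (C_anti h.V_T ((der1_eq_bot.1 h0).le_C hg)) (mem_C1.1 (h.syl.le hg))
    (h.syl.pi.piElt hg)

theorem allD (h : Lc X G0 t D (X.E t)) (dz : ∀ b, b ≠ 0 → DD t (X.z b)) (hu : u ∈ X.E t)
    (u1 : u ≠ 1) : DD t u := by
  have k : DD t (t * X.z 1) := by
    by_contra hn
    have nd : ∀ c, c ≠ 0 → ¬ DD t (t * X.z c) := fun c hc e =>
      hn ((h.toSt2.dz X hc one_ne_zero).2 e)
    obtain ⟨g, hg, e⟩ := h.toSt.fus h.syl (dz 1 one_ne_zero)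
      ((h.toSt2.el_E X).abl.le_C.trans (C_le_C1 (X.V_E t (X.z_V 1))))
    have k2 : ∀ c, c ≠ 0 → ∃ d, g⁻¹ * (t * X.z c) * g = t * X.z d := fun c hc => by
      obtain ⟨d, e | e⟩ := (h.toSt2.mem_E X).1
        (H24.conj_mem' hg (mul_mem (X.t_E t) (X.V_E t (X.z_V c))))
      · by_cases hd : d = 0
        · rw [hd, X.z_zero] at e
          have : t * X.z c = 1 := by
            calc _ = g * (g⁻¹ * (t * X.z c) * g) * g⁻¹ := by group
              _ = 1 := by rw [e]; group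
          refine (h.toSt2.tV X ?_).elim
          rw [eq_inv_of_mul_eq_one_left this]
          exact inv_mem (X.z_V c)
        · have := (dz d hd).conj g
          rw [← e, show g * (g⁻¹ * (t * X.z c) * g) * g⁻¹ = t * X.z c by group] at this
          exact (nd c hc this).elim
      · exact ⟨d, e⟩
    obtain ⟨c, c0, c1, -⟩ := X.exists_ne 0 1 1
    obtain ⟨d, e1⟩ := k2 c c0
    obtain ⟨d', e2⟩ := k2 (c + 1) fun e => c1 (X.eq_of_add e)
    have p : ∀ a b, t * X.z a * (t * X.z b) = X.z (a + b) := fun a b => by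
      rw [mul_assoc, ← mul_assoc (X.z a), h.toSt2.tz X, ← mul_assoc, ← mul_assoc, h.tt, one_mul,
        X.z_mul]
    refine h.toSt2.tV X ⟨d + d', ?_⟩
    rw [← p, ← e1, ← e2]
    calc t = g⁻¹ * X.z 1 * g := by rw [e]; group
      _ = g⁻¹ * (t * X.z c * (t * X.z (c + 1))) * g := by
        rw [p, ← add_assoc, X.add_self, zero_add]
      _ = _ := by group
  obtain ⟨b, rfl | rfl⟩ := (h.toSt2.mem_E X).1 hu
  · exact dz b fun e => u1 (X.z_eq_one.2 e)
  · by_cases hb : b = 0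
    · rw [hb, X.z_zero, mul_one]; exact DD.refl t
    · exact (h.toSt2.dz X one_ne_zero hb).2 k

theorem syl (h : Lc X G0 t D (X.E t)) (dz : ∀ b, b ≠ 0 → DD t (X.z b)) : Syl 2 ⊤ (X.E t) := by
  obtain ⟨S, hS, TS⟩ := Sylow_superset Nat.prime_two h.syl.pi le_top
  have tS := TS (X.t_E t)
  obtain ⟨c, hc, c1⟩ := exists_ne_one (IsPi.inf_C_ne_bot Nat.prime_two hS.pi hS.pi (norm_self S)
    (ne_bot_of_mem tS h.t1))
  exact hS.of_card_le le_top h.syl.pi (h.toLb.card_le (allD h dz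
    (h.toLb.cen hS.pi TS hc.1 (mem_C'.1 hc.2 t tS)) c1) hS.pi (mem_C_iff_le_C1.1 hc.2))

theorem se (h : Lc X G0 t D (X.E t)) (dz : ∀ b, b ≠ 0 → DD t (X.z b)) (tG : t ∈ G0)
    (hD : D ≠ ⊥) : IsLieTypeChar 2 G0 := by
  have hS := syl h dz
  have top := h.toSt2.top tG
  have c1 : C{t} ≤ N[D] := fun g hg => mem_N_of_finite fun d hd => by
    have h1 : g * d * g⁻¹ ∈ C[L] := H24.conj_mem (norm_C le_rfl (h.Ct g (mem_C1.1 hg))) (h.D_L hd)
    exact h.odd_D (C_anti X.V_le h1) (mem_C1.1 (mul_mem (mul_mem hg (h.D_t hd)) (inv_mem hg)))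
      ((h.odd.piElt hd).conj g)
  have c2 : N[X.E t] ≤ N[D] := fun g hg => mem_N_of_finite fun d hd => by
    have h1 : g * d * g⁻¹ ∈ C[X.E t] := H24.conj_mem (norm_C le_rfl hg) (h.D_E hd)
    exact h.odd_D (C_anti (X.V_E t) h1) (mem_C'.1 h1 t (X.t_E t)) ((h.odd.piElt hd).conj g)
  have cj1 : ∀ u ∈ N[D], u * u = 1 → u ≠ 1 → ∃ m ∈ N[D], u = m * t * m⁻¹ := fun u hu uu u1 => by
    obtain ⟨l, hl, e⟩ := Sylow_Jsub Nat.prime_two (hS.of_le ((norm_self _).trans c2) le_top)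
      (H2.SZ.piElt_of_sq uu).isPi (zpowers_le.2 hu)
    have h1 := e (conj_mem_cj l (mem_zpowers u))
    obtain ⟨k, hk, ek⟩ := h.toSt.fus h.syl (allD h dz h1 fun e => u1 (by simpa using e))
      ((h.toSt2.el_E X).abl.le_C.trans (C_le_C1 h1))
    refine ⟨l⁻¹ * k, mul_mem (inv_mem hl) (c2 hk), ?_⟩
    calc u = l⁻¹ * (l * u * l⁻¹) * l := by group
      _ = _ := by rw [ek]; group
  have := h.simple
  have : Fact (Nat.Prime 2) := ⟨Nat.prime_two⟩
  refine h.toSt.se (M := N[D].subgroupOf G0) ⟨fun e => ?_, ?_, fun g hg => ?_⟩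
  · have h1 : G0 ≤ N[D] := subgroupOf_eq_top.1 e
    rcases (Nml.normal ⟨top ▸ le_top, h1⟩ : (D.subgroupOf G0).Normal).eq_bot_or_eq_top with e | e
    · exact hD (eq_bot_of_le (subgroupOf_eq_bot.1 e).eq_bot (le_inf le_rfl (top ▸ le_top)))
    · exact h.t1 ((H2.SZ.piElt_of_sq h.tt).eq_one (h.odd.piElt (subgroupOf_eq_top.1 e tG)))
  · have := orderOf_dvd_card' (H := N[D].subgroupOf G0) (x := ⟨t, tG⟩) (c1 (self_mem_C1 t))
    rw [← orderOf_coe, orderOf_eq_prime (p := 2) (by rw [sq, h.tt]) h.t1] at this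
    exact even_iff_two_dvd.2 this
  · refine Nat.not_even_iff_odd.1 fun e => hg ?_
    obtain ⟨⟨u, hu, v, hv, rfl⟩, ho⟩ := exists_prime_orderOf_dvd_card' 2 e.two_dvd
    rw [← orderOf_coe, ← orderOf_coe] at ho
    change orderOf ((g : G) * v * (g : G)⁻¹) = 2 at ho
    have o2 : orderOf (v : G) = 2 := by rwa [orderOf_conj] at ho
    have k : ∀ x : G, orderOf x = 2 → x * x = 1 ∧ x ≠ 1 := fun x hx =>
      ⟨by rw [← sq, ← hx, pow_orderOf_eq_one], fun e => by simp [e] at hx⟩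
    obtain ⟨m, hm, e1⟩ := cj1 _ hu (k _ ho).1 (k _ ho).2
    obtain ⟨m', hm', e2⟩ := cj1 _ hv (k _ o2).1 (k _ o2).2
    change (g : G) * v * (g : G)⁻¹ = _ at e1
    change (v : G) = _ at e2
    have h1 : m⁻¹ * g * m' ∈ N[D] := c1 (mem_C1_iff_conj.2 (by
      calc _ = m⁻¹ * (g * (m' * t * m'⁻¹) * (g : G)⁻¹) * m := by group
        _ = t := by rw [← e2, e1]; group))
    exact (mul_mem_cancel_left (inv_mem hm)).1 ((mul_mem_cancel_right hm').1 h1)

theorem dec (h : Lc X G0 t ⊥ (X.E t)) (h4 : Fintype.card F = 4) (hg : g ∈ C{t}) :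
    ∃ k ∈ zpowers t, ∃ l ∈ L, g = k * l := by
  have nL : C{t} ≤ N[L] := fun g hg => h.Ct g (mem_C1.1 hg)
  have h1 : X.φ (constt {2} g) = 1 := by
    obtain ⟨l, hl, e⟩ := Sylow_Jsub Nat.prime_two h.syl (piElt_constt {2} g).isPi
      (zpowers_le.2 (constt_mem _ hg))
    rw [← X.φ_conj (nL hl) (nL (constt_mem _ hg))]
    exact φ_E h (e (conj_mem_cj l (mem_zpowers _)))
  have h2 : X.φ (constt {2}ᶜ g) = 1 := by
    by_contra hn
    obtain ⟨m, hm⟩ := H26.Gold.oddE_iff.1 (piElt_constt {2}ᶜ g)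
    have := X.φ_pow (nL (constt_mem {2}ᶜ hg)) (2 * m + 1)
    rw [← hm, pow_orderOf_eq_one, X.φ_one, hm, pow_succ, pow_mul, sq, aut_four h4 hn hn, one_pow,
      one_mul] at this
    exact hn this.symm
  obtain ⟨l, hl, k, hk, rfl⟩ := (X.φ_ker g (nL hg)).1 (by
    rw [← constt_mul_constt {2} g, X.φ_mul _ (nL (constt_mem _ hg)) _ (nL (constt_mem _ hg)), h1, h2,
      mul_one])
  have h3 := (mul_mem_cancel_left (mem_C_iff_le_C1.1 h.tC hl)).1 hg
  refine ⟨k, ?_, l, hl, (mem_C'.1 hk l hl).symm⟩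
  rcases h.dec k hk (mem_C1.1 h3) with e | e <;> rw [mem_bot] at e
  · rw [e]; exact one_mem _
  · rw [eq_inv_of_mul_eq_one_left e]; exact inv_mem (mem_zpowers t)

theorem iso (h : Lc X G0 t ⊥ (X.E t)) (h4 : Fintype.card F = 4) :
    Nonempty (C{t} ≃* Multiplicative (ZMod 2) × alternatingGroup (Fin 5)) := by
  have : Fact (Nat.Prime 2) := ⟨Nat.prime_two⟩
  have := X.simple
  obtain ⟨e5⟩ := Cfsg.Agent.S0494.result (G := L) (by rw [X.card, h4]; norm_num)
  have e : Multiplicative (ZMod 2) ≃* zpowers t := mulEquivOfPrimeCardEq (p := 2) (by simp)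
    (by rw [card_zpowers', orderOf_eq_prime (p := 2) (by rw [sq, h.tt]) h.t1])
  have tc : zpowers t ≤ C[L] := zpowers_le.2 h.tC
  let f := ((zpowers t).subtype.comp e.toMonoidHom).noncommCoprod
    (L.subtype.comp e5.symm.toMonoidHom) fun a y => mem_C'.1 (tc (e a).2) _ (e5.symm y).2
  have hf : ∀ x, f x ∈ C{t} := fun x =>
    mul_mem (zpowers_le_C1 t (e x.1).2) (mem_C_iff_le_C1.1 h.tC (e5.symm x.2).2)
  refine ⟨(MulEquiv.ofBijective (f.codRestrict _ hf)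
    ⟨(injective_iff_map_eq_one _).2 fun x hx => ?_, fun g => ?_⟩).symm⟩
  · have := mul_eq_mul_of_inf (eq_bot_of_le X.CL (le_inf inf_le_right (inf_le_left.trans tc)))
      (e x.1).2 (one_mem _) (e5.symm x.2).2 (one_mem _)
      ((congrArg Subtype.val hx).trans (mul_one 1).symm)
    exact Prod.ext (e.map_eq_one_iff.1 (Subtype.ext this.1))
      (e5.symm.map_eq_one_iff.1 (Subtype.ext this.2))
  · obtain ⟨k, hk, l, hl, eg⟩ := dec h h4 g.2
    refine ⟨(e.symm ⟨k, hk⟩, e5 ⟨l, hl⟩), Subtype.ext ?_⟩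
    change ((e (e.symm _) : zpowers t) : G) * ((e5.symm (e5 _) : L) : G) = _
    rw [e.apply_symm_apply, e5.symm_apply_apply, eg]

end L1x
open L1x

theorem Lc.zn (h : Lc X G0 t D T) : Gl (Fintype.card F) G0 ∨ ∀ b, ¬ DD t (X.z b) := by
  refine or_iff_not_imp_right.2 fun hn => ?_
  push Not at hn
  obtain ⟨b, hb⟩ := hn
  have b0 : b ≠ 0 := by
    rintro rfl
    obtain ⟨g, e⟩ := hb
    exact h.t1 (by simpa [X.z_zero] using e.symm)
  have dz : ∀ c, c ≠ 0 → DD t (X.z c) := fun c hc => (h.toSt2.dz X b0 hc).1 hb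
  obtain rfl := TE h dz
  have hS := syl h dz
  have tG : t ∈ G0 := by
    obtain ⟨g, e⟩ := hb
    have := h.nrm.conj_mem _ (h.le (X.z_mem b)) g⁻¹
    rwa [e, show g⁻¹ * (g * t * g⁻¹) * g⁻¹⁻¹ = t by group] at this
  by_cases hD : D = ⊥
  swap
  · exact .inl (se h dz tG hD)
  subst hD
  obtain rfl := h.toSt2.top tG
  have cE := h.toSt2.card_E X
  by_cases h4 : Fintype.card F = 4
  · have : IsSimpleGroup (⊤ : Subgroup G) := h.simple
    have : IsSimpleGroup G := Subgroup.topEquiv.symm.isSimpleGroup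
    have : Fact (Nat.Prime 2) := ⟨Nat.prime_two⟩
    obtain ⟨S, eS⟩ := hS.exists_sylow_top Nat.prime_two
    obtain ⟨e⟩ := iso h h4
    obtain ⟨φ⟩ := Cfsg.Agent.S1644.result S (eS ▸ (h.toSt2.el_E X).abl)
      (by rw [show Nat.card S = ♯(S : Subgroup G) from rfl, eS, cE, h4]) t
      (orderOf_eq_prime (by rw [sq, h.tt]) h.t1) e
    exact .inr (.inl ⟨h4, .inr (.inl ⟨Subgroup.topEquiv.trans φ⟩)⟩)
  · refine .inl (cl2 h.toSt hS ?_ ((der1_eq_bot.2 (h.toSt2.el_E X).abl).le.trans bot_le))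
    have h5 := X.four
    rw [cE, ← aut_card X.two] at *
    generalize Nat.card (RingAut F) = k at *
    have : 3 ≤ k := by
      by_contra hk
      have : k ≤ 2 := by omega
      interval_cases k <;> omega
    have := Nat.pow_le_pow_right two_pos this
    omega

end H23.L2
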