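import Mathlib
import Cfsg.Agent.H23.LDefs
import Cfsg.Agent.H23.LC
import Cfsg.Agent.H23.LE
import Cfsg.Agent.H2.ZR

set_option autoImplicit false
set_option linter.unusedVariables false
set_option linter.unusedSectionVars false

namespace H23.L2

open Cfsg H24 Subgroup
open H2.SZ (St DD Goal)
open scoped MatrixGroups commutatorElement

universe u

variable {G : Type u} [Group G] [Finite G] {F : Type*} [Field F] [Fintype F]
  {L G0 D T B R Q S S1 A P N M H : Subgroup G} {t f g i j ρ z u : G} {X : LD F L} {n : ℕ}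
  {π s : G → F}

open H2.SZ (piElt_of_sq syl_of_two inv_pow' mem_zp_inv)

namespace LRx

theorem Tt (h : Lb X G0 t T) (hg : g ∈ T) : g * t = t * g := mem_C1.1 (h.syl.le hg)

theorem inE (h : Lb X G0 t T) (hg : g ∈ T) (gg : g * g = 1) (h1 : X.φ g = 1) : g ∈ X.E t :=
  h.inv_E X (Tt h hg) (h.T_V hg) gg h1

theorem el_cj (h : El A) (g : G) : El (cj g A) := fun x hx => by
  obtain ⟨y, hy, rfl⟩ := mem_cj'.1 hx
  rw [conj_mul, h y hy, mul_one, mul_inv_cancel]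

/-- squares of elements of `T` inducing inner automorphisms centralise `L` -/
theorem sqC (h : Lb X G0 t T) (hg : g ∈ T) (h1 : X.φ g = 1) : g * g ∈ C[L] := by
  obtain ⟨a, k, c, hc, e⟩ := X.dec (h.T_L hg) (h.T_V hg) h1
  have a1 : ∀ b, g * X.z b * g⁻¹ = X.z (k * b) := fun b => by
    calc _ = X.z a * (X.h k * (c * X.z b * c⁻¹) * (X.h k)⁻¹) * (X.z a)⁻¹ := by rw [e]; group
      _ = _ := by
        rw [← mem_C.1 hc _ (X.z_mem b), mul_inv_cancel_right, X.h_z, X.z_comm, mul_inv_cancel_right]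
  have a2 : ∀ m : ℕ, g ^ m * X.z 1 * (g ^ m)⁻¹ = X.z ((k ^ m : Fˣ) : F) := fun m => by
    induction m with
    | zero => simp
    | succ m ih =>
      rw [pow_succ' k, Units.val_mul, ← a1, ← ih, pow_succ']
      group
  have a3 := a2 (orderOf g)
  rw [pow_orderOf_eq_one, one_mul, inv_one, mul_one] at a3
  have a4 : k ^ orderOf g = 1 := Units.ext (X.z_inj a3).symm
  have a5 : X.h k = 1 := PiElt.eq_one (π := {2}) (PiNat.dvd (h.syl.pi.piElt hg)
    (orderOf_dvd_of_pow_eq_one (by rw [← map_pow, a4, map_one]))) (X.odd_h k)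
  rw [e, a5, mul_one, mul_assoc, ← mul_assoc c, ← mem_C.1 hc _ (X.z_mem a), ← mul_assoc,
    ← mul_assoc, X.z_sq, one_mul]
  exact mul_mem hc hc

theorem toT' (h : Lb X G0 t T) (hu : DD t u) (hA : IsPi {2} A) (hC : A ≤ C{u}) :
    ∃ g, u = g⁻¹ * t * g⁻¹⁻¹ ∧ ∀ a ∈ A, g * a * g⁻¹ ∈ T := by
  obtain ⟨g, e, k⟩ := h.toT hu hA hC
  exact ⟨g⁻¹, by simpa using e, by simpa using k⟩

theorem back (e : g * t * g⁻¹ = t) : g⁻¹ * t * g⁻¹⁻¹ = t := by
  conv_lhs => rw [← e]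
  group

theorem iso1 (h : Lb X G0 t T) {r : G} (rT : r ∈ T) (rL : r ∈ C[L]) (rr : r * r = t) :
    ∀ e ∈ X.E t, DD t e → e = t := by
  intro e he hd
  have rE : r ∈ C[X.E t] := cents_sup (X := zpowers r) (by
    rw [C_zpowers]; exact zpowers_le.2 (h.syl.le rT)) (zpowers_le.2 (C_anti X.V_le rL))
      (mem_zpowers r)
  obtain ⟨g, rfl, k⟩ := toT' h hd (h.syl.pi.of_le (sup_le h.E_T (zpowers_le.2 rT)))
    (sup_le ((h.el_E X).abl.le_C.trans (C_le_C1 he)) (zpowers_le.2 (C_le_C1 he rE)))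
  have r' : g * r * g⁻¹ ∈ T := k r (mem_sup_right (mem_zpowers r))
  have e1 : g * r * g⁻¹ * (g * r * g⁻¹) = g * t * g⁻¹ := by rw [conj_mul, rr]
  have fin : g * t * g⁻¹ ∈ C[L] → g⁻¹ * t * g⁻¹⁻¹ = t := fun c => back
    ((h.inv_C c (Tt h (e1 ▸ mul_mem r' r')) (by rw [conj_mul, h.tt, mul_one, mul_inv_cancel])).resolve_left
      fun e => h.t1 (conj_eq_one_iff.1 e))
  by_cases h1 : X.φ (g * r * g⁻¹) = 1
  · exact fin (e1 ▸ sqC h r' h1)
  have OT : cj g (X.E t) ≤ T := fun x hx => by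
    obtain ⟨a, ha, rfl⟩ := mem_cj'.1 hx
    exact k a (mem_sup_left ha)
  have rO : g * r * g⁻¹ ∈ C[cj g (X.E t)] := by rw [← cj_C]; exact conj_mem_cj g rE
  by_cases h2 : cj g (X.E t) ≤ X.E t
  · rw [eq_of_card_eq h2 (card_cj _ _)] at rO
    exact absurd (X.φ_CV (h.T_L r') (C_anti (X.V_E t) rO)) h1
  have el := el_cj (h.el_E X) g
  have rk := h.rk X el (OT.trans h.syl.le) (OT.trans h.T_V) h2
  rw [card_cj, h.card_E X] at rk
  have h4 : Fintype.card F = 4 := by have := X.four; nlinarith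
  obtain ⟨f, hf, fE⟩ := SetLike.not_le_iff_exists.1 h2
  have c := sqC h (mul_mem r' (OT hf)) (by
    rw [X.φ_mul _ (h.T_L r') _ (h.T_L (OT hf))]
    exact aut_four h4 h1 fun e => fE (inE h (OT hf) (el f hf) e))
  refine fin ?_
  rwa [mul_assoc, ← mul_assoc f, mem_C.1 rO f hf, mul_assoc _ f, el f hf, mul_one, e1] at c

end LRx

open LRx

/-! ### LR -/
theorem Lb.iso (h : Lb X G0 t T) (iso : ∀ e ∈ X.E t, DD t e → e = t) :
    Syl 2 ⊤ T ∧ Fintype.card F = 4 ∧ ∃ f ∈ T, X.Out f ∧ DD t f := by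
  have sT : Syl 2 ⊤ T := syl_of_two h.syl.pi fun R hR TR g hg gT => by
    have m : g * t * g⁻¹ ∈ T := H24.conj_mem gT h.t_T
    have c : g * t * g⁻¹ ∈ C[T] := H24.conj_mem (N_le_NC _ gT) (mem_C_iff_le_C1.2 h.syl.le)
    have e := iso _ (inE h m (by rw [conj_mul, h.tt, mul_one, mul_inv_cancel])
      (X.φ_CV (h.T_L m) (C_anti h.V_T c))) ⟨g, rfl⟩
    exact h.cen hR TR hg (mul_inv_eq_iff_eq_mul.1 e)
  obtain ⟨e, he, e1, e2⟩ := h.toSt.zs h.syl (h.le (X.z_mem 1)) X.z1 (X.z_sq 1)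
  have eE : e ∉ X.E t := fun k => e1 (iso e k e2)
  have eo := h.out X (Tt h he) (h.T_V he) (e2.sq h.toSt).1 eE
  refine ⟨sT, (X.out_card eo).2.resolve_right fun h16 => ?_, e, he, eo, e2⟩
  obtain ⟨g, rfl⟩ := e2
  refine eE (sc2 sT h.E_T (h.el_E X) h.T_E 2 (fun g _ A h1 h2 => ?_) (fun g _ u h1 h2 h3 => ?_)
    t (X.t_E t) g (mem_top g) he)
  · exact h.idx2 X (fun a ha => el_cj (h.el_E X) g a (h1 ha)) (h2.trans h.syl.le) (h2.trans h.T_V)
  · have uo := h.out X (Tt h h2) (h.T_V h2) (el_cj (h.el_E X) g u h1) h3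
    rw [h.card_CE X (Tt h h2) uo, h.card_E X]
    have := (X.out_card uo).1
    generalize ♯(X.V ⊓ C{u} : Subgroup G) = c at *
    have : 4 ≤ c := by nlinarith
    nlinarith

theorem Lb.exists_lc (h : Lb X G0 t T) : ∃ D, Lc X G0 t D T := by
  have nK : C[L] ⊓ C{t} ⊴ C{t} := ⟨inf_le_right, norm_inf
    (fun g hg => N_le_NC _ (h.Ct g (mem_C1.1 hg))) (norm_self _)⟩
  have hR := h.syl.inf_nml nK
  set R := T ⊓ (C[L] ⊓ C{t}) with hRd
  have aR : Abl R := (h.cyc R (hR.le.trans inf_le_left) hR.pi).isMulCommutative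
  have R2 : ∀ r ∈ R, r = 1 ∨ r = t := by
    by_contra hn
    obtain ⟨r0, hr0, h0⟩ : ∃ r ∈ R, r * r ≠ 1 := by
      by_contra k
      exact hn fun r hr => h.inv_C hr.2.1 (Tt h hr.1) (by_contra fun e => k ⟨r, hr, e⟩)
    obtain ⟨n, n1, n2⟩ := inv_pow' (hR.pi.piElt (mul_mem hr0 hr0)) h0
    have m := pow_mem (mul_mem hr0 hr0) n
    have rr := (h.inv_C m.2.1 (Tt h m.1) n2).resolve_left n1
    rw [(Commute.refl r0).mul_pow] at rr
    have hr := pow_mem hr0 n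
    generalize r0 ^ n = r at rr hr
    have iso := iso1 h hr.1 hr.2.1 rr
    obtain ⟨-, h4, f, hf, fo, fd⟩ := h.iso iso
    have ft : f ≠ t := fun e => fo.ne (e ▸ X.φ_C h.tC)
    have φ2 : ∀ x ∈ T, X.φ (x * x) = 1 := fun x hx => by
      rw [X.φ_mul _ (h.T_L hx) _ (h.T_L hx)]
      by_cases e : X.φ x = 1
      · rw [e, mul_one]
      · exact aut_four h4 e e
    have tt' : ∀ g, g * t * g⁻¹ * (g * t * g⁻¹) = 1 := fun g => by
      rw [conj_mul, h.tt, mul_one, mul_inv_cancel]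
    have fr : f * r ≠ r * f := fun e => by
      obtain ⟨g, e1, k⟩ := toT' h fd (h.syl.pi.of_le (zpowers_le.2 hr.1))
        (zpowers_le.2 (mem_C1.2 e.symm))
      have r' := k r (mem_zpowers r)
      have e2 := φ2 _ r'
      have m2 := mul_mem r' r'
      rw [conj_mul, rr] at e2 m2
      exact ft (e1.trans (back (iso _ (inE h m2 (tt' g) e2) ⟨g, rfl⟩)))
    have y : f * r * f⁻¹ ∈ R := ⟨T.mul_mem (T.mul_mem hf hr.1) (T.inv_mem hf),
      H24.conj_mem (nK.norm (h.syl.le hf)) hr.2⟩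
    have y1 := mul_mem y (inv_mem hr)
    have e3 : f * r * f⁻¹ * r⁻¹ = t := by
      refine (h.inv_C y1.2.1 (Tt h y1.1) ?_).resolve_left fun e => fr (by
        rwa [mul_inv_eq_one, mul_inv_eq_iff_eq_mul] at e)
      rw [mul_assoc, ← mul_assoc r⁻¹, aR.comm (inv_mem hr) y, ← mul_assoc, ← mul_assoc, conj_mul, rr,
        Tt h hf, mul_inv_cancel_right, ← rr]
      group
    have d1 : DD t (t * f) := by
      have := fd.conj r⁻¹
      convert this using 1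
      calc t * f = r⁻¹ * (r * t) * f := by group
        _ = r⁻¹ * (f * r * f⁻¹ * r⁻¹ * r) * f := by rw [Tt h hr.1, e3]
        _ = _ := by group
    obtain ⟨v, hv, vf⟩ : ∃ v ∈ X.V, v ∉ C{f} := SetLike.not_le_iff_exists.1 fun e =>
      fo.ne (X.φ_CV fo.nL (mem_C_iff_le_C1.2 e))
    have fi : f⁻¹ = f := inv_eq_of_mul_eq_one_right fo.sq
    have v' : f * v⁻¹ * f⁻¹ ∈ X.V := H24.conj_mem fo.nV (inv_mem hv)
    have zV : v * (f * v⁻¹ * f⁻¹) ∈ X.V := mul_mem hv v'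
    have ez : v * f * v⁻¹ = v * (f * v⁻¹ * f⁻¹) * f := by group
    have z1 : v * (f * v⁻¹ * f⁻¹) ≠ 1 := fun e => vf (mem_C1_iff_conj.2 (by rw [ez, e, one_mul]))
    have zf : v * (f * v⁻¹ * f⁻¹) * f = f * (v * (f * v⁻¹ * f⁻¹)) := by
      have vi : v⁻¹ = v := inv_eq_of_mul_eq_one_right (X.el_V v hv)
      have c := X.el_V.abl.comm hv v'
      rw [vi, fi] at c ⊢
      calc _ = v * f * v * (f * f) := by group
        _ = f * f * v * f * v := by rw [fo.sq, mul_one, one_mul]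
        _ = _ := by rw [c]; simp only [mul_assoc]
    have d2 := fd.conj v
    have d3 := d1.conj v
    have vt : v * t * v⁻¹ = t := by rw [Tt h (h.V_T hv), mul_inv_cancel_right]
    rw [← conj_mul, vt] at d3
    rw [ez] at d2 d3
    generalize v * (f * v⁻¹ * f⁻¹) = z at zV z1 zf d2 d3
    have zT := h.V_T zV
    obtain ⟨g, e1, k⟩ := toT' h fd (h.syl.pi.of_le inf_le_left) (inf_le_right (a := T))
    have t' := k t ⟨h.t_T, mem_C1.2 (Tt h hf).symm⟩
    have z' := k z ⟨zT, mem_C1.2 zf⟩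
    have gf : g * f * g⁻¹ = t := by rw [e1]; group
    have key : ∀ w, g * w * g⁻¹ ∈ T → w * w = 1 → X.φ (g * w * g⁻¹) = 1 → DD t (w * f) → w = 1 :=
      fun w w1 w2 w3 w4 => by
        have := iso _ (mul_mem (inE h w1 (by rw [conj_mul, w2, mul_one, mul_inv_cancel]) w3) (X.t_E t))
          (by have := w4.conj g; rwa [← conj_mul, gf] at this)
        exact conj_eq_one_iff.1 (mul_eq_right.1 this)
    by_cases p1 : X.φ (g * t * g⁻¹) = 1
    · exact h.t1 (key t t' h.tt p1 d1)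
    by_cases p2 : X.φ (g * z * g⁻¹) = 1
    · exact z1 (key z z' (X.el_V z zV) p2 d2)
    have := key (t * z) (by rw [← conj_mul]; exact mul_mem t' z')
      (h.el_E X _ (mul_mem (X.t_E t) (X.V_E t zV)))
      (by rw [← conj_mul, X.φ_mul _ (h.T_L t') _ (h.T_L z')]; exact aut_four h4 p1 p2)
      (by rwa [mul_assoc])
    exact h.tV X (eq_inv_of_mul_eq_one_left this ▸ inv_mem zV)
  have RC : C[L] ⊓ C{t} ≤ C[R] := fun x hx => mem_C.2 fun r hr => by
    rcases R2 r hr with rfl | rfl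
    exacts [by simp, (mem_C1.1 hx.2).symm]
  obtain ⟨D, D1, D2, D3⟩ := H17.RC.exists_compl (W := C[L] ⊓ C{t}) hR (norm_of_cent RC)
  refine ⟨D, h, D2, D1.trans inf_le_left, D1.trans inf_le_right, fun k hk e => ?_⟩
  obtain ⟨r, hr, d, hd, rfl⟩ := D3 k ⟨hk, mem_C1.2 e⟩
  rcases R2 r hr with rfl | rfl
  · exact .inl (by rwa [one_mul])
  · exact .inr (by rwa [mul_assoc, mem_C1.1 (D1 hd).2, ← mul_assoc, h.tt, one_mul])

end H23.L2
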