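import Mathlib
import Cfsg.Agent.H23.LDefs
import Cfsg.Agent.H23.RKa

set_option autoImplicit false
set_option linter.unusedVariables false
set_option linter.unusedSectionVars false

namespace H23.L2

open Cfsg H24 Subgroup
open H2.SZ (St DD Goal)
open scoped MatrixGroups commutatorElement

universe u

variable {G : Type u} [Group G] [Finite G] {F : Type*} [Field F] [Fintype F]
  {L G0 D T B R Q S S1 A P N M H : Subgroup G} {t f g i j ρ z u : G} {X : LD F L} {n : ℕ}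
  {π s : G → F}

namespace SWx

variable {x y a' w : G} {a b c : F}

theorem mem_zp (h : t * t = 1) : g ∈ zpowers t ↔ g = 1 ∨ g = t := by
  refine ⟨?_, by rintro (rfl | rfl); exacts [one_mem _, mem_zpowers _]⟩
  rintro ⟨n, rfl⟩
  have e : t ^ (2 : ℤ) = 1 := by rw [zpow_two, h]
  rcases Int.even_or_odd' n with ⟨k, rfl | rfl⟩
  · left; simp only [zpow_mul, e, one_zpow]
  · right; simp only [zpow_add, zpow_mul, e, one_zpow, one_mul, zpow_one]

theorem two_eq (h : ♯A = 2) (hf : f ∈ A) (hg : g ∈ A) (f1 : f ≠ 1) (g1 : g ≠ 1) : f = g := by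
  obtain ⟨y, -, hy⟩ := (Nat.card_eq_two_iff' (1 : A)).1 h
  exact congrArg Subtype.val ((hy ⟨f, hf⟩ fun e => f1 (congrArg Subtype.val e)).trans
    (hy ⟨g, hg⟩ fun e => g1 (congrArg Subtype.val e)).symm)

theorem four (X : LD F L) (h4 : Fintype.card F = 4) (ha : a ≠ 0) (hc : c ≠ 0) (ac : c ≠ a)
    (b : F) : b = 0 ∨ b = a ∨ b = c ∨ b = c + a := by
  classical
  have h1 : c + a ≠ 0 := fun e => ac (X.eq_of_add e)
  have : ({0, a, c, c + a} : Finset F) = Finset.univ := Finset.eq_univ_of_card _ (by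
    rw [h4, Finset.card_insert_of_notMem (by simp [ha.symm, hc.symm, h1.symm]),
      Finset.card_insert_of_notMem (by simp [ac.symm, hc]),
      Finset.card_insert_of_notMem (by simp [ha]), Finset.card_singleton])
  have := this ▸ Finset.mem_univ b
  simpa using this

theorem card_le_two (h : ∀ a ∈ A, ∀ b ∈ A, a ∈ M ∨ b ∈ M ∨ a * b ∈ M) :
    ♯A ≤ 2 * ♯(A ⊓ M : Subgroup G) := by
  by_cases h1 : A ≤ M
  · rw [inf_eq_left.2 h1]; omega
  obtain ⟨a0, ha, hm⟩ := SetLike.not_le_iff_exists.1 h1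
  have := Nat.card_le_card_of_surjective (α := ↥(A ⊓ M) ⊕ ↥(A ⊓ M)) (β := A)
    (Sum.elim (fun m => ⟨m, m.2.1⟩) fun m => ⟨a0⁻¹ * m, mul_mem (inv_mem ha) m.2.1⟩) (by
      rintro ⟨g, hg⟩
      rcases h a0 ha g hg with e | e | e
      · exact absurd e hm
      · exact ⟨.inl ⟨g, hg, e⟩, rfl⟩
      · exact ⟨.inr ⟨a0 * g, mul_mem ha hg, e⟩, by simp⟩)
  rw [Nat.card_sum] at this
  omega

theorem el_cj (h : El A) (g : G) : El (cj g A) := fun a ha => by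
  obtain ⟨y, hy, rfl⟩ := mem_cj'.1 ha
  rw [conj_mul, h y hy, mul_one, mul_inv_cancel]

theorem le_or (h : ∀ g ∈ A, g ∈ M ∨ g ∈ N) : A ≤ M ∨ A ≤ N := by
  by_contra hn
  rw [not_or] at hn
  obtain ⟨a, ha, h1⟩ := SetLike.not_le_iff_exists.1 hn.1
  obtain ⟨b, hb, h2⟩ := SetLike.not_le_iff_exists.1 hn.2
  rcases h _ (mul_mem ha hb) with e | e
  · exact h1 ((mul_mem_cancel_right ((h b hb).resolve_right h2)).1 e)
  · exact h2 ((mul_mem_cancel_left ((h a ha).resolve_left h1)).1 e)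

/-- `N⟨w⟩` for `w² ∈ N` -/
def ad (N : Subgroup G) (w : G) (h1 : w ∈ N[N]) (h2 : w * w ∈ N) : Subgroup G where
  carrier := {g | g ∈ N ∨ g * w ∈ N}
  one_mem' := .inl (one_mem _)
  mul_mem' := by
    rintro a b (ha | ha) (hb | hb)
    · exact .inl (mul_mem ha hb)
    · exact .inr (by rw [mul_assoc]; exact mul_mem ha hb)
    · exact .inr (by convert mul_mem ha (H24.conj_mem' h1 hb) using 1; group)
    · exact .inl (by convert mul_mem (mul_mem ha (H24.conj_mem' h1 hb)) (inv_mem h2) using 1; group)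
  inv_mem' := by
    rintro a (ha | ha)
    · exact .inl (inv_mem ha)
    · exact .inr (by convert inv_mem (mul_mem (H24.conj_mem' h1 ha) (inv_mem h2)) using 1; group)

theorem dsq (h : St L G0 t) (hs : DD t u) : u * u = 1 ∧ u ≠ 1 := by
  obtain ⟨g, rfl⟩ := hs
  exact ⟨by rw [conj_mul, h.tt, mul_one, mul_inv_cancel], fun e => h.t1 (conj_eq_one_iff.1 e)⟩

theorem nab (h : St L G0 t) (X : LD F L) : ¬ Abl G0 := fun e => X.nab (e.of_le h.le)

theorem toz (h : St L G0 t) (X : LD F L) (hg : g ∈ G0) (h1 : g * u * g⁻¹ ∈ X.V) (u1 : u ≠ 1) :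
    ∃ g ∈ G0, u = g * X.z 1 * g⁻¹ := by
  obtain ⟨b, e⟩ := h1
  obtain ⟨k, hk⟩ := X.exists_h (a := b) (b := 1)
    (fun e' => u1 (conj_eq_one_iff.1 (by rw [e, e', X.z_zero]))) one_ne_zero
  exact ⟨(X.h k * g)⁻¹, inv_mem (mul_mem (h.le (X.h_mem k)) hg), by rw [← hk, ← e]; group⟩

theorem tC (h : Lb X G0 t T) : t ∈ C[T] := mem_C_iff_le_C1.2 h.syl.le

theorem comm_t (h : Lb X G0 t T) (hg : g ∈ T) : g * t = t * g := mem_C1.1 (h.syl.le hg)

theorem cenE (h : Lb X G0 t T) (hy : y ∈ T) (yc : y ∈ C[T]) (yy : y * y = 1) : y ∈ X.E t :=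
  h.inv_E X (comm_t h hy) (h.T_V hy) yy (X.φ_CV (h.T_L hy) (C_anti h.V_T yc))

theorem exists_a (h : Lb X G0 t T) : ∃ a, a ≠ 0 ∧ X.z a ∈ C[T] := by
  obtain ⟨_, ⟨⟨a, rfl⟩, h2⟩, h3⟩ := exists_ne_one (IsPi.inf_C_ne_bot Nat.prime_two h.syl.pi
    X.el_V.pi h.T_V (ne_bot_of_mem (X.z_V 1) X.z1))
  exact ⟨a, fun e => h3 (X.z_eq_one.2 e), h2⟩

theorem q4 (h : Lb X G0 t T) (hx : x ∈ N[T]) (h1 : x ∉ N[X.E t]) :
    Fintype.card F = 4 ∧ ¬ cj x (X.E t) ≤ X.E t := by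
  have k : ¬ cj x (X.E t) ≤ X.E t := fun e => h1 (mem_N_of_cj_le e)
  have l : cj x (X.E t) ≤ T := cj_le_of_mem_N h.E_T hx
  have := h.rk X (el_cj (h.el_E X) x) (l.trans h.syl.le) (l.trans h.T_V) k
  rw [card_cj, h.card_E X] at this
  have := X.four
  exact ⟨by nlinarith, k⟩

theorem cs_mul (hx : x ∈ N[N]) (hy : y ∈ N[N]) : cs N (x * y) = cs N x * cs N y := ap_mul _ hx hy

theorem conj_cen (hx : x ∈ N[T]) (hy : y ∈ C[T]) : x * y * x⁻¹ ∈ C[T] :=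
  H24.conj_mem (N_le_NC T hx) hy

/-- the configuration of `Lc.sw` -/
structure W (X : LD F L) (G0 : Subgroup G) (t : G) (D T S : Subgroup G) (x : G) (a c : F) : Prop
    extends Lc X G0 t D T where
  zn : ∀ b, ¬ DD t (X.z b)
  h4 : Fintype.card F = 4
  sylS : Syl 2 ⊤ S
  TS : T ≤ S
  xS : x ∈ S
  xT : x ∈ N[T]
  nT : x ∉ T
  a0 : a ≠ 0
  za : X.z a ∈ C[T]
  fE : x * X.z c * x⁻¹ ∉ X.E t

namespace W
variable (h : W X G0 t D T S x a c)
include h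

theorem fT : x * X.z c * x⁻¹ ∈ T := H24.conj_mem h.xT (h.V_T (X.z_V c))
theorem ff : x * X.z c * x⁻¹ * (x * X.z c * x⁻¹) = 1 := by
  rw [conj_mul, X.z_sq, mul_one, mul_inv_cancel]
theorem zc (hg : g ∈ T) : g * X.z a = X.z a * g := mem_C.1 h.za g hg
theorem z0 : X.z a ≠ 1 := fun e => h.a0 (X.z_eq_one.1 e)

theorem cenV (hb : X.z b ∈ C{x * X.z c * x⁻¹}) : b = 0 ∨ b = a := by
  by_cases e : b = 0
  · exact .inl e
  exact .inr (X.z_inj (two_eq (h.T4 h.h4 h.fT h.fE).2.2.1 ⟨X.z_V b, hb⟩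
    ⟨X.z_V a, C_le_C1 h.fT h.za⟩ (fun e' => e (X.z_eq_one.1 e')) h.z0))

theorem yt (hy : y ∈ S) (yN : y ∈ N[T]) (yT : y ∉ T) : y * t * y⁻¹ = t * X.z a := by
  have k := conj_cen yN (tC h.toLb)
  obtain ⟨b, e | e⟩ := (h.mem_E X).1 (cenE h.toLb (H24.conj_mem yN h.t_T) k
    (dsq h.toSt ⟨y, rfl⟩).1)
  · exact absurd (e ▸ ⟨y, rfl⟩) (h.zn b)
  rw [e] at k
  rcases h.cenV (C_le_C1 h.fT ((mul_mem_cancel_left (tC h.toLb)).1 k)) with rfl | rfl
  · rw [X.z_zero, mul_one, mul_inv_eq_iff_eq_mul] at e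
    exact absurd (h.cen h.sylS.pi h.TS hy e) yT
  · exact e

theorem yz (hy : y ∈ S) (yN : y ∈ N[T]) (yT : y ∉ T) : y * X.z a * y⁻¹ = X.z a := by
  have k := conj_cen yN h.za
  obtain ⟨b, e | e⟩ := (h.mem_E X).1 (cenE h.toLb (H24.conj_mem yN (h.V_T (X.z_V a))) k
    (by rw [conj_mul, X.z_sq, mul_one, mul_inv_cancel]))
  · rw [e] at k
    rcases h.cenV (C_le_C1 h.fT k) with rfl | rfl
    · rw [X.z_zero, conj_eq_one_iff] at e
      exact absurd e h.z0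
    · exact e
  rw [e] at k
  refine absurd (DD.of_conj (g := y) ?_) (h.zn a)
  rcases h.cenV (C_le_C1 h.fT ((mul_mem_cancel_left (tC h.toLb)).1 k)) with rfl | rfl
  · rw [e, X.z_zero, mul_one]; exact DD.refl t
  · rw [e, ← h.yt hy yN yT]; exact ⟨y, rfl⟩

theorem mulT (hy : y ∈ S) (yN : y ∈ N[T]) (yT : y ∉ T) (hw : w ∈ S) (wN : w ∈ N[T]) (wT : w ∉ T) :
    y * w ∈ T := by
  refine h.cen h.sylS.pi h.TS (mul_mem hy hw) (mul_inv_eq_iff_eq_mul.1 ?_)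
  rw [show y * w * t * (y * w)⁻¹ = y * (w * t * w⁻¹) * y⁻¹ by group, h.yt hw wN wT, ← conj_mul,
    h.yt hy yN yT, h.yz hy yN yT, mul_assoc, X.z_sq, mul_one]

theorem xi : x⁻¹ ∉ T := fun e => h.nT (inv_mem_iff.1 e)
theorem xt : x * t * x⁻¹ = t * X.z a := h.yt h.xS h.xT h.nT
theorem xz : x * X.z a * x⁻¹ = X.z a := h.yz h.xS h.xT h.nT
theorem xt' : x⁻¹ * t * x = t * X.z a := by
  simpa using h.yt (inv_mem h.xS) (inv_mem h.xT) h.xi
theorem xz' : x⁻¹ * X.z a * x = X.z a := by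
  simpa using h.yz (inv_mem h.xS) (inv_mem h.xT) h.xi
theorem c0 : c ≠ 0 := fun e => h.fE (by
  rw [e, X.z_zero, mul_one, mul_inv_cancel]; exact one_mem _)
theorem ca : c ≠ a := fun e => h.fE (by rw [e, h.xz]; exact X.V_E t (X.z_V a))
theorem cs4 (b : F) : b = 0 ∨ b = a ∨ b = c ∨ b = c + a := four X h.h4 h.a0 h.c0 h.ca b

theorem swV (h1 : x * X.z b * x⁻¹ ∈ X.E t) : b = 0 ∨ b = a := by
  rcases h.cs4 b with e | e | rfl | rfl
  · exact .inl e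
  · exact .inr e
  · exact absurd h1 h.fE
  · rw [← X.z_mul, ← conj_mul, h.xz] at h1
    exact absurd ((mul_mem_cancel_right (X.V_E t (X.z_V a))).1 h1) h.fE

theorem swap (hy : y ∈ S) (yN : y ∈ N[T]) (yT : y ∉ T) (h1 : y * X.z b * y⁻¹ ∈ X.E t) :
    b = 0 ∨ b = a := by
  refine h.swV ?_
  have := H24.conj_mem' (h.T_E (h.mulT hy yN yT (inv_mem h.xS) (inv_mem h.xT) h.xi)) h1
  convert this using 1; group

theorem chg (hy : y ∈ S) (yN : y ∈ N[T]) (yT : y ∉ T) : W X G0 t D T S y a c :=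
  { h with
    xS := hy
    xT := yN
    nT := yT
    fE := fun e => (h.swap hy yN yT e).elim h.c0 h.ca }

/-- the dihedral group `V V^x` -/
def T0 : Subgroup G := ad X.V (x * X.z c * x⁻¹) (h.T_V h.fT) (by rw [h.ff]; exact one_mem _)

theorem mem0 : g ∈ h.T0 ↔ ∃ b, g = X.z b ∨ g = X.z b * (x * X.z c * x⁻¹) := by
  refine ⟨?_, ?_⟩
  · rintro (⟨b, e⟩ | ⟨b, e⟩)
    · exact ⟨b, .inl e⟩
    · exact ⟨b, .inr (by rw [← e, mul_assoc g, h.ff, mul_one])⟩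
  · rintro ⟨b, rfl | rfl⟩
    · exact .inl (X.z_V b)
    · exact .inr (by rw [mul_assoc (X.z b), h.ff, mul_one]; exact X.z_V b)

theorem V0 : X.V ≤ h.T0 := fun _ e => .inl e
theorem f0 : x * X.z c * x⁻¹ ∈ h.T0 := h.mem0.2 ⟨0, .inr (by rw [X.z_zero, one_mul])⟩
theorem T0_T : h.T0 ≤ T := fun g hg => by
  obtain ⟨b, rfl | rfl⟩ := h.mem0.1 hg
  exacts [h.V_T (X.z_V b), mul_mem (h.V_T (X.z_V b)) h.fT]
theorem T0_G : h.T0 ≤ G0 := fun g hg => by
  obtain ⟨b, rfl | rfl⟩ := h.mem0.1 hg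
  exacts [h.le (X.z_mem b), mul_mem (h.le (X.z_mem b)) (h.nrm.conj_mem _ (h.le (X.z_mem c)) x)]

theorem idx0 (hg : g ∈ T) : g ∈ h.T0 ∨ g * t ∈ h.T0 := by
  have k : ∀ g ∈ X.E t, g ∈ h.T0 ∨ g * t ∈ h.T0 := fun g hg => by
    obtain ⟨b, rfl | rfl⟩ := (h.mem_E X).1 hg
    · exact .inl (h.V0 (X.z_V b))
    · exact .inr (by rw [← h.tz X, mul_assoc, h.tt, mul_one]; exact h.V0 (X.z_V b))
  rcases (h.T4 h.h4 h.fT h.fE).2.1 g hg with e | e
  · exact k g e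
  rcases k _ e with e | e
  · exact .inl ((mul_mem_cancel_right h.f0).1 e)
  · rw [mul_assoc g, comm_t h.toLb h.fT, ← mul_assoc g] at e
    exact .inr ((mul_mem_cancel_right h.f0).1 e)

theorem inv0 (hg : g ∈ h.T0) (gg : g * g = 1) : g ∈ X.V ∨ x⁻¹ * g * x ∈ X.V := by
  obtain ⟨b, rfl | rfl⟩ := h.mem0.1 hg
  · exact .inl (X.z_V b)
  have : X.z b ∈ C{x * X.z c * x⁻¹} := by
    rw [mem_C1, ← inv_eq_of_mul_eq_one_right gg, mul_inv_rev, X.z_inv,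
      inv_eq_of_mul_eq_one_right h.ff]
  right
  rcases h.cenV this with rfl | rfl
  · rw [X.z_zero]; convert X.z_V c using 1; group
  · convert mul_mem (h.xz'.symm ▸ X.z_V b : x⁻¹ * X.z b * x ∈ X.V) (X.z_V c) using 1; group

theorem nd0 (hg : g ∈ h.T0) : ¬ DD t g := fun d => by
  rcases h.inv0 hg (dsq h.toSt d).1 with ⟨b, e⟩ | ⟨b, e⟩
  · exact h.zn b (e ▸ d)
  · exact h.zn b (by rw [← e]; simpa using d.conj x⁻¹)

theorem invT (hg : g ∈ T) (gg : g * g = 1) : g ∈ X.E t ∨ x⁻¹ * g * x ∈ X.E t := by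
  rcases h.idx0 hg with e | e
  · exact (h.inv0 e gg).imp (X.V_E t ·) (X.V_E t ·)
  rcases h.inv0 e (by
    rw [mul_assoc, ← mul_assoc t, ← comm_t h.toLb hg, mul_assoc g, h.tt, mul_one, gg]) with e | e
  · exact .inl ((mul_mem_cancel_right (X.t_E t)).1 (X.V_E t e))
  · refine .inr ((mul_mem_cancel_right (x := x⁻¹ * t * x) ?_).1 ?_)
    · rw [h.xt']; exact mul_mem (X.t_E t) (X.V_E t (X.z_V a))
    · convert X.V_E t e using 1; group

theorem fixE (hy : y ∈ S) (yN : y ∈ N[T]) (yT : y ∉ T) (hg : g ∈ X.E t) (e : y * g * y⁻¹ = g) :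
    g = 1 ∨ g = X.z a := by
  obtain ⟨b, rfl | rfl⟩ := (h.mem_E X).1 hg
  · rcases h.swap hy yN yT (e.symm ▸ hg) with rfl | rfl
    exacts [.inl X.z_zero, .inr rfl]
  exfalso
  rw [← conj_mul, h.yt hy yN yT, mul_assoc, mul_right_inj] at e
  have k : y * X.z b * y⁻¹ ∈ X.E t := (mul_mem_cancel_left (X.V_E t (X.z_V a))).1
    (e.symm ▸ X.V_E t (X.z_V b))
  rcases h.swap hy yN yT k with rfl | rfl
  · rw [X.z_zero, mul_one, mul_inv_cancel, mul_one] at e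
    exact h.z0 e
  · rw [h.yz hy yN yT, X.z_sq] at e
    exact h.z0 e.symm

theorem fixT (hy : y ∈ S) (yN : y ∈ N[T]) (yT : y ∉ T) (hg : g ∈ T) (gg : g * g = 1)
    (e : y * g * y⁻¹ = g) : g = 1 ∨ g = X.z a := by
  rcases h.invT hg gg with k | k
  · exact h.fixE hy yN yT k e
  rcases h.fixE (y := x⁻¹ * y * x) (mul_mem (mul_mem (inv_mem h.xS) hy) h.xS)
    (mul_mem (mul_mem (inv_mem h.xT) yN) h.xT) (fun e => yT ((conj_mem_iff' h.xT).1 e)) k
    (by conv_rhs => rw [← e]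
        group) with e | e
  · exact .inl (by rw [show g = x * (x⁻¹ * g * x) * x⁻¹ by group, e]; group)
  · exact .inr (by rw [← h.xz, ← e]; group)

theorem rkS (hA : A ≤ S ⊓ N[T]) (h1 : El A) (h2 : ¬ A ≤ T) : ♯A ≤ 4 := by
  obtain ⟨y, hy, yT⟩ := SetLike.not_le_iff_exists.1 h2
  have k1 : ♯A ≤ 2 * ♯(A ⊓ T : Subgroup G) := card_le_two fun g hg w hw => by
    by_contra hn
    simp only [not_or] at hn
    exact hn.2.2 (h.mulT (hA hg).1 (hA hg).2 hn.1 (hA hw).1 (hA hw).2 hn.2.1)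
  have k2 : A ⊓ T ≤ zpowers (X.z a) := fun g hg => (mem_zp (X.z_sq a)).2
    (h.fixT (hA hy).1 (hA hy).2 yT hg.2 (h1 g hg.1) (by
      rw [h1.abl.comm hy hg.1, mul_inv_cancel_right]))
  have k3 := card_le k2
  rw [card_zpowers', orderOf_eq_prime (p := 2) (by rw [sq, X.z_sq]) h.z0] at k3
  omega

theorem SN : S ≤ N[T] := by
  have := (h.sylS.pi.nil Nat.prime_two).eq_of_norm_le (K := S ⊓ N[T]) inf_le_left fun y hy => ?_
  · exact this.ge.trans inf_le_right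
  have k : ∀ A ≤ T, El A → ♯A = 8 → ∀ g ∈ A, y * g * y⁻¹ ∈ T := fun A h1 h2 h3 g hg => by
    by_contra hn
    have := h.rkS (cj_le_of_mem_N (h1.trans (le_inf h.TS (norm_self T))) hy.2) (el_cj h2 y)
      fun e => hn (e (conj_mem_cj y hg))
    rw [card_cj] at this
    omega
  have c8 : ♯(X.E t) = 8 := by rw [h.card_E X, h.h4]
  have k1 := k _ h.E_T (h.el_E X) c8
  have k2 := k _ (cj_le_of_mem_N h.E_T h.xT) (el_cj (h.el_E X) x) (by rw [card_cj, c8]) _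
    (conj_mem_cj x (X.V_E t (X.z_V c)))
  refine ⟨hy.1, mem_N_of_finite fun g hg => ?_⟩
  rcases (h.T4 h.h4 h.fT h.fE).2.1 g hg with e | e
  · exact k1 g e
  · have := k1 _ e
    rw [← conj_mul] at this
    exact (mul_mem_cancel_right k2).1 this

theorem mulS (hy : y ∈ S) (yT : y ∉ T) (hw : w ∈ S) (wT : w ∉ T) : y * w ∈ T :=
  h.mulT hy (h.SN hy) yT hw (h.SN hw) wT

theorem S_T0 : S ≤ N[h.T0] := by
  have k1 : T ≤ N[h.T0] := norm_of_der1_le (h.comm_T.trans h.V0) h.T0_T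
  have k2 : ∀ b, x * X.z b * x⁻¹ ∈ h.T0 := fun b => by
    rcases h.cs4 b with rfl | rfl | rfl | rfl
    · rw [X.z_zero, mul_one, mul_inv_cancel]; exact one_mem _
    · rw [h.xz]; exact h.V0 (X.z_V _)
    · exact h.f0
    · rw [← X.z_mul, ← conj_mul, h.xz]; exact mul_mem h.f0 (h.V0 (X.z_V _))
  have k3 : x ∈ N[h.T0] := mem_N_of_finite fun g hg => by
    obtain ⟨b, rfl | rfl⟩ := h.mem0.1 hg
    · exact k2 b
    · rw [← conj_mul]
      refine mul_mem (k2 b) (h.V0 ?_)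
      convert H24.conj_mem (h.T_V (h.mulS h.xS h.nT h.xS h.nT)) (X.z_V c) using 1; group
  intro y hy
  by_cases e : y ∈ T
  · exact k1 e
  · exact (mul_mem_cancel_right k3).1 (k1 (h.mulS hy e h.xS h.nT))

theorem der0 : ⁅S, S⁆ ≤ h.T0 := by
  have tS := h.S_T0 (h.TS h.t_T)
  have xS := h.S_T0 h.xS
  refine (abl_quo h.S_T0).1 (Abl.of_le (B := zpowers (cs h.T0 t) ⊔ zpowers (cs h.T0 x))
    ((abl_zpowers _).sup (abl_zpowers _) ?_) ?_)
  · rw [C_zpowers, zpowers_le, mem_C1, ← cs_mul tS xS, ← cs_mul xS tS,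
      cs_eq_cs (mul_mem tS xS) (mul_mem xS tS)]
    convert h.V0 (inv_mem (X.z_V a)) using 1
    rw [show (t * x)⁻¹ * (x * t) = (x⁻¹ * t * x)⁻¹ * t by group, h.xt']; group
  have k : ∀ g ∈ T, cs h.T0 g ∈ zpowers (cs h.T0 t) := fun g hg => by
    rcases h.idx0 hg with e | e
    · rw [cs_of_mem e]; exact one_mem _
    · rw [← mul_mem_cancel_right (mem_zpowers (cs h.T0 t)), ← cs_mul (h.S_T0 (h.TS hg)) tS,
        cs_of_mem e]
      exact one_mem _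
  intro z hz
  obtain ⟨y, hy, yN, rfl⟩ := mem_quo.1 hz
  by_cases e : y ∈ T
  · exact mem_sup_left (k y e)
  · rw [← mul_mem_cancel_right (mem_sup_right (mem_zpowers (cs h.T0 x))), ← cs_mul yN xS]
    exact mem_sup_left (k _ (h.mulS hy e h.xS h.nT))

theorem d16 (xx : x * x = 1) (hg : g ∈ h.T0) : g * (x * g * x⁻¹) ≠ X.z a := by
  have xf : x * (x * X.z c * x⁻¹) * x⁻¹ = X.z c := by
    rw [show x * (x * X.z c * x⁻¹) * x⁻¹ = x * x * X.z c * (x * x)⁻¹ by group, xx]; group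
  have k1 : X.z c * (x * X.z c * x⁻¹) ≠ X.z a := fun e => h.fE
    ((mul_mem_cancel_left (X.V_E t (X.z_V c))).1 (e ▸ X.V_E t (X.z_V a)))
  have k2 : x * X.z c * x⁻¹ * X.z c ≠ X.z a := fun e => h.fE
    ((mul_mem_cancel_right (X.V_E t (X.z_V c))).1 (e ▸ X.V_E t (X.z_V a)))
  have k0 : (1 : G) ≠ X.z a := h.z0.symm
  have red : ∀ g ∈ T, X.z a * g * (x * (X.z a * g) * x⁻¹) = g * (x * g * x⁻¹) := fun g hg => by
    rw [← conj_mul, h.xz, ← h.zc hg, mul_assoc, ← mul_assoc (X.z a), X.z_sq, one_mul]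
  have e1 : (1 : G) * (x * 1 * x⁻¹) = 1 := by group
  have e2 : X.z c * (x * X.z c * x⁻¹) * (x * (X.z c * (x * X.z c * x⁻¹)) * x⁻¹) = 1 := by
    rw [← conj_mul, xf, mul_assoc, ← mul_assoc (x * X.z c * x⁻¹), h.ff, one_mul, X.z_sq]
  obtain ⟨b, rfl | rfl⟩ := h.mem0.1 hg <;> rcases h.cs4 b with rfl | rfl | rfl | rfl
  · rw [X.z_zero, e1]; exact k0
  · rw [h.xz, X.z_sq]; exact k0
  · exact k1
  · rw [add_comm, ← X.z_mul, red _ (h.V_T (X.z_V c))]; exact k1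
  · rw [X.z_zero, one_mul, xf]; exact k2
  · rw [red _ h.fT, xf]; exact k2
  · rw [e2]; exact k0
  · rw [add_comm, ← X.z_mul, mul_assoc (X.z a), red _ (mul_mem (h.V_T (X.z_V c)) h.fT), e2]
    exact k0

theorem tG1 (h1 : h.T0 ≤ N) (h2 : t ∉ N) (h3 : ∀ u ∈ S, u ∉ T → DD t u → u * t ∈ N) : t ∉ G0 :=
  tr_not h.toSt (nab h.toSt X) le_top h.sylS (h.der0.trans h1) (h.TS h.t_T) h.tt h2
    fun g _ hg => by
      by_cases e : g * t * g⁻¹ ∈ T
      · exact h1 ((h.idx0 e).resolve_left fun e => h.nd0 e ⟨g, rfl⟩)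
      · exact h3 _ hg e ⟨g, rfl⟩

theorem tG2 (xx : x * x = 1) : t ∉ G0 := by
  have xi : x⁻¹ = x := inv_eq_of_mul_eq_one_right xx
  have sq : t * x * (t * x) = X.z a := by
    rw [show t * x * (t * x) = t * (x * t * x⁻¹) by rw [xi]; group, h.xt, ← mul_assoc, h.tt,
      one_mul]
  refine h.tG1 (N := ad h.T0 (t * x) (h.S_T0 (mul_mem (h.TS h.t_T) h.xS))
    (sq ▸ h.V0 (X.z_V a))) (fun _ e => .inl e) ?_ fun u hu uT d => .inr ?_
  · rintro (e | e)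
    · exact h.nd0 e (DD.refl t)
    · rw [← mul_assoc, h.tt, one_mul] at e
      exact h.nT (h.T0_T e)
  rw [mul_assoc, ← mul_assoc t, h.tt, one_mul]
  refine (h.idx0 (h.mulS hu uT h.xS h.nT)).resolve_right fun e => h.d16 xx e ?_
  have k := comm_t h.toLb (H24.conj_mem h.xT (h.T0_T e))
  have uu := (dsq h.toSt d).1
  rw [← mul_left_inj (X.z a), X.z_sq, ← uu]
  calc u * x * t * (x * (u * x * t) * x⁻¹) * X.z a
      = u * x * t * (t * t) * (x * (u * x * t) * x⁻¹) * X.z a := by rw [h.tt, mul_one]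
    _ = u * x * t * t * (x * (u * x * t) * x⁻¹ * t) * X.z a := by rw [k]; group
    _ = u * x * (t * t) * (x * (u * x * t) * x⁻¹) * (x * t * x⁻¹) := by rw [h.xt]; group
    _ = u * (x * x) * u * x * (t * t) * x⁻¹ := by
      conv_lhs => rw [h.tt]
      group
    _ = u * u := by rw [xx, h.tt]; group

theorem tG : t ∉ G0 := by
  by_cases e : ∃ u ∈ S, u ∉ T ∧ DD t u
  · obtain ⟨u, hu, uT, d⟩ := e
    exact (h.chg hu (h.SN hu) uT).tG2 (dsq h.toSt d).1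
  · exact h.tG1 le_rfl (fun e => h.nd0 e (DD.refl t)) fun u hu uT d => absurd ⟨u, hu, uT, d⟩ e

theorem TG (hg : g ∈ T) (h1 : g ∈ G0) : g ∈ h.T0 :=
  (h.idx0 hg).resolve_right fun e => h.tG ((mul_mem_cancel_left h1).1 (h.T0_G e))

theorem goal : Gl (Fintype.card F) G0 := by
  refine h.rk2 h.h4 h.tG h.fT (h.T0_G h.f0)
    (h.out X (comm_t h.toLb h.fT) (h.T_V h.fT) h.ff h.fE) h.sylS h.TS (fun A hA el => ?_)
    (fun s hs ss s1 => ?_) (.inr ((h.dz X h.a0 one_ne_zero).2 ⟨x, h.xt.symm⟩))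
  · by_cases e : A ≤ T
    · rcases le_or (M := X.V) (N := cj x X.V) fun g hg =>
        (h.inv0 (h.TG (e hg) (hA hg).2) (el g hg)).imp id mem_cj.2 with k | k
      · have := card_le k
        rwa [X.card_V, h.h4] at this
      · have := card_le k
        rwa [card_cj, X.card_V, h.h4] at this
    · exact h.rkS (fun g hg => ⟨(hA hg).1, h.SN (hA hg).1⟩) el e
  obtain ⟨g, hg, k⟩ := thom h.toSt (nab h.toSt X) le_rfl (h.syl0 h.sylS).1
    (le_inf (h.T0_T.trans h.TS) h.T0_G) (fun y hy w hw => by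
      by_cases e1 : y ∈ T
      · exact .inl (h.TG e1 hy.2)
      by_cases e2 : w ∈ T
      · exact .inr (.inl (h.TG e2 hw.2))
      exact .inr (.inr (h.TG (h.mulS hy.1 e1 hw.1 e2) (mul_mem hy.2 hw.2)))) hs ss
  rcases h.inv0 k (by rw [conj_mul, ss, mul_one, mul_inv_cancel]) with k | k
  · exact toz h.toSt X hg k s1
  rcases h.gen x with e | e
  · exact toz h.toSt X (mul_mem (inv_mem e) hg) (by convert k using 1; group) s1
  · refine toz h.toSt X (mul_mem (inv_mem e) hg) ?_ s1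
    convert H24.conj_mem' (h.T_V h.t_T) k using 1; group

end W

end SWx

open SWx

/-! ### SW -/
theorem Lc.sw (h : Lc X G0 t D T) (zn : ∀ b, ¬ DD t (X.z b)) (nm : N[X.E t] ≤ C{t})
    (ns : ¬ Syl 2 ⊤ T) : Gl (Fintype.card F) G0 := by
  obtain ⟨S, hS, TS⟩ := Sylow_superset Nat.prime_two h.syl.pi le_top
  obtain ⟨x, hx, xT⟩ := SetLike.exists_of_lt ((hS.pi.nil Nat.prime_two).proper_norm
    (TS.lt_of_ne fun e => ns (e ▸ hS)))
  obtain ⟨h4, k⟩ := q4 h.toLb hx.2 fun e => xT (h.cen hS.pi TS hx.1 (mem_C1.1 (nm e)))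
  obtain ⟨a, a0, za⟩ := exists_a h.toLb
  have : ∃ c, x * X.z c * x⁻¹ ∉ X.E t := by
    by_contra hn
    push Not at hn
    refine k fun g hg => ?_
    obtain ⟨y, hy, rfl⟩ := mem_cj'.1 hg
    obtain ⟨b, rfl | rfl⟩ := (h.mem_E X).1 hy
    · exact hn b
    · rw [← conj_mul]
      exact mul_mem (cenE h.toLb (H24.conj_mem hx.2 h.t_T) (conj_cen hx.2 (tC h.toLb))
        (dsq h.toSt ⟨x, rfl⟩).1) (hn b)
  obtain ⟨c, hc⟩ := this
  exact W.goal ⟨h, zn, h4, hS, TS, hx.1, hx.2, xT, a0, za, hc⟩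

end H23.L2
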