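import Mathlib
import Cfsg.Agent.H23.LDefs
import Cfsg.Agent.H23.SW
import Cfsg.Agent.H23.LR

set_option autoImplicit false
set_option linter.unusedVariables false
set_option linter.unusedSectionVars false

namespace H23.L2

open Cfsg H24 Subgroup
open H2.SZ (St DD Goal)
open scoped MatrixGroups commutatorElement

universe u

variable {G : Type u} [Group G] [Finite G] {F : Type*} [Field F] [Fintype F]
  {L G0 D T B R Q S S1 A P N M H : Subgroup G} {t f g i j ρ z u : G} {X : LD F L} {n : ℕ}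
  {π s : G → F}

/-! ### L2b -/
namespace L2bx

theorem mem_of_sq (hT : Syl 2 ⊤ T) (hg : g ∈ N[T]) (TM : T ≤ M) (h2 : g * g ∈ M) : g ∈ M := by
  obtain ⟨k, m, ⟨j, rfl⟩, e⟩ := Nat.exists_eq_two_pow_mul_odd (orderOf_pos g).ne'
  have h1 : g ^ (2 * j + 1) ∈ T := hT.subnorm.mem_of_nml inf_le_right
    (piElt_of_pow_eq_one (piNat_self_pow Nat.prime_two k) (by rw [← pow_mul, mul_comm, ← e, pow_orderOf_eq_one]))
    ⟨mem_top _, pow_mem hg _⟩
  have := TM h1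
  rwa [pow_succ, pow_mul, sq, mul_mem_cancel_left (pow_mem h2 j)] at this

theorem tz (h : St2 L G0 t) (X : LD F L) (zn : ∀ b, ¬ DD t (X.z b)) (hu : u ∈ X.E t) (hd : DD t u) :
    ∃ b, u = t * X.z b := by
  obtain ⟨b, rfl | rfl⟩ := (h.mem_E X).1 hu
  · exact (zn b hd).elim
  · exact ⟨b, rfl⟩

theorem all (h : St2 L G0 t) (X : LD F L) {b : F} (hb : b ≠ 0) (hd : DD t (t * X.z b)) (c : F) :
    DD t (t * X.z c) := by
  by_cases hc : c = 0
  · rw [hc, X.z_zero, mul_one]; exact DD.refl t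
  · exact (h.dz X hb hc).2 hd

theorem iso (h : Lc X G0 t D T) (zn : ∀ b, ¬ DD t (X.z b)) (nm : N[X.E t] ≤ C{t}) (sT : Syl 2 ⊤ T) :
    ∀ e ∈ X.E t, DD t e → e = t := by
  intro e he hd
  obtain ⟨b, rfl⟩ := tz h.toSt2 X zn he hd
  by_contra hne
  have hb : b ≠ 0 := by rintro rfl; exact hne (by rw [X.z_zero, mul_one])
  obtain ⟨_, ⟨⟨c, rfl⟩, hc⟩, c1⟩ := exists_ne_one ((h.syl.pi.nil Nat.prime_two).inf_C_ne_bot
    (⟨h.V_T, h.T_V⟩ : X.V ⊴ T) (ne_bot_of_mem (X.z_V 1) X.z1))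
  have tC : t ∈ C[T] := mem_C_iff_le_C1.2 h.syl.le
  have sC : t * X.z c ∈ C[T] := mul_mem tC hc
  have sD := all h.toSt2 X hb hd c
  obtain ⟨g, hg, e⟩ := h.toSt.fus h.syl sD (mem_C_iff_le_C1.1 sC)
  have gt : g ∉ C{t} := fun k => c1 (by
    rw [mem_C1_iff_conj.1 k] at e; exact mul_eq_left.1 e)
  have gE : ¬ cj g (X.E t) ≤ X.E t := fun k => gt (nm (mem_N_of_cj_le k))
  have ET : cj g (X.E t) ≤ T := cj_le_of_mem_N h.E_T hg
  have h4 : Fintype.card F = 4 := by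
    have := h.rk X (LRx.el_cj (h.el_E X) g) (ET.trans h.syl.le) (ET.trans h.T_V) gE
    rw [card_cj, h.card_E X] at this
    have := X.four
    nlinarith
  obtain ⟨f, hf, fE⟩ := SetLike.not_le_iff_exists.1 gE
  obtain ⟨-, -, c2, -⟩ := h.T4 h4 (ET hf) fE
  have zp : zpowers (X.z c) = X.V ⊓ C{f} := eq_of_card_eq
    (zpowers_le.2 ⟨X.z_V c, mem_C1.2 (mem_C'.1 hc f (ET hf))⟩)
    (by rw [c2, card_zpowers', orderOf_eq_prime (by rw [sq, X.z_sq]) c1])
  have sT' : t * X.z c ∈ T := mul_mem h.t_T (h.V_T (X.z_V c))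
  have s2 := h.el_E X _ (mul_mem (X.t_E t) (X.V_E t (X.z_V c)))
  have wC : g * (t * X.z c) * g⁻¹ ∈ C[T] := H24.conj_mem (N_le_NC T hg) sC
  have wT := H24.conj_mem hg sT'
  have wE : g * (t * X.z c) * g⁻¹ ∈ X.E t := LRx.inE h.toLb wT (by rw [conj_mul, s2]; simp)
    (X.φ_CV (h.T_L wT) (centralizer_le h.V_T wC))
  obtain ⟨c', e'⟩ := tz h.toSt2 X zn wE (sD.conj g)
  have m : X.z c' ∈ zpowers (X.z c) := zp ▸ ⟨X.z_V c', mem_C1.2 (mem_C'.1
    ((mul_mem_cancel_left tC).1 (e' ▸ wC)) f (ET hf))⟩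
  refine gt (mem_of_sq sT hg h.syl.le (mem_C1_iff_conj.2 ?_))
  rcases (H2.SZ.mem_zp_inv (X.z_sq c)).1 m with k | k
  · rw [k, mul_one, e] at e'; exact Eq.trans (by group) e'
  · rw [k, e] at e'
    exact (gt (mem_C1_iff_conj.2 (by simpa using e'))).elim

end L2bx

theorem Lc.lz (h : Lc X G0 t D T) (zn : ∀ b, ¬ DD t (X.z b)) :
    Gl (Fintype.card F) G0 ∨ Lz X G0 t D T := by
  by_cases mv : ∃ g ∈ N[X.V] ⊓ N[X.E t], g * t * g⁻¹ ≠ t
  · obtain ⟨g, hg, ne⟩ := id mv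
    obtain ⟨b, e⟩ := L2bx.tz h.toSt2 X zn (H24.conj_mem hg.2 (X.t_E t)) ⟨g, rfl⟩
    exact Or.inr ⟨h, zn, L2bx.all h.toSt2 X (b := b)
      (by rintro rfl; exact ne (by rw [e, X.z_zero, mul_one])) ⟨g, e.symm⟩, mv⟩
  left
  push Not at mv
  have nm : N[X.E t] ≤ C{t} := fun g hg => by
    obtain ⟨b, e⟩ := L2bx.tz h.toSt2 X zn (H24.conj_mem hg (X.t_E t)) ⟨g, rfl⟩
    by_cases hb : b = 0
    · exact mem_C1_iff_conj.2 (by rw [e, hb, X.z_zero, mul_one])
    refine mem_C1_iff_conj.2 (mv g ⟨mem_N_of_finite ?_, hg⟩)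
    rintro _ ⟨c, rfl⟩
    obtain ⟨c', k | k⟩ := (h.mem_E X).1 (H24.conj_mem hg (X.V_E t (X.z_V c)))
    · exact ⟨c', k⟩
    · exact (zn c (DD.of_conj (k ▸ L2bx.all h.toSt2 X hb ⟨g, e.symm⟩ c'))).elim
  by_cases sT : Syl 2 ⊤ T
  swap
  · exact h.sw zn nm sT
  have iso := L2bx.iso h zn nm sT
  obtain ⟨-, h4, e, eT, eo, ed⟩ := h.iso iso
  have eE : e ∉ X.E t := fun k => eo.ne (by rw [iso e k ed]; exact X.φ_C h.tC)
  by_cases tG : t ∈ G0
  · obtain ⟨c16, dec, -, -⟩ := h.T4 h4 eT eE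
    have sq : ∀ g ∈ T, g * g ∈ C[T] := fun g hg => by
      rcases dec g hg with k | k
      · rw [h.el_E X g k]; exact one_mem _
      · have m : g * g ∈ X.E t := by
          have := mul_mem k (H24.conj_mem (h.T_E eT) k)
          rwa [show g * e * (e * (g * e) * e⁻¹) = g * (e * e) * g by group, eo.sq, mul_one] at this
        refine mem_C.2 fun x hx => ?_
        rcases dec x hx with k' | k'
        · exact (h.el_E X).abl.comm k' m
        · have := (h.el_E X).abl.comm (mul_mem k' (inv_mem k)) m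
          rw [show x * e * (g * e)⁻¹ = x * g⁻¹ by group] at this
          calc x * (g * g) = x * g⁻¹ * (g * g) * g := by group
            _ = _ := by rw [this]; group
    refine Or.inl (cl2 h.toSt (h.top tG ▸ sT) c16.ge (commutator_le.2 fun a ha b hb => ?_))
    rw [show ⁅a, b⁆ = a * b * (a * b) * (b⁻¹ * a⁻¹ * b * (b⁻¹ * a⁻¹ * b)) * (b⁻¹ * b⁻¹) by
      rw [commutatorElement_def]; group]
    exact mul_mem (mul_mem (sq _ (mul_mem ha hb)) (sq _ (mul_mem (mul_mem (inv_mem hb) (inv_mem ha)) hb)))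
      (sq _ (inv_mem hb))
  have eG : e ∉ G0 := by
    obtain ⟨k, rfl⟩ := ed
    exact fun m => tG (by simpa [mul_assoc] using h.nrm.conj_mem _ m k⁻¹)
  have fG := h.mul eG tG
  have fT := mul_mem eT h.t_T
  have fo : X.Out (e * t) := ⟨h.T_L fT, h.T_V fT, by
    rw [mul_assoc, ← mul_assoc t, ← LRx.Tt h.toLb eT, mul_assoc e, h.tt, mul_one, eo.sq], by
    rw [X.φ_mul _ eo.nL _ (C_le_N _ h.tC), X.φ_C h.tC, mul_one]; exact eo.ne⟩
  generalize e * t = f at fG fT fo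
  have fE : f ∉ X.E t := fun k => by
    obtain ⟨b, rfl | rfl⟩ := (h.mem_E X).1 k
    · exact fo.ne (X.φ_L (X.z_mem b))
    · exact tG ((mul_mem_cancel_right (h.le (X.z_mem b))).1 fG)
  obtain ⟨c16, dec, -, -⟩ := h.T4 h4 fT fE
  obtain ⟨s0, -, c8⟩ := h.syl0 sT
  have c8 := c8 tG
  have VS : X.V ≤ T ⊓ G0 := le_inf h.V_T (X.V_le.trans h.le)
  have EV : ∀ x ∈ X.E t, x ∈ G0 → x ∈ X.V := fun x k hx => by
    obtain ⟨b, rfl | rfl⟩ := (h.mem_E X).1 k
    · exact X.z_V b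
    · exact (tG ((mul_mem_cancel_right (h.le (X.z_mem b))).1 hx)).elim
  refine h.rk2 h4 tG fT fG fo sT le_rfl (fun A hA el => ?_) (fun s hs s2 s1 => ?_) (Or.inl rfl)
  · by_contra hc
    have d := card_dvd hA
    have e8 : ♯(T ⊓ G0 : Subgroup G) = 8 := by omega
    have : ♯A = 8 := by
      rw [e8] at d
      have := Nat.le_of_dvd (by norm_num) d
      interval_cases ♯A <;> omega
    rw [eq_of_card_eq hA (this.trans e8.symm)] at el
    exact fo.ne (X.φ_CV fo.nL (centralizer_le VS (el.abl.le_C ⟨fT, fG⟩)))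
  · obtain ⟨g, hg, b, k⟩ := thom h.toSt (fun k => X.nab (k.of_le h.le)) le_rfl s0 VS (fun x hx y hy => by
      rcases dec x hx.1 with k | k
      · exact Or.inl (EV x k hx.2)
      rcases dec y hy.1 with k' | k'
      · exact Or.inr (Or.inl (EV y k' hy.2))
      have := mul_mem (EV _ k (mul_mem hx.2 fG)) (H24.conj_mem fo.nV (EV _ k' (mul_mem hy.2 fG)))
      rw [show x * f * (f * (y * f) * f⁻¹) = x * (f * f) * y by group, fo.sq, mul_one] at this
      exact Or.inr (Or.inr this)) hs s2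
    obtain ⟨l, hl⟩ := X.exists_h (a := 1) (b := b) one_ne_zero (by
      rintro rfl; exact s1 (by simpa [X.z_zero] using k))
    exact ⟨g⁻¹ * X.h l, mul_mem (inv_mem hg) (h.le (X.h_mem l)), by
      rw [show g⁻¹ * X.h l * X.z 1 * (g⁻¹ * X.h l)⁻¹ = g⁻¹ * (X.h l * X.z 1 * (X.h l)⁻¹) * g by group, hl, ← k]
      group⟩



end H23.L2
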