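import Mathlib
import Cfsg.Agent.H23.LDefs
import Cfsg.Agent.H22.Cov2

set_option autoImplicit false
set_option linter.unusedVariables false
set_option linter.unusedSectionVars false

namespace H23.L2

open Cfsg H24 Subgroup
open H2.SZ (St DD Goal)
open scoped MatrixGroups commutatorElement

universe u

variable {G : Type u} [Group G] [Finite G] {F : Type*} [Field F] [Fintype F]
  {L G0 D T B R Q S S1 A P N M H : Subgroup G} {t f g i j ρ z u : G} {X : LD F L} {n : ℕ}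
  {π s : G → F}

namespace LMx

open Matrix H22.SL2Aut

theorem cube (h2 : (2 : F) = 0) (x y : F) (hy : y ≠ 0) :
    uu x * ll y * (uu x * ll y) * (uu x * ll y) = 1 ↔ x * y = 1 := by
  constructor
  · intro h
    have := congrArg (fun g : SL(2, F) => g.1 1 0) h
    simp [-SpecialLinearGroup.coe_mul, ent, uu_val, ll_val] at this
    have h3 : y * (x * y - 1) ^ 2 = 0 := by linear_combination this + (-y - 3 * x * y ^ 2) * h2
    exact sub_eq_zero.1 (pow_eq_zero_iff two_ne_zero |>.1 ((mul_eq_zero.1 h3).resolve_left hy))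
  · intro h
    ext i j
    fin_cases i <;> fin_cases j <;> simp [-SpecialLinearGroup.coe_mul, ent, uu_val, ll_val]
    · linear_combination ((x * y) ^ 2 + 6 * (x * y) + 12) * h + 6 * h2
    · linear_combination (x * (x * y + 5)) * h + 4 * x * h2
    · linear_combination (y * (x * y + 5)) * h + 4 * y * h2
    · linear_combination (x * y + 4) * h + 2 * h2

theorem ll_inj {x y : F} (h : ll x = ll y) : x = y := congrArg (fun g : SL(2, F) => g.1 1 0) h

theorem ex_sq (h2 : (2 : F) = 0) : ∃ r : F →* F, (∀ x, r x ^ 2 = x) ∧ ∀ x, r (x ^ 2) = x := by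
  have : CharP F 2 := CharTwo.of_one_ne_zero_of_two_eq_zero one_ne_zero h2
  exact ⟨(frobeniusEquiv F 2).symm, fun x => (frobeniusEquiv F 2).apply_symm_apply x,
    fun x => (frobeniusEquiv F 2).symm_apply_apply x⟩

theorem exists_std2 (h2 : (2 : F) = 0) (γ : MulAut SL(2, F)) (h1 : ∀ x, ∃ y, γ (uu x) = uu y)
    (h1' : ∀ x, ∃ y, γ (ll x) = ll y) : ∃ (c : F) (σ : F ≃+* F), c ≠ 0 ∧
      (∀ x, γ (uu x) = uu (c * σ x)) ∧ ∀ x, γ (ll x) = ll (σ x / c) := by
  choose φ hφ using h1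
  choose ψ hψ using h1'
  have hinj : Function.Injective φ := fun x y e => uu_inj (γ.injective (by rw [hφ, hφ, e]))
  have hadd : ∀ x y, φ (x + y) = φ x + φ y := fun x y =>
    uu_inj (by rw [← hφ, uu_add, map_mul, hφ, hφ, uu_add])
  have h0 : φ 0 = 0 := uu_inj (by rw [← hφ, uu_zero, map_one])
  have hc : φ 1 ≠ 0 := fun e => one_ne_zero (hinj (e.trans h0.symm))
  have hsq : ∀ a x, φ (a ^ 2 * x) * φ 1 = φ (a ^ 2) * φ x := fun a x => by
    by_cases ha : a = 0
    · simp [ha, h0]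
    have h3 : ∀ x, γ (dd a ha) * uu (φ x) = uu (φ (a ^ 2 * x)) * γ (dd a ha) := fun x => by
      rw [← hφ, ← hφ, ← map_mul, ← map_mul, dd_uu]
    generalize γ (dd a ha) = t at h3
    have h4 : t.1 1 0 = 0 := by
      have := congrArg (fun g : SL(2, F) => g.1 1 1) (h3 1)
      simpa [-SpecialLinearGroup.coe_mul, ent, uu_val, hc] using this
    have h5 : ∀ x, t.1 0 0 * φ x = φ (a ^ 2 * x) * t.1 1 1 := fun x => by
      have := congrArg (fun g : SL(2, F) => g.1 0 1) (h3 x)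
      simp [-SpecialLinearGroup.coe_mul, ent, uu_val] at this
      linear_combination this
    have h6 : t.1 0 0 * t.1 1 1 = 1 := by
      have := t.2
      rw [det_fin_two, h4] at this
      linear_combination this
    have h7 := h5 1
    rw [mul_one] at h7
    have h8 := h5 x
    linear_combination (t.1 0 0 * φ x) * h7 - (t.1 0 0 * φ 1) * h8 +
      (φ (a ^ 2) * φ x - φ (a ^ 2 * x) * φ 1) * h6
  have hmul : ∀ y x, φ (y * x) * φ 1 = φ y * φ x := fun y x => by
    obtain ⟨r, hr, -⟩ := ex_sq h2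
    rw [← hr y, hsq]
  let σ₀ : F →+* F :=
    { toFun := fun x => φ x / φ 1
      map_one' := div_self hc
      map_mul' := fun x y => by
        rw [eq_div_of_mul_eq hc (hmul x y)]
        field_simp
      map_zero' := by rw [h0, zero_div]
      map_add' := fun x y => by rw [hadd, add_div] }
  let σ := RingEquiv.ofBijective σ₀ (Finite.injective_iff_bijective.mp σ₀.injective)
  have h3 : ∀ x, φ x = φ 1 * σ x := fun x => (mul_div_cancel₀ _ hc).symm
  refine ⟨φ 1, σ, hc, fun x => by rw [hφ, ← h3], fun y => ?_⟩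
  by_cases hy : y = 0
  · rw [hy, map_zero, zero_div, ll_zero, map_one]
  have h4 := congrArg γ ((cube h2 y⁻¹ y hy).mpr (inv_mul_cancel₀ hy))
  have h5 : ψ y ≠ 0 := fun e => hy (ll_inj (γ.injective (by rw [hψ, e, ll_zero, map_one])))
  simp only [map_mul, map_one, hφ, hψ, cube h2 _ _ h5] at h4
  rw [h3, map_inv₀] at h4
  have h6 : σ y ≠ 0 := by simpa using hy
  rw [hψ]
  congr 1
  field_simp at h4 ⊢
  linear_combination h4

/-- field automorphisms -/
abbrev fm (σ : F ≃+* F) : SL(2, F) →* SL(2, F) := SpecialLinearGroup.map (σ : F →+* F)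

theorem fm_uu (σ : F ≃+* F) (x : F) : fm σ (uu x) = uu (σ x) := by
  ext i j; fin_cases i <;> fin_cases j <;> simp [uu_val]

theorem fm_ll (σ : F ≃+* F) (x : F) : fm σ (ll x) = ll (σ x) := by
  ext i j; fin_cases i <;> fin_cases j <;> simp [ll_val]

theorem aut2 (h2 : (2 : F) = 0) (α : MulAut SL(2, F)) :
    ∃ (m : SL(2, F)) (σ : F ≃+* F), ∀ a, α a = m * fm σ a * m⁻¹ := by
  obtain ⟨g, h1, h1'⟩ := exists_stab α
  obtain ⟨c, σ, hc, e1, e2⟩ := exists_std2 h2 _ h1 h1'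
  obtain ⟨r, hr, -⟩ := ex_sq h2
  have hd : r c ≠ 0 := fun e => hc (by rw [← hr c, e]; simp)
  have key : (MulAut.conj g * α).toMonoidHom = (MulAut.conj (dd _ hd)).toMonoidHom.comp (fm σ) := by
    refine hom_ext (fun x => ?_) fun x => ?_
    · change (MulAut.conj g * α) _ = dd _ hd * fm σ _ * (dd _ hd)⁻¹
      rw [e1, fm_uu, dd_uu, hr, mul_inv_cancel_right]
    · change (MulAut.conj g * α) _ = dd _ hd * fm σ _ * (dd _ hd)⁻¹
      rw [e2, fm_ll, dd_ll, hr, mul_inv_cancel_right]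
  refine ⟨g⁻¹ * dd _ hd, σ, fun a => ?_⟩
  have h3 : g * α a * g⁻¹ = dd _ hd * fm σ a * (dd _ hd)⁻¹ := DFunLike.congr_fun key a
  rw [show α a = g⁻¹ * (g * α a * g⁻¹) * g by group, h3]; group

theorem tr_conj (m a : SL(2, F)) : (m * a * m⁻¹).1.trace = a.1.trace := by
  rw [mul_val, trace_mul_comm, ← mul_val, ← mul_assoc, inv_mul_cancel, one_mul]

theorem tr_fm (σ : F ≃+* F) (a : SL(2, F)) : (fm σ a).1.trace = σ a.1.trace := by
  simp [trace_fin_two]

theorem tr_ext {σ τ : F ≃+* F} (h : ∀ a : SL(2, F), σ a.1.trace = τ a.1.trace) : σ = τ :=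
  RingEquiv.ext fun x => by
    have e : (uu x * ww).1.trace = x := by
      rw [trace_fin_two, ent, ent]; simp [uu_val, ww_val]
    have := h (uu x * ww)
    rwa [e] at this

theorem borel {g : SL(2, F)} (h : g.1 1 0 = 0) : ∃ a d hd, g = uu a * dd d hd := by
  have h1 := g.2
  rw [det_fin_two, h, mul_zero, sub_zero] at h1
  have h2 : g.1 0 0 ≠ 0 := left_ne_zero_of_mul_eq_one h1
  refine ⟨g.1 0 1 * g.1 0 0, g.1 0 0, h2, ?_⟩
  ext i j
  fin_cases i <;> fin_cases j <;> simp [-SpecialLinearGroup.coe_mul, ent, uu_val, dd_val, h, h2]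
  exact (eq_inv_of_mul_eq_one_right h1)

theorem big {g : SL(2, F)} (h : g.1 1 0 ≠ 0) : ∃ a d hd b, g = uu a * dd d hd * ww * uu b := by
  have h1 := g.2
  rw [det_fin_two] at h1
  refine ⟨g.1 0 0 / g.1 1 0, (g.1 1 0)⁻¹, inv_ne_zero h, g.1 1 1 / g.1 1 0, ?_⟩
  ext i j
  fin_cases i <;> fin_cases j <;> simp [-SpecialLinearGroup.coe_mul, ent, uu_val, dd_val, ww_val] <;>
    field_simp
  linear_combination -h1

theorem ti0 {g : SL(2, F)} {b c : F} (hb : b ≠ 0) (h : g * uu b * g⁻¹ = uu c) : g.1 1 0 = 0 := by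
  have := congrArg (fun g : SL(2, F) => g.1 1 1) (mul_inv_eq_iff_eq_mul.1 h)
  simpa [-SpecialLinearGroup.coe_mul, ent, uu_val, hb] using this

theorem dd_mul {a b : F} (ha : a ≠ 0) (hb : b ≠ 0) : dd (a * b) (mul_ne_zero ha hb) = dd a ha * dd b hb := by
  ext i j; fin_cases i <;> fin_cases j <;> simp [-SpecialLinearGroup.coe_mul, ent, dd_val, mul_comm]

theorem ww_dd {a : F} (ha : a ≠ 0) : ww * dd a ha = dd a⁻¹ (inv_ne_zero ha) * ww := by
  ext i j; fin_cases i <;> fin_cases j <;> simp [-SpecialLinearGroup.coe_mul, ent, dd_val, ww_val]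

theorem dd_congr {a b : F} (ha : a ≠ 0) (hb : b ≠ 0) (h : a = b) : dd a ha = dd b hb := by subst h; rfl

theorem center_bot (h2 : (2 : F) = 0) : center SL(2, F) = ⊥ := by
  refine eq_bot_iff.2 fun a h => ?_
  obtain ⟨r, hr, e⟩ := Matrix.SpecialLinearGroup.mem_center_iff.1 h
  rw [Fintype.card_fin] at hr
  have : r = 1 := sub_eq_zero.1 (pow_eq_zero_iff two_ne_zero |>.1
    (by linear_combination hr + (1 - r) * h2 : (r - 1) ^ 2 = 0))
  exact Subtype.ext (by rw [← e, this]; simp)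

end LMx
open LMx H22.SL2Aut

/-! ### LM -/
theorem exists_ld {a : ℕ} (ha : 2 ≤ a) (hF : Fintype.card F = 2 ^ a)
    (e : Nonempty (L ≃* PSL(2, F))) : Nonempty (LD F L) := by
  classical
  obtain ⟨e⟩ := e
  have h2 : (2 : F) = 0 := by
    have := FiniteField.cast_card_eq_zero F
    rw [hF, Nat.cast_pow] at this
    exact_mod_cast (pow_eq_zero_iff (by omega)).1 this
  have h4 : 4 ≤ Fintype.card F := hF ▸ Nat.pow_le_pow_right (n := 2) (by norm_num) ha
  let e' : SL(2, F) ≃* L := (QuotientGroup.quotientBot.symm.trans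
    (QuotientGroup.quotientMulEquivOfEq (center_bot h2).symm)).trans e.symm
  obtain ⟨κ, hi, hm, hs⟩ : ∃ κ : SL(2, F) →* G, Function.Injective κ ∧ (∀ x, κ x ∈ L) ∧
      ∀ g ∈ L, ∃ x, κ x = g := ⟨L.subtype.comp e'.toMonoidHom, Subtype.val_injective.comp e'.injective,
    fun x => (e' x).2, fun g hg => ⟨e'.symm ⟨g, hg⟩, congrArg Subtype.val (e'.apply_symm_apply _)⟩⟩
  obtain ⟨r, hr, hr'⟩ := ex_sq h2
  have r0 : ∀ k : Fˣ, r k ≠ 0 := fun k e => k.ne_zero (by rw [← hr k, e]; simp)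
  let dh : Fˣ →* SL(2, F) := MonoidHom.mk' (fun k => dd (r k) (r0 k)) fun k l => by
    rw [← dd_mul]; exact dd_congr _ _ (by rw [Units.val_mul, map_mul])
  have d1 : ∀ d hd, ∃ k, dd d hd = dh k := fun d hd =>
    ⟨Units.mk0 (d ^ 2) (pow_ne_zero _ hd), dd_congr _ (r0 _) (hr' d).symm⟩
  have d2 : ∀ (k : Fˣ) (x : F), dh k * uu x * (dh k)⁻¹ = uu (k * x) := fun k x => by
    rw [mul_inv_eq_iff_eq_mul]
    exact (dd_uu _ (r0 k) x).trans (by rw [hr]; rfl)
  have st : ∀ g, ∃ σ : RingAut F, g ∈ N[L] → ∃ m, ∀ x, g * κ x * g⁻¹ = κ (m * fm σ x * m⁻¹) := fun g => by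
    by_cases hg : g ∈ N[L]
    · choose β hβ using fun x => hs _ (H24.conj_mem hg (hm x))
      have bi : Function.Injective β := fun x y h => hi (by
        have := (hβ x).symm.trans ((congrArg κ h).trans (hβ y))
        simpa using this)
      obtain ⟨m, σ, h⟩ := aut2 h2 (MulEquiv.ofBijective (MonoidHom.mk' β fun x y => hi (by
        rw [map_mul, hβ, hβ, hβ, map_mul]; group)) (Finite.injective_iff_bijective.1 bi))
      exact ⟨σ, fun _ => ⟨m, fun x => by rw [← h, ← hβ]; rfl⟩⟩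
    · exact ⟨1, fun h => absurd h hg⟩
  choose φ hφ using st
  have tr : ∀ g ∈ N[L], ∀ x y, g * κ x * g⁻¹ = κ y → y.1.trace = φ g x.1.trace := fun g hg x y h => by
    obtain ⟨m, hm⟩ := hφ g hg
    rw [← hi ((hm x).symm.trans h), tr_conj, tr_fm]
  have := Matrix.ProjectiveSpecialLinearGroup.rank_two_simple (F := F) (Nat.card_eq_fintype_card (α := F) ▸ h4)
  refine ⟨⟨h2, h4, fun b => κ (uu b), κ.comp dh, κ ww, φ, fun _ => hm _, fun _ => hm _, hm _,
    fun a b => by rw [← map_mul, uu_add], fun h => uu_inj (hi h), fun k b => ?_, ?_, e.isSimpleGroup,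
    fun g hg b c hb h => ?_, fun g hg => ?_, fun b c hb h => ?_, fun k => ?_, fun g hg g' hg' => ?_,
    fun g hg => ⟨fun h => ?_, ?_⟩, fun g hg h => ?_⟩⟩
  · rw [MonoidHom.comp_apply, ← map_inv, ← map_mul, ← map_mul, d2]
  · rw [← H7.card_sl_two rfl]; exact (Nat.card_congr e'.toEquiv).symm
  · obtain ⟨x, rfl⟩ := hs g hg
    rw [← map_inv, ← map_mul, ← map_mul] at h
    obtain ⟨a, d, hd, rfl⟩ := borel (ti0 hb (hi h))
    obtain ⟨k, hk⟩ := d1 d hd
    exact ⟨a, k, by rw [hk, map_mul]; rfl⟩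
  · obtain ⟨x, rfl⟩ := hs g hg
    by_cases h : x.1 1 0 = 0
    · obtain ⟨a, d, hd, rfl⟩ := borel h
      obtain ⟨k, hk⟩ := d1 d hd
      exact Or.inl ⟨a, k, by rw [hk, map_mul]; rfl⟩
    · obtain ⟨a, d, hd, b, rfl⟩ := big h
      obtain ⟨k, hk⟩ := d1 d hd
      exact Or.inr ⟨a, k, b, by rw [hk, map_mul, map_mul, map_mul]; rfl⟩
  · rw [← map_inv, ← map_mul, ← map_mul] at h
    simpa [ww_val] using ti0 hb (hi h)
  · rw [mul_inv_eq_iff_eq_mul, MonoidHom.comp_apply, MonoidHom.comp_apply, ← map_mul, ← map_mul]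
    refine congrArg κ ((ww_dd (r0 k)).trans (congrArg (· * ww) (dd_congr _ (r0 k⁻¹) ?_)))
    exact (eq_inv_of_mul_eq_one_left (by rw [← map_mul, Units.inv_mul, map_one])).symm
  · refine tr_ext fun x => ?_
    obtain ⟨y, hy⟩ := hs _ (H24.conj_mem hg' (hm x))
    obtain ⟨w, hw⟩ := hs _ (H24.conj_mem hg (hm y))
    rw [← tr _ (mul_mem hg hg') x w (by rw [hw, hy]; group), tr g hg y w hw.symm, tr g' hg' x y hy.symm]
    rfl
  · obtain ⟨m, h1⟩ := hφ g hg
    refine ⟨κ m, hm m, (κ m)⁻¹ * g, mem_C.2 fun l hl => ?_, by group⟩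
    obtain ⟨x, rfl⟩ := hs l hl
    have h3 := h1 x
    rw [h, show fm (1 : RingAut F) x = x from rfl, map_mul, map_mul, map_inv] at h3
    rw [show (κ m)⁻¹ * g * κ x = (κ m)⁻¹ * (g * κ x * g⁻¹) * g by group, h3]; group
  · rintro ⟨l, hl, k, hk, rfl⟩
    obtain ⟨m, rfl⟩ := hs l hl
    refine tr_ext fun x => ?_
    rw [← tr _ hg x (m * x * m⁻¹) (by
      rw [map_mul, map_mul, map_inv, mul_assoc (κ m), ← mem_C.1 hk _ (hm x)]; group), tr_conj]
    rfl
  · obtain ⟨m, h1⟩ := hφ g hg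
    obtain ⟨c, hc⟩ := h 1
    rw [h1, fm_uu, map_one] at hc
    obtain ⟨a, d, hd, rfl⟩ := borel (ti0 one_ne_zero (hi hc))
    obtain ⟨k, hk⟩ := d1 d hd
    refine ⟨k, k.ne_zero, fun b => ?_⟩
    rw [h1, fm_uu, hk, show ∀ x, uu a * dh k * x * (uu a * dh k)⁻¹ = uu a * (dh k * x * (dh k)⁻¹) * (uu a)⁻¹
      from fun x => by group, d2, ← uu_add, add_comm, uu_add, mul_inv_cancel_right]

end H23.L2
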