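import Mathlib
import Cfsg.Agent.H23.LDefs
import Cfsg.Agent.H23.LE

set_option autoImplicit false
set_option linter.unusedVariables false
set_option linter.unusedSectionVars false

namespace H23.L2

open Cfsg H24 Subgroup
open H2.SZ (St DD Goal)
open scoped MatrixGroups commutatorElement

universe u

variable {G : Type u} [Group G] [Finite G] {F : Type*} [Field F] [Fintype F]
  {L G0 D T B R Q S S1 A P N M H : Subgroup G} {t f g i j ρ z u : G} {X : LD F L} {n : ℕ}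
  {π s : G → F}

/-! ### SA -/

namespace SAx

section
variable (h : SD L G0 t i j ρ)
include h

theorem tL : t ∈ L := h.ii ▸ mul_mem h.iL h.iL
theorem tt' (x : G) : t * (t * x) = x := by rw [← mul_assoc, h.tt, one_mul]
theorem it : i * t = t * i := mem_C.1 h.tC i h.iL
theorem jt : j * t = t * j := mem_C.1 h.tC j h.jL
theorem it' (x : G) : i * (t * x) = t * (i * x) := by rw [← mul_assoc, it h, mul_assoc]
theorem jt' (x : G) : j * (t * x) = t * (j * x) := by rw [← mul_assoc, jt h, mul_assoc]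
theorem ii' (x : G) : i * (i * x) = t * x := by rw [← mul_assoc, h.ii]
theorem jj' (x : G) : j * (j * x) = t * x := by rw [← mul_assoc, h.jj]
theorem ji : j * i = t * (i * j) := by rw [h.ij, tt' h]
theorem ji' (x : G) : j * (i * x) = t * (i * (j * x)) := by rw [← mul_assoc, ji h]; group
theorem tinv : t⁻¹ = t := inv_eq_of_mul_eq_one_right h.tt
theorem iinv : i⁻¹ = t * i := inv_eq_of_mul_eq_one_right (by rw [it' h, h.ii, h.tt])
theorem jinv : j⁻¹ = t * j := inv_eq_of_mul_eq_one_right (by rw [jt' h, h.jj, h.tt])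
theorem LC : L ≤ C{t} := fun l hl => mem_C1.2 (mem_C.1 h.tC l hl)
theorem CN : C{t} ≤ N[L] := fun g hg => h.Ct g (mem_C1.1 hg)
theorem Ct' : C[L] ≤ C{t} := C_le_C1 (tL h)

theorem mem_Q {y : G} : y ∈ closure {i, j} ↔ (y = 1 ∨ y = t) ∨ (y = i ∨ y = t * i) ∨
    (y = j ∨ y = t * j) ∨ (y = i * j ∨ y = t * (i * j)) := by
  have hi : i ∈ closure {i, j} := subset_closure (by simp)
  have hj : j ∈ closure {i, j} := subset_closure (by simp)
  have ht : t ∈ closure {i, j} := h.ii ▸ mul_mem hi hi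
  refine ⟨fun hy => ?_, ?_⟩
  · induction hy using closure_induction_left with
    | one => simp
    | mul_left x hx y _ ih =>
      rcases hx with rfl | rfl <;>
      rcases ih with (rfl | rfl) | (rfl | rfl) | (rfl | rfl) | (rfl | rfl) <;>
      simp [mul_assoc, h.tt, tt' h, it h, jt h, it' h, jt' h, h.ii, h.jj, ii' h, jj' h, ji h, ji' h]
    | inv_mul_cancel x hx y _ ih =>
      rcases hx with rfl | rfl <;>
      rcases ih with (rfl | rfl) | (rfl | rfl) | (rfl | rfl) | (rfl | rfl) <;>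
      simp [iinv h, jinv h, mul_assoc, h.tt, tt' h, it h, jt h, it' h, jt' h, h.ii, h.jj, ii' h,
        jj' h, ji h, ji' h]
  · rintro ((rfl | rfl) | (rfl | rfl) | (rfl | rfl) | (rfl | rfl))
    exacts [one_mem _, ht, hi, mul_mem ht hi, hj, mul_mem ht hj, mul_mem hi hj,
      mul_mem ht (mul_mem hi hj)]

theorem sq_Q {y : G} (hy : y ∈ closure {i, j}) : (y = 1 ∨ y = t) ∨ y * y = t := by
  rcases (mem_Q h).1 hy with e | (rfl | rfl) | (rfl | rfl) | (rfl | rfl)
  · exact Or.inl e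
  all_goals
    right
    simp [mul_assoc, h.tt, tt' h, it h, jt h, it' h, jt' h, h.ii, h.jj, ii' h, jj' h, ji h, ji' h]

theorem sq_Q' {y : G} (hy : y ∈ closure {i, j}) : y * y = 1 ∨ y * y = t := by
  rcases sq_Q h hy with (rfl | rfl) | e
  exacts [Or.inl (one_mul _), Or.inl h.tt, Or.inr e]

theorem nc : i * j ≠ j * i := fun e => h.t1 (by
  have := h.ij
  rw [e] at this
  exact mul_right_cancel (this.symm.trans (one_mul _).symm))

theorem Q_L : closure {i, j} ≤ L := (closure_le _).2 (by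
  rintro x (rfl | rfl)
  exacts [h.iL, h.jL])

theorem pi_Q : IsPi {2} (closure {i, j}) := isPi_iff_piElt.2 fun y hy =>
  piElt_of_pow_eq_one (n := 2 ^ 2) (piNat_self_pow Nat.prime_two 2) (by
    rw [show y ^ 2 ^ 2 = y * y * (y * y) by simp [pow_succ, mul_assoc]]
    rcases sq_Q' h hy with e | e <;> rw [e]
    exacts [one_mul _, h.tt])

theorem syl_Q : Syl 2 L (closure {i, j}) := by
  obtain ⟨P, hP, hQ⟩ := Sylow_superset Nat.prime_two (pi_Q h) (Q_L h)
  have hi : i ∈ closure {i, j} := subset_closure (by simp)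
  have hj : j ∈ closure {i, j} := subset_closure (by simp)
  have o4 : orderOf i = 4 := orderOf_eq_prime_pow (p := 2) (n := 1)
    (by rw [pow_one, sq, h.ii]; exact h.t1) (by
      rw [show i ^ 2 ^ (1 + 1) = i * i * (i * i) by simp [pow_succ, mul_assoc], h.ii, h.tt])
  have h1 : zpowers i < closure {i, j} := lt_of_le_of_ne (zpowers_le.2 hi) fun e =>
    nc h ((cyc_zpowers i).abl.comm (mem_zpowers i) (e ▸ hj))
  have h2 := card_lt h1
  have h3 := card_dvd_of_le h1.le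
  rw [Nat.card_zpowers, o4] at h2 h3
  obtain ⟨k, hk⟩ := hP.pi.card_eq_pow Nat.prime_two
  have h4 := card_dvd_of_le hP.le
  rw [h.cardL, hk] at h4
  have h5 : k ≤ 3 := by
    by_contra hc
    exact absurd ((pow_dvd_pow 2 (show 4 ≤ k by omega)).trans h4) (by decide)
  have h6 : ♯P ≤ 8 := hk ▸ Nat.pow_le_pow_right two_pos h5
  rwa [eq_of_le_of_card_ge hQ (by omega)]

/-- a `2`-element of `L C(L)` is a product of `2`-elements -/
theorem dec (hg : g ∈ L ⊔ C[L]) (h2 : PiElt {2} g) :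
    ∃ l ∈ L, ∃ c ∈ C[L], PiElt {2} l ∧ PiElt {2} c ∧ g = l * c := by
  obtain ⟨l, hl, c, hc, rfl⟩ := (mem_sup_of_norm (C_le_N L)).1 hg
  exact ⟨_, constt_mem _ hl, _, constt_mem _ hc, piElt_constt _ _, piElt_constt _ _,
    by rw [← constt_mul _ (mem_C.1 hc l hl), constt_eq_self h2]⟩

theorem sq_L (hg : g ∈ L) (h2 : PiElt {2} g) : g * g = 1 ∨ g * g = t := by
  obtain ⟨l, hl, e⟩ := Sylow_subJ Nat.prime_two (syl_Q h) h2.isPi (zpowers_le.2 hg)
  obtain ⟨y, hy, rfl⟩ := mem_cj'.1 (e (mem_zpowers g))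
  rw [show l * y * l⁻¹ * (l * y * l⁻¹) = l * (y * y) * l⁻¹ by group]
  rcases sq_Q' h hy with e | e <;> rw [e]
  · left; group
  · right; exact mem_C1_iff_conj.1 (LC h hl)

theorem inv_C (hg : g ∈ C[L]) (h2 : g * g = 1) : g = 1 ∨ g = t :=
  h.toSt2.inv_C hg (mem_C1.1 (Ct' h hg)) h2

theorem TL (hT : IsPi {2} T) (Tt : T ≤ C{t}) (hi : i ∈ T) (hj : j ∈ T) :
    T ⊓ L = closure {i, j} :=
  (syl_Q h).eq_of_le (hT.inf_left _) (le_inf ((closure_le _).2 (by
    rintro x (rfl | rfl)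
    exacts [hi, hj])) (Q_L h)) inf_le_right

theorem TQ (hT : IsPi {2} T) (Tt : T ≤ C{t}) (hi : i ∈ T) (hj : j ∈ T) :
    T ≤ N[closure {i, j}] :=
  TL h hT Tt hi hj ▸ norm_inf (norm_self T) (Tt.trans (CN h))

/-- a Sylow subgroup of `C(t)` is conjugate to one containing `i`, `j` -/
theorem exists_conj (hT : Syl 2 C{t} T) : ∃ l ∈ L, i ∈ cj l T ∧ j ∈ cj l T := by
  obtain ⟨l, hl, e⟩ := Sylow_subJ Nat.prime_two (hT.inf_norm (LC h) (hT.le.trans (CN h))) (pi_Q h)
    (Q_L h)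
  have := e.trans (cj_mono l inf_le_left)
  exact ⟨l, hl, this (subset_closure (by simp)), this (subset_closure (by simp))⟩

theorem exists_syl : ∃ T, Syl 2 C{t} T ∧ i ∈ T ∧ j ∈ T := by
  obtain ⟨T, hT, e⟩ := Sylow_superset Nat.prime_two (pi_Q h) ((Q_L h).trans (LC h))
  exact ⟨T, hT, e (subset_closure (by simp)), e (subset_closure (by simp))⟩

end
end SAx

theorem SD.top (h : SD L G0 t i j ρ) : G0 = ⊤ := h.toSt2.top (h.le (SAx.tL h))

theorem SD.rot (h : SD L G0 t i j ρ) : SD L G0 t j (i * j) ρ :=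
  { h with
    iL := h.jL
    jL := mul_mem h.iL h.jL
    ii := h.jj
    jj := by simp [mul_assoc, h.tt, SAx.tt' h, SAx.it h, SAx.it' h, h.ii, h.jj, SAx.ii' h, SAx.ji' h]
    ij := by simp [mul_assoc, SAx.ji' h]
    ρi := h.ρj
    ρj := by rw [← conj_mul, h.ρi, h.ρj]
    out := fun g hg h2 h3 h4 => h.out g hg h2 (by
      have e : g * i * g⁻¹ = g * (i * j) * g⁻¹ * (g * j * g⁻¹)⁻¹ := by group
      rw [e]
      rcases h3 with e3 | e3 <;> rcases h4 with e4 | e4 <;> rw [e3, e4] <;>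
      simp [mul_assoc, SAx.tinv h, SAx.jinv h, h.tt, SAx.tt' h, SAx.it h, SAx.jt h, SAx.it' h,
        SAx.jt' h, h.jj, SAx.jj' h]) h3 }

theorem SD.sq (h : SD L G0 t i j ρ) (hg : g ∈ L ⊔ C[L]) (gt : g * t = t * g)
    (h1 : g * g * (g * g) = 1) : g * g = 1 ∨ g * g = t := by
  obtain ⟨l, hl, c, hc, h2, h3, rfl⟩ := SAx.dec h hg
    (piElt_of_pow_eq_one (n := 2 ^ 2) (piNat_self_pow Nat.prime_two 2)
      (by rw [← h1]; simp [pow_succ, mul_assoc]))
  have e : l * c * (l * c) = l * l * (c * c) := by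
    rw [mul_assoc, ← mul_assoc c, ← mem_C.1 hc l hl]; group
  have ct := mem_C1.1 (SAx.Ct' h (mul_mem hc hc))
  rw [e] at h1 ⊢
  rcases SAx.sq_L h hl h2 with e1 | e1 <;> rw [e1] at h1 ⊢
  · rw [one_mul] at h1 ⊢
    exact SAx.inv_C h (mul_mem hc hc) h1
  · rw [mul_assoc, ← mul_assoc (c * c), ct, mul_assoc, SAx.tt' h] at h1
    rcases SAx.inv_C h (mul_mem hc hc) h1 with e2 | e2 <;> rw [e2]
    exacts [Or.inr (mul_one _), Or.inl h.tt]

theorem SD.inv (h : SD L G0 t i j ρ) (hT : IsPi {2} T) (Tt : T ≤ C{t}) (hi : i ∈ T) (hj : j ∈ T)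
    (hg : g ∈ T) (h1 : g ∈ L ⊔ C[L]) : ∃ r ∈ T ⊓ C[L], ∃ y ∈ closure {i, j}, g = r * y := by
  obtain ⟨l, hl, c, hc, h2, h3, rfl⟩ := SAx.dec h h1 (hT.piElt hg)
  have h4 : l ∈ N[closure {i, j}] := by
    have := mul_mem (SAx.TQ h hT Tt hi hj hg) (inv_mem (C_le_N _ (C_anti (SAx.Q_L h) hc)))
    rwa [mul_inv_cancel_right] at this
  have h5 := (SAx.syl_Q h).le_of_norm h2.isPi (zpowers_le.2 hl) (zpowers_le.2 h4) (mem_zpowers l)
  have h6 : l ∈ T := ((SAx.TL h hT Tt hi hj).ge h5).1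
  refine ⟨c, ⟨?_, hc⟩, l, h5, mem_C.1 hc l hl⟩
  have := mul_mem (inv_mem h6) hg
  rwa [inv_mul_cancel_left] at this

theorem SD.syl (h : SD L G0 t i j ρ) (hT : Syl 2 C{t} T) : Syl 2 ⊤ T := by
  suffices key : ∀ T, Syl 2 C{t} T → i ∈ T → j ∈ T → Syl 2 ⊤ T by
    obtain ⟨l, hl, hi, hj⟩ := SAx.exists_conj h hT
    have h1 := hT.cj l
    rw [cj_of_mem (SAx.LC h hl)] at h1
    have h2 := (key _ h1 hi hj).cj l⁻¹
    rwa [cj_top, cj_inv_cj] at h2
  intro T hT hi hj
  refine hT.of_norm_le Nat.prime_two le_top fun g hg => mem_C1_iff_conj.2 ?_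
  have tT : t ∈ T := h.ii ▸ mul_mem hi hi
  have h1 : g * t * g⁻¹ ∈ T := H24.conj_mem hg.2 tT
  have h2 : g * t * g⁻¹ ∈ C[T] := H24.conj_mem (norm_C (zpowers_le.2 hg.2) (mem_zpowers g))
    (mem_C_iff_le_C1.2 hT.le)
  have h3 : g * t * g⁻¹ * (g * t * g⁻¹) = 1 := by
    rw [show g * t * g⁻¹ * (g * t * g⁻¹) = g * (t * t) * g⁻¹ by group, h.tt]; group
  have h4 : g * t * g⁻¹ ≠ 1 := fun e => h.t1 (by simpa using e)
  generalize g * t * g⁻¹ = z at h1 h2 h3 h4
  obtain ⟨r, hr, y, hy, rfl⟩ := h.inv hT.pi hT.le hi hj h1 (h.out z (SAx.CN h (hT.le h1))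
    (hT.pi.piElt h1) (Or.inl (conj_eq_of_mem_C h2 hi)) (Or.inl (conj_eq_of_mem_C h2 hj)))
  have ci : y * i = i * y := by
    have e := mem_C.1 h2 i hi
    rw [← mul_assoc, mem_C.1 hr.2 i h.iL, mul_assoc, mul_assoc] at e
    exact (mul_left_cancel e).symm
  have cj' : y * j = j * y := by
    have e := mem_C.1 h2 j hj
    rw [← mul_assoc, mem_C.1 hr.2 j h.jL, mul_assoc, mul_assoc] at e
    exact (mul_left_cancel e).symm
  have hy' : y ∈ C[L] := by
    have n := SAx.nc h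
    have t1 := h.t1
    rcases (SAx.mem_Q h).1 hy with (rfl | rfl) | (rfl | rfl) | (rfl | rfl) | (rfl | rfl)
    · exact one_mem _
    · exact h.tC
    all_goals
      exfalso
      simp [mul_assoc, h.tt, SAx.tt' h, SAx.it h, SAx.jt h, SAx.it' h, SAx.jt' h, h.ii, h.jj,
        SAx.ii' h, SAx.jj' h, SAx.ji h, SAx.ji' h, t1] at ci cj'
  exact (SAx.inv_C h (mul_mem hr.2 hy') h3).resolve_left h4

theorem SD.q8 (h : SD L G0 t i j ρ) (h1 : g * g = f * f) (h2 : g * g ≠ 1)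
    (h3 : g * g * (g * g) = 1) (h4 : g * f = g * g * (f * g)) : DD t (g * g) := by
  obtain ⟨T, hT, hi, hj⟩ := SAx.exists_syl h
  have hS := h.syl hT
  have p4 : ∀ x : G, x * x * (x * x) = 1 → PiElt {2} x := fun x e =>
    piElt_of_pow_eq_one (n := 2 ^ 2) (piNat_self_pow Nat.prime_two 2)
      (by rw [← e]; simp [pow_succ, mul_assoc])
  have e1 : g * f * g⁻¹ = f * f * f := by rw [h4, h1]; group
  have hp : IsPi {2} (zpowers f ⊔ zpowers g : Subgroup G) :=
    (p4 f (h1 ▸ h3)).isPi.sup (p4 g h3).isPi (zpowers_le.2 (mem_N_of_cj_le (by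
      rw [cj_zpowers, e1]
      exact zpowers_le.2 (mul_mem (mul_mem (mem_zpowers f) (mem_zpowers f)) (mem_zpowers f)))))
  obtain ⟨k, -, hk⟩ := Sylow_Jsub Nat.prime_two hS hp le_top
  have hf := hk (conj_mem_cj k (mem_sup_left (mem_zpowers f)))
  have hg := hk (conj_mem_cj k (mem_sup_right (mem_zpowers g)))
  have key : ∀ x : G, k * x * k⁻¹ ∈ T → k * x * k⁻¹ ∈ L ⊔ C[L] → x * x = g * g → DD t (g * g) :=
    fun x h5 h6 h7 => by
      have e : k * x * k⁻¹ * (k * x * k⁻¹) = k * (g * g) * k⁻¹ := by rw [← h7]; group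
      have := h.sq h6 (mem_C1.1 (hT.le h5)) (by rw [e, conj_mul, h3]; group)
      rw [e] at this
      refine DD.of_conj (g := k) ?_
      rw [this.resolve_left fun e => h2 (by simpa using e)]
      exact DD.refl t
  rcases h.idx _ (SAx.CN h (hT.le hg)) _ (SAx.CN h (hT.le hf)) with e | e | e
  · exact key g hg e rfl
  · exact key f hf e h1.symm
  · rw [conj_mul] at e
    refine key (g * f) (by rw [← conj_mul]; exact mul_mem hg hf) e ?_
    calc _ = (g * f * g⁻¹) * (g * g) * f := by group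
      _ = f * f * (f * f * (f * f)) := by rw [e1, h1]; group
      _ = _ := by rw [← h1, h3, mul_one]

end H23.L2
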