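import Mathlib
import Cfsg.Agent.H23.LDefs
import Cfsg.Agent.H23.SA
import Cfsg.Agent.H2.ZR

set_option autoImplicit false
set_option linter.unusedVariables false
set_option linter.unusedSectionVars false
set_option linter.unusedSimpArgs false

namespace H23.L2

open Cfsg H24 Subgroup
open H2.SZ (St DD Goal)
open scoped MatrixGroups commutatorElement

universe u

variable {G : Type u} [Group G] [Finite G] {F : Type*} [Field F] [Fintype F]
  {L G0 D T B R Q S S1 A P N M H : Subgroup G} {t f g i j ρ z u : G} {X : LD F L} {n : ℕ}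
  {π s : G → F}

namespace SBx

open SAx

theorem le_four {B : Subgroup G} {a b c d : G}
    (h : ∀ x ∈ B, x = a ∨ x = b ∨ x = c ∨ x = d) : ♯B ≤ 4 := by
  have h1 : (B : Set G) ⊆ {a, b, c, d} := fun x hx => h x hx
  have h2 := Set.ncard_le_ncard h1 (Set.toFinite _)
  have h3 : ({a, b, c, d} : Set G).ncard ≤ 4 :=
    (Set.ncard_insert_le _ _).trans (Nat.succ_le_succ ((Set.ncard_insert_le _ _).trans
      (Nat.succ_le_succ ((Set.ncard_insert_le _ _).trans (by simp)))))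
  exact h2.trans h3

theorem toT (hT : Syl 2 C{t} T) (hu : DD t u) (hA : IsPi {2} A) (hC : A ≤ C{u}) :
    ∃ g, u = g * t * g⁻¹ ∧ ∀ a ∈ A, g⁻¹ * a * g ∈ T := by
  obtain ⟨g, rfl⟩ := hu
  obtain ⟨c, hc, e2⟩ := Sylow_Jsub Nat.prime_two hT (hA.cj g⁻¹) fun x hx => by
      obtain ⟨a, ha, rfl⟩ := mem_cj'.1 hx
      rw [mem_C1]
      calc _ = g⁻¹ * (a * (g * t * g⁻¹)) * g := by group
        _ = _ := by rw [mem_C1.1 (hC ha)]; group
  refine ⟨g * c⁻¹, ?_, fun a ha => e2 ?_⟩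
  · rw [mul_assoc g c⁻¹, mem_C1.1 (inv_mem hc)]; group
  · convert conj_mem_cj c (conj_mem_cj g⁻¹ ha) using 1
    group

/-- the configuration: `T` Sylow over `⟨i, j⟩`, `r ∈ T ∩ C(L)` of order `4` -/
structure Cx (L G0 : Subgroup G) (t i j ρ : G) (T : Subgroup G) (r : G) : Prop where
  h : SD L G0 t i j ρ
  hT : Syl 2 C{t} T
  iT : i ∈ T
  jT : j ∈ T
  rT : r ∈ T
  rC : r ∈ C[L]
  rr : r * r = t

variable {r x y : G}

theorem Cx.tT (c : Cx L G0 t i j ρ T r) : t ∈ T := c.h.ii ▸ mul_mem c.iT c.iT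
theorem Cx.xt (c : Cx L G0 t i j ρ T r) (hx : x ∈ T) : x * t = t * x := mem_C1.1 (c.hT.le hx)
theorem Cx.xt' (c : Cx L G0 t i j ρ T r) (hx : x ∈ T) (y : G) : x * (t * y) = t * (x * y) := by
  rw [← mul_assoc, c.xt hx, mul_assoc]
theorem Cx.NL (c : Cx L G0 t i j ρ T r) (hx : x ∈ T) : x ∈ N[L] := c.h.Ct x (c.xt hx)
theorem Cx.ab (c : Cx L G0 t i j ρ T r) (hx : x ∈ T ⊓ C[L]) (hy : y ∈ T ⊓ C[L]) :
    x * y = y * x := by
  have := c.h.cyc (T ⊓ C[L]) inf_le_right (c.hT.pi.inf_left _)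
  exact congrArg Subtype.val (mul_comm' (⟨x, hx⟩ : (T ⊓ C[L] : Subgroup G)) ⟨y, hy⟩)
theorem Cx.rinv (c : Cx L G0 t i j ρ T r) : r⁻¹ = t * r :=
  inv_eq_of_mul_eq_one_right (by rw [c.xt' c.rT, c.rr, c.h.tt])
theorem Cx.rr' (c : Cx L G0 t i j ρ T r) (y : G) : r * (r * y) = t * y := by
  rw [← mul_assoc, c.rr]
theorem Cx.ir (c : Cx L G0 t i j ρ T r) : i * r = r * i := mem_C.1 c.rC _ c.h.iL
theorem Cx.jr (c : Cx L G0 t i j ρ T r) : j * r = r * j := mem_C.1 c.rC _ c.h.jL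
theorem Cx.ir' (c : Cx L G0 t i j ρ T r) (y : G) : i * (r * y) = r * (i * y) := by
  rw [← mul_assoc, c.ir, mul_assoc]
theorem Cx.jr' (c : Cx L G0 t i j ρ T r) (y : G) : j * (r * y) = r * (j * y) := by
  rw [← mul_assoc, c.jr, mul_assoc]
theorem Cx.sqR (c : Cx L G0 t i j ρ T r) (hx : x ∈ T ⊓ C[L]) (h : x * x = t) :
    x = r ∨ x = t * r := by
  have e := c.ab hx ⟨c.rT, c.rC⟩
  have : x * r⁻¹ * (x * r⁻¹) = 1 := by
    rw [c.rinv]
    calc _ = x * (t * (r * x) * (t * r)) := by group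
      _ = _ := by
        rw [← e]
        simp only [mul_assoc, c.xt' c.rT, c.xt' hx.1, tt' c.h, c.rr]
        rw [← mul_assoc, h, c.h.tt]
  rcases inv_C c.h (mul_mem hx.2 (inv_mem c.rC)) this with e | e
  · exact .inl (mul_inv_eq_one.1 e)
  · exact .inr (mul_inv_eq_iff_eq_mul.1 e)
theorem Cx.conjR (c : Cx L G0 t i j ρ T r) (hx : x ∈ T) (hy : y ∈ T ⊓ C[L]) :
    x * y * x⁻¹ ∈ T ⊓ C[L] :=
  ⟨T.mul_mem (T.mul_mem hx hy.1) (T.inv_mem hx), H24.conj_mem (N_le_NC L (c.NL hx)) hy.2⟩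
theorem Cx.conj_sq (c : Cx L G0 t i j ρ T r) (hx : x ∈ T) (h : y * y = t) :
    x * y * x⁻¹ * (x * y * x⁻¹) = t := by
  rw [show x * y * x⁻¹ * (x * y * x⁻¹) = x * (y * y) * x⁻¹ by group, h, c.xt hx,
    mul_inv_cancel_right]
theorem Cx.QT (c : Cx L G0 t i j ρ T r) : closure {i, j} ≤ T :=
  (TL c.h c.hT.pi c.hT.le c.iT c.jT).ge.trans inf_le_left
theorem Cx.dec (c : Cx L G0 t i j ρ T r) (hx : x ∈ T) (h : x ∈ L ⊔ C[L]) :
    ∃ r ∈ T ⊓ C[L], ∃ y ∈ closure {i, j}, x = r * y := c.h.inv c.hT.pi c.hT.le c.iT c.jT hx h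

/-- action of an outer element on `j` -/
theorem Cx.actj (c : Cx L G0 t i j ρ T r) (hx : x ∈ T) (ho : x ∉ L ⊔ C[L])
    (hi : x * i * x⁻¹ = i ∨ x * i * x⁻¹ = t * i) :
    x * j * x⁻¹ = i * j ∨ x * j * x⁻¹ = t * (i * j) := by
  have hj : x * j * x⁻¹ ∈ closure {i, j} :=
    H24.conj_mem (SAx.TQ c.h c.hT.pi c.hT.le c.iT c.jT hx) (subset_closure (by simp))
  have s := c.conj_sq hx c.h.jj
  rcases (mem_Q c.h).1 hj with e | e | e | e
  · exfalso
    rcases e with e | e <;> rw [e] at s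
    · exact c.h.t1 (by simpa using s.symm)
    · exact c.h.t1 (s.symm.trans c.h.tt)
  · exfalso
    have : x * i * x⁻¹ * (x * j * x⁻¹) = x * j * x⁻¹ * (x * i * x⁻¹) := by
      rcases e with e | e <;> rcases hi with hi | hi <;> rw [e, hi] <;>
        simp only [mul_assoc, it' c.h]
    apply nc c.h
    have e2 : x * (i * j) * x⁻¹ = x * (j * i) * x⁻¹ := by
      calc _ = x * i * x⁻¹ * (x * j * x⁻¹) := by group
        _ = _ := by rw [this]; group
    exact mul_left_cancel (mul_right_cancel e2)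
  · exact absurd (c.h.out x (c.NL hx) (c.hT.pi.piElt hx) hi e) ho
  · exact e

/-- an outer involution inverts `i` -/
theorem Cx.acti (c : Cx L G0 t i j ρ T r) (hx : x ∈ T) (ho : x ∉ L ⊔ C[L]) (xx : x * x = 1)
    (hi : x * i * x⁻¹ = i ∨ x * i * x⁻¹ = t * i) : x * i * x⁻¹ = t * i := by
  refine hi.resolve_left fun e => c.h.t1 ?_
  have k : x * (x * j * x⁻¹) * x⁻¹ = j := by
    rw [show x * (x * j * x⁻¹) * x⁻¹ = x * x * j * (x * x)⁻¹ by group, xx]; simp
  have e3 : x * (i * j) * x⁻¹ = i * (x * j * x⁻¹) := by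
    conv_rhs => rw [← e]
    group
  rcases c.actj hx ho (.inl e) with e2 | e2
  · rw [e2, e3, e2, ii' c.h] at k
    exact mul_right_cancel (k.trans (one_mul j).symm)
  · rw [e2, c.xt' hx, mul_assoc, e3, e2, it' c.h, tt' c.h, ii' c.h] at k
    exact mul_right_cancel (k.trans (one_mul j).symm)

/-- the configuration with an outer involution `f` that centralises `r i` -/
structure Cy (L G0 : Subgroup G) (t i j ρ : G) (T : Subgroup G) (r f : G) : Prop
    extends Cx L G0 t i j ρ T r where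
  fT : f ∈ T
  fo : f ∉ L ⊔ C[L]
  ff : f * f = 1
  fr : f * r * f⁻¹ = t * r
  fi : f * i * f⁻¹ = t * i

theorem Cx.cy (c : Cx L G0 t i j ρ T r) (fT : f ∈ T) (fo : f ∉ L ⊔ C[L]) (ff : f * f = 1)
    (e : f * (r * i) = r * i * f) : Cy L G0 t i j ρ T r f := by
  have e1 : f * r * f⁻¹ * (f * i * f⁻¹) = r * i := by
    rw [show f * r * f⁻¹ * (f * i * f⁻¹) = f * (r * i) * f⁻¹ by group, e, mul_inv_cancel_right]
  have k := c.sqR (c.conjR fT ⟨c.rT, c.rC⟩) (c.conj_sq fT c.rr)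
  have k2 : f * i * f⁻¹ = t * i := by
    refine c.acti fT fo ff ?_
    rcases k with k | k <;> rw [k] at e1
    · exact .inl (mul_left_cancel e1)
    · refine .inr (mul_left_cancel (a := t * r) (e1.trans ?_))
      simp only [mul_assoc, c.xt' c.rT, tt' c.h]
  refine ⟨c, fT, fo, ff, ?_, k2⟩
  rw [k2] at e1
  refine mul_right_cancel (b := t * i) (e1.trans ?_)
  simp only [mul_assoc, c.xt' c.rT, tt' c.h]

theorem Cy.out (c : Cy L G0 t i j ρ T r f) (hx : x ∈ T) (ho : x ∉ L ⊔ C[L]) :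
    x * r * x⁻¹ = t * r ∧ (x * i * x⁻¹ = i ∨ x * i * x⁻¹ = t * i) := by
  have c0 := c.toCx
  have k : x * f ∈ L ⊔ C[L] :=
    ((c.h.idx x (c0.NL hx) f (c0.NL c.fT)).resolve_left ho).resolve_left c.fo
  obtain ⟨a, ha, y, hy, e⟩ := c0.dec (mul_mem hx c.fT) k
  have ex : x = a * y * f := by rw [← e, mul_assoc, c.ff, mul_one]
  have ar := c0.ab ha ⟨c.rT, c.rC⟩
  have yr : y * r = r * y := mem_C.1 c.rC _ (Q_L c.h hy)
  have yT := c0.QT hy
  constructor
  · calc _ = a * (y * (f * r * f⁻¹) * y⁻¹) * a⁻¹ := by rw [ex]; group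
      _ = _ := by
        rw [c.fr, c0.xt' yT, yr, mul_assoc t, mul_inv_cancel_right, c0.xt' ha.1, ar, mul_assoc t,
          mul_inv_cancel_right]
  · have e1 : x * i * x⁻¹ = t * (y * i * y⁻¹) := by
      calc _ = a * (y * (f * i * f⁻¹) * y⁻¹) * a⁻¹ := by rw [ex]; group
        _ = _ := by
          rw [c.fi, c0.xt' yT, mul_assoc t, conj_eq_of_mem_C ha.2 (mul_mem (tL c.h)
            (mul_mem (mul_mem (Q_L c.h hy) c.h.iL) (inv_mem (Q_L c.h hy))))]
    rw [e1]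
    have := c.h.tt
    rcases (mem_Q c.h).1 hy with (e | e) | (e | e) | (e | e) | (e | e) <;> rw [e] <;>
      simp [mul_assoc, tt' c.h, it c.h, jt c.h, it' c.h, jt' c.h, ii' c.h, jj' c.h, ji c.h,
        ji' c.h, tinv c.h, iinv c.h, jinv c.h, c.h.ii, c.h.jj, c.h.tt]

/-- involutions of `T ∩ L C(L)` -/
theorem Cx.invLC (c : Cx L G0 t i j ρ T r) (hx : x ∈ T) (h : x ∈ L ⊔ C[L]) (xx : x * x = 1) :
    (x = 1 ∨ x = t) ∨ ∃ y ∈ closure {i, j}, y * y = t ∧ x = r * y := by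
  obtain ⟨a, ha, y, hy, rfl⟩ := c.dec hx h
  have ay : y * a = a * y := mem_C.1 ha.2 _ (Q_L c.h hy)
  have e : a * a * (y * y) = 1 := by
    rw [← xx, show a * y * (a * y) = a * (y * a) * y by group, ay]; group
  rcases sq_Q c.h hy with k | k
  · have : y * y = 1 := by rcases k with k | k <;> rw [k]; exacts [one_mul _, c.h.tt]
    rw [this, mul_one] at e
    left
    rcases inv_C c.h ha.2 e with k2 | k2 <;> rcases k with k | k <;> rw [k, k2] <;>
      simp [c.h.tt]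
  · rw [k] at e
    have aa : a * a = t := by rw [eq_inv_of_mul_eq_one_left e, tinv c.h]
    right
    rcases c.sqR ha aa with k2 | k2
    · exact ⟨y, hy, k, by rw [k2]⟩
    · have tQ : t ∈ closure {i, j} := (mem_Q c.h).2 (.inl (.inr rfl))
      refine ⟨t * y, mul_mem tQ hy, ?_, ?_⟩
      · simp only [mul_assoc, c.xt' (c.QT hy), tt' c.h, k]
      · rw [k2, c.xt' c.rT, mul_assoc]

/-- `t` is the only involution of `T` that is a square -/
theorem Cy.sq (c : Cy L G0 t i j ρ T r f) (hx : x ∈ T) (h : x * x * (x * x) = 1) :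
    x * x = 1 ∨ x * x = t := by
  have c0 := c.toCx
  by_cases ho : x ∈ L ⊔ C[L]
  · exact c.h.sq ho (c0.xt hx) h
  have k : x * x ∈ L ⊔ C[L] :=
    ((c.h.idx x (c0.NL hx) x (c0.NL hx)).resolve_left ho).resolve_left ho
  refine (c0.invLC (mul_mem hx hx) k h).resolve_right ?_
  rintro ⟨y, hy, yy, e⟩
  obtain ⟨xr, xi⟩ := c.out hx ho
  have xj := c0.actj hx ho xi
  have e1 : t * r * (x * y * x⁻¹) = r * y := by
    rw [← xr, show x * r * x⁻¹ * (x * y * x⁻¹) = x * (r * y) * x⁻¹ by group, ← e]; group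
  have e2 : x * y * x⁻¹ = t * y := by
    refine mul_left_cancel (a := t * r) (e1.trans ?_)
    simp only [mul_assoc, c0.xt' c.rT, tt' c.h]
  have e3 : x * (x * j * x⁻¹) * x⁻¹ = y * j * y⁻¹ := by
    rw [show x * (x * j * x⁻¹) * x⁻¹ = x * x * j * (x * x)⁻¹ by group, e,
      show r * y * j * (r * y)⁻¹ = r * (y * j * y⁻¹) * r⁻¹ by group,
      conj_eq_of_mem_C c.rC (mul_mem (mul_mem (Q_L c.h hy) c.h.jL) (inv_mem (Q_L c.h hy)))]
  have xij : x * (i * j) * x⁻¹ = x * i * x⁻¹ * (x * j * x⁻¹) := by group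
  have xt : ∀ w, x * (t * w) * x⁻¹ = t * (x * w * x⁻¹) := fun w => by
    rw [c0.xt' hx, mul_assoc]
  have t1 := c.h.t1
  have i1 : i ≠ 1 := fun e => t1 (by rw [← c.h.ii, e, mul_one])
  have i2 : i ≠ t := fun e => t1 (by rw [← c.h.ii, e, c.h.tt])
  have i3 : t * i ≠ 1 := fun e => i2 (by rw [eq_inv_of_mul_eq_one_right e, tinv c.h])
  have i4 : t * (i * j) ≠ j := fun e => i3 (mul_right_cancel (b := j) (by rw [mul_assoc, e, one_mul]))
  rcases (mem_Q c.h).1 hy with (k | k) | (k | k) | (k | k) | (k | k) <;> rw [k] at e2 e3 yy <;>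
    rcases xi with xi | xi <;> rcases xj with xj | xj <;>
    simp only [xij, xt, xi, xj] at e2 e3 <;>
    simp [mul_assoc, tt' c.h, it c.h, jt c.h, it' c.h, jt' c.h, ii' c.h, jj' c.h, ji c.h,
        ji' c.h, tinv c.h, iinv c.h, jinv c.h, c.h.ii, c.h.jj, c.h.tt, t1, t1.symm, i1, i2, i3,
        i1.symm, i2.symm, i3.symm, i4, i4.symm] at e2 e3 yy

theorem Cy.nd (c : Cy L G0 t i j ρ T r f) (hu : DD t u) (h1 : r * u = u * r) : u = t := by
  have r4 : r ^ 2 ^ 2 = 1 := by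
    rw [show r ^ 2 ^ 2 = r * r * (r * r) by norm_num [pow_succ, mul_assoc], c.rr, c.h.tt]
  obtain ⟨g, e, hg⟩ := toT c.hT hu (piElt_of_pow_eq_one (piNat_self_pow Nat.prime_two 2) r4).isPi
    (zpowers_le.2 (mem_C1.2 h1))
  have e1 : g⁻¹ * r * g * (g⁻¹ * r * g) = g⁻¹ * t * g := by rw [← c.rr]; group
  rcases c.sq (hg r (mem_zpowers r)) (by
    rw [e1, show g⁻¹ * t * g * (g⁻¹ * t * g) = g⁻¹ * (t * t) * g by group, c.h.tt]; simp)
    with k | k <;> rw [e1] at k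
  · exact absurd (by rw [show t = g * (g⁻¹ * t * g) * g⁻¹ by group, k]; simp) c.h.t1
  · rw [e]
    conv_lhs => rw [← k]
    group

theorem Cy.nd' (c : Cy L G0 t i j ρ T r f) (hu : DD t u) (uT : u ∈ T) (h1 : u ∈ L ⊔ C[L]) :
    u = t := by
  obtain ⟨a, ha, y, hy, rfl⟩ := c.toCx.dec uT h1
  refine c.nd hu ?_
  rw [← mul_assoc, ← c.toCx.ab ha ⟨c.rT, c.rC⟩, mul_assoc, mul_assoc,
    mem_C.1 c.rC _ (Q_L c.h hy)]

/-- rewriting rules for an outer involution -/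
theorem Cy.ru (c : Cy L G0 t i j ρ T r f) (hx : x ∈ T) (ho : x ∉ L ⊔ C[L]) (xx : x * x = 1) :
    (x⁻¹ = x ∧ (∀ w, x * (x * w) = w) ∧ x * t = t * x ∧ (∀ w, x * (t * w) = t * (x * w)) ∧
      x * r = t * (r * x) ∧ (∀ w, x * (r * w) = t * (r * (x * w))) ∧
      x * i = t * (i * x) ∧ ∀ w, x * (i * w) = t * (i * (x * w))) ∧
    ((x * j = i * (j * x) ∧ ∀ w, x * (j * w) = i * (j * (x * w))) ∨
      (x * j = t * (i * (j * x)) ∧ ∀ w, x * (j * w) = t * (i * (j * (x * w))))) := by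
  have c0 := c.toCx
  obtain ⟨xr, xi⟩ := c.out hx ho
  have xj := c0.actj hx ho xi
  replace xi := c0.acti hx ho xx xi
  have k : ∀ a b : G, x * a * x⁻¹ = b → x * a = b * x ∧ ∀ w, x * (a * w) = b * (x * w) :=
    fun a b e => ⟨by rw [← e]; group, fun w => by rw [← e]; group⟩
  refine ⟨⟨inv_eq_of_mul_eq_one_right xx, fun w => by rw [← mul_assoc, xx, one_mul], c0.xt hx,
    c0.xt' hx, ?_, ?_, ?_, ?_⟩, xj.imp (fun e => ?_) fun e => ?_⟩
  · simpa only [mul_assoc] using (k _ _ xr).1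
  · simpa only [mul_assoc] using (k _ _ xr).2
  · simpa only [mul_assoc] using (k _ _ xi).1
  · simpa only [mul_assoc] using (k _ _ xi).2
  · simpa only [mul_assoc] using k _ _ e
  · simpa only [mul_assoc] using k _ _ e

theorem Cx.uu (c : Cx L G0 t i j ρ T r) : r * i * (r * i) = 1 := by
  simp only [mul_assoc, c.ir', c.rr', c.h.ii, c.h.tt]
theorem Cx.u1 (c : Cx L G0 t i j ρ T r) : r * i ≠ 1 ∧ r * i ≠ t := by
  have : r * i ∉ C[L] := fun e => nc c.h
    (mem_C'.1 ((mul_mem_cancel_left c.rC).1 e) j c.h.jL)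
  exact ⟨fun e => this (e ▸ one_mem _), fun e => this (e ▸ c.h.tC)⟩
theorem Cx.uLC (c : Cx L G0 t i j ρ T r) : r * i ∈ L ⊔ C[L] :=
  mul_mem (mem_sup_right c.rC) (mem_sup_left c.h.iL)

theorem Cy.both (c : Cy L G0 t i j ρ T r f) (hx : x ∈ T) (xt : x ≠ t) (hd : DD t x)
    (h1 : DD t (r * (i * x)) ∨ DD t (t * (r * (i * x)))) : False := by
  have c0 := c.toCx
  have ho : x ∉ L ⊔ C[L] := fun e => xt (c.nd' hd hx e)
  have xx := (hd.sq c.h.toSt).1
  obtain ⟨ru, -⟩ := c.ru hx ho xx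
  have k : i * (r * (i * x)) * i⁻¹ = t * (r * (i * x)) := by
    simp only [mul_assoc, ru, c0.ir', iinv c.h, it' c.h, ii' c.h, tt' c.h, c0.xt' c.rT]
  have k' : i * (t * (r * (i * x))) * i⁻¹ = r * (i * x) := by
    simp only [mul_assoc, ru, c0.ir', iinv c.h, it' c.h, ii' c.h, tt' c.h, c0.xt' c.rT]
  have d1 : DD t (r * (i * x)) := h1.elim id fun e => k' ▸ e.conj i
  have d2 : DD t (t * (r * (i * x))) := k ▸ d1.conj i
  obtain ⟨g, e, hg⟩ := toT c.hT hd (c.hT.pi.inf_left C{x}) inf_le_right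
  have ux : r * i * x = x * (r * i) := by
    simp only [mul_assoc, ru, tt' c.h, c0.xt' c.rT]
  have aT := hg t ⟨c0.tT, mem_C1.2 (c0.xt hx).symm⟩
  have bT := hg (r * i) ⟨mul_mem c.rT c.iT, mem_C1.2 ux⟩
  have tLC : t ∈ L ⊔ C[L] := mem_sup_right c.h.tC
  have et : t = g⁻¹ * x * g := by rw [e]; group
  have cj : ∀ w, DD t w → DD t (g⁻¹ * w * g) := fun w hw => by simpa using hw.conj g⁻¹
  rcases c.h.idx _ (c0.NL aT) _ (c0.NL bT) with e1 | e1 | e1
  · have := c.nd' (cj t (DD.refl t)) aT e1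
    apply xt
    rw [e]
    conv_lhs => rw [← this]
    group
  · have e2 : t * (g⁻¹ * (r * i) * g) = g⁻¹ * (r * (i * x)) * g := by
      rw [← mul_assoc r, ux]
      conv_lhs => rw [et]
      group
    have := c.nd' (e2 ▸ cj _ d1) (mul_mem c0.tT bT) (mul_mem tLC e1)
    apply c0.u1.1
    rw [show r * i = g * (t⁻¹ * (t * (g⁻¹ * (r * i) * g))) * g⁻¹ by group, this]; simp
  · have e2 : t * (g⁻¹ * t * g * (g⁻¹ * (r * i) * g)) = g⁻¹ * (t * (r * (i * x))) * g := by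
      rw [← mul_assoc r, ux, ← c0.xt' hx]
      nth_rewrite 1 [et]
      group
    have := c.nd' (e2 ▸ cj _ d2) (mul_mem c0.tT (mul_mem aT bT)) (mul_mem tLC e1)
    apply c0.u1.2
    rw [show r * i = t⁻¹ * (g * (t⁻¹ * (t * (g⁻¹ * t * g * (g⁻¹ * (r * i) * g)))) * g⁻¹) by group,
      this]
    simp [tinv c.h, c.h.tt]

theorem Cy.big (c : Cy L G0 t i j ρ T r f) (hx : x ∈ T) (xt : x ≠ t) (hd : DD t x)
    (hy : y ∈ T ⊓ C[L]) (yy : y * y = r ∨ y * y = t * r) : False := by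
  have c0 := c.toCx
  have ho : x ∉ L ⊔ C[L] := fun e => xt (c.nd' hd hx e)
  have xx := (hd.sq c.h.toSt).1
  obtain ⟨ru, rj⟩ := c.ru hx ho xx
  have hw := c0.conjR hx hy
  have e0 := c0.ab hw hy
  have e1 : x * y * x⁻¹ * y * (x * y * x⁻¹ * y) = 1 := by
    calc _ = x * y * x⁻¹ * (y * (x * y * x⁻¹)) * y := by group
      _ = x * (y * y) * x⁻¹ * (y * y) := by rw [← e0]; group
      _ = 1 := by
        rcases yy with yy | yy <;> rw [yy] <;>
          simp only [mul_assoc, ru, tt' c.h, c0.xt' c.rT, c.rr, c0.rr', c.h.tt, c0.xt c.rT, xx,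
            mul_one]
  have iy : ∀ w, y * (i * w) = i * (y * w) := fun w => by
    rw [← mul_assoc, ← mem_C.1 hy.2 i c.h.iL, mul_assoc]
  have e2 : ∀ a : G, y * (a * x) * y⁻¹ = y * a * (x * y * x⁻¹)⁻¹ * x := fun a => by group
  have e3 : (x * y * x⁻¹)⁻¹ = y ∨ (x * y * x⁻¹)⁻¹ = t * y := by
    rcases inv_C c.h (mul_mem hw.2 hy.2) e1 with k | k
    · exact .inl (inv_eq_of_mul_eq_one_right k)
    · exact .inr (inv_eq_of_mul_eq_one_right (by rw [c0.xt' hw.1, k, c.h.tt]))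
  have e4 : j * x * j⁻¹ = i * x ∨ j * x * j⁻¹ = t * i * x := by
    rcases rj with rj | rj <;>
      simp [mul_assoc, ru, rj, jinv c.h, jt' c.h, ji' c.h, jj' c.h, tt' c.h, it' c.h]
  have d := (hd.conj j).conj y
  have yy' : (∀ w, y * (y * w) = r * w) ∨ ∀ w, y * (y * w) = t * (r * w) :=
    yy.imp (fun e w => by rw [← mul_assoc, e]) fun e w => by rw [← mul_assoc, e, mul_assoc]
  refine c.both hx xt hd ?_
  rcases e4 with e4 | e4 <;> rw [e4, e2] at d <;> rcases e3 with e3 | e3 <;> rw [e3] at d <;>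
    rcases yy' with k | k <;>
    simp only [mul_assoc, iy, c0.xt' hy.1, k, it' c.h, tt' c.h, c0.ir'] at d <;>
    first | exact .inl d | exact .inr d

theorem Cy.small (c : Cy L G0 t i j ρ T r f) (hx : x ∈ T) (xt : x ≠ t) (hd : DD t x)
    (hR : ∀ a ∈ T ⊓ C[L], (a = 1 ∨ a = t) ∨ a = r ∨ a = t * r) : False := by
  have c0 := c.toCx
  have ho : x ∉ L ⊔ C[L] := fun e => xt (c.nd' hd hx e)
  have xx := (hd.sq c.h.toSt).1
  obtain ⟨ru, rj⟩ := c.ru hx ho xx
  have xN := SAx.TQ c.h c.hT.pi c.hT.le c.iT c.jT hx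
  have tQ : t ∈ closure {i, j} := (mem_Q c.h).2 (.inl (.inr rfl))
  let M : Subgroup G :=
    { carrier := {w | w ∈ closure {i, j} ∨ w * x ∈ closure {i, j}}
      one_mem' := .inl (one_mem _)
      mul_mem' := by
        rintro a b (ha | ha) (hb | hb)
        · exact .inl (mul_mem ha hb)
        · exact .inr (by rw [mul_assoc]; exact mul_mem ha hb)
        · exact .inr (by
            rw [show a * b * x = a * x * (x⁻¹ * b * x) by group]
            exact mul_mem ha (H24.conj_mem' xN hb))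
        · refine .inl ?_
          have := mul_mem ha (H24.conj_mem xN hb)
          simpa only [mul_assoc, ru, xx, mul_one] using this
      inv_mem' := by
        rintro a (ha | ha)
        · exact .inl (inv_mem ha)
        · refine .inr ?_
          have := inv_mem (H24.conj_mem xN ha)
          simpa only [mul_assoc, ru, xx, mul_one, mul_inv_rev] using this }
  have mM : ∀ w, w ∈ M ↔ w ∈ closure {i, j} ∨ w * x ∈ closure {i, j} := fun w => Iff.rfl
  have MT : M ≤ T := fun w hw => ((mM w).1 hw).elim (fun e => c0.QT e)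
    fun e => (mul_mem_cancel_right hx).1 (c0.QT e)
  have xM : x ∈ M := .inr (xx ▸ one_mem _)
  have k1 : ∀ w ∈ T, w ∈ L ⊔ C[L] → w ∈ M ∨ ∃ m ∈ M, w = r * m := fun w hw h1 => by
    obtain ⟨a, ha, y, hy, rfl⟩ := c0.dec hw h1
    rcases hR a ha with (e | e) | e | e <;> rw [e]
    · exact .inl (.inl (by rwa [one_mul]))
    · exact .inl (.inl (mul_mem tQ hy))
    · exact .inr ⟨y, .inl hy, rfl⟩
    · exact .inr ⟨t * y, .inl (mul_mem tQ hy), by rw [c0.xt' c.rT, mul_assoc]⟩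
  have k2 : ∀ w ∈ T, w ∈ M ∨ ∃ m ∈ M, w = r * m := fun w hw => by
    by_cases h1 : w ∈ L ⊔ C[L]
    · exact k1 w hw h1
    rcases k1 _ (mul_mem hw hx)
      (((c.h.idx w (c0.NL hw) x (c0.NL hx)).resolve_left h1).resolve_left ho) with e | ⟨m, hm, e⟩
    · exact .inl ((mul_mem_cancel_right xM).1 e)
    · exact .inr ⟨m * x, mul_mem hm xM, by rw [← mul_assoc, ← e, mul_assoc, xx, mul_one]⟩
  obtain ⟨g, -, hg⟩ := thom c.h.toSt (H := ⊤) (u := r * i)
    (fun e => nc c.h (e.comm (c.h.le c.h.iL) (c.h.le c.h.jL))) le_top (c.h.syl c.hT) MT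
    (fun a ha b hb => by
      rcases k2 a ha with e | ⟨m, hm, rfl⟩
      · exact .inl e
      rcases k2 b hb with e | ⟨m', hm', rfl⟩
      · exact .inr (.inl e)
      refine .inr (.inr ?_)
      rw [show r * m * (r * m') = r * (m * r * m⁻¹) * (m * m') by group]
      refine mul_mem ?_ (mul_mem hm hm')
      rcases c0.sqR (c0.conjR (MT hm) ⟨c.rT, c.rC⟩) (c0.conj_sq (MT hm) c.rr) with e | e <;> rw [e]
      · exact .inl (c.rr ▸ tQ)
      · exact .inl (by rw [c0.xt' c.rT, c.rr, c.h.tt]; exact one_mem _))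
    (c.h.top ▸ mem_top _) c0.uu
  refine c0.u1.2 (c.nd' (DD.of_conj (g := g) ?_) (mul_mem c.rT c.iT) c0.uLC)
  have s2 : g * (r * i) * g⁻¹ * (g * (r * i) * g⁻¹) = 1 := by
    rw [show g * (r * i) * g⁻¹ * (g * (r * i) * g⁻¹) = g * (r * i * (r * i)) * g⁻¹ by group, c0.uu]
    simp
  have s1 : g * (r * i) * g⁻¹ ≠ 1 := fun e => c0.u1.1 (by
    rw [show r * i = g⁻¹ * (g * (r * i) * g⁻¹) * g by group, e]; simp)
  generalize g * (r * i) * g⁻¹ = w at hg s1 s2
  have t1 := c.h.t1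
  have i1 : i ≠ 1 := fun e => t1 (by rw [← c.h.ii, e, mul_one])
  have i2 : i ≠ t := fun e => t1 (by rw [← c.h.ii, e, c.h.tt])
  have i3 : t * i ≠ 1 := fun e => i2 (by rw [eq_inv_of_mul_eq_one_right e, tinv c.h])
  have d1 : DD t (t * x) := by
    have := hd.conj i
    simpa only [mul_assoc, ru, iinv c.h, it' c.h, ii' c.h, tt' c.h] using this
  have d2 : DD t (i * x) ∧ DD t (t * i * x) := by
    have a1 := hd.conj j
    have a2 := d1.conj j
    rcases rj with rj | rj <;>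
      simp only [mul_assoc, ru, rj, jinv c.h, jt' c.h, ji' c.h, jj' c.h, tt' c.h, it' c.h]
        at a1 a2 ⊢
    exacts [⟨a2, a1⟩, ⟨a1, a2⟩]
  rcases (mM w).1 hg with e | e
  · rcases sq_Q c.h e with (k | k) | k
    · exact absurd k s1
    · exact k ▸ DD.refl t
    · exact absurd (k.symm.trans s2) t1
  · have ew : w = w * x * x := by rw [mul_assoc, xx, mul_one]
    generalize w * x = y at e ew
    subst ew
    rcases (mem_Q c.h).1 e with (k | k) | (k | k) | (k | k) | (k | k) <;> rw [k] at s2 ⊢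
    · rwa [one_mul]
    · exact d1
    · exact d2.1
    · exact d2.2
    all_goals
      exfalso
      rcases rj with rj | rj <;>
      simp [mul_assoc, ru, rj, xx, jinv c.h, jt' c.h, ji' c.h, jj' c.h, tt' c.h, it' c.h, ii' c.h,
        c.h.jj, it c.h, jt c.h, i1, i3] at s2

theorem Cy.false (c : Cy L G0 t i j ρ T r f) : False := by
  have c0 := c.toCx
  obtain ⟨x, hx, xt, hd⟩ := H2.SZ.St.zs c.h.toSt c.hT (c.h.le (tL c.h)) c.h.t1 c.h.tt
  by_cases hy : ∃ y ∈ T ⊓ C[L], y * y = r ∨ y * y = t * r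
  · obtain ⟨y, hy, yy⟩ := hy
    exact c.big hx xt hd hy yy
  refine c.small hx xt hd fun a ha => ?_
  obtain ⟨k, hk⟩ := (c.hT.pi.piElt ha.1).exists_pow Nat.prime_two
  replace hk : a ^ 2 ^ k = 1 := hk ▸ pow_orderOf_eq_one a
  induction k generalizing a with
  | zero => exact .inl (.inl (by simpa using hk))
  | succ k ih =>
    rcases ih (a * a) (mul_mem ha ha) (by rw [← pow_two, ← pow_mul, ← pow_succ', hk]) with
      (e | e) | e
    · exact .inl (inv_C c.h ha.2 e)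
    · exact .inr (c0.sqR ha e)
    · exact absurd ⟨a, ha, e⟩ hy

theorem Cx.core (c : Cx L G0 t i j ρ T r) (hx : x ∈ T) (xx : x * x = 1)
    (e : x * (r * i) = r * i * x) : x = 1 ∨ x = t ∨ x = r * i ∨ x = t * (r * i) := by
  by_cases ho : x ∈ L ⊔ C[L]
  swap
  · exact (c.cy hx ho xx e).false.elim
  rcases c.invLC hx ho xx with (k | k) | ⟨y, hy, yy, rfl⟩
  · exact .inl k
  · exact .inr (.inl k)
  have t1 := c.h.t1
  rcases (mem_Q c.h).1 hy with (k | k) | (k | k) | (k | k) | (k | k) <;> rw [k] at e yy ⊢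
  · exact absurd (yy.symm.trans (one_mul 1)) t1
  · exact absurd (yy.symm.trans c.h.tt) t1
  · exact .inr (.inr (.inl rfl))
  · exact .inr (.inr (.inr (c.xt' c.rT _)))
  all_goals
    exfalso
    simp [mul_assoc, c.ir', c.jr', c.rr', c.xt' c.rT, jt' c.h, ji' c.h, jj' c.h, tt' c.h, it' c.h,
      ii' c.h, ji c.h, t1, t1.symm] at e

theorem Cx.le4 (c : Cx L G0 t i j ρ T r) (hA : El A) (AT : A ≤ T) (hu : r * i ∈ A) : ♯A ≤ 4 :=
  le_four fun a ha => c.core (AT ha) (hA a ha) (hA.abl.comm ha hu)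

end SBx

/-! ### SB -/
open SBx SAx in
theorem SD.rk (h : SD L G0 t i j ρ) (hA : El A) : ♯A ≤ 4 := by
  obtain ⟨T, hT, iT, jT⟩ := exists_syl h
  obtain ⟨c, -, AT⟩ := Sylow_Jsub Nat.prime_two (h.syl hT) hA.pi le_top
  replace hA : El (cj c A) := fun x hx => by
    obtain ⟨a, ha, rfl⟩ := mem_cj'.1 hx
    rw [show c * a * c⁻¹ * (c * a * c⁻¹) = c * (a * a) * c⁻¹ by group, hA a ha]; simp
  rw [← card_cj c A]
  generalize cj c A = A at AT hA
  have tT : t ∈ T := h.ii ▸ mul_mem iT iT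
  have NL : ∀ a ∈ A, a ∈ N[L] := fun a ha => h.Ct a (mem_C1.1 (hT.le (AT ha)))
  by_cases h1 : ∀ a ∈ A, a ∈ L ⊔ C[L] → a = 1 ∨ a = t
  · by_cases h2 : ∀ a ∈ A, a ∈ L ⊔ C[L]
    · exact le_four (a := 1) (b := t) (c := 1) (d := 1) fun a ha =>
        (h1 a ha (h2 a ha)).imp_right .inl
    push Not at h2
    obtain ⟨f, fA, fo⟩ := h2
    refine le_four (a := 1) (b := t) (c := f⁻¹) (d := f⁻¹ * t) fun a ha => ?_
    rcases (h.idx f (NL f fA) a (NL a ha)).resolve_left fo with e | e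
    · exact (h1 a ha e).imp_right .inl
    · exact .inr (.inr ((h1 _ (mul_mem fA ha) e).imp eq_inv_of_mul_eq_one_right
        eq_inv_mul_of_mul_eq))
  push Not at h1
  obtain ⟨a, ha, aL, a1, a2⟩ := h1
  obtain ⟨r, hr, y, hy, rfl⟩ := h.inv hT.pi hT.le iT jT (AT ha) aL
  have ry : y * r = r * y := mem_C.1 hr.2 _ (Q_L h hy)
  have rt : r * t = t * r := mem_C1.1 (hT.le hr.1)
  have e : r * r * (y * y) = 1 := by
    rw [← hA _ ha, show r * y * (r * y) = r * (y * r) * y by group, ry]; group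
  have yy : y * y = t := by
    refine (sq_Q h hy).resolve_left fun k => ?_
    have : y * y = 1 := by rcases k with k | k <;> rw [k]; exacts [one_mul _, h.tt]
    rw [this, mul_one] at e
    rcases inv_C h hr.2 e with k2 | k2 <;> rcases k with k | k <;> rw [k, k2] at a1 a2 <;>
      simp [h.tt] at a1 a2
  have rr : r * r = t := by rw [yy] at e; rw [eq_inv_of_mul_eq_one_left e, tinv h]
  have r2 : r * t * (r * t) = t := by
    rw [show r * t * (r * t) = r * (t * r) * t by group, ← rt, ← mul_assoc, rr, h.tt, one_mul]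
  have tr : r * t ∈ T ⊓ C[L] := mul_mem hr ⟨tT, h.tC⟩
  have ijT := mul_mem iT jT
  rcases (mem_Q h).1 hy with (k | k) | (k | k) | (k | k) | (k | k) <;> rw [k] at ha yy
  · exact absurd (yy.symm.trans (one_mul 1)) h.t1
  · exact absurd (yy.symm.trans h.tt) h.t1
  · exact Cx.le4 ⟨h, hT, iT, jT, hr.1, hr.2, rr⟩ hA AT ha
  · exact Cx.le4 ⟨h, hT, iT, jT, tr.1, tr.2, r2⟩ hA AT (by rwa [mul_assoc])
  · exact Cx.le4 ⟨h.rot, hT, jT, ijT, hr.1, hr.2, rr⟩ hA AT ha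
  · exact Cx.le4 ⟨h.rot, hT, jT, ijT, tr.1, tr.2, r2⟩ hA AT (by rwa [mul_assoc])
  · exact Cx.le4 ⟨h.rot.rot, hT, ijT, mul_mem jT ijT, hr.1, hr.2, rr⟩ hA AT ha
  · exact Cx.le4 ⟨h.rot.rot, hT, ijT, mul_mem jT ijT, tr.1, tr.2, r2⟩ hA AT (by rwa [mul_assoc])

end H23.L2
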