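import Mathlib
import Cfsg.Agent.H23.LDefs
import Cfsg.Agent.H23.LB
import Cfsg.Agent.H23.SB
import Cfsg.Agent.H23.AU
import Cfsg.Agent.H23.M3L
import Cfsg.Agent.H23.M3U
import Cfsg.Agent.S0482
import Cfsg.Agent.S0435

set_option autoImplicit false
set_option linter.unusedVariables false
set_option linter.unusedSectionVars false

namespace H23.L2

open Cfsg H24 Subgroup
open H2.SZ (St DD Goal)
open scoped MatrixGroups commutatorElement

universe u

variable {G : Type u} [Group G] [Finite G] {F : Type*} [Field F] [Fintype F]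
  {L G0 D T B R Q S S1 A P N M H : Subgroup G} {t f g i j ρ z u : G} {X : LD F L} {n : ℕ}
  {π s : G → F}

theorem SC5x.five (h : SD L G0 t i j ρ) {q : ℕ} (ho : Odd q) (h5 : 5 ≤ q) (m : M3 G0 q) : q = 5 := by
  obtain ⟨K, _, _, κ, rfl, hi, hc⟩ := m
  have top : ∀ x, x ∈ G0 := fun x => h.top ▸ mem_top x
  have hi' : Function.Injective (G0.subtype.comp κ) := Subtype.val_injective.comp hi
  obtain ⟨a, -, b, -, e1, e2, e3, e4, e5⟩ := sl2_q8 ho _ hi'
  obtain ⟨g, hg⟩ := h.q8 (g := a) (f := b) (e1.trans e2.symm) (e1 ▸ e4) (e1 ▸ e5) (e1 ▸ e3)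
  rw [e1] at hg
  have h1 : cj g L ≤ C{G0.subtype.comp κ (-1)} := by
    rw [hg, ← cj_C1]; exact cj_mono g (mem_C_iff_le_C1.1 h.tC)
  refine sl2_nml ho h5 _ hi' (M := cj g L) ?_ ?_ ((card_cj _ _).trans h.cardL)
  · rw [← h.pf, cj_comm]
    refine commutator_le.2 fun x hx y hy => ?_
    obtain ⟨w, hw⟩ := hc (commutator_mem_commutator (g₁ := ⟨x, top x⟩) (g₂ := ⟨y, top y⟩)
      (mem_C1.2 (Subtype.ext (mem_C1.1 (h1 hx)))) (mem_C1.2 (Subtype.ext (mem_C1.1 (h1 hy)))))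
    exact ⟨w, congrArg Subtype.val hw⟩
  · rintro _ ⟨w, rfl⟩
    have : G0.subtype.comp κ w ∈ cj g C{t} := by
      rw [cj_C1, ← hg, mem_C1, ← map_mul, ← map_mul, mul_neg, neg_mul, mul_one, one_mul]
    rw [← cj_N]
    exact cj_mono g (fun x hx => h.Ct x (mem_C1.1 hx)) this

/-! ### SC5 -/
theorem SD.goal (h : SD L G0 t i j ρ) : Gl 4 G0 := by
  have := h.simple
  have top : ∀ x, x ∈ G0 := fun x => h.top ▸ mem_top x
  have Lt : L ≤ C{t} := mem_C_iff_le_C1.1 h.tC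
  have h5 : 5 ∣ Nat.card G0 := Dvd.dvd.trans (h.cardL ▸ by norm_num) (card_dvd h.le)
  rcases Cfsg.Agent.S0482.result (G := G0) (fun c => h.t1 (by
      have e : i * j = j * i := congrArg Subtype.val (c.is_comm.comm ⟨i, top i⟩ ⟨j, top j⟩)
      exact mul_eq_right.1 (by rw [← h.ij, e] : t * (j * i) = j * i)))
    (fun A _ hA => by
      rw [← card_map_of_injective (K := A) G0.subtype_injective]
      refine h.rk ?_
      rintro _ ⟨a, ha, rfl⟩
      rw [← map_mul, ← pow_two, hA a ha, map_one]) with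
    ⟨K, _, _, hK, -, ⟨e⟩⟩ | ⟨K, _, _, hK, ⟨e⟩⟩ | ⟨K, _, _, q, hq, hK, ⟨e⟩⟩ | ⟨K, _, _, hK, e⟩ | e | e
  · have e1 := h.cardL
    rw [cp2 hK e (top t) h.t1 h.le Lt h.pf, card_bot] at e1
    omega
  · obtain ⟨m, h1⟩ := m3_psl hK e h5
    exact .inr (.inl ⟨rfl, .inr (.inr (.inr (.inr ⟨K, _, _, SC5x.five h hK h1 m, ⟨e⟩⟩)))⟩)
  · obtain ⟨m, h1⟩ := m3_psu hq hK e h5
    obtain rfl := SC5x.five h hK h1 m
    exact .inr (.inl ⟨rfl, .inr (.inr (.inr (.inl ⟨K, _, _, hq, .inr ⟨e⟩⟩)))⟩)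
  · exact .inl (.inr (.inr (.inl ⟨K, _, _, CharTwo.of_one_ne_zero_of_two_eq_zero one_ne_zero (LBx.two_of (k := 4) hK), 3, 4, hK, le_rfl,
      fun e => by omega, e⟩)))
  · exact .inr (.inl ⟨rfl, .inr (.inr (.inl e))⟩)
  · have e1 := Cfsg.Agent.S0435.result e ⟨t, top t⟩ (by
      rw [← orderOf_coe]; exact orderOf_eq_prime (by rw [pow_two, h.tt]) h.t1)
    have e2 := card_dvd (A := L.subgroupOf G0) (B := C{(⟨t, top t⟩ : G0)})
      fun x hx => mem_C1.2 (Subtype.ext (mem_C1.1 (Lt hx)))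
    rw [card_subgroupOf_of_le h.le, h.cardL, e1] at e2
    omega

end H23.L2
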