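import Mathlib
import Cfsg.Agent.H23.LDefs
import Cfsg.Agent.H23.TH

set_option autoImplicit false
set_option linter.unusedVariables false
set_option linter.unusedSectionVars false

namespace H23.L2

open Cfsg H24 Subgroup
open H2.SZ (St DD Goal)
open scoped MatrixGroups commutatorElement

universe u

variable {G : Type u} [Group G] [Finite G] {F : Type*} [Field F] [Fintype F]
  {L G0 D T B R Q S S1 A P N M H : Subgroup G} {t f g i j ρ z u : G} {X : LD F L} {n : ℕ}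
  {π s : G → F}

namespace TDx

open THx

theorem NP (h : Th X G0 t D T B n π) (h2 : 2 ≤ n) (hg : g ∈ N[(B ⊔ zpowers t : Subgroup G)]) :
    g ∈ N[B] := by
  refine mem_N_of_finite fun x hx => ?_
  refine (h.toTw.mem_P.1 (H24.conj_mem hg (mem_sup_left hx))).resolve_right fun hb => ?_
  have k : ∀ a ∈ B, g⁻¹ * a * g ∈ B → π a = 0 := fun a ha m => h.π_V h2 (h.toTw.C_t ha (by
    have e1 := h.abl.comm m hx
    have e2 := h.abl.comm ha hb
    have e3 : a * (g * x * g⁻¹) = g * x * g⁻¹ * a := by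
      calc _ = g * (g⁻¹ * a * g * x) * g⁻¹ := by group
        _ = _ := by rw [e1]; group
    rw [mul_assoc t, ← e3, ← mul_assoc, ← mul_assoc t] at e2
    exact mul_right_cancel e2))
  have d : ∀ a ∈ B, π a ≠ 0 → t * (g⁻¹ * a * g) ∈ B := fun a ha n0 =>
    (h.toTw.mem_P.1 (H24.conj_mem' hg (mem_sup_left ha))).resolve_left fun m => n0 (k a ha m)
  obtain ⟨y, y0, y1, -⟩ := X.exists_ne 0 1 1
  obtain ⟨a, ha, ea⟩ := h.onto 1
  obtain ⟨b, hb', eb⟩ := h.onto y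
  have := k (a⁻¹ * b) (mul_mem (inv_mem ha) hb') (by
    convert mul_mem (inv_mem (d a ha (ea ▸ one_ne_zero))) (d b hb' (eb ▸ y0)) using 1
    group)
  rw [h.π_mul (inv_mem ha) hb', h.π_inv ha, ea, eb] at this
  exact y1 (X.eq_of_add this).symm

theorem NV (h : Th X G0 t D T B n π) (h2 : 2 ≤ n) : N[(B ⊔ T : Subgroup G)] ≤ N[X.V] :=
  le_N_iff.2 fun a ha x hx => by
    obtain ⟨c, hc, e⟩ := (h.cls (h.V_B hx)).1 (h.π_V h2 hx)
    have m : x ∈ ⁅B ⊔ T, B ⊔ T⁆ := by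
      rw [show x = ⁅t⁻¹, c⁆ by
        rw [commutatorElement_def, inv_inv, mul_assoc, mul_assoc, ← mul_assoc c, ← e]; group]
      exact commutator_mem_commutator (inv_mem (mem_sup_right h.toLb.t_T)) (mem_sup_left hc)
    exact h.om _ (h.toTw.comm_BT (H24.conj_mem (norm_der1 le_rfl ha) m)) (by
      rw [show a * x * a⁻¹ * (a * x * a⁻¹) = a * (x * x) * a⁻¹ by group, sqV hx]; group)

end TDx

/-! ### TD -/
theorem Th.drive (h : Th X G0 t D T B n π) : (2 ≤ n ∧ Syl 2 ⊤ (B ⊔ T)) ∨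
    ∃ m ∈ Mx B t, ∀ c ∈ B, m * t * m⁻¹ ≠ c * t * c⁻¹ := by
  rcases h.pos.eq_or_lt with rfl | h2
  · obtain ⟨g, hg, e⟩ := h.mv
    obtain rfl := h.one.1
    refine .inr ⟨g, ⟨hg.1, sup_comm (zpowers t) X.V ▸ hg.2⟩, ?_⟩
    rintro _ ⟨c, rfl⟩
    rwa [h.toSt2.tz X, mul_inv_cancel_right]
  refine or_iff_not_imp_right.2 fun hn => ⟨h2, by_contra fun hS => ?_⟩
  obtain ⟨Q, hQ, h3, -, h4⟩ := exists_lt_norm_of_not_syl Nat.prime_two h.toTw.pi_BT le_top hS
  refine h3.not_ge fun g hg => ?_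
  have e : (B ⊔ T) ⊓ C[X.V] = B ⊔ zpowers t :=
    le_antisymm (fun x hx => h.toTw.CV_BT hx.1 hx.2) (le_inf
      (sup_le_sup_left (zpowers_le.2 h.toLb.t_T) B)
      (sup_le h.toTw.BV (zpowers_le.2 (C_anti X.V_le h.tC))))
  have n1 : g ∈ N[(B ⊔ zpowers t : Subgroup G)] :=
    e ▸ norm_inf h4 (norm_C (h4.trans (TDx.NV h h2))) hg
  push Not at hn
  obtain ⟨c, hc, e1⟩ := hn g ⟨TDx.NP h h2 n1, n1⟩
  have := h.toLb.cen hQ (le_sup_right.trans h3.le) (g := c⁻¹ * g)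
    (mul_mem (inv_mem (h3.le (mem_sup_left hc))) hg) (by
      calc c⁻¹ * g * t = c⁻¹ * (g * t * g⁻¹) * g := by group
        _ = _ := by rw [e1]; group)
  simpa using mul_mem (mem_sup_left hc : c ∈ B ⊔ T) (mem_sup_right this)

end H23.L2
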