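import Mathlib
import Cfsg.Agent.H23.LDefs
import Cfsg.Agent.H23.TH
import Cfsg.Agent.H23.AF
import Cfsg.Agent.H23.TR

set_option autoImplicit false
set_option linter.unusedVariables false
set_option linter.unusedSectionVars false

namespace H23.L2

open Cfsg H24 Subgroup
open H2.SZ (St DD Goal)
open scoped MatrixGroups commutatorElement

universe u

variable {G : Type u} [Group G] [Finite G] {F : Type*} [Field F] [Fintype F]
  {L G0 D T B R Q S S1 A P N M H : Subgroup G} {t f g i j ρ z u : G} {X : LD F L} {n : ℕ}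
  {π s : G → F}

open TRx

/-! ### TE -/
theorem Th.cases (h : Th X G0 t D T B n π)
    (mv : ∃ m ∈ Mx B t, ∀ c ∈ B, m * t * m⁻¹ ≠ c * t * c⁻¹) : Ex X G0 t D T B n π ∨
    ∀ y, ∃ m ∈ Mx B t, m ∈ C[X.V] ∧ ∃ b ∈ B, m * t * m⁻¹ = t * b ∧ π b = y := by
  let Y : Subgroup (Equiv.Perm F) :=
    { carrier := {g | ∃ m ∈ Mx B t, ∀ x, m * X.z x * m⁻¹ = X.z (g x + sv π t m)}
      one_mem' := ⟨1, one_mem _, fun x => by simp [sv_t h (r := 1) (by simp)]⟩
      mul_mem' := by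
        rintro a b ⟨m, m1, m2⟩ ⟨k, k1, k2⟩
        refine ⟨_, mul_mem m1 k1, fun x => ?_⟩
        rw [← X.z_mul, sv_mul h m1 k1, ← mul_assoc, X.z_mul, Equiv.Perm.mul_apply, ← m2, conj_mul,
          X.z_mul, ← k2]; group
      inv_mem' := by
        rintro a ⟨m, m1, m2⟩
        refine ⟨_, inv_mem m1, fun x => ?_⟩
        have e := sv_mul h m1 (inv_mem m1)
        rw [mul_inv_cancel, sv_t h (r := 1) (by simp), X.z_zero, eq_comm, mul_eq_one_iff_inv_eq,
          X.z_inv] at e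
        have := m2 (a⁻¹ x)
        rw [show a (a⁻¹ x) = x by simp, ← X.z_mul, e] at this
        rw [← X.z_mul]
        calc _ = m⁻¹ * (X.z x * (m * X.z (sv π t m⁻¹) * m⁻¹)) * m * (X.z (sv π t m⁻¹))⁻¹ := by group
          _ = _ := by rw [← this, X.z_inv]; group }
  have ex : ∀ m ∈ Mx B t, ∃ g : Equiv.Perm F, ∀ x, m * X.z x * m⁻¹ = X.z (g x + sv π t m) :=
    fun m hm => by
      choose l hl using fun x => H24.conj_mem (h.toTw.NV hm.1) (X.z_V x)
      refine ⟨Equiv.ofBijective (fun x => l x + sv π t m) (Finite.injective_iff_bijective.1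
        fun x y e => X.z_inj ?_), fun x => ?_⟩
      · have := (hl x).trans ((congrArg X.z (add_right_cancel e)).trans (hl y).symm)
        simpa using this
      · rw [Equiv.ofBijective_apply, add_assoc, X.add_self, add_zero, hl]
  have z0 : ∀ {m} {g : Equiv.Perm F}, (∀ x, m * X.z x * m⁻¹ = X.z (g x + sv π t m)) →
      g 0 = sv π t m := fun e => X.eq_of_add (X.z_eq_one.1 (by rw [← e, X.z_zero]; group))
  rcases aff X.two X.four Y (by
      rintro g ⟨m, m1, m2⟩ x y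
      have := m2 (x + y)
      rw [← X.z_mul, ← conj_mul, m2, m2, X.z_mul] at this
      rw [z0 m2]
      linear_combination -X.z_inj this)
    (fun k => by
      obtain ⟨g, hg⟩ := ex _ (h.toTw.le_Mx.2.2.2 k)
      refine ⟨g, ⟨_, h.toTw.le_Mx.2.2.2 k, hg⟩, fun x => X.z_inj ?_⟩
      rw [← X.h_z, hg, sv_t h (mul_inv_eq_iff_eq_mul.1 (h.toSt2.th X k)), add_zero])
    (by
      rintro g ⟨m, m1, m2⟩ e
      rw [z0 m2] at e
      obtain ⟨c, c1, c2⟩ := (sv_zero h m1).1 e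
      obtain ⟨a, -, ha⟩ := X.actV (g := c⁻¹ * m) (h.Ct _ (by
        rw [mul_assoc, mul_inv_eq_iff_eq_mul.1 c2]; group))
        (mul_mem (inv_mem (h.toTw.NV (norm_self B c1))) (h.toTw.NV m1.1))
      refine ⟨a, X.φ (c⁻¹ * m), fun x => X.z_inj ?_⟩
      rw [← ha, mul_inv_rev, mul_assoc c⁻¹, ← mul_assoc, mul_assoc c⁻¹, m2, e, add_zero, inv_inv,
        mul_assoc, mem_C.1 (h.toTw.BV c1) _ (X.z_V _), inv_mul_cancel_left])
    (by
      obtain ⟨m, m1, m2⟩ := mv
      obtain ⟨g, hg⟩ := ex m m1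
      exact ⟨g, ⟨m, m1, hg⟩, fun e => by
        obtain ⟨c, c1, c2⟩ := (sv_zero h m1).1 ((z0 hg).symm.trans e)
        exact m2 c c1 c2⟩) with k | ⟨k1, k2, k3⟩
  · refine .inr fun y => ?_
    obtain ⟨g, ⟨m, m1, m2⟩, hg⟩ := k y
    have e := z0 m2
    rw [hg, zero_add] at e
    refine ⟨m, m1, mem_C'.2 ?_, _, bb h m1, spec h m, e.symm⟩
    rintro _ ⟨x, rfl⟩
    rw [← mul_inv_eq_iff_eq_mul, m2, hg, e, add_assoc, X.add_self, add_zero]
  · refine .inl ⟨h, k1, fun α => ?_, fun m m1 m2 => ?_, mv⟩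
    · obtain ⟨g, ⟨m, m1, m2⟩, hg⟩ := k2 α
      exact ⟨m, m1, fun c => by rw [m2, hg, z0 m2, add_assoc, X.add_self, add_zero]⟩
    · obtain ⟨g, hg⟩ := ex m m1
      refine (sv_zero h m1).1 ((z0 hg).symm.trans (k3 g ⟨m, m1, hg⟩ fun x => ?_))
      have := hg x
      rw [← mem_C.1 m2 _ (X.z_V x), mul_inv_cancel_right] at this
      rw [z0 hg, X.z_inj this, add_assoc, X.add_self, add_zero, ← X.z_inj this]

end H23.L2
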