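import Mathlib
import Cfsg.Agent.H23.LDefs
import Cfsg.Agent.H23.TS

set_option autoImplicit false
set_option linter.unusedVariables false
set_option linter.unusedSectionVars false

namespace H23.L2

open Cfsg H24 Subgroup
open H2.SZ (St DD Goal)
open scoped MatrixGroups commutatorElement

universe u

variable {G : Type u} [Group G] [Finite G] {F : Type*} [Field F] [Fintype F]
  {L G0 D T B R Q S S1 A P N M H : Subgroup G} {t f g i j ρ z u : G} {X : LD F L} {n : ℕ}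
  {π s : G → F}

namespace TXx
open TSx

theorem νB (h : Rz X G0 t D T B n π R s) (hg : g ∈ R) (hf : f ∈ B) : ⁅g, f⁆ ∈ B :=
  mul_mem ((mem_N.1 (h.RB hg) _).1 hf) (inv_mem hf)

theorem pw (h : Rz X G0 t D T B n π R s) (hg : g ∈ B) (hf : f ∈ B) (m : ℕ) :
    (g * f) ^ m = g ^ m * f ^ m := Commute.mul_pow (h.abl.comm hg hf) m

theorem ν2 (h : Rz X G0 t D T B n π R s) (hg : g ∈ R) (hf : f ∈ B) (hu : u ∈ B) :
    ⁅g, f * u⁆ = ⁅g, f⁆ * ⁅g, u⁆ := by
  rw [show ⁅g, f * u⁆ = ⁅g, f⁆ * (f * ⁅g, u⁆ * f⁻¹) by simp only [commutatorElement_def]; group,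
    h.abl.comm hf (νB h hg hu), mul_inv_cancel_right]

theorem πν (h : Rz X G0 t D T B n π R s) (hg : g ∈ R) (hf : f ∈ B) : π ⁅g, f⁆ = 0 := by
  rw [commutatorElement_def, h.toTh.π_mul ((mem_N.1 (h.RB hg) _).1 hf) (inv_mem hf), h.π_R hg hf,
    h.toTh.π_inv hf, X.add_self]

/-- the relation between `r²` and `[r, t]` -/
theorem rel (h : Rz X G0 t D T B n π R s) (hg : g ∈ R) : ∃ b ∈ B, π b = s g ∧
    (g * g)⁻¹ * (g * g)⁻¹ = b * b * ⁅g, b⁆ := by
  obtain ⟨b, hb, eb, sb⟩ := h.spec g hg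
  refine ⟨b, hb, sb, ?_⟩
  have e1 : t * g * t = b * g := by
    calc t * g * t = t * (g * t * g⁻¹) * g := by group
      _ = t * t * b * g := by rw [eb]; group
      _ = b * g := by rw [h.tt, one_mul]
  have e2 := h.inv _ (h.sq g hg)
  rw [show t * (g * g) * t = t * g * 1 * g * t by group, ← h.tt,
    show t * g * (t * t) * g * t = t * g * t * (t * g * t) by group, e1] at e2
  rw [mul_assoc b b, h.abl.comm hb (νB h hg hb), commutatorElement_def]
  nth_rewrite 1 [← e2]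
  group

theorem step (h : Rz X G0 t D T B n π R s) {m : ℕ}
    (hm : ∀ a ∈ R, ∀ b ∈ B, ⁅a, b⁆ ^ 2 ^ (m + 1) = 1) :
    (∀ a ∈ R, ∀ b ∈ B, ⁅a, b⁆ ^ 2 ^ m ∈ X.V) ∧
    ∃ c, ∀ a ∈ R, ∀ b ∈ B, ∀ y, ⁅a, b⁆ ^ 2 ^ m = X.z y → y ^ 2 = c * s a * π b := by
  have fV : ∀ a ∈ R, ∀ b ∈ B, ⁅a, b⁆ ^ 2 ^ m ∈ X.V := fun a ha b hb =>
    h.om _ (pow_mem (νB h ha hb) _) (by rw [← pow_add, ← two_mul, ← pow_succ', hm a ha b hb])
  have f2 : ∀ a ∈ R, ∀ b ∈ B, ∀ b' ∈ B, ⁅a, b * b'⁆ ^ 2 ^ m = ⁅a, b⁆ ^ 2 ^ m * ⁅a, b'⁆ ^ 2 ^ m :=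
    fun a ha b hb b' hb' => by rw [ν2 h ha hb hb', pw h (νB h ha hb) (νB h ha hb')]
  refine ⟨fV, bl X (fun a b => ⁅a, b⁆ ^ 2 ^ m) h.s_onto h.onto (fun a ha b hb => h.s_mul ha hb)
    (fun a ha b hb => h.toTh.π_mul ha hb) fV (fun a ha a' ha' b hb => ?_) f2
    (fun a ha b hb e => ?_) (fun a ha b hb e => ?_) (fun k a ha => s_h h k ha)
    (fun k a ha => π_h h.toTh k ha) fun g a b => ?_⟩
  · rw [show ⁅a * a', b⁆ = a * ⁅a', b⁆ * a⁻¹ * ⁅a, b⁆ by simp only [commutatorElement_def]; group,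
      pw h ((mem_N.1 (h.RB ha) _).1 (νB h ha' hb)) (νB h ha hb), conj_pow,
      ← mem_C.1 (h.RV ha) _ (fV a' ha' b hb), mul_inv_cancel_right,
      h.abl.comm (pow_mem (νB h ha' hb) _) (pow_mem (νB h ha hb) _)]
  · rw [commutatorElement_eq_one_iff_mul_comm.2 (h.abl.comm (h.s_ker a ha e) hb), one_pow]
  · obtain ⟨d, hd, rfl⟩ := h.ker b hb e
    rw [f2 a ha d hd d hd, X.el_V _ (fV a ha d hd)]
  · rw [← conj_pow]; congr 1; simp only [commutatorElement_def]; group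

/-- `π(r²)` -/
theorem sqπ (h : Rz X G0 t D T B (n + 2) π R s) (hg : g ∈ R) : ∃ b ∈ B, π b = s g ∧
    X.z (π (g * g)) = X.z (s g) * ⁅g, b⁆ ^ 2 ^ n := by
  obtain ⟨b, hb, sb, e⟩ := rel h hg
  have i := inv_mem (h.sq g hg)
  refine ⟨b, hb, sb, ?_⟩
  have p : ∀ a ∈ B, (a * a) ^ 2 ^ n = X.z (π a) := fun a ha => by
    rw [← sq, ← pow_mul, ← pow_succ']; exact h.pw a ha
  rw [← h.toTh.π_inv (h.sq g hg), ← p _ i, e, pw h (mul_mem hb hb) (νB h hg hb), p b hb, sb]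

theorem sqV (h : Rz X G0 t D T B 2 π R s) (hf : f ∈ B) (e : π f = 0) : f ∈ X.V := by
  obtain ⟨d, hd, rfl⟩ := h.ker f hf e
  have := h.pw d hd
  rw [show 2 ^ (2 - 1) = 2 from rfl, sq] at this
  exact ⟨_, this⟩

end TXx

open TSx TXx

/-! ### TX -/
theorem Rz.two (h : Rz X G0 t D T B n π R s) (h2 : 2 ≤ n)
    (mx : ∀ B', Tw X G0 t D T B' → ♯B' ≤ ♯B) : Fz X G0 t D T B π R s := by
  obtain ⟨n, rfl⟩ := Nat.exists_eq_add_of_le' h2
  by_contra hF
  have key : ∀ k m, m + k = n + 1 → ∀ a ∈ R, ∀ b ∈ B, ⁅a, b⁆ ^ 2 ^ m = 1 := by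
    intro k
    induction k with
    | zero =>
      rintro m rfl a ha b hb
      exact (h.pw _ (νB h ha hb)).trans (by rw [πν h ha hb, X.z_zero])
    | succ k ih =>
      intro m hm
      have H := ih (m + 1) (by omega)
      obtain ⟨fV, c, hc⟩ := step h H
      by_cases c0 : c = 0
      · intro a ha b hb
        obtain ⟨y, hy⟩ := fV a ha b hb
        have := hc a ha b hb y hy
        rw [c0, zero_mul, zero_mul, pow_eq_zero_iff two_ne_zero] at this
        rw [hy, this, X.z_zero]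
      exfalso
      have cb : ∀ r ∈ R, s r ≠ 0 → ∀ b ∈ B, r * b = b * r → π b = 0 := fun r hr r0 b hb e => by
        have := hc r hr b hb 0 (by
          rw [commutatorElement_eq_one_iff_mul_comm.2 e, one_pow, X.z_zero])
        rw [zero_pow two_ne_zero, eq_comm, mul_eq_zero, mul_eq_zero] at this
        tauto
      obtain ⟨r, hr, r1⟩ := h.s_onto 1
      obtain ⟨b, hb, sb, eb⟩ := sqπ h hr
      rw [cb r hr (r1 ▸ one_ne_zero) _ (h.sq r hr) (mul_assoc _ _ _).symm, X.z_zero, r1, eq_comm,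
        mul_eq_one_iff_inv_eq, X.z_inv] at eb
      obtain rfl : m = n := by
        by_contra k
        obtain ⟨j, rfl⟩ : ∃ j, n = m + 1 + j := ⟨n - (m + 1), by omega⟩
        rw [pow_add, pow_mul, H r hr b hb, one_pow] at eb
        exact X.z1 eb
      have c1 := hc r hr b hb 1 eb.symm
      rw [sb, r1, mul_one, mul_one, one_pow] at c1
      subst c1
      cases m with
      | zero =>
        refine hF ⟨h, fun a ha => sqV h (h.sq a ha) ?_, fun a ha aB b hb e =>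
          sqV h hb (cb a ha (fun k => aB (h.s_ker a ha k)) b hb e)⟩
        by_cases a0 : s a = 0
        · exact h.toTh.π_sq (h.s_ker a ha a0)
        · exact cb a ha a0 _ (h.sq a ha) (mul_assoc _ _ _).symm
      | succ m =>
        obtain ⟨y, y0, y1, -⟩ := X.exists_ne 0 1 1
        obtain ⟨b, hb, rfl⟩ := h.onto y
        obtain ⟨d, hd, ed⟩ := h.ker _ (νB h hr hb) (πν h hr hb)
        have p : (d * d) ^ 2 ^ (m + 1) = X.z (π d) := by
          rw [← _root_.sq, ← pow_mul, ← pow_succ']; exact h.pw d hd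
        have e1 := hc r hr b hb (π d) (by rw [ed, p])
        have e2 : ⁅r, d⁆ * ⁅r, d⁆ * (d * d * (d * d)) = 1 := by
          rw [← ν2 h hr hd hd, ← ed,
            ← commutatorElement_eq_one_iff_mul_comm.2 (h.abl.comm (h.sq r hr) hb)]
          simp only [commutatorElement_def]; group
        have e3 := congrArg (· ^ 2 ^ m) e2
        simp only [one_pow] at e3
        rw [pw h (mul_mem (νB h hr hd) (νB h hr hd)) (mul_mem (mul_mem hd hd) (mul_mem hd hd)),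
          ← _root_.sq, ← pow_mul, ← pow_succ', ← _root_.sq (d * d), ← pow_mul, ← pow_succ', p,
          mul_eq_one_iff_eq_inv, X.z_inv] at e3
        have e4 := hc r hr d hd _ e3
        rw [r1, one_mul, one_mul] at e1 e4
        rw [e4] at e1
        rw [e1, _root_.sq] at e4
        exact y1 (mul_left_cancel₀ y0 (e4.trans (mul_one _).symm))
  have hC : R ≤ C[B] := fun a ha => mem_C'.2 fun b hb => commutatorElement_eq_one_iff_mul_comm.1 (by
    simpa using key (n + 1) 0 (zero_add _) a ha b hb)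
  obtain ⟨r, hr, r2, rB⟩ := not_om h mx hC
  obtain ⟨b, hb, sb, eb⟩ := sqπ h hr
  rw [r2, π_one h.toTh, commutatorElement_eq_one_iff_mul_comm.2 (mem_C'.1 (hC hr) b hb), one_pow,
    mul_one] at eb
  exact rB (h.s_ker r hr (X.z_inj eb).symm)

end H23.L2
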