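import Mathlib
import Cfsg.Agent.H23.LDefs
import Cfsg.Agent.H23.LB

set_option autoImplicit false
set_option linter.unusedVariables false
set_option linter.unusedSectionVars false

namespace H23.L2

open Cfsg H24 Subgroup
open H2.SZ (St DD Goal)
open scoped MatrixGroups commutatorElement

universe u

variable {G : Type u} [Group G] [Finite G] {F : Type*} [Field F] [Fintype F]
  {L G0 D T B R Q S S1 A P N M H : Subgroup G} {t f g i j ρ z u : G} {X : LD F L} {n : ℕ}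
  {π s : G → F}

/-! ### XA3 -/
namespace XA3x

theorem fixf (h8 : Fintype.card F = 8) {σ : RingAut F} (h : σ ≠ 1) {x : F} (h0 : x ≠ 0)
    (hx : σ x = x) : x = 1 := by
  classical
  by_contra h1
  refine h (RingEquiv.ext fun y => ?_)
  rcases eq_or_ne y 0 with rfl | hy
  · simp
  have hc : Nat.card Fˣ = 7 := by rw [Nat.card_units, Nat.card_eq_fintype_card, h8]
  haveI : Fact (Nat.Prime 7) := ⟨by norm_num⟩
  have hm : Units.mk0 y hy ∈ zpowers (Units.mk0 x h0) :=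
    (zpowers_eq_top_of_prime_card (g := Units.mk0 x h0) hc
      fun e => h1 (congrArg Units.val e)) ▸ mem_top _
  obtain ⟨k, hk⟩ := hm
  have : y = x ^ k := by simpa using (congrArg Units.val hk).symm
  rw [this, map_zpow₀, hx]; rfl

/-- `C_L(z) = V` -/
theorem cz (X : LD F L) (hg : g ∈ L) {b : F} (hb : b ≠ 0) (h : g * X.z b = X.z b * g) :
    g ∈ X.V := by
  obtain ⟨a, k, rfl⟩ := X.ti g hg b b hb (mul_inv_eq_iff_eq_mul.2 h)
  have e : X.z (k * b) = X.z b := by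
    rw [← X.h_z]
    calc X.h k * X.z b * (X.h k)⁻¹
        = (X.z a)⁻¹ * (X.z a * X.h k * X.z b) * (X.h k)⁻¹ := by group
      _ = (X.z a)⁻¹ * (X.z b * X.z a) := by rw [h]; group
      _ = X.z b := by rw [X.z_comm b a]; group
  have : k = 1 := Units.ext (mul_right_cancel₀ hb (by rw [X.z_inj e]; simp))
  rw [this, map_one, mul_one]; exact X.z_V a

theorem wV (X : LD F L) {e : F} (h : X.w⁻¹ * X.z e * X.w ∈ N[X.V]) : e = 0 := by
  have hL : X.w⁻¹ * X.z e * X.w ∈ L := mul_mem (mul_mem (inv_mem X.w_mem) (X.z_mem e)) X.w_mem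
  have hp : PiElt {2} (X.w⁻¹ * X.z e * X.w) :=
    piElt_of_pow_eq_one (n := 2) (piNat_self Nat.prime_two) (by
      rw [sq]
      calc _ = X.w⁻¹ * (X.z e * X.z e) * X.w := by group
        _ = 1 := by rw [X.z_sq]; group)
  obtain ⟨a, ha⟩ := X.syl_V.le_of_norm hp.isPi (zpowers_le.2 hL) (zpowers_le.2 h) (mem_zpowers _)
  by_contra h0
  refine X.wn a e (fun e0 => h0 ?_) (by rw [← ha]; group)
  rw [e0, X.z_zero] at ha
  exact X.z_eq_one.1 (by simpa [mul_assoc] using congrArg (fun y => X.w * y * X.w⁻¹) ha)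

theorem form (X : LD F L) {y : G} (hy : y ∈ L) (y2 : y * y = 1) (y1 : y ≠ 1) :
    y ∈ X.V ∨ ∃ a b, b ≠ 0 ∧ y = X.z a * X.w * X.z b * (X.z a * X.w)⁻¹ := by
  have hp : PiElt {2} y :=
    piElt_of_pow_eq_one (n := 2) (piNat_self Nat.prime_two) (by rw [sq, y2])
  obtain ⟨g, hg, h⟩ := Sylow_subJ Nat.prime_two X.syl_V hp.isPi (zpowers_le.2 hy)
  obtain ⟨_, ⟨b, rfl⟩, rfl⟩ := mem_cj'.1 (h (mem_zpowers y))
  rcases X.bru g hg with ⟨a, k, rfl⟩ | ⟨a, k, c, rfl⟩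
  · left
    have : X.z a * X.h k * X.z b * (X.z a * X.h k)⁻¹ =
        X.z a * (X.h k * X.z b * (X.h k)⁻¹) * (X.z a)⁻¹ := by group
    rw [this, X.h_z]
    exact mul_mem (mul_mem (X.z_V _) (X.z_V _)) (inv_mem (X.z_V _))
  · right
    have e1 : X.h k * X.w = X.w * X.h k⁻¹ := by
      have := X.w_h k⁻¹
      rw [inv_inv] at this
      rw [← this]; group
    have e2 : X.z a * X.h k * X.w * X.z c * X.z b * (X.z a * X.h k * X.w * X.z c)⁻¹ =
        X.z a * X.w * X.z ((k⁻¹ : Fˣ) * b) * (X.z a * X.w)⁻¹ := by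
      rw [← X.h_z, mul_assoc (X.z a) (X.h k), e1]
      calc _ = X.z a * X.w * X.h k⁻¹ * (X.z c * X.z b) * (X.z c)⁻¹ * (X.h k⁻¹)⁻¹ *
            (X.z a * X.w)⁻¹ := by group
        _ = _ := by rw [X.z_comm c b]; group
    refine ⟨a, (k⁻¹ : Fˣ) * b, fun e => y1 ?_, e2⟩
    rw [e2, e, X.z_zero]; group

end XA3x

open XA3x

theorem LD.fix3 (X : LD F L) (h8 : Fintype.card F = 8) (ρL : ρ ∈ N[L]) (ρV : ρ ∈ N[X.V])
    (ρφ : X.φ ρ ≠ 1) (hf : f ∈ X.V) (hg : g ∈ X.V) (f1 : f ≠ 1) (g1 : g ≠ 1)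
    (h1 : f * ρ = ρ * f) (h2 : g * ρ = ρ * g) : f = g := by
  obtain ⟨a, rfl⟩ := hf
  obtain ⟨b, rfl⟩ := hg
  obtain ⟨c, c0, hc⟩ := X.actV ρL ρV
  have ea : c * X.φ ρ a = a := X.z_inj (by rw [← hc, ← h1]; group)
  have eb : c * X.φ ρ b = b := X.z_inj (by rw [← hc, ← h2]; group)
  have a0 : a ≠ 0 := fun e => f1 (X.z_eq_one.2 e)
  have b0 : b ≠ 0 := fun e => g1 (X.z_eq_one.2 e)
  have hb : X.φ ρ b ≠ 0 := by simpa using b0
  have := fixf h8 ρφ (div_ne_zero a0 b0) (by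
    rw [map_div₀, div_eq_div_iff hb b0]; linear_combination X.φ ρ b * ea - X.φ ρ a * eb)
  rw [(div_eq_one_iff_eq b0).1 this]

theorem LD.cnt (X : LD F L) (h8 : Fintype.card F = 8) (ρL : ρ ∈ N[L]) (ρV : ρ ∈ N[X.V])
    (ρ3 : PiElt {3} ρ) (ρφ : X.φ ρ ≠ 1) :
    Nat.card {y : G // y ∈ L ∧ y * y = 1 ∧ y ≠ 1 ∧ y * ρ = ρ * y} ≤ 3 ∧
      ∀ z ∈ X.V, z ≠ 1 → z * ρ = ρ * z → ∃ g ∈ L, g * ρ = ρ * g ∧ g * z ≠ z * g := by
  refine ⟨?_, ?_⟩
  · have gL : ∀ a, X.z a * X.w ∈ N[L] := fun a => norm_self L (mul_mem (X.z_mem a) X.w_mem)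
    have cL : ∀ a, (X.z a * X.w)⁻¹ * ρ * (X.z a * X.w)⁻¹⁻¹ ∈ N[L] := fun a =>
      mul_mem (mul_mem (inv_mem (gL a)) ρL) (inv_mem (inv_mem (gL a)))
    let p : F → F → G := fun a b => X.z a * X.w * X.z b * (X.z a * X.w)⁻¹
    have cm : ∀ a b, p a b * ρ = ρ * p a b → X.z b * ((X.z a * X.w)⁻¹ * ρ * (X.z a * X.w)⁻¹⁻¹) =
        (X.z a * X.w)⁻¹ * ρ * (X.z a * X.w)⁻¹⁻¹ * X.z b := fun a b h => by
      calc _ = (X.z a * X.w)⁻¹ * (p a b * ρ) * (X.z a * X.w) := by simp only [p]; group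
        _ = _ := by rw [h]; simp only [p]; group
    have nV : ∀ a b, b ≠ 0 → p a b * ρ = ρ * p a b →
        (X.z a * X.w)⁻¹ * ρ * (X.z a * X.w)⁻¹⁻¹ ∈ N[X.V] := fun a b hb h =>
      X.TI (cL a) hb (by rw [← cm a b h, mul_inv_cancel_right]; exact X.z_V b)
    have same : ∀ a b b', b ≠ 0 → b' ≠ 0 → p a b * ρ = ρ * p a b → p a b' * ρ = ρ * p a b' →
        p a b = p a b' := fun a b b' hb hb' h h' => by
      have := X.fix3 h8 (cL a) (nV a b hb h) (by rwa [X.φ_conj (inv_mem (gL a)) ρL]) (X.z_V b)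
        (X.z_V b') (fun e => hb (X.z_eq_one.1 e)) (fun e => hb' (X.z_eq_one.1 e)) (cm a b h)
        (cm a b' h')
      simp only [p, this]
    have dif : ∀ a b a' b', b ≠ 0 → b' ≠ 0 → p a b * ρ = ρ * p a b → p a' b' * ρ = ρ * p a' b' →
        X.z (a + a') * ρ = ρ * X.z (a + a') := fun a b a' b' hb hb' h h' => by
      obtain ⟨d, hd⟩ := H24.conj_mem ρV (X.z_V (a + a'))
      have m := mul_mem (nV a' b' hb' h') (inv_mem (nV a b hb h))
      have e1 : X.z a' = X.z (a + a') * X.z a := by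
        rw [X.z_mul]; congr 1; linear_combination -a * X.two
      have e2 : (X.z a' * X.w)⁻¹ * ρ * (X.z a' * X.w)⁻¹⁻¹ *
          ((X.z a * X.w)⁻¹ * ρ * (X.z a * X.w)⁻¹⁻¹)⁻¹ = X.w⁻¹ * X.z (a + (a + a') + d + a) * X.w := by
        rw [← X.z_mul, ← X.z_mul, ← X.z_mul a, ← hd, e1]
        conv_rhs => rw [← X.z_inv a, ← X.z_inv (a + a')]
        conv_rhs => enter [1, 2, 1, 2]; rw [X.z_inv]
        conv_rhs => enter [1, 2, 2]; rw [X.z_inv]
        group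
      rw [e2] at m
      have e3 : d = a + a' := by linear_combination wV X m - (a + a + a') * X.two
      rw [e3] at hd
      exact (mul_inv_eq_iff_eq_mul.1 hd).symm
    let S : Set G := {y | y ∈ L ∧ y * y = 1 ∧ y ≠ 1 ∧ y * ρ = ρ * y}
    change Nat.card S ≤ 3
    rw [Nat.card_coe_set_eq]
    have s0 : (S ∩ X.V).ncard ≤ 1 := (Set.ncard_le_one (Set.toFinite _)).2 fun y hy y' hy' =>
      X.fix3 h8 ρL ρV ρφ hy.2 hy'.2 hy.1.2.2.1 hy'.1.2.2.1 hy.1.2.2.2 hy'.1.2.2.2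
    have fm : ∀ y ∈ S \ X.V, ∃ a b, b ≠ 0 ∧ y = p a b := fun y hy =>
      (form X hy.1.1 hy.1.2.1 hy.1.2.2.1).resolve_left hy.2
    have s1 : (S \ X.V).ncard ≤ 2 := by
      rcases (S \ X.V).eq_empty_or_nonempty with e | ⟨y0, h0⟩
      · rw [e]; simp
      obtain ⟨a0, b0, hb0, rfl⟩ := fm _ h0
      have s2 : ((S \ X.V) \ {p a0 b0}).ncard ≤ 1 :=
        (Set.ncard_le_one (Set.toFinite _)).2 fun y hy y' hy' => by
          obtain ⟨a, b, hb, rfl⟩ := fm _ hy.1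
          obtain ⟨a', b', hb', rfl⟩ := fm _ hy'.1
          have ne : ∀ a b, b ≠ 0 → p a b ∈ (S \ X.V) \ {p a0 b0} → X.z (a0 + a) ≠ 1 :=
            fun a b hb hy e => hy.2 (by
              obtain rfl := X.eq_of_add (X.z_eq_one.1 e)
              exact same _ _ _ hb hb0 hy.1.1.2.2.2 h0.1.2.2.2)
          have := X.z_inj (X.fix3 h8 ρL ρV ρφ (X.z_V _) (X.z_V _) (ne a b hb hy) (ne a' b' hb' hy')
            (dif _ _ _ _ hb0 hb h0.1.2.2.2 hy.1.1.2.2.2)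
            (dif _ _ _ _ hb0 hb' h0.1.2.2.2 hy'.1.1.2.2.2))
          obtain rfl : a = a' := add_left_cancel this
          exact same _ _ _ hb hb' hy.1.1.2.2.2 hy'.1.1.2.2.2
      have := Set.ncard_sdiff_singleton_add_one h0 (Set.toFinite _)
      omega
    have := Set.ncard_inter_add_ncard_sdiff_eq_ncard S X.V (Set.toFinite _)
    omega
  · rintro _ ⟨b, rfl⟩ z1 -
    have p3 : Nat.Prime 3 := by norm_num
    have hn : L ⊴ L ⊔ zpowers ρ := nml_sup_left (zpowers_le.2 ρL)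
    obtain ⟨S, hS, hρ⟩ := Sylow_superset p3 ρ3.isPi (le_sup_right (a := L))
    have hS0 := hS.inf_nml hn
    have ne : S ⊓ L ≠ ⊥ := Hall.ne_bot hS0 p3 rfl (by rw [X.card, h8]; norm_num)
    have := ρ3.isPi.inf_C_ne_bot p3 hS0.pi
      (norm_inf (norm_of_le hρ) (zpowers_le.2 ρL)) ne
    obtain ⟨⟨g, ⟨hg, hc⟩⟩, g1⟩ := ne_bot_iff_exists_ne_one.1 this
    refine ⟨g, hg.2, (mem_C.1 hc ρ (mem_zpowers ρ)).symm, fun e => g1 (Subtype.ext ?_)⟩
    have gV := cz X hg.2 (fun e => z1 (X.z_eq_one.2 e)) e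
    exact (hS0.pi.piElt hg).eq_one ((X.syl_V.pi.piElt gV).compl_of_ne (by norm_num))

end H23.L2
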