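import Mathlib
import Cfsg.Agent.H23.LDefs
import Cfsg.Agent.H23.XA3
import Cfsg.Agent.H23.LC
import Cfsg.Agent.H23.LE
import Cfsg.Agent.H26.GBase

set_option autoImplicit false
set_option linter.unusedVariables false
set_option linter.unusedSectionVars false

namespace H23.L2

open Cfsg H24 Subgroup
open H2.SZ (St DD Goal)
open scoped MatrixGroups commutatorElement

universe u

variable {G : Type u} [Group G] [Finite G] {F : Type*} [Field F] [Fintype F]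
  {L G0 D T B R Q S S1 A P N M H : Subgroup G} {t f g i j ρ z u : G} {X : LD F L} {n : ℕ}
  {π s : G → F}

namespace XA2x

variable {a b c d w x y : G}

theorem pw (hP : IsPi {2}ᶜ P) : ∃ k : ℕ, ∀ a ∈ P, (a * a) ^ k = a := by
  obtain ⟨k, hk⟩ := H26.Gold.oddG_iff.1 hP
  refine ⟨k + 1, fun a ha => ?_⟩
  have : a ^ Nat.card P = 1 := orderOf_dvd_iff_pow_eq_one.1 (orderOf_dvd_card' ha)
  rw [← sq, ← pow_mul, show 2 * (k + 1) = Nat.card P + 1 by omega, pow_succ, this, one_mul]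

theorem sq_inj (hP : IsPi {2}ᶜ P) (ha : a ∈ P) (hb : b ∈ P) (h : a * a = b * b) : a = b := by
  obtain ⟨k, hk⟩ := pw hP
  rw [← hk a ha, h, hk b hb]

theorem cancel (hP : IsPi {2}ᶜ P) (ha : a ∈ P) (hb : b ∈ P) (hu : u ∈ P)
    (h : a * u * a = b * u * b) : a = b :=
  mul_left_cancel (sq_inj hP (mul_mem hu ha) (mul_mem hu hb) (by
    calc u * a * (u * a) = u * (a * u * a) := by group
      _ = _ := by rw [h]; group))

theorem root (hP : IsPi {2}ᶜ P) (ha : a ∈ P) : ∃ b ∈ P, b * b = a := by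
  obtain ⟨k, hk⟩ := pw hP
  exact ⟨a ^ k, pow_mem ha k, by rw [← (Commute.refl a).mul_pow, hk a ha]⟩

theorem eq_one (hP : IsPi {2}ᶜ P) (ha : a ∈ P) (h : a = a⁻¹) : a = 1 :=
  sq_inj hP ha (one_mem _) (by rw [one_mul]; exact mul_eq_one_iff_eq_inv.2 h)

/-- the elements inverted by `z` factor along `t` -/
theorem dec (hP : IsPi {2}ᶜ P) (ht : t ∈ N[P]) (hz : z ∈ N[P]) (tt : t * t = 1)
    (tz : t * z = z * t) (hw : w ∈ P) (zw : z * w * z⁻¹ = w⁻¹) :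
    ∃ x ∈ P, ∃ u ∈ P, t * x * t⁻¹ = x ∧ z * x * z⁻¹ = x⁻¹ ∧ t * u * t⁻¹ = u⁻¹ ∧
      z * u * z⁻¹ = u⁻¹ ∧ w = x * u * x := by
  have ti : t⁻¹ = t := inv_eq_of_mul_eq_one_right tt
  have hw' : t * w * t⁻¹ ∈ P := H24.conj_mem ht hw
  obtain ⟨s, hs, ss⟩ := root hP (mul_mem (inv_mem hw) hw')
  have hv : w * s ∈ P := mul_mem hw hs
  have e1 : w * s * w⁻¹ * (w * s) = t * w * t⁻¹ := by
    calc w * s * w⁻¹ * (w * s) = w * (s * s) := by group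
      _ = _ := by rw [ss]; group
  generalize w * s = v at hv e1
  have e2 : v * (t * w * t⁻¹)⁻¹ * v = w := by rw [← e1]; group
  have e3 : t * v * t⁻¹ = v := by
    refine cancel hP (H24.conj_mem ht hv) hv (inv_mem hw') ?_
    rw [e2]
    calc t * v * t⁻¹ * (t * w * t⁻¹)⁻¹ * (t * v * t⁻¹) = t * (v * w⁻¹ * v) * t⁻¹ := by group
      _ = (t * t) * w * (t * t)⁻¹ := by rw [e1]; group
      _ = w := by rw [tt]; group
  have e4 : z * v * z⁻¹ = v⁻¹ := by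
    refine cancel hP (H24.conj_mem hz hv) (inv_mem hv) hw ?_
    calc z * v * z⁻¹ * w * (z * v * z⁻¹) = z * v * z⁻¹ * (z * w * z⁻¹)⁻¹ * (z * v * z⁻¹) := by
          rw [zw, inv_inv]
      _ = z * (v * w⁻¹ * v) * z⁻¹ := by group
      _ = (z * t) * w * (z * t)⁻¹ := by rw [e1]; group
      _ = t * (z * w * z⁻¹) * t⁻¹ := by rw [← tz]; group
      _ = (t * w * t⁻¹)⁻¹ := by rw [zw]; group
      _ = _ := by rw [← e1]; group
  obtain ⟨x, hx, xx⟩ := root hP hv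
  have f1 : t * x * t⁻¹ = x := sq_inj hP (H24.conj_mem ht hx) hx (by
    calc t * x * t⁻¹ * (t * x * t⁻¹) = t * (x * x) * t⁻¹ := by group
      _ = _ := by rw [xx, e3])
  have f2 : z * x * z⁻¹ = x⁻¹ := sq_inj hP (H24.conj_mem hz hx) (inv_mem hx) (by
    calc z * x * z⁻¹ * (z * x * z⁻¹) = z * (x * x) * z⁻¹ := by group
      _ = (x * x)⁻¹ := by rw [xx, e4]
      _ = _ := by group)
  refine ⟨x, hx, x⁻¹ * w * x⁻¹, mul_mem (mul_mem (inv_mem hx) hw) (inv_mem hx), f1, f2, ?_, ?_, by group⟩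
  · calc t * (x⁻¹ * w * x⁻¹) * t⁻¹ = (t * x * t⁻¹)⁻¹ * (t * w * t⁻¹) * (t * x * t⁻¹)⁻¹ := by group
      _ = _ := by rw [f1, ← e1, ← xx]; group
  · calc z * (x⁻¹ * w * x⁻¹) * z⁻¹ = (z * x * z⁻¹)⁻¹ * (z * w * z⁻¹) * (z * x * z⁻¹)⁻¹ := by group
      _ = _ := by rw [f2, zw]; group

theorem zz (oc : orderOf c = 2 ^ (n + 1)) : c ^ 2 ^ n * c ^ 2 ^ n = 1 := by
  rw [← pow_add, ← two_mul, ← pow_succ', ← oc, pow_orderOf_eq_one]

theorem z1 (oc : orderOf c = 2 ^ (n + 1)) : c ^ 2 ^ n ≠ 1 :=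
  pow_ne_one_of_lt_orderOf (by positivity) (by rw [oc]; exact Nat.pow_lt_pow_right (by decide) (by omega))

theorem pc (oc : orderOf c = 2 ^ (n + 1)) : IsPi {2} (zpowers c) :=
  isPi_of_card Nat.prime_two ((card_zpowers' c).trans oc)

theorem inv_zp (oc : orderOf c = 2 ^ (n + 1)) (ha : a ∈ zpowers c) (aa : a * a = 1) (a1 : a ≠ 1) :
    a = c ^ 2 ^ n := by
  obtain ⟨k, rfl⟩ := mem_powers_iff_mem_zpowers.2 ha
  simp only at aa a1 ⊢
  rw [← pow_add, ← orderOf_dvd_iff_pow_eq_one, oc, pow_succ', ← two_mul] at aa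
  obtain ⟨j, rfl⟩ := Nat.dvd_of_mul_dvd_mul_left two_pos aa
  rw [pow_mul] at a1 ⊢
  obtain ⟨i, rfl | rfl⟩ := Nat.even_or_odd' j
  · exact absurd (by rw [pow_mul, sq, zz oc, one_pow]) a1
  · rw [pow_succ, pow_mul, sq, zz oc, one_pow, one_mul]

theorem t_inv (tc : t * c * t⁻¹ = c⁻¹) (ha : a ∈ zpowers c) : t * a * t⁻¹ = a⁻¹ := by
  obtain ⟨k, rfl⟩ := ha
  simp only
  rw [← conj_zpow, tc, inv_zpow]

/-- a dihedral group of order at least 16 acting on a group of odd order -/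
theorem pure (hP : IsPi {2}ᶜ P) (ht : t ∈ N[P]) (hc : c ∈ N[P]) (tt : t * t = 1)
    (tc : t * c * t⁻¹ = c⁻¹) (h2 : 2 ≤ n) (oc : orderOf c = 2 ^ (n + 1))
    (h3 : {x | x ∈ P ∧ t * x * t⁻¹ = x ∧ c ^ 2 ^ n * x * (c ^ 2 ^ n)⁻¹ = x⁻¹}.ncard ≤ 3)
    (hy : y ∈ P) (y1 : y ≠ 1) (ty : t * y * t⁻¹ = y) (zy : c ^ 2 ^ n * y * (c ^ 2 ^ n)⁻¹ = y⁻¹) :
    False := by
  obtain ⟨m, rfl⟩ : ∃ m, n = m + 1 := ⟨n - 1, by omega⟩
  have cN : zpowers c ≤ N[P] := zpowers_le.2 hc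
  have cm : ∀ {a b : G}, a ∈ zpowers c → b ∈ zpowers c → a * b = b * a := fun ha hb =>
    (abl_zpowers c).comm ha hb
  have hd : c ^ 2 ^ m ∈ zpowers c := pow_mem (mem_zpowers c) _
  have dd : c ^ 2 ^ m * c ^ 2 ^ m = c ^ 2 ^ (m + 1) := by rw [← pow_add, ← two_mul, ← pow_succ']
  have hz : c ^ 2 ^ (m + 1) ∈ zpowers c := pow_mem (mem_zpowers c) _
  have z2 := zz oc
  have iz := fun {a : G} (ha : a ∈ zpowers c) => inv_zp oc ha
  generalize c ^ 2 ^ (m + 1) = z at *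
  generalize c ^ 2 ^ m = d at *
  have zi : z⁻¹ = z := inv_eq_of_mul_eq_one_right z2
  have tz : t * z = z * t := by rw [← mul_inv_eq_iff_eq_mul, t_inv tc hz, zi]
  set SA := {x | x ∈ P ∧ t * x * t⁻¹ = x ∧ z * x * z⁻¹ = x⁻¹}
  let SI := {w | w ∈ P ∧ z * w * z⁻¹ = w⁻¹}
  have c1 : SI.ncard ≤ 9 := by
    have : SI ⊆ (fun p : G × G => p.1 * (d⁻¹ * p.2 * d) * p.1) '' (SA ×ˢ SA) := by
      rintro w ⟨hw, zw⟩
      obtain ⟨x, hx, u, hu, f1, f2, f3, f4, rfl⟩ := dec hP ht (cN hz) tt tz hw zw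
      refine ⟨(x, d * u * d⁻¹), ⟨⟨hx, f1, f2⟩, H24.conj_mem (cN hd) hu, ?_, ?_⟩, by simp only; group⟩
      · calc t * (d * u * d⁻¹) * t⁻¹ = (t * d * t⁻¹) * (t * u * t⁻¹) * (t * d * t⁻¹)⁻¹ := by group
          _ = d⁻¹ * (z * u * z⁻¹) * d := by rw [t_inv tc hd, f3, f4, inv_inv]
          _ = _ := by rw [← dd]; group
      · calc z * (d * u * d⁻¹) * z⁻¹ = (z * d) * u * (z * d)⁻¹ := by group
          _ = d * (z * u * z⁻¹) * d⁻¹ := by rw [cm hz hd]; group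
          _ = _ := by rw [f4]; group
    refine (Set.ncard_le_ncard this).trans ((Set.ncard_image_le (Set.toFinite _)).trans ?_)
    rw [Set.ncard_prod]
    exact Nat.mul_le_mul h3 h3
  have inj : Set.InjOn (fun a => a * y * a⁻¹) (zpowers c : Set G) := by
    intro a ha b hb e
    by_contra hne
    have he : b⁻¹ * a ∈ zpowers c := mul_mem (inv_mem hb) ha
    obtain ⟨k, k1, k2⟩ := H2.SZ.inv_pow' ((pc oc).piElt he) (fun h => hne (inv_mul_eq_one.1 h).symm)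
    have h1 : Commute (b⁻¹ * a) y := by
      simp only at e
      calc b⁻¹ * a * y = b⁻¹ * (a * y * a⁻¹) * a := by group
        _ = _ := by rw [e]; group
    have h4 := (h1.pow_left k).eq
    rw [iz (pow_mem he k) k2 k1] at h4
    exact y1 (eq_one hP hy (by rw [← zy, h4]; group))
  have orb : ∀ a ∈ zpowers c, a * y * a⁻¹ ∈ SI := fun a ha => ⟨H24.conj_mem (cN ha) hy, by
    calc z * (a * y * a⁻¹) * z⁻¹ = (z * a) * y * (z * a)⁻¹ := by group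
      _ = a * (z * y * z⁻¹) * a⁻¹ := by rw [cm hz ha]; group
      _ = _ := by rw [zy]; group⟩
  have c2 : insert 1 ((fun a => a * y * a⁻¹) '' (zpowers c : Set G)) = SI := by
    refine Set.eq_of_subset_of_ncard_le ?_ ?_
    · rintro _ (rfl | ⟨a, ha, rfl⟩)
      · exact ⟨one_mem _, by simp⟩
      · exact orb a ha
    · rw [Set.ncard_insert_of_notMem, inj.ncard_image]
      · have : (zpowers c : Set G).ncard = 2 ^ (m + 1 + 1) :=
          (Nat.card_coe_set_eq _).symm.trans ((card_zpowers' c).trans oc)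
        rw [this]
        have : 2 ^ 3 ≤ 2 ^ (m + 1 + 1) := Nat.pow_le_pow_right (by decide) (by omega)
        omega
      · rintro ⟨a, -, e⟩
        exact y1 (conj_eq_one_iff.1 e)
  obtain ⟨hu, zu⟩ := orb d hd
  have tu : t * (d * y * d⁻¹) * t⁻¹ = (d * y * d⁻¹)⁻¹ := by
    calc t * (d * y * d⁻¹) * t⁻¹ = (t * d * t⁻¹) * (t * y * t⁻¹) * (t * d * t⁻¹)⁻¹ := by group
      _ = d * (z⁻¹ * y * z⁻¹⁻¹) * d⁻¹ := by rw [t_inv tc hd, ty, ← dd]; group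
      _ = _ := by rw [zi, zy]; group
  have hw : y * (d * y * d⁻¹) * y ∈ SI := ⟨mul_mem (mul_mem hy hu) hy, by
    calc z * (y * (d * y * d⁻¹) * y) * z⁻¹
        = (z * y * z⁻¹) * (z * (d * y * d⁻¹) * z⁻¹) * (z * y * z⁻¹) := by group
      _ = _ := by rw [zy, zu]; group⟩
  rw [← c2] at hw
  rcases hw with e | ⟨a, ha, e⟩
  · have e1 : d * y * d⁻¹ = y⁻¹ * y⁻¹ := by
      calc d * y * d⁻¹ = y⁻¹ * (y * (d * y * d⁻¹) * y) * y⁻¹ := by group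
        _ = _ := by rw [e, mul_one]
    refine y1 (conj_eq_one_iff.1 (eq_one hP hu ?_))
    rw [← tu, e1]
    calc y⁻¹ * y⁻¹ = (t * y * t⁻¹)⁻¹ * (t * y * t⁻¹)⁻¹ := by rw [ty]
      _ = _ := by group
  · simp only at e
    have e1 : y * (a⁻¹ * y⁻¹ * a) * y = d * y * d⁻¹ := by
      have : (t * (a * y * a⁻¹) * t⁻¹)⁻¹ = (t * (y * (d * y * d⁻¹) * y) * t⁻¹)⁻¹ := by rw [e]
      have l : (t * (a * y * a⁻¹) * t⁻¹)⁻¹ = a⁻¹ * y⁻¹ * a := by
        calc (t * (a * y * a⁻¹) * t⁻¹)⁻¹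
            = (t * a * t⁻¹) * (t * y * t⁻¹)⁻¹ * (t * a * t⁻¹)⁻¹ := by group
          _ = _ := by rw [t_inv tc ha, ty, inv_inv]
      have r : (t * (y * (d * y * d⁻¹) * y) * t⁻¹)⁻¹ = y⁻¹ * (d * y * d⁻¹) * y⁻¹ := by
        calc (t * (y * (d * y * d⁻¹) * y) * t⁻¹)⁻¹
            = (t * y * t⁻¹)⁻¹ * (t * (d * y * d⁻¹) * t⁻¹)⁻¹ * (t * y * t⁻¹)⁻¹ := by group
          _ = _ := by rw [ty, tu, inv_inv]
      rw [← l, this, r]; group
    have ad : a * d = d * a := cm ha hd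
    have e2 : d⁻¹ * a * (a⁻¹ * y⁻¹ * a) * (d⁻¹ * a)⁻¹ = d * y * d⁻¹ := by
      calc d⁻¹ * a * (a⁻¹ * y⁻¹ * a) * (d⁻¹ * a)⁻¹ = d⁻¹ * y⁻¹ * d := by group
        _ = _ := by rw [← zy, ← dd]; group
    have e3 : d⁻¹ * a * (d * y * d⁻¹) * (d⁻¹ * a)⁻¹ = a * y * a⁻¹ := by
      calc d⁻¹ * a * (d * y * d⁻¹) * (d⁻¹ * a)⁻¹ = d⁻¹ * (a * d) * y * (d⁻¹ * (a * d))⁻¹ := by group
        _ = _ := by rw [ad]; group
    have he : d⁻¹ * a ∈ zpowers c := mul_mem (inv_mem hd) ha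
    have e4 : d⁻¹ * a * y * (d⁻¹ * a)⁻¹ = y := by
      refine cancel hP (H24.conj_mem (cN he) hy) hy hu ?_
      rw [← e, ← e3]
      conv_lhs => rw [← e2]
      conv_rhs => rw [← e1]
      group
    have e5 : a * y * a⁻¹ = d * y * d⁻¹ := by
      calc a * y * a⁻¹ = d * (d⁻¹ * a * y * (d⁻¹ * a)⁻¹) * d⁻¹ := by group
        _ = _ := by rw [e4]
    exact y1 (cancel hP hy (one_mem _) hu (by rw [← e, e5, one_mul, mul_one]))

/-- the extended centraliser -/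
def Nx (ρ : G) : Subgroup G where
  carrier := {g | g * ρ * g⁻¹ = ρ ∨ g * ρ * g⁻¹ = ρ⁻¹}
  one_mem' := Or.inl (by simp)
  mul_mem' := by
    intro a b ha hb
    have e : a * b * ρ * (a * b)⁻¹ = a * (b * ρ * b⁻¹) * a⁻¹ := by group
    have e' : a * ρ⁻¹ * a⁻¹ = (a * ρ * a⁻¹)⁻¹ := by group
    rcases hb with hb | hb
    · simpa only [Set.mem_ofPred_eq, e, hb] using ha
    · rcases ha with ha | ha
      · exact Or.inr (by rw [e, hb, e', ha])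
      · exact Or.inl (by rw [e, hb, e', ha, inv_inv])
  inv_mem' := by
    rintro a (ha | ha)
    · exact Or.inl (by conv_lhs => rw [← ha]
                       group)
    · refine Or.inr ?_
      calc a⁻¹ * ρ * a⁻¹⁻¹ = a⁻¹ * (a * ρ * a⁻¹)⁻¹ * a := by rw [ha]; group
        _ = _ := by group

theorem Nx_le (ρ : G) : Nx ρ ≤ N[C{ρ}] := fun g hg => mem_N_of_finite fun x hx => by
  have hx' := mem_C1_iff_conj.1 hx
  refine mem_C1_iff_conj.2 ?_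
  rcases (Nx ρ).inv_mem hg with h | h
  · calc g * x * g⁻¹ * ρ * (g * x * g⁻¹)⁻¹ = g * (x * (g⁻¹ * ρ * g⁻¹⁻¹) * x⁻¹) * g⁻¹ := by group
      _ = g * (g⁻¹ * ρ * g⁻¹⁻¹) * g⁻¹ := by rw [h, hx']
      _ = _ := by group
  · calc g * x * g⁻¹ * ρ * (g * x * g⁻¹)⁻¹ = g * (x * (g⁻¹ * ρ * g⁻¹⁻¹) * x⁻¹) * g⁻¹ := by group
      _ = g * (x * ρ * x⁻¹)⁻¹ * g⁻¹ := by rw [h]; group
      _ = g * (g⁻¹ * ρ * g⁻¹⁻¹) * g⁻¹ := by rw [hx', h]
      _ = _ := by group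

theorem φ_two (X : LD F L) (h8 : Fintype.card F = 8) (hg : g ∈ N[L]) (gg : g * g = 1) :
    X.φ g = 1 := by
  have h1 := X.φ_mul g hg g hg
  rw [gg, X.φ_one] at h1
  have h3 := aut_eight h8 (X.φ g)
  rwa [pow_succ, sq, ← h1, one_mul] at h3

end XA2x

open XA2x

/-! ### XA2 -/
theorem Lz.xd (h : Lz X G0 t D T) (h8 : Fintype.card F = 8) (ρt : ρ * t = t * ρ)
    (ρV : ρ ∈ N[X.V]) (ρ3 : PiElt {3} ρ) (ρφ : X.φ ρ ≠ 1) {c : G} (tc : t * c * t = c⁻¹)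
    (h2 : 2 ≤ n) (oc : orderOf c = 2 ^ (n + 1)) (cV : c ^ 2 ^ n ∈ X.V)
    (cρ : c * ρ * c⁻¹ = ρ⁻¹) : False := by
  have tt : t * t = 1 := h.tt
  have ti : t⁻¹ = t := inv_eq_of_mul_eq_one_right tt
  have tc' : t * c * t⁻¹ = c⁻¹ := by rw [ti, tc]
  have ρL : ρ ∈ N[L] := h.Ct ρ ρt
  have ρn : ρ ≠ ρ⁻¹ := fun e => ρφ (φ_two X h8 ρL (mul_eq_one_iff_eq_inv.2 e))
  have tρ : t ∈ C{ρ} := mem_C1.2 ρt.symm
  have cc : c ^ 2 ∈ C{ρ} := mem_C1_iff_conj.2 (by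
    calc c ^ 2 * ρ * (c ^ 2)⁻¹ = c * (c * ρ * c⁻¹) * c⁻¹ := by rw [sq]; group
      _ = c * ρ⁻¹ * c⁻¹ := by rw [cρ]
      _ = (c * ρ * c⁻¹)⁻¹ := by group
      _ = _ := by rw [cρ, inv_inv])
  have z2 := zz oc
  have zn1 := z1 oc
  have hz : c ^ 2 ^ n ∈ zpowers c := pow_mem (mem_zpowers c) _
  have zρ : c ^ 2 ^ n ∈ C{ρ} := by
    obtain ⟨m, rfl⟩ : ∃ m, n = m + 1 := ⟨n - 1, by omega⟩
    rw [pow_succ', pow_mul]; exact pow_mem cc _
  have iz := fun {a : G} (ha : a ∈ zpowers c) => inv_zp oc ha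
  obtain ⟨b0, hb0⟩ := cV
  have nz : ¬ DD t (c ^ 2 ^ n) := hb0 ▸ h.zn b0
  have b1 : b0 ≠ 0 := fun e => zn1 (by rw [hb0, e, X.z_zero])
  have tN : zpowers t ≤ N[zpowers c] := zpowers_le.2 (mem_N_of_finite fun a ha => by
    rw [t_inv tc' ha]; exact inv_mem ha)
  have pt : IsPi {2} (zpowers t) := (H2.SZ.piElt_of_sq tt).isPi
  have pR : IsPi {2} (zpowers c ⊔ zpowers t : Subgroup G) := (pc oc).sup pt tN
  have tR : t ∈ zpowers c ⊔ zpowers t := mem_sup_right (mem_zpowers t)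
  have zR : c ^ 2 ^ n ∈ zpowers c ⊔ zpowers t := mem_sup_left hz
  have RN : zpowers c ⊔ zpowers t ≤ Nx ρ :=
    sup_le (zpowers_le.2 (Or.inr cρ)) (zpowers_le.2 (Or.inl (mem_C1_iff_conj.1 tρ)))
  have memR : ∀ y ∈ zpowers c ⊔ zpowers t, y ∈ C{ρ} →
      y ∈ zpowers c ∨ ∃ a ∈ zpowers c, y = a * t * a⁻¹ := by
    intro y hy yρ
    obtain ⟨a, ha, b, hb, rfl⟩ := (mem_sup_of_norm tN).1 hy
    rcases (H2.SZ.mem_zp_inv tt).1 hb with rfl | rfl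
    · exact Or.inl (by rwa [mul_one])
    obtain ⟨k, rfl⟩ := mem_powers_iff_mem_zpowers.2 ha
    simp only at yρ ⊢
    obtain ⟨j, rfl | rfl⟩ := Nat.even_or_odd' k
    · refine Or.inr ⟨c ^ j, pow_mem (mem_zpowers c) _, ?_⟩
      have := t_inv tc' (inv_mem (pow_mem (mem_zpowers c) j))
      calc c ^ (2 * j) * b = c ^ j * (c ^ j)⁻¹⁻¹ * b := by group
        _ = _ := by rw [← this]; group
    · exfalso
      have h1 : c ∈ C{ρ} := by
        have := mul_mem (inv_mem (pow_mem cc j)) (mul_mem yρ (inv_mem tρ))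
        rwa [← pow_mul, mul_inv_cancel_right, pow_succ, inv_mul_cancel_left] at this
      exact ρn ((mem_C1_iff_conj.1 h1).symm.trans cρ)
  have cenQ : ∀ Q : Subgroup G, IsPi {2} Q → Q ≤ Nx ρ → zpowers c ⊔ zpowers t ≤ Q → ∀ x ∈ Q,
      x * t = t * x → x ∈ zpowers c ⊔ zpowers t := by
    intro Q hQ QN RQ x hx xt
    obtain ⟨g, -, hg⟩ := h.toLb.toT (DD.refl t) (hQ.inf_left C{t}) inf_le_right
    have el : El (Q ⊓ C{t}) := fun a ha => by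
      have := h.toSt2.el_E X _ (h.toLc.T8 h8 ▸ hg a ha)
      calc a * a = g * (g⁻¹ * a * g * (g⁻¹ * a * g)) * g⁻¹ := by group
        _ = _ := by rw [this]; group
    have xm : x ∈ Q ⊓ C{t} := ⟨hx, mem_C1.2 xt⟩
    have xL : x ∈ N[L] := h.Ct x xt
    have xρ : x ∈ C{ρ} := by
      rcases QN hx with e | e
      · exact mem_C1_iff_conj.2 e
      · exfalso
        have h1 := X.φ_conj xL ρL
        rw [e, X.φ_inv ρL] at h1
        have h3 := aut_eight h8 (X.φ ρ)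
        rw [pow_succ, sq] at h3
        nth_rewrite 1 [← h1] at h3
        exact ρφ (by rwa [inv_mul_cancel, one_mul] at h3)
    have xz : x * c ^ 2 ^ n = c ^ 2 ^ n * x := el.abl.comm xm
      ⟨RQ zR, mem_C1.2 (by rw [hb0]; exact h.toSt2.tz X b0)⟩
    have xV : x ∈ N[X.V] := X.TI xL b1 (by rw [← hb0, xz, mul_inv_cancel_right, hb0]; exact X.z_V _)
    obtain ⟨b, hb⟩ := (h.toSt2.mem_E X).1 (h.toSt2.inv_E X xt xV (el x xm) (φ_two X h8 xL (el x xm)))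
    have key : X.z b ∈ C{ρ} → X.z b ∈ zpowers c ⊔ zpowers t := fun h1 => by
      by_cases e : X.z b = 1
      · rw [e]; exact one_mem _
      · rw [X.fix3 h8 ρL ρV ρφ (X.z_V b) ⟨b0, hb0⟩ e zn1 (mem_C1.1 h1) (mem_C1.1 zρ)]; exact zR
    rcases hb with rfl | rfl
    · exact key xρ
    · exact mul_mem tR (key (by simpa using mul_mem (inv_mem tρ) xρ))
  have syl : Syl 2 (Nx ρ) (zpowers c ⊔ zpowers t) := by
    by_contra hn
    obtain ⟨Q, hQ, lt, QN, QR⟩ := exists_lt_norm_of_not_syl Nat.prime_two pR RN hn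
    obtain ⟨s, hs, sR⟩ := SetLike.exists_of_lt lt
    rcases memR _ (H24.conj_mem (QR hs) tR) (H24.conj_mem (Nx_le ρ (QN hs)) tρ) with e | ⟨a, ha, e⟩
    · refine nz ⟨s, (iz e ?_ fun e1 => h.t1 (conj_eq_one_iff.1 e1)).symm⟩
      calc s * t * s⁻¹ * (s * t * s⁻¹) = s * (t * t) * s⁻¹ := by group
        _ = 1 := by rw [tt]; group
    · have aR : a ∈ zpowers c ⊔ zpowers t := mem_sup_left ha
      have := cenQ Q hQ QN lt.le (a⁻¹ * s) (mul_mem (inv_mem (lt.le aR)) hs) (by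
        calc a⁻¹ * s * t = a⁻¹ * (s * t * s⁻¹) * s := by group
          _ = _ := by rw [e]; group)
      exact sR (by simpa using mul_mem aR this)
  have invR : ∀ m ∈ Nx ρ, m * c ^ 2 ^ n * m⁻¹ ∈ zpowers c ⊔ zpowers t →
      m * c ^ 2 ^ n * m⁻¹ = c ^ 2 ^ n := by
    intro m hm h1
    rcases memR _ h1 (H24.conj_mem (Nx_le ρ hm) zρ) with e | ⟨a, -, e⟩
    · refine iz e ?_ fun e1 => zn1 (conj_eq_one_iff.1 e1)
      calc m * c ^ 2 ^ n * m⁻¹ * (m * c ^ 2 ^ n * m⁻¹) = m * (c ^ 2 ^ n * c ^ 2 ^ n) * m⁻¹ := by group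
        _ = 1 := by rw [z2]; group
    · exact absurd (DD.of_conj ⟨a, e⟩) nz
  have CN : C{ρ} ≤ Nx ρ := fun g hg => Or.inl (mem_C1_iff_conj.1 hg)
  have zs := H26.Gold.zstar_sub' (H := C{ρ}) zρ zn1 z2 fun g hg e => by
    have p1 := H2.SZ.piElt_of_sq z2
    obtain ⟨m, hm, hle⟩ := Sylow_Jsub Nat.prime_two syl
      (p1.isPi.sup (p1.conj g).isPi (norm_zpowers_of_cent (zpowers_le.2 (mem_C1.2 e.symm))))
      (sup_le (zpowers_le.2 (CN zρ)) (zpowers_le.2 (CN (mul_mem (mul_mem hg zρ) (inv_mem hg)))))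
    have a1 := invR m hm (hle (conj_mem_cj m (mem_sup_left (mem_zpowers _))))
    have a2 := invR (m * g) (mul_mem hm (CN hg)) (by
      have := hle (conj_mem_cj m (mem_sup_right (mem_zpowers (g * c ^ 2 ^ n * g⁻¹))))
      convert this using 1; group)
    calc g * c ^ 2 ^ n * g⁻¹ = m⁻¹ * (m * g * c ^ 2 ^ n * (m * g)⁻¹) * m := by group
      _ = m⁻¹ * (m * c ^ 2 ^ n * m⁻¹) * m := by rw [a1, a2]
      _ = _ := by group
  obtain ⟨cnt, ex⟩ := X.cnt h8 ρL ρV ρ3 ρφ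
  obtain ⟨g, gL, gρ, gz⟩ := ex _ ⟨b0, hb0⟩ zn1 (mem_C1.1 zρ)
  have zL : c ^ 2 ^ n ∈ L := hb0 ▸ X.z_mem b0
  have tL : ∀ l ∈ L, l * t = t * l := fun l hl => mem_C.1 h.tC l hl
  have zi : (c ^ 2 ^ n)⁻¹ = c ^ 2 ^ n := inv_eq_of_mul_eq_one_right z2
  have hO : IsPi {2}ᶜ O[{2}ᶜ, C{ρ}] := pcore_pi _ _
  refine pure hO (N_le_N_pcore _ _ (norm_self _ tρ)) (N_le_N_pcore _ _ (Nx_le ρ (Or.inr cρ))) tt tc' h2
    oc ?_ (y := ⁅c ^ 2 ^ n, g⁆) (zs (commutator_mem_commutator (mem_zpowers _) (mem_C1.2 gρ)))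
    (fun e => gz (commutatorElement_eq_one_iff_mul_comm.1 e).symm) ?_ ?_
  · refine le_trans (Set.ncard_le_ncard_of_injOn (t := {y | y ∈ L ∧ y * y = 1 ∧ y ≠ 1 ∧ y * ρ = ρ * y})
      (fun x => x * c ^ 2 ^ n) ?_ (fun a _ b _ e => mul_right_cancel e)) ?_
    · rintro x ⟨hx, xt, xz⟩
      have yy : x * c ^ 2 ^ n * (x * c ^ 2 ^ n) = 1 := by
        calc x * c ^ 2 ^ n * (x * c ^ 2 ^ n) = x * (c ^ 2 ^ n * x * (c ^ 2 ^ n)⁻¹) := by rw [zi]; group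
          _ = 1 := by rw [xz, mul_inv_cancel]
      have yt : x * c ^ 2 ^ n ∈ C{t} :=
        mul_mem (mem_C1.2 (mul_inv_eq_iff_eq_mul.1 xt).symm) (mem_C1.2 (tL _ zL))
      have yL := h.Ct _ (mem_C1.1 yt)
      have od : ∀ l ∈ L, ∀ k ∈ C[L], x = l * k → k * k = 1 → k = 1 := by
        intro l hl k hk e kk
        obtain ⟨j, hj⟩ := H26.Gold.oddG_iff.1 hO
        have o1 : x ^ Nat.card O[{2}ᶜ, C{ρ}] = 1 :=
          orderOf_dvd_iff_pow_eq_one.1 (orderOf_dvd_card' hx)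
        have cm : Commute l k := mem_C.1 hk l hl
        rw [hj, e, cm.mul_pow, pow_succ k, pow_mul k, sq, kk, one_pow, one_mul] at o1
        have : k ∈ L ⊓ C[L] := ⟨by rw [eq_inv_of_mul_eq_one_right o1]; exact L.inv_mem (L.pow_mem hl _), hk⟩
        rwa [X.CL, mem_bot] at this
      refine ⟨?_, yy, fun e => zn1 ?_, mem_C1.1 (mul_mem (pcore_le _ _ hx) zρ)⟩
      · obtain ⟨l, hl, k, hk, e⟩ := (X.φ_ker _ yL).1 (φ_two X h8 yL yy)
        have cm : l * k = k * l := mem_C.1 hk l hl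
        have kk : k * k = 1 := by
          have e1 : l * l * (k * k) = 1 := by
            rw [← yy, e]
            calc l * l * (k * k) = l * (l * k) * k := by group
              _ = l * (k * l) * k := by rw [cm]
              _ = _ := by group
          have : k * k ∈ L ⊓ C[L] :=
            ⟨by rw [eq_inv_of_mul_eq_one_right e1]; exact L.inv_mem (L.mul_mem hl hl), mul_mem hk hk⟩
          rwa [X.CL, mem_bot] at this
        have := od (l * c ^ 2 ^ n) (mul_mem hl zL) k hk (by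
          calc x = x * c ^ 2 ^ n * c ^ 2 ^ n := by rw [mul_assoc, z2, mul_one]
            _ = l * (k * c ^ 2 ^ n) := by rw [e, mul_assoc]
            _ = _ := by rw [← mem_C.1 hk _ zL, mul_assoc]) kk
        show x * c ^ 2 ^ n ∈ L
        rw [e, this, mul_one]; exact hl
      · have e1 : x = c ^ 2 ^ n := by rw [eq_inv_of_mul_eq_one_left e, zi]
        exact eq_one hO (e1 ▸ hx) zi.symm
    · rw [← Nat.card_coe_set_eq]; exact cnt
  · have : ⁅c ^ 2 ^ n, g⁆ ∈ L := mul_mem (mul_mem (mul_mem zL gL) (inv_mem zL)) (inv_mem gL)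
    rw [← tL _ this, mul_inv_cancel_right]
  · rw [commutatorElement_def]
    calc c ^ 2 ^ n * (c ^ 2 ^ n * g * (c ^ 2 ^ n)⁻¹ * g⁻¹) * (c ^ 2 ^ n)⁻¹
        = (c ^ 2 ^ n * c ^ 2 ^ n) * g * (c ^ 2 ^ n)⁻¹ * g⁻¹ * (c ^ 2 ^ n)⁻¹ := by group
      _ = g * c ^ 2 ^ n * g⁻¹ * (c ^ 2 ^ n)⁻¹ := by rw [z2, zi, one_mul]
      _ = _ := by group

end H23.L2
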