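import Mathlib
import Cfsg.Agent.H23.LDefs
import Cfsg.Agent.H23.XA0
import Cfsg.Agent.H23.XA2

set_option autoImplicit false
set_option linter.unusedVariables false
set_option linter.unusedSectionVars false

namespace H23.L2

open Cfsg H24 Subgroup
open H2.SZ (St DD Goal)
open scoped MatrixGroups commutatorElement

universe u

variable {G : Type u} [Group G] [Finite G] {F : Type*} [Field F] [Fintype F]
  {L G0 D T B R Q S S1 A P N M H : Subgroup G} {t f g i j ρ z u : G} {X : LD F L} {n : ℕ}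
  {π s : G → F}

namespace XA1x

theorem φ_of_two (X : LD F L) (h8 : Fintype.card F = 8) (hg : g ∈ N[L]) (h2 : PiElt {2} g) :
    X.φ g = 1 := by
  obtain ⟨k, hk⟩ := h2.exists_pow Nat.prime_two
  have h1 : X.φ g ^ 2 ^ k = 1 := by rw [← X.φ_pow hg, ← hk, pow_orderOf_eq_one, X.φ_one]
  exact (pow_eq_one_iff_of_coprime (Nat.Coprime.pow_left k (by decide : Nat.Coprime 2 3))).1
    ⟨h1, aut_eight h8 _⟩

theorem φ_ne (X : LD F L) (h8 : Fintype.card F = 8) (ρL : ρ ∈ N[L]) (ρV : ρ ∈ N[X.V])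
    (ρ3 : PiElt {3} ρ) (ρC : ρ ∉ C[X.V]) : X.φ ρ ≠ 1 := by
  intro e
  obtain ⟨c, c0, hc⟩ := X.actV ρL ρV
  rw [e] at hc
  have hp : ∀ k : ℕ, ∀ b, ρ ^ k * X.z b * (ρ ^ k)⁻¹ = X.z (c ^ k * b) := by
    intro k
    induction k with
    | zero => simp
    | succ k ih =>
      intro b
      calc ρ ^ (k + 1) * X.z b * (ρ ^ (k + 1))⁻¹ = ρ * (ρ ^ k * X.z b * (ρ ^ k)⁻¹) * ρ⁻¹ := by group
        _ = _ := by rw [ih, hc, pow_succ', mul_assoc]; rfl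
  obtain ⟨k, hk⟩ := ρ3.exists_pow Nat.prime_three
  have h1 := hp (3 ^ k) 1
  rw [← hk, pow_orderOf_eq_one, one_mul, inv_one, mul_one, mul_one, hk] at h1
  have h7 := FiniteField.pow_card_sub_one_eq_one c c0
  rw [h8] at h7
  have c1 : c = 1 := (pow_eq_one_iff_of_coprime
    (Nat.Coprime.pow_left k (by decide : Nat.Coprime 3 (8 - 1)))).1 ⟨(X.z_inj h1).symm, h7⟩
  refine ρC (mem_C'.2 ?_)
  rintro _ ⟨b, rfl⟩
  rw [← mul_inv_eq_iff_eq_mul, hc, c1, one_mul]; rfl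

theorem step (h : Ex X G0 t D T B n π) (h2 : 2 ≤ n) (hu : u ∈ Mx B t) (uu : u * u = 1)
    (uC : u ∉ C[X.V]) (ρV : ρ ∈ N[X.V]) (ρt : ρ * t = t * ρ) (ρ3 : PiElt {3} ρ) (ρC : ρ ∉ C[X.V])
    (uρ : u * ρ * u⁻¹ = ρ⁻¹) : False := by
  have tt : t * t = 1 := h.tt
  have ti : t⁻¹ = t := inv_eq_of_mul_eq_one_right tt
  have ui : u⁻¹ = u := inv_eq_of_mul_eq_one_right uu
  obtain ⟨b, hb, e⟩ := h.toTw.Mx_t hu
  have cc : t * u * (t * u) = b := by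
    calc t * u * (t * u) = t * (u * t * u⁻¹) := by rw [ui]; group
      _ = b := by rw [e, ← mul_assoc, tt, one_mul]
  have πb : π b ≠ 0 := fun h0 => by
    obtain ⟨a, ha, ea⟩ := (h.toTh.cls hb).1 h0
    have xt : a⁻¹ * u * t = t * (a⁻¹ * u) := by
      calc a⁻¹ * u * t = a⁻¹ * (u * t * u⁻¹) * u := by group
        _ = _ := by rw [e, ea]; group
    have x2 : PiElt {2} (a⁻¹ * u) :=
      (h.pi.sup (H2.SZ.piElt_of_sq uu).isPi (zpowers_le.2 hu.1)).piElt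
        (mul_mem (mem_sup_left (inv_mem ha)) (mem_sup_right (mem_zpowers u)))
    have xE := h.toLc.two_φ (h.toTw.NV (mul_mem (inv_mem (norm_self B ha)) hu.1)) xt x2
      (φ_of_two X h.q8 (h.Ct _ xt) x2)
    have xC : a⁻¹ * u ∈ C[X.V] := C_anti (X.V_E t) ((h.toSt2.el_E X).abl.le_C xE)
    exact uC (by simpa using mul_mem (h.toTw.BV ha) xC)
  obtain ⟨m, rfl⟩ : ∃ m, n = m + 1 := ⟨n - 1, by omega⟩
  have e1 : (t * u) ^ 2 ^ (m + 1) = X.z (π b) := by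
    rw [pow_succ', pow_mul, sq, cc]; exact h.pw b hb
  have := Fact.mk Nat.prime_two
  refine h.toLz.xd h.q8 ρt ρV ρ3 (φ_ne X h.q8 (h.Ct _ ρt) ρV ρ3 ρC) (c := t * u) ?_ h2
    (orderOf_eq_prime_pow ?_ ?_) (e1 ▸ X.z_V _) ?_
  · rw [mul_inv_rev, ui, ti, ← mul_assoc, tt, one_mul]
  · rw [e1]; exact fun e => πb (X.z_eq_one.1 e)
  · rw [pow_succ, pow_mul, e1, sq, X.z_sq]
  · calc t * u * ρ * (t * u)⁻¹ = t * (u * ρ * u⁻¹) * t⁻¹ := by group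
      _ = (t * ρ * t⁻¹)⁻¹ := by rw [uρ]; group
      _ = _ := by rw [← ρt, mul_inv_cancel_right]

end XA1x

/-! ### XA1 -/
theorem Ex.xa (h : Ex X G0 t D T B n π) (h2 : 2 ≤ n) : IsLieTypeChar 2 G0 := by
  refine h.noinv fun u hu uu => by_contra fun uC => ?_
  have ui : u⁻¹ = u := inv_eq_of_mul_eq_one_right uu
  have MV : Mx B t ≤ N[X.V] := inf_le_left.trans h.toTw.NV
  obtain ⟨l, l1, lm, lk⟩ := X.exists_lam
  let lh : Mx B t →* Equiv.Perm F := MonoidHom.mk' (fun g => l g) fun a b => lm _ (MV a.2) _ (MV b.2)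
  have a2 : l u * l u = 1 := by rw [← lm _ (MV hu) _ (MV hu), uu]; exact (lk 1 (one_mem _)).2 (one_mem _)
  obtain ⟨γ, hγ, o3⟩ := Ad_inv3 h.q8 (l1 u (MV hu)).1 a2 fun e => uC ((lk u (MV hu)).1 e)
  obtain ⟨e, he⟩ := Ad_equiv hγ
  obtain ⟨m, hm, em⟩ := h.sur e
  have lγ : lh ⟨m, hm⟩ = γ := Equiv.ext fun c =>
    X.z_inj (((l1 m (MV hm)).2 c).symm.trans ((em c).trans (congrArg X.z (he c))))
  let r : Mx B t := ⟨u, hu⟩ * (⟨m, hm⟩ * ⟨u, hu⟩ * ⟨m, hm⟩⁻¹)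
  have lr : orderOf (lh r) = 3 := by
    rw [← o3, ← lγ]; simp only [r, map_mul, map_inv]; rfl
  obtain ⟨y, w, y3, w3, yr, -, e1⟩ := exists_piElt_decomp {3} r
  have yC : (y : G) ∉ C[X.V] := fun hy => by
    have h1 : lh y = 1 := (lk _ (MV y.2)).2 hy
    rw [e1, map_mul, h1, one_mul] at lr
    exact (w3.map lh) 3 Nat.prime_three (by rw [lr]) rfl
  have ur : u * (r : G) * u⁻¹ = (r : G)⁻¹ := by
    show u * (u * (m * u * m⁻¹)) * u⁻¹ = (u * (m * u * m⁻¹))⁻¹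
    calc u * (u * (m * u * m⁻¹)) * u⁻¹ = (u * u) * (m * u * m⁻¹) * u⁻¹ := by group
      _ = m * u⁻¹ * m⁻¹ * u⁻¹ := by rw [uu, one_mul, ui]
      _ = _ := by group
  have uy : u * (y : G) * u⁻¹ = (y : G)⁻¹ := XA2x.t_inv ur (by
    obtain ⟨k, rfl⟩ := yr
    exact ⟨k, rfl⟩)
  have y3' : PiElt {3} (y : G) := y3.map (Mx B t).subtype
  have tB : t ∈ N[B] := h.TB h.toLb.t_T
  obtain ⟨v, hv, vt⟩ := H26.coprime_lift_cent (A := zpowers (y : G)) (V := B) (g := t)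
    (zpowers_le.2 y.2.1) (h.pi.coprime_of_ne y3'.isPi (by decide)) (Or.inl (h.pi.sol Nat.prime_two))
    fun a ha => by
      obtain ⟨b, hb, eb⟩ := h.toTw.Mx_t (zpowers_le.2 y.2 ha)
      rw [eb]; exact H24.conj_mem tB hb
  obtain ⟨S1, hS⟩ := Sylow_exists Nat.prime_two (Mx B t)
  obtain ⟨g, hg, eg⟩ := (h.card_syl hS).2.2 _ (H24.conj_mem' tB hv)
  have gM := hS.le hg
  have yt : (y : G) * (g * t * g⁻¹) = g * t * g⁻¹ * y := by
    rw [← eg, show t * (t⁻¹ * v * t) = v * t by group]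
    exact mem_C.1 vt _ (mem_zpowers _)
  have gC : g ∈ N[C[X.V]] := N_le_NC _ (MV gM)
  refine XA1x.step h h2 (u := g⁻¹ * u * g) (ρ := g⁻¹ * y * g)
    (mul_mem (mul_mem (inv_mem gM) hu) gM) ?_ (fun e => uC ((conj_mem_iff' gC).1 e))
    (MV (mul_mem (mul_mem (inv_mem gM) y.2) gM)) ?_ (by simpa using y3'.conj g⁻¹)
    (fun e => yC ((conj_mem_iff' gC).1 e)) ?_
  · calc g⁻¹ * u * g * (g⁻¹ * u * g) = g⁻¹ * (u * u) * g := by group
      _ = 1 := by rw [uu]; group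
  · calc g⁻¹ * y * g * t = g⁻¹ * (y * (g * t * g⁻¹)) * g := by group
      _ = _ := by rw [yt]; group
  · calc g⁻¹ * u * g * (g⁻¹ * y * g) * (g⁻¹ * u * g)⁻¹ = g⁻¹ * (u * y * u⁻¹) * g := by group
      _ = _ := by rw [uy]; group

end H23.L2
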