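import Mathlib
import Cfsg.Agent.H23.LDefs
import Cfsg.Agent.H23.LM
import Cfsg.Agent.H23.LB
import Cfsg.Agent.S0102
import Cfsg.Agent.S0892
import Cfsg.Agent.S0262
import Cfsg.Agent.S0252

set_option autoImplicit false
set_option linter.unusedVariables false
set_option linter.unusedSectionVars false

namespace H23.L2

open Cfsg H24 Subgroup
open H2.SZ (St DD Goal)
open scoped MatrixGroups commutatorElement

universe u

variable {G : Type u} [Group G] [Finite G] {F : Type*} [Field F] [Fintype F]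
  {L G0 D T B R Q S S1 A P N M H : Subgroup G} {t f g i j ρ z u : G} {X : LD F L} {n : ℕ}
  {π s : G → F}

namespace ZCx

variable {Γ : Type*} [Group Γ] [Finite Γ]

/-- the squares of the lifts of the involutions of `V` in a perfect central extension -/
theorem core (σ : Γ →* G) (X : LD F σ.range) (hz : σ.ker ≤ center Γ) (h2 : ∀ z ∈ σ.ker, z * z = 1)
    (pf : Group.IsPerfect Γ) (hne : σ.ker ≠ ⊥) :
    ∃ c ∈ σ.ker, c ≠ 1 ∧ ∀ x b, b ≠ 0 → σ x = X.z b → x * x = c := by
  by_cases all : ∀ x b, σ x = X.z b → x * x = 1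
  · have hE : El (X.V.comap σ) := fun x ⟨b, hb⟩ => all x b hb
    have hi : Odd (X.V.comap σ).index := by
      have h1 := (X.V.subgroupOf σ.range).card_mul_index
      rw [Nat.card_congr (subgroupOfEquivOfLe X.V_le).toEquiv, X.card_V, X.card] at h1
      rw [index_comap, relIndex, Nat.eq_of_mul_eq_mul_left Fintype.card_pos h1]
      have := X.charP
      exact Nat.Even.sub_odd (Nat.one_le_pow _ _ Fintype.card_pos)
        ((Nat.even_iff.2 (FiniteField.even_card_of_char_two (ringChar.eq F 2))).pow_of_ne_zero two_ne_zero) odd_one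
    obtain ⟨k, hk⟩ := IsPGroup.iff_card.1 (show IsPGroup 2 (X.V.comap σ) from fun x =>
      ⟨1, Subtype.ext (by simpa [sq] using hE x x.2)⟩)
    have := H3.abelian_hall_inf_commutator_inf_center (H := X.V.comap σ)
      ⟨⟨fun a b => Subtype.ext (by
        have i : ∀ z ∈ X.V.comap σ, z⁻¹ = z := fun z hz => inv_eq_of_mul_eq_one_right (hE z hz)
        change a.1 * b.1 = b.1 * a.1
        rw [← i _ (mul_mem a.2 b.2), mul_inv_rev, i _ a.2, i _ b.2])⟩⟩
      (by rw [hk]; exact Nat.Coprime.pow_left _ (Nat.coprime_two_left.2 hi))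
    refine absurd (eq_bot_iff.2 fun x hx => this ▸ ⟨⟨?_, Group.IsPerfect.mem_commutator⟩, hz hx⟩) hne
    exact ⟨0, by rw [X.z_zero]; exact hx⟩
  push Not at all
  obtain ⟨x0, b0, e0, n0⟩ := all
  have c0 : x0 * x0 ∈ σ.ker := by rw [MonoidHom.mem_ker, map_mul, e0, X.z_sq]
  refine ⟨_, c0, n0, fun x b hb e => ?_⟩
  obtain ⟨k, hk⟩ := X.exists_h (a := b0) (fun e => n0 (h2 _ (by rw [MonoidHom.mem_ker, e0, e, X.z_zero]))) hb
  obtain ⟨y, hy⟩ := X.h_mem k
  have hw : (y * x0 * y⁻¹)⁻¹ * x ∈ σ.ker := by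
    rw [MonoidHom.mem_ker, map_mul, map_inv, map_mul, map_mul, map_inv, hy, e0, hk, e, inv_mul_cancel]
  set w := (y * x0 * y⁻¹)⁻¹ * x with hw'
  calc x * x = y * x0 * y⁻¹ * w * (y * x0 * y⁻¹ * w) := by rw [hw', mul_inv_cancel_left]
    _ = y * (x0 * x0) * y⁻¹ * (w * w) := by
      rw [mul_assoc, ← mul_assoc w, ← mem_center_iff.1 (hz hw)]; group
    _ = _ := by rw [h2 w hw, mul_one, mem_center_iff.1 (hz c0), mul_inv_cancel_right]

theorem anti {c x y : Γ} (hc : c ∈ center Γ) (c2 : c * c = 1) (hx : x * x = c) (hy : y * y = c)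
    (h : x * y * (x * y) = c) : x * y = c * (y * x) := by
  have e := mem_center_iff.1 hc
  calc x * y = c * (c * x * y) := by rw [← mul_assoc, ← mul_assoc, c2, one_mul]
    _ = c * (x * (x * y * (x * y)) * y) := by rw [h, e x]
    _ = c * (x * x * (y * x) * (y * y)) := by simp only [mul_assoc]
    _ = _ := by rw [hx, hy, e, ← mul_assoc c c, c2, one_mul]

theorem big (σ : Γ →* G) (X : LD F σ.range) (hz : σ.ker ≤ center Γ) (h2 : ∀ z ∈ σ.ker, z * z = 1)
    (pf : Group.IsPerfect Γ) (h4 : Fintype.card F ≠ 4) : σ.ker = ⊥ := by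
  classical
  by_contra hne
  obtain ⟨c, hc, c1, hs⟩ := core σ X hz h2 pf hne
  obtain ⟨b, b0, b1, -⟩ := X.exists_ne 0 1 1
  obtain ⟨d, -, hd⟩ : ∃ d ∈ (Finset.univ : Finset F), d ∉ ({0, 1, b, b + 1} : Finset F) :=
    Finset.exists_mem_notMem_of_card_lt_card (by
      have := X.four
      have := Finset.card_le_four (a := (0 : F)) (b := 1) (c := b) (d := b + 1)
      rw [Finset.card_univ]; omega)
  simp only [Finset.mem_insert, Finset.mem_singleton, not_or] at hd
  obtain ⟨x, hx⟩ := X.z_mem 1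
  obtain ⟨y, hy⟩ := X.z_mem b
  obtain ⟨w, hw⟩ := X.z_mem d
  have an : ∀ y b, b ≠ 0 → b ≠ 1 → σ y = X.z b → x * y = c * (y * x) := fun y b b0 b1 hy =>
    anti (hz hc) (h2 c hc) (hs x 1 one_ne_zero hx) (hs y b b0 hy)
      (hs _ (1 + b) (fun e => b1 (X.eq_of_add e).symm) (by rw [map_mul, hx, hy, X.z_mul]))
  have e1 := an (y * w) (b + d) (fun e => hd.2.2.1 (X.eq_of_add e).symm)
    (fun e => hd.2.2.2 (by linear_combination e - b * X.two + X.two - X.two)) (by rw [map_mul, hy, hw, X.z_mul])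
  rw [← mul_assoc, an y b b0 b1 hy, mul_assoc, mul_assoc, an w d hd.1 hd.2.1 hw, mul_right_inj,
    ← mul_assoc y, mem_center_iff.1 (hz hc) y, mul_assoc, mul_assoc] at e1
  exact c1 (mul_eq_right.1 e1)

theorem cL (c : L) : c ∈ center L ↔ (c : G) ∈ C[L] := by
  rw [mem_center_iff, mem_C]
  exact ⟨fun h x hx => congrArg Subtype.val (h ⟨x, hx⟩), fun h x => Subtype.ext (h x x.2)⟩

end ZCx

open ZCx

/-! ### ZC -/
theorem St2.zc (h : St2 L G0 t) (hq : IsQuasisimple L) {a : ℕ} (ha : 2 ≤ a)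
    (hF : Fintype.card F = 2 ^ a) (e : Nonempty (↥L ⧸ center ↥L ≃* PSL(2, F))) :
    center ↥L = ⊥ ∨ (Fintype.card F = 4 ∧ t ∈ L ∧ ♯L = 120) := by
  refine or_iff_not_imp_left.2 fun hne => ?_
  obtain ⟨e⟩ := e
  have pf := hq.1
  obtain ⟨X⟩ := exists_ld (L := (⊤ : Subgroup (L ⧸ center L))) ha hF ⟨topEquiv.trans e⟩
  obtain ⟨s, hs, s1, s2⟩ : ∃ s ∈ center L, s ≠ 1 ∧ s * s = 1 := by
    obtain ⟨p, hp, hd⟩ := Nat.exists_prime_and_dvd (card_eq_one.not.2 hne)
    obtain rfl : p = 2 := by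
      by_contra p2
      have := Fact.mk hp
      have := X.charP
      have sj : Function.Surjective (e.toMonoidHom.comp (QuotientGroup.mk' _)) :=
        e.surjective.comp (QuotientGroup.mk'_surjective _)
      have kr : (e.toMonoidHom.comp (QuotientGroup.mk' (center L))).ker = center L := by
        rw [← MonoidHom.comap_ker, (MonoidHom.ker_eq_bot_iff _).2 e.injective, MonoidHom.comap_bot,
          QuotientGroup.ker_mk']
      refine Cfsg.Agent.S0102.result (p := p) (Group.IsPerfect.ofSurjective sj).commutator_eq_top (fun P => ?_) _ sj kr.le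
        pf.commutator_eq_top (by rwa [kr])
      obtain ⟨R, rfl⟩ := Sylow.mapSurjective_surjective (QuotientGroup.mk'_surjective (center SL(2, F))) p P
      have := Cfsg.Agent.S0262.result 2 p p2 p2 R
      exact isCyclic_of_surjective _ (MonoidHom.subgroupMap_surjective _ _)
    obtain ⟨s, hs, ho⟩ := exists_orderOf_eq hp hd
    exact ⟨s, hs, fun e => by simp [e] at ho, by rw [← sq, ← ho, pow_orderOf_eq_one]⟩
  have tL : t ∈ L := (h.inv_C ((cL s).1 hs) (mem_C.1 h.tC _ s.2) (congrArg Subtype.val s2)).resolve_left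
    (fun e => s1 (Subtype.ext e)) ▸ s.2
  by_cases h4 : Fintype.card F = 4
  · refine ⟨h4, tL, ?_⟩
    have h1 := Cfsg.Agent.S0892.result 5 (by norm_num) (by norm_num) (by norm_num) (center L) le_rfl
      (pf.commutator_eq_top ▸ le_top) (e.trans (Cfsg.Agent.S0252.result h4).some)
    have h2 := X.card
    have h3 := card_eq_one.not.2 hne
    have h5 : 0 < Nat.card (center L) := Nat.card_pos
    rw [card_top, h4] at h2
    rw [card_eq_card_quotient_mul_card_subgroup (center L), h2, show Nat.card (center L) = 2 by omega]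
    rfl
  exfalso
  let K : Subgroup L :=
    { carrier := {x | ∃ z ∈ center L, x = z * z}
      mul_mem' := by
        rintro _ _ ⟨a, ha, rfl⟩ ⟨b, hb, rfl⟩
        exact ⟨a * b, mul_mem ha hb, by rw [mul_assoc, mul_assoc, ← mul_assoc b a, mem_center_iff.1 ha b, mul_assoc]⟩
      one_mem' := ⟨1, one_mem _, (mul_one 1).symm⟩
      inv_mem' := by rintro _ ⟨a, ha, rfl⟩; exact ⟨a⁻¹, inv_mem ha, mul_inv_rev _ _⟩ }
  have KZ : K ≤ center L := by rintro _ ⟨a, ha, rfl⟩; exact mul_mem ha ha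
  have : K.Normal := ⟨fun x hx g => by rwa [mem_center_iff.1 (KZ hx) g, mul_inv_cancel_right]⟩
  let σ : L ⧸ K →* L ⧸ center L := QuotientGroup.lift K (QuotientGroup.mk' _) (by rwa [QuotientGroup.ker_mk'])
  have mk : ∀ x : L, (x : L ⧸ K) ∈ σ.ker ↔ x ∈ center L := fun x => QuotientGroup.eq_one_iff x
  have sj : σ.range = ⊤ := MonoidHom.range_eq_top.2 fun x => by
    obtain ⟨x, rfl⟩ := QuotientGroup.mk_surjective x
    exact ⟨x, rfl⟩
  have := big σ (sj ▸ X) (fun x hx => by
      obtain ⟨x, rfl⟩ := QuotientGroup.mk_surjective x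
      refine mem_center_iff.2 fun g => ?_
      obtain ⟨g, rfl⟩ := QuotientGroup.mk_surjective g
      rw [← QuotientGroup.mk_mul, mem_center_iff.1 ((mk x).1 hx), QuotientGroup.mk_mul])
    (fun x hx => by
      obtain ⟨x, rfl⟩ := QuotientGroup.mk_surjective x
      exact (QuotientGroup.eq_one_iff (x * x)).2 ⟨x, (mk x).1 hx, rfl⟩)
    (Group.IsPerfect.ofSurjective (QuotientGroup.mk'_surjective K)) h4
  have sq : Function.Surjective fun z : center L => z * z := fun z => by
    obtain ⟨y, hy, e⟩ := (QuotientGroup.eq_one_iff z.1).1 (mem_bot.1 (this ▸ (mk z).2 z.2))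
    exact ⟨⟨y, hy⟩, Subtype.ext e.symm⟩
  exact s1 (congrArg Subtype.val (Finite.injective_iff_surjective.2 sq
    (a₁ := ⟨s, hs⟩) (a₂ := 1) (Subtype.ext (s2.trans (mul_one 1).symm))))

end H23.L2
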