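import Mathlib
import Cfsg.Agent.H23.LDefs
import Cfsg.Agent.H23.LM
import Cfsg.Agent.H23.LB
import Cfsg.Agent.H23.ZC

set_option autoImplicit false
set_option linter.unusedVariables false
set_option linter.unusedSectionVars false

namespace H23.L2

open Cfsg H24 Subgroup
open H2.SZ (St DD Goal)
open scoped MatrixGroups commutatorElement

universe u

variable {G : Type u} [Group G] [Finite G] {F : Type*} [Field F] [Fintype F]
  {L G0 D T B R Q S S1 A P N M H : Subgroup G} {t f g i j ρ z u : G} {X : LD F L} {n : ℕ}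
  {π s : G → F}

open ZCx

/-! ### ZD -/
theorem St2.exists_sd (h : St2 L G0 t) (hq : IsQuasisimple L) (h4 : Fintype.card F = 4)
    (e : Nonempty (↥L ⧸ center ↥L ≃* PSL(2, F))) (tL : t ∈ L) (hc : ♯L = 120) :
    ∃ i j ρ, SD L G0 t i j ρ := by
  classical
  obtain ⟨e⟩ := e
  let Zc : Subgroup N[L] := (L ⊓ C[L]).subgroupOf N[L]
  have : Zc.Normal := Nml.normal ⟨inf_le_left.trans (norm_self L), norm_inf le_rfl (N_le_NC L)⟩
  let π := QuotientGroup.mk' Zc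
  let φ : L →* N[L] ⧸ Zc := π.comp (inclusion (norm_self L))
  have hk : φ.ker = center L := Subgroup.ext fun c => by
    rw [cL, MonoidHom.mem_ker]
    exact (QuotientGroup.eq_one_iff _).trans ⟨fun h => h.2, fun h => ⟨c.2, h⟩⟩
  obtain ⟨X⟩ := exists_ld (L := φ.range) (a := 2) le_rfl h4 ⟨((QuotientGroup.quotientKerEquivRange φ).symm.trans
    (QuotientGroup.quotientMulEquivOfEq hk)).trans e⟩
  have tZ : (⟨t, tL⟩ : L) ∈ φ.ker := hk ▸ (cL _).2 h.tC
  have t1 : (⟨t, tL⟩ : L) ≠ 1 := fun e => h.t1 (congrArg Subtype.val e)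
  have zl : ∀ c ∈ φ.ker, c = 1 ∨ c = ⟨t, tL⟩ := fun c hc' => by
    have h1 := card_eq_card_quotient_mul_card_subgroup φ.ker
    rw [Nat.card_congr (QuotientGroup.quotientKerEquivRange φ).toEquiv, X.card, h4, hc] at h1
    obtain ⟨u, -, hu⟩ := (Nat.card_eq_two_iff' (1 : φ.ker)).1 (by omega)
    refine or_iff_not_imp_left.2 fun c1 => congrArg Subtype.val
      ((hu ⟨c, hc'⟩ fun e => c1 (congrArg Subtype.val e)).trans (hu ⟨_, tZ⟩ fun e => t1 (congrArg Subtype.val e)).symm)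
  have t2 : (⟨t, tL⟩ : L) * ⟨t, tL⟩ = 1 := Subtype.ext h.tt
  obtain ⟨c, hc', c1, hs⟩ := core φ X hk.le (fun z hz => by rcases zl z hz with rfl | rfl <;> simp [t2]) hq.1
    (fun e => t1 (mem_bot.1 (e ▸ tZ)))
  obtain rfl := (zl c hc').resolve_left c1
  have tc := mem_center_iff.1 (hk.le tZ)
  obtain ⟨ω, ω0, ω1, -⟩ := X.exists_ne 0 1 1
  have ω2 : ω * ω = 1 + ω := by
    have := FiniteField.pow_card_sub_one_eq_one ω ω0
    rw [h4] at this
    refine mul_left_cancel₀ (sub_ne_zero.2 ω1) ?_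
    linear_combination this - (ω ^ 2 - 1) * X.two
  have all : ∀ b : F, b = 0 ∨ b = 1 ∨ b = ω ∨ b = 1 + ω := fun b => by
    by_contra hb
    simp only [not_or] at hb
    have h1 : b * (b - 1) * (b - ω) * (b - (1 + ω)) = 0 := by
      have := FiniteField.pow_card b
      rw [h4] at this
      linear_combination this + b * (b - 1) * ω2 + (b - b ^ 3 * (1 + ω) + b ^ 2 * (1 + 2 * ω) - b * (1 + ω)) * X.two
    simp [sub_eq_zero, hb] at h1
  obtain ⟨r, hr⟩ := X.h_mem (Units.mk0 ω ω0)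
  have hρ : ∀ x b, φ x = X.z b → φ (r * x * r⁻¹) = X.z (ω * b) := fun x b e => by
    rw [map_mul, map_mul, map_inv, hr, e, X.h_z, Units.val_mk0]
  obtain ⟨i, hi, ρj⟩ : ∃ i, φ i = X.z 1 ∧ r * (r * i * r⁻¹) * r⁻¹ = i * (r * i * r⁻¹) := by
    obtain ⟨i, hi⟩ := X.z_mem 1
    rcases zl ((i * (r * i * r⁻¹))⁻¹ * (r * (r * i * r⁻¹) * r⁻¹)) (by
      rw [MonoidHom.mem_ker, map_mul, map_inv, map_mul, hρ _ _ (hρ _ _ hi), hρ _ _ hi, hi, X.z_mul, mul_one, ω2,
        inv_mul_cancel]) with e | e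
    · exact ⟨i, hi, (inv_mul_eq_one.1 e).symm⟩
    · refine ⟨i * ⟨t, tL⟩, by rw [map_mul, hi, tZ, mul_one], ?_⟩
      have e1 : ∀ x, r * (x * ⟨t, tL⟩) * r⁻¹ = r * x * r⁻¹ * ⟨t, tL⟩ := fun x => by
        rw [mul_assoc _ r⁻¹, tc r⁻¹]; simp only [mul_assoc]
      rw [e1, e1, inv_mul_eq_iff_eq_mul.1 e, mul_assoc _ _ (⟨t, tL⟩ : L), t2, mul_one, tc (r * i * r⁻¹), mul_assoc i,
        ← mul_assoc _ _ (r * i * r⁻¹), t2, one_mul]
  have hj := hρ _ _ hi
  rw [mul_one] at hj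
  have ii := hs _ _ one_ne_zero hi
  have jj := hs _ _ ω0 hj
  have LL : ⁅L, L⁆ = L := isPerfect_iff.1 hq.1
  have nπ : ∀ g : N[L], π g ∈ N[φ.range] := fun g => mem_N_of_finite (by
    rintro _ ⟨x, rfl⟩
    exact ⟨⟨_, H24.conj_mem g.2 x.2⟩, rfl⟩)
  have aut : ∀ g : N[L], X.φ (π g) = 1 → (g : G) ∈ L ⊔ C[L] := fun g hg => by
    obtain ⟨_, ⟨l, rfl⟩, k, hk, e⟩ := (X.φ_ker _ (nπ g)).1 hg
    let B := (C[φ.range].comap π).map N[L].subtype
    have hB : ⁅L, B⁆ ≤ C[L] := commutator_le.2 (by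
      rintro x hx _ ⟨y, hy, rfl⟩
      have : π ⁅(⟨x, norm_self L hx⟩ : N[L]), y⁆ = 1 := by
        rw [map_commutatorElement, commutatorElement_eq_one_iff_mul_comm]
        exact mem_C.1 hy _ ⟨⟨x, hx⟩, rfl⟩
      exact ((QuotientGroup.eq_one_iff _).1 this).2)
    have := three_subgroup (commutator_eq_bot_iff_le_centralizer.2 hB)
      (commutator_eq_bot_iff_le_centralizer.2 (commutator_comm L B ▸ hB))
    rw [LL, commutator_comm, commutator_eq_bot_iff_le_centralizer] at this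
    rw [← mul_inv_cancel_left (l : G) g]
    refine mul_mem (mem_sup_left l.2) (mem_sup_right (this ⟨(inclusion (norm_self L) l)⁻¹ * g, ?_, rfl⟩))
    change π _ ∈ C[φ.range]
    rw [map_mul, map_inv, e]
    exact (inv_mul_cancel_left (φ l) k).symm ▸ hk
  refine ⟨i, (r * i * r⁻¹ : L), r, h, i.2, Subtype.property _, r.2, congrArg Subtype.val ii, congrArg Subtype.val jj,
    congrArg Subtype.val (anti (hk.le tZ) t2 ii jj (hs _ (1 + ω) (fun e => ω1 (X.eq_of_add e).symm)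
      (by rw [map_mul, hi, hj, X.z_mul]))), rfl, congrArg Subtype.val ρj, hc, LL, fun g hg hC => ?_,
    fun K KL LK => ?_, fun g hg g' hg' => ?_, fun g hg _ e1 e2 => aut ⟨g, hg⟩ (X.φ_CV (nπ _) ?_)⟩
  · exact (zl ⟨g, hg⟩ (hk ▸ (cL _).2 hC)).imp (congrArg Subtype.val) (congrArg Subtype.val)
  · have := hq.2
    have hn : (K.subgroupOf L).Normal := Nml.normal ⟨KL, LK⟩
    refine ((hn.map (QuotientGroup.mk' (center L)) (QuotientGroup.mk'_surjective _)).eq_bot_or_eq_top).imp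
      (fun e x hx => (cL ⟨x, KL hx⟩).1 ((QuotientGroup.eq_one_iff _).1 (mem_bot.1 (e ▸ ⟨⟨x, KL hx⟩, hx, rfl⟩))))
      fun e => le_antisymm KL ?_
    have d : ∀ x ∈ L, ∃ k ∈ K, ∃ c ∈ C[L], x = k * c := fun x hx => by
      obtain ⟨k, hk, e⟩ := e.ge (mem_top (QuotientGroup.mk' (center L) ⟨x, hx⟩))
      exact ⟨k, hk, _, (cL _).1 (QuotientGroup.eq.1 e), by simp⟩
    rw [← LL]
    refine commutator_le.2 fun x hx y hy => ?_
    obtain ⟨k, hk, c, hc, rfl⟩ := d x hx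
    rw [commutatorElement_def, mul_inv_rev, mul_assoc k c y, ← mem_C.1 hc y hy,
      show k * (y * c) * (c⁻¹ * k⁻¹) * y⁻¹ = k * (y * k⁻¹ * y⁻¹) by group]
    exact mul_mem hk (H24.conj_mem (LK hy) (inv_mem hk))
  · by_cases e1 : X.φ (π ⟨g, hg⟩) = 1
    · exact .inl (aut _ e1)
    by_cases e2 : X.φ (π ⟨g', hg'⟩) = 1
    · exact .inr (.inl (aut _ e2))
    exact .inr (.inr (aut (⟨g, hg⟩ * ⟨g', hg'⟩) (by rw [map_mul, X.φ_mul _ (nπ _) _ (nπ _), aut_four h4 e1 e2])))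
  · have k : ∀ x : L, (g * x * g⁻¹ = x ∨ g * x * g⁻¹ = t * x) → φ x ∈ C{π ⟨g, hg⟩} := fun x e => by
      rw [mem_C1_comm, mem_C1_iff_conj]
      change φ ⟨_, H24.conj_mem hg x.2⟩ = φ x
      rcases e with e | e
      · exact congrArg φ (Subtype.ext e)
      · rw [show (⟨_, H24.conj_mem hg x.2⟩ : L) = ⟨t, tL⟩ * x from Subtype.ext e, map_mul, tZ, one_mul]
    refine mem_C_iff_le_C1.2 ?_
    rintro _ ⟨b, rfl⟩
    rcases all b with rfl | rfl | rfl | rfl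
    · rw [X.z_zero]; exact one_mem _
    · exact hi ▸ k i e1
    · exact hj ▸ k _ e2
    · rw [← X.z_mul]; exact mul_mem (hi ▸ k i e1) (hj ▸ k _ e2)

end H23.L2
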