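import Mathlib
import Cfsg.Agent.S1347
import Cfsg.Agent.H2.ZL
import Cfsg.Agent.H23.LM
import Cfsg.Agent.H23.LR
import Cfsg.Agent.H23.L1
import Cfsg.Agent.H23.L2b
import Cfsg.Agent.H23.TD
import Cfsg.Agent.H23.TE
import Cfsg.Agent.H23.TR
import Cfsg.Agent.H23.TX
import Cfsg.Agent.H23.FZb
import Cfsg.Agent.H23.ABa
import Cfsg.Agent.H23.ABb
import Cfsg.Agent.H23.CB
import Cfsg.Agent.H23.CC
import Cfsg.Agent.H23.XA1
import Cfsg.Agent.H23.GA2
import Cfsg.Agent.H23.GC
import Cfsg.Agent.H23.ZC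
import Cfsg.Agent.H23.ZD
import Cfsg.Agent.H23.SC5

/-! # Standard subgroup `L₂(2^a)` with cyclic Sylow `2`-subgroups in its centraliser -/

set_option autoImplicit false
set_option linter.unusedVariables false
set_option linter.unusedSectionVars false

namespace H23.L2

open Cfsg H24 Subgroup
open H2.SZ (St DD Goal)
open scoped MatrixGroups commutatorElement

universe u

variable {G : Type u} [Group G] [Finite G] {F : Type*} [Field F] [Fintype F]
  {L G0 D T B R Q : Subgroup G} {t : G} {X : LD F L} {s : G → F}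

theorem C0.goal (h : C0 X G0 t D T Q s) : IsLieTypeChar 2 G0 := by
  obtain ⟨e, ρ, r, hs⟩ := h.exists_rho
  obtain ⟨S1, hS, le⟩ := Sylow_superset Nat.prime_two (h.el.pi.sup h.syl.pi h.TQ)
    (sup_le (norm_self Q) h.TQ)
  have QS : Q ≤ S1 := le_sup_left.trans le
  have TS : T ≤ S1 := le_sup_right.trans le
  rcases (h.yd r hs hS.pi hS.le (TS h.toLb.t_T)).cases with h1 | ⟨α, y⟩
  · exact h.cb1 r hs hS QS TS h1
  by_cases h4 : Fintype.card F = 4
  exacts [h.cc r hs hS QS TS y h4, h.cb2 r hs hS QS TS y h4]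

theorem Lz.goal (h : Lz X G0 t D T) : Gl (Fintype.card F) G0 := by
  obtain ⟨B, hB, mx⟩ := h.exists_tw
  obtain ⟨n, π, h1⟩ := hB.exists_th
  rcases h1.drive with ⟨h2, hS⟩ | mv
  · exact (h1.ab_t h2 hS).elim id (h1.ab h2 hS)
  have hn : n = 1 ∨ 2 ≤ n := by have := h1.pos; omega
  rcases h1.cases mv with ex | tr
  · rcases hn with rfl | h2
    · rcases ex.ga with l | ⟨S, Q, ρ, z, gd⟩
      exacts [.inl l, gd.goal]
    · exact .inl (ex.xa h2)
  obtain ⟨R, s, h3⟩ := h1.exists_rz tr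
  rcases hn with rfl | h2
  exacts [.inl (h3.one mx).goal, .inl (h3.two h2 mx).goal]

theorem St2.goal (h : St2 L G0 t) (hq : IsQuasisimple L) {a : ℕ} (ha : 2 ≤ a)
    (hF : Fintype.card F = 2 ^ a) (e : Nonempty (↥L ⧸ center ↥L ≃* PSL(2, F))) :
    Gl (Fintype.card F) G0 ∧ (Fintype.card F = 8 → center ↥L = ⊥) := by
  rcases h.zc hq ha hF e with hz | ⟨h4, tL, hc⟩
  swap
  · obtain ⟨i, j, ρ, sd⟩ := h.exists_sd hq h4 e tL hc
    exact ⟨h4 ▸ sd.goal, fun h8 => by omega⟩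
  refine ⟨?_, fun _ => hz⟩
  obtain ⟨X⟩ := exists_ld (L := L) ha hF (e.map fun e => (QuotientGroup.quotientBot.symm.trans
    (QuotientGroup.quotientMulEquivOfEq hz.symm)).trans e)
  obtain ⟨T, hT, VT⟩ := Sylow_superset Nat.prime_two X.el_V.pi
    (X.V_le.trans (mem_C_iff_le_C1.1 h.tC))
  obtain ⟨D, h1⟩ := (Lb.mk h hT VT : Lb X G0 t T).exists_lc
  rcases h1.zn with g | zn
  · exact g
  exact (h1.lz zn).elim id Lz.goal

theorem gl_congr {H H' : Type*} [Group H] [Group H'] (e : H ≃* H') (q : ℕ) :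
    (IsLieTypeChar 2 H → IsLieTypeChar 2 H') ∧ (Exc q H → Exc q H') := by
  have key : ∀ (Y : Type) [Group Y], Nonempty (H ≃* Y) = Nonempty (H' ≃* Y) := fun Y _ =>
    propext ⟨fun ⟨f⟩ => ⟨e.symm.trans f⟩, fun ⟨f⟩ => ⟨e.trans f⟩⟩
  constructor
  · simp only [IsLieTypeChar, IsPSLChar, IsPSpChar, IsPSUChar, IsPOmegaOddChar, IsPOmegaPlusChar,
      IsPOmegaMinusChar, IsExceptionalChevChar, IsTwistedE6D4Char, Lie.IsoSuzuki, Lie.Iso2F4,
      Lie.IsoRee, key, imp_self]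
  · simp only [Exc, Spor.IsoM12, Spor.IsoJ1, key, imp_self]

theorem st_goal (h : St L G0 t) (cyc : ∀ R ≤ C[L], IsPi {2} R → IsCyclic R)
    (hq : IsQuasisimple L) {a : ℕ} (ha : 2 ≤ a) (hF : Fintype.card F = 2 ^ a)
    (e : Nonempty (↥L ⧸ center ↥L ≃* PSL(2, F))) :
    Gl (Fintype.card F) G0 ∧ (Fintype.card F = 8 → center ↥L = ⊥) := by
  have := h.nrm
  have := h.simple
  let G1 : Subgroup G := G0 ⊔ zpowers t
  have h0 : G0 ≤ G1 := le_sup_left
  have hL : L ≤ G1 := h.le.trans h0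
  have ht : t ∈ G1 := mem_sup_right (mem_zpowers t)
  let eL : L.subgroupOf G1 ≃* L := subgroupOfEquivOfLe hL
  let e0 : G0.subgroupOf G1 ≃* G0 := subgroupOfEquivOfLe h0
  have cC : ∀ {A : Subgroup G}, A ≤ G1 → ∀ g : G1, g ∈ C[A.subgroupOf G1] → (g : G) ∈ C[A] :=
    fun hA g hg => mem_C.2 fun x hx => congrArg Subtype.val (mem_C.1 hg ⟨x, hA hx⟩ hx)
  have s2 : St2 (L.subgroupOf G1) (G0.subgroupOf G1) ⟨t, ht⟩ :=
    { nrm := inferInstance
      simple := e0.isSimpleGroup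
      le := fun x hx => h.le hx
      cent := eq_bot_iff.2 fun g hg => by
        have := cC h0 g hg
        rw [h.cent, mem_bot] at this
        exact mem_bot.2 (Subtype.ext this)
      t1 := fun e => h.t1 (congrArg Subtype.val e)
      tt := Subtype.ext h.tt
      tC := mem_C.2 fun x hx => Subtype.ext (mem_C.1 h.tC x hx)
      Ct := fun g hg => mem_N_of_finite fun x hx =>
        show ((g * x * g⁻¹ : G1) : G) ∈ L from H24.conj_mem (h.Ct g (congrArg Subtype.val hg)) hx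
      gen := fun g => by
        obtain ⟨x, hx, y, hy, e⟩ := (mem_sup_of_norm (norm_of_normal _ _)).1 g.2
        rcases (H2.SZ.mem_zp_inv h.tt).1 hy with rfl | rfl
        · exact .inl (show (g : G) ∈ G0 by rw [e, mul_one]; exact hx)
        · exact .inr (show (g : G) * y ∈ G0 by rw [e, mul_assoc, h.tt, mul_one]; exact hx)
      cyc := fun R h1 h2 => by
        have := cyc (R.map G1.subtype) (by rintro _ ⟨x, hx, rfl⟩; exact cC hL x (h1 hx)) (h2.map _)
        exact isCyclic_of_surjective _ (R.equivMapOfInjective _ G1.subtype_injective).symm.surjective }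
  have ec : (center ↥(L.subgroupOf G1)).map (eL : _ →* _) = center ↥L := by
    ext x
    refine ⟨?_, fun hx => ⟨eL.symm x, mem_center_iff.2 fun y => eL.injective ?_, by simp⟩⟩
    · rintro ⟨y, hy, rfl⟩
      refine mem_center_iff.2 fun w => ?_
      obtain ⟨w, rfl⟩ := eL.surjective w
      simpa using congrArg eL (mem_center_iff.1 hy w)
    · simpa using mem_center_iff.1 hx (eL y)
  let eq := QuotientGroup.congr _ _ eL ec
  have pf := hq.1
  have sm := hq.2
  obtain ⟨g1, g2⟩ := s2.goal ⟨Group.IsPerfect.ofSurjective (f := eL.symm.toMonoidHom) eL.symm.surjective,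
    eq.isSimpleGroup⟩ ha hF (e.map eq.trans)
  refine ⟨g1.imp (gl_congr e0 0).1 (gl_congr e0 _).2, fun h8 => ?_⟩
  rw [← ec, g2 h8, Subgroup.map_bot]

theorem prod_of_comm {X Y : Subgroup G} (h1 : ∀ a ∈ X, ∀ b ∈ Y, a * b = b * a) (h2 : X ⊓ Y = ⊥) :
    Nonempty (↥(X ⊔ Y) ≃* X × Y) := by
  let f := X.subtype.noncommCoprod Y.subtype fun a b => h1 a a.2 b b.2
  have fi : Function.Injective f := (injective_iff_map_eq_one f).2 fun ⟨a, b⟩ e => by
    replace e : (a : G) * b = 1 := e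
    have : (a : G) ∈ X ⊓ Y := mem_inf.2 ⟨a.2, eq_inv_of_mul_eq_one_left e ▸ inv_mem b.2⟩
    rw [h2, mem_bot] at this
    rw [this, one_mul] at e
    exact Prod.ext (Subtype.ext this) (Subtype.ext e)
  have r : X ⊔ Y = f.range := by
    rw [show f.range = _ from MonoidHom.noncommCoprod_range .., range_subtype, range_subtype]
  exact ⟨(MulEquiv.subgroupCongr r).trans (MonoidHom.ofInjective fi).symm⟩

theorem main73 (hO : Cfsg.oddCore G = ⊥) (hL : IsStandardSubgroup L) (hn : ¬ L.Normal)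
    (hR : ∀ R : Sylow 2 ↥C[L], IsCyclic ↥(R : Subgroup ↥C[L])) (ht : orderOf t = 2) (tC : t ∈ C[L])
    {a : ℕ} (ha : 2 ≤ a) (hF : Fintype.card F = 2 ^ a)
    (e : Nonempty (↥L ⧸ center ↥L ≃* PSL(2, F))) :
    Nonempty (↥(layer G) ≃* ↥L × ↥L) ∨ (IsLieTypeChar 2 ↥(layer G) ∧
      ¬ ∃ e ∈ layer G, ∀ x ∈ layer G, t * x * t⁻¹ = e * x * e⁻¹) ∨
      (Exc (Fintype.card F) ↥(layer G) ∧ (Fintype.card F = 8 → Nonempty (L ≃* PSL(2, F)))) := by
  rcases Cfsg.Agent.S1347.result L hL hO t ht tC with h | ⟨X, -, -, ⟨i⟩, h1, h2, h3, -⟩ | ⟨h1, h2, -⟩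
  · exact absurd h hn
  · obtain ⟨j⟩ := prod_of_comm h1 h2
    exact .inl ⟨((MulEquiv.subgroupCongr h3.symm).trans j).trans
      (i.prodCongr (((MulAut.conj t).subgroupMap X).symm.trans i))⟩
  have nC : C[layer G].Normal := inferInstance
  have ct : C[layer G] = ⊥ := by
    rcases Nat.even_or_odd ♯C[layer G] with e | e
    · refine absurd (normalizer_eq_top_iff.1 (eq_top_iff.2 fun g _ => ?_)) hn
      rw [hL.2.2.2]
      by_contra hg
      exact Nat.not_even_iff_odd.2 (odd_of_le (hL.2.1.2 g hg) (le_inf (C_anti h1)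
        ((cj_of_mem_N (norm_of_normal ⊤ _ (mem_top g))).ge.trans (cj_mono g (C_anti h1))))) e
    · exact eq_bot_of_le hO (le_sSup ⟨nC, e.coprime_two_right⟩)
  have h : St L (layer G) t := ⟨inferInstance, h2, h1, ct, fun e => by simp [e] at ht,
    by rw [← sq, ← ht, pow_orderOf_eq_one], tC, fun g hg => by
      by_contra hn
      rw [hL.2.2.2] at hn
      have hm : t ∈ C[L] ⊓ cj g C[L] :=
        mem_inf.2 ⟨tC, by simpa only [hg, mul_inv_cancel_right] using conj_mem_cj g tC⟩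
      exact Nat.not_even_iff_odd.2 (hL.2.1.2 g hn) (even_iff_two_dvd.2 (ht ▸ orderOf_dvd_card' hm))⟩
  obtain ⟨g1, g2⟩ := st_goal h (fun R h1 h2 => by
    obtain ⟨S, hS⟩ := ((h2.isPGroup Nat.prime_two).comap_subtype (K := C[L])).exists_le_sylow
    have := hR S
    have : IsCyclic (R.subgroupOf C[L]) := isCyclic_of_injective _ (inclusion_injective hS)
    exact isCyclic_of_surjective _ (subgroupOfEquivOfLe h1).surjective) hL.1 ha hF e
  refine .inr (g1.imp (fun g1 => ⟨g1, fun ⟨e, he, h3⟩ => lie_not_mem h hL.1 g1 ?_⟩) fun g1 =>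
    ⟨g1, fun h8 => e.map fun e => (QuotientGroup.quotientBot.symm.trans
      (QuotientGroup.quotientMulEquivOfEq (g2 h8).symm)).trans e⟩)
  have : e⁻¹ * t ∈ C[layer G] := mem_C.2 fun x hx => by
    rw [mul_assoc, eq_mul_of_mul_inv_eq (h3 x hx)]; group
  rw [ct, mem_bot, inv_mul_eq_one] at this
  exact this ▸ he

end H23.L2
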