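import Mathlib
import Cfsg.Agent.H6.ZMain
import Cfsg.Prelude.Def_Spor_J1
import Cfsg.Prelude.Def_CaseTheorems

/-!
Groups in which every four-subgroup fixes exactly one point (proper 2-generated core):
definitions.
-/

set_option autoImplicit false
set_option linter.unusedSectionVars false

namespace H23
namespace TU

open H24 H3.B71 H6.ZD Subgroup MulAction
open scoped Pointwise

universe u

variable {G : Type u} [Group G] {Ω : Type u} [MulAction G Ω]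

/-- the fixed points of `g` -/
abbrev Fx (Ω : Type u) [MulAction G Ω] (g : G) : Set Ω := fixedBy Ω g

/-- a transitive action in which every `2`-subgroup fixes a point and a four-group fixes only one
point -/
structure TF (G Ω : Type u) [Group G] [MulAction G Ω] : Prop where
  trans : ∀ a b : Ω, ∃ g : G, g • a = b
  two : ∀ P : Subgroup G, IsPi {2} P → ∃ a : Ω, ∀ x ∈ P, x • a = a
  four : ∀ u v : G, Inv u → Inv v → u ≠ v → u * v = v * u →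
    ∀ a b : Ω, u • a = a → v • a = a → u • b = b → v • b = b → a = b

/-- `⟨t, u, v⟩` is elementary abelian of order `8` -/
structure E8 (t u v : G) : Prop where
  it : Inv t
  iu : Inv u
  iv : Inv v
  ut : u * t = t * u
  vt : v * t = t * v
  uv : u * v = v * u
  ne1 : u ≠ t
  ne2 : v ≠ t
  ne3 : u ≠ v
  ne4 : u * v ≠ t

/-- a wide involution which lies in an `E8` and is not isolated -/
structure TW (Ω : Type u) [MulAction G Ω] (t : G) : Prop extends TF G Ω where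
  wide : Wide Ω t
  e8 : ∃ u v, E8 t u v
  niso : ∃ g : G, g * t * g⁻¹ ≠ t ∧ g * t * g⁻¹ ∈ C{t}

/-- a simple group of `2`-rank at least three with a proper 2-generated core -/
structure TG (G Ω : Type u) [Group G] [MulAction G Ω] : Prop extends TF G Ω where
  simple : IsSimpleGroup G
  nontriv : Nontrivial Ω
  rank : ¬ Cfsg.PRankLE 2 2 G

/-- the elements centralising or inverting `x` -/
def EC (x : G) : Subgroup G where
  carrier := {g | g * x * g⁻¹ = x ∨ g * x * g⁻¹ = x⁻¹}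
  one_mem' := Or.inl (by simp)
  mul_mem' := fun {g h} hg hh => by
    have e : g * h * x * (g * h)⁻¹ = g * (h * x * h⁻¹) * g⁻¹ := by group
    have e' : g * x⁻¹ * g⁻¹ = (g * x * g⁻¹)⁻¹ := by group
    simp only [Set.mem_ofPred_eq] at hg hh ⊢
    rw [e]
    rcases hh with h1 | h1 <;> rw [h1]
    · exact hg
    · rw [e']
      rcases hg with h2 | h2 <;> rw [h2]
      · exact Or.inr rfl
      · exact Or.inl (inv_inv x)
  inv_mem' := fun {g} hg => by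
    simp only [Set.mem_ofPred_eq] at hg ⊢
    rcases hg with h | h
    · left
      conv_lhs => rw [← h]
      group
    · right
      have : x = g * x⁻¹ * g⁻¹ := by
        rw [show g * x⁻¹ * g⁻¹ = (g * x * g⁻¹)⁻¹ by group, h, inv_inv]
      conv_lhs => rw [this]
      group

/-- the pointwise stabiliser of `Fx x` in `C(t)` -/
def Kp (Ω : Type u) [MulAction G Ω] (t x : G) : Subgroup G := C{t} ⊓ fixingSubgroup G (Fx Ω x)

/-- the setwise stabiliser of `Fx x` in `C(t)` -/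
def Ns (Ω : Type u) [MulAction G Ω] (t x : G) : Subgroup G := C{t} ⊓ stabilizer G (Fx Ω x)

/-- the elements of `A` normalising `B` and centralising `K` modulo `B` -/
def Cm (A K B : Subgroup G) : Subgroup G where
  carrier := {g | g ∈ A ∧ g ∈ N[B] ∧ ∀ k ∈ K, g * k * g⁻¹ * k⁻¹ ∈ B}
  one_mem' := ⟨A.one_mem, one_mem _, fun k _ => by simp⟩
  mul_mem' := fun {g h} hg hh => ⟨A.mul_mem hg.1 hh.1, mul_mem hg.2.1 hh.2.1, fun k hk => by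
    rw [show g * h * k * (g * h)⁻¹ * k⁻¹ =
      g * (h * k * h⁻¹ * k⁻¹) * g⁻¹ * (g * k * g⁻¹ * k⁻¹) by group]
    exact B.mul_mem (H24.conj_mem hg.2.1 (hh.2.2 k hk)) (hg.2.2 k hk)⟩
  inv_mem' := fun {g} hg => ⟨A.inv_mem hg.1, inv_mem hg.2.1, fun k hk => by
    rw [show g⁻¹ * k * g⁻¹⁻¹ * k⁻¹ = g⁻¹ * (g * k * g⁻¹ * k⁻¹)⁻¹ * g by group]
    exact H24.conj_mem' hg.2.1 (B.inv_mem (hg.2.2 k hk))⟩

/-- `J = C_N(K / B)` -/
abbrev Jm (Ω : Type u) [MulAction G Ω] (t x p : G) : Subgroup G :=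
  Cm (Ns Ω t x) (Kp Ω t x) (Kp Ω t x ⊓ Kp Ω t p)

/-- wide square roots of `t` which are inverted by an involution -/
def P4 (Ω : Type u) [MulAction G Ω] (t x : G) : Prop :=
  x * x = t ∧ ¬ Nar Ω x ∧ ∃ u, Inv u ∧ u * x * u⁻¹ = x⁻¹

/-- the involutions other than `t` centralising `x` -/
def Zx (t x : G) : Set G := {d | Inv d ∧ d ≠ t ∧ d * x = x * d}

/-- there is a pair for `N(⟨x⟩)` acting on `Fx x` -/
def Pr (Ω : Type u) [MulAction G Ω] (t x : G) : Prop :=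
  ∃ a ∈ Fx Ω x, ∃ d ∈ Zx t x, ∃ e ∈ Zx t x, d • a = a ∧ e • a = a ∧ d * e ∉ Kp Ω t x ∧
    d * e * d⁻¹ * e⁻¹ ∈ Kp Ω t x

/-- `|N(⟨x⟩)|₂` is maximal -/
def Mx4 (Ω : Type u) [MulAction G Ω] (t x : G) : Prop :=
  ∀ y P P', P4 Ω t y → IsPi {2} P' → P' ≤ EC y → Syl 2 (EC x) P → ♯P' ≤ ♯P

/-- involutions of `C(t)` other than `t` are conjugate in `C(t)` modulo `t` -/
def Fuse (t : G) : Prop :=
  ∀ d ∈ C{t}, ∀ e ∈ C{t}, Inv d → Inv e → d ≠ t → e ≠ t →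
    ∃ h ∈ C{t}, h * d * h⁻¹ = e ∨ h * d * h⁻¹ = e * t

/-- hypotheses of the plane lemma: the image of `Z` is a `Z`-structure on the orbit of `a` -/
structure PLH (Z : Set G) (Y : Subgroup G) (a : Ω) : Prop where
  mem : ∀ z ∈ Z, z ∈ Y
  conj : ∀ z ∈ Z, ∀ y ∈ Y, y * z * y⁻¹ ∈ Z
  sq : ∀ z ∈ Z, z * z ∈ Ker Y a
  ex : ∀ z ∈ Z, ∃ c ∈ Orb Y a, z • c = c
  nar : ∀ z ∈ Z, ∀ b ∈ Orb Y a, ∀ c ∈ Orb Y a, z • b = b → z • c = c → b = c
  pt : ∃ z ∈ Z, z • a = a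
  mv : ∃ y ∈ Y, y • a ≠ a
  pd : ∀ u ∈ Z, ∀ v ∈ Z, u * v ∉ Ker Y a → u * v * u⁻¹ * v⁻¹ ∈ Ker Y a →
    ∀ b ∈ Orb Y a, ∀ c ∈ Orb Y a, (u * v) • b = b → (u * v) • c = c → b = c

/-- the structure of a Sylow 2-subgroup `P` of `N(⟨x⟩)` when there is a pair -/
structure Cfg (t x : G) (P : Subgroup G) (α : Ω) (r p q : G) : Prop where
  tw : TW Ω t
  xx : x * x = t
  syl : Syl 2 (EC x) P
  fix : ∀ g ∈ P, g • α = α
  rP : r ∈ P
  rK : r ∈ Kp Ω t x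
  rr : r * r = t
  rx : r * x * r⁻¹ = x⁻¹
  pP : p ∈ P
  qP : q ∈ P
  pp : p * p = t
  qq : q * q = t
  pq : p * q * p⁻¹ = q⁻¹
  cent : ∀ ρ ∈ P, ρ ∈ Kp Ω t x → ρ * p = p * ρ ∧ ρ * q = q * ρ
  five : (Fx Ω x).ncard = 5
  invs : ∀ v ∈ P, Inv v → v = t ∨ ∃ ρ ∈ P, ρ ∈ Kp Ω t x ∧ (v = ρ * p ∨ v = ρ * q ∨ v = ρ * (p * q))
  three : ∃ n ∈ EC x, n • α = α ∧ (n * p * n⁻¹ = q ∨ n * p * n⁻¹ = q⁻¹) ∧
    (n * q * n⁻¹ = p * q ∨ n * q * n⁻¹ = (p * q)⁻¹)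

/-- two commuting wide quaternion groups `R = ⟨x, r⟩`, `R' = ⟨p, q⟩` -/
structure C2 (t : G) (α : Ω) (x r p q : G) : Prop where
  tw : TW Ω t
  xx : x * x = t
  rr : r * r = t
  pp : p * p = t
  qq : q * q = t
  xr : x * r * x⁻¹ = r⁻¹
  pq : p * q * p⁻¹ = q⁻¹
  xp : x * p = p * x
  xq : x * q = q * x
  rp : r * p = p * r
  rq : r * q = q * r
  fr : Fx Ω r = Fx Ω x
  fxr : Fx Ω (x * r) = Fx Ω x
  fq : Fx Ω q = Fx Ω p
  fpq : Fx Ω (p * q) = Fx Ω p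
  five : (Fx Ω x).ncard = 5
  five' : (Fx Ω p).ncard = 5
  xa : x • α = α
  pa : p • α = α
  syl : Syl 2 (Kp Ω t x) (closure {x, r})
  syl' : Syl 2 (Kp Ω t p) (closure {p, q})
  three : ∃ n ∈ Kp Ω t x, (n * x * n⁻¹ = r ∨ n * x * n⁻¹ = r⁻¹) ∧
    (n * r * n⁻¹ = x * r ∨ n * r * n⁻¹ = (x * r)⁻¹)
  three' : ∃ n ∈ Kp Ω t p, (n * p * n⁻¹ = q ∨ n * p * n⁻¹ = q⁻¹) ∧
    (n * q * n⁻¹ = p * q ∨ n * q * n⁻¹ = (p * q)⁻¹)

/-- `g` centralises `t` and interchanges `Fx x` and `Fx p` -/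
def Sw (Ω : Type u) [MulAction G Ω] (t x p g : G) : Prop :=
  g ∈ C{t} ∧ g • Fx Ω x = Fx Ω p ∧ g • Fx Ω p = Fx Ω x

/-- a Sylow 2-subgroup `T` of `G` adapted to `C2`, with an involution `s` interchanging the two
fixed point sets -/
structure TS (Ω : Type u) [MulAction G Ω] (t x r p q : G) (T : Subgroup G) (s : G) : Prop where
  syl : Syl 2 ⊤ T
  le : T ≤ C{t}
  xT : x ∈ T
  rT : r ∈ T
  pT : p ∈ T
  qT : q ∈ T
  pres : ∀ g ∈ T, (g ∈ Ns Ω t x ∧ g ∈ Ns Ω t p) ∨ Sw Ω t x p g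
  sT : s ∈ T
  inv : Inv s
  sw : Sw Ω t x p s

/-- `g` acts on the nine points `e i` as `σ` -/
def Act (e : Fin 9 → Ω) (g : G) (σ : Equiv.Perm (Fin 9)) : Prop := ∀ i, g • e i = e (σ i)

/-- `(01)(23)` -/
def s22 : Equiv.Perm (Fin 9) := Equiv.swap 0 1 * Equiv.swap 2 3

/-- `(01)(23)(45)(67)` -/
def s2222 : Equiv.Perm (Fin 9) := Equiv.swap 0 1 * Equiv.swap 2 3 * (Equiv.swap 4 5 * Equiv.swap 6 7)

/-- the stabiliser of the nine points in `C(t)` -/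
def Y9 (t : G) (e : Fin 9 → Ω) : Subgroup G where
  carrier := {g | g ∈ C{t} ∧ ∃ σ, Act e g σ}
  one_mem' := ⟨one_mem _, 1, fun i => by simp⟩
  mul_mem' := fun {g h} ⟨hg, σ, h1⟩ ⟨hh, τ, h2⟩ => ⟨mul_mem hg hh, σ * τ, fun i => by
    rw [mul_smul, h2, h1, Equiv.Perm.mul_apply]⟩
  inv_mem' := fun {g} ⟨hg, σ, h1⟩ => ⟨inv_mem hg, σ⁻¹, fun i => by
    rw [inv_smul_eq_iff, h1]; simp⟩

/-- `C(t)` has a subgroup acting on nine points as `A₉` -/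
structure A9 (t : G) (e : Fin 9 → Ω) : Prop where
  tw : TW Ω t
  inj : Function.Injective e
  fixt : ∀ i, t • e i = e i
  all : ∀ σ : Equiv.Perm (Fin 9), Equiv.Perm.sign σ = 1 → ∃ g ∈ C{t}, Act e g σ
  even : ∀ g ∈ C{t}, ∀ σ, Act e g σ → Equiv.Perm.sign σ = 1
  ker : ∀ g ∈ C{t}, Act e g 1 → PiElt {2} g → g = 1 ∨ g = t
  exd : ∃ d ∈ C{t}, Inv d ∧ Act e d s2222
  exp : ∃ p : G, p * p = t ∧ Act e p s22 ∧ ∀ c : Ω, p • c = c → c ∈ Set.range e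
  stab : ∀ h ∈ C{t}, (∀ i : Fin 9, 4 ≤ i → ∃ j : Fin 9, 4 ≤ j ∧ h • e i = e j) → h ∈ Y9 t e
  syl : ∃ T, Syl 2 ⊤ T ∧ T ≤ Y9 t e

/-- `(01)(45)` -/
def sy2 : Equiv.Perm (Fin 9) := Equiv.swap 0 1 * Equiv.swap 4 5

/-- `(02)(13)(46)(57)` -/
def sa : Equiv.Perm (Fin 9) := Equiv.swap 0 2 * Equiv.swap 1 3 * (Equiv.swap 4 6 * Equiv.swap 5 7)

/-- `(04)(15)(26)(37)` -/
def sb : Equiv.Perm (Fin 9) := Equiv.swap 0 4 * Equiv.swap 1 5 * (Equiv.swap 2 6 * Equiv.swap 3 7)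

/-- `(02)(13)` -/
def sc : Equiv.Perm (Fin 9) := Equiv.swap 0 2 * Equiv.swap 1 3

/-- a product of `k` disjoint transpositions, `n = 2 k` -/
def IsT (n : ℕ) (σ : Equiv.Perm (Fin 9)) : Prop := σ * σ = 1 ∧ σ.support.card = n

instance (n : ℕ) (σ : Equiv.Perm (Fin 9)) : Decidable (IsT n σ) := by
  unfold IsT; infer_instance

/-- standard generators of a Sylow 2-subgroup in the `A₉` case -/
structure L9 (t : G) (e : Fin 9 → Ω) (T : Subgroup G) (d y z a b c : G) : Prop where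
  syl : Syl 2 ⊤ T
  le : T ≤ Y9 t e
  gen : T = closure {t, d, y, z, a, b, c}
  card : ♯T = 128
  ad : Act e d s2222
  ay : Act e y s22
  az : Act e z sy2
  aa : Act e a sa
  ab : Act e b sb
  ac : Act e c sc

/-- the outcome of the local analysis -/
structure Out (t : G) : Prop where
  simple : IsSimpleGroup G
  inv : Inv t
  noSE : ∀ M : Subgroup G, ¬ Cfsg.IsStronglyEmbedded M
  syl : ∃ T E : Subgroup G, Syl 2 ⊤ T ∧ T ≤ C{t} ∧ E ⊴ T ∧ (∀ x ∈ E, x * x = 1) ∧ 8 ≤ ♯E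
  f1 : ∀ X : Subgroup G, C{t} ≤ X → (∃ g ∈ X, g * t * g⁻¹ ≠ t ∧ g * t * g⁻¹ ∈ C{t}) →
    ∀ u ∈ X, Inv u → ∃ g ∈ X, g * t * g⁻¹ = u
  f2 : ∀ d ∈ C{t}, Inv d → d ≠ t → ∀ U : Subgroup G, U ≤ C{t} → Odd ♯U → C{t} ⊓ C{d} ≤ N[U] →
    U ≤ O[{2}ᶜ, C{t}]
  f3 : O[{2}ᶜ, C{t}] = ⊥ → Cfsg.Spor.IsoJ1 G

theorem mem_Fx {g : G} {a : Ω} : a ∈ Fx Ω g ↔ g • a = a := Iff.rfl

theorem smul_Fx (g x : G) : g • Fx Ω x = Fx Ω (g * x * g⁻¹) := smul_fixedBy Ω x g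

theorem mem_EC {g x : G} : g ∈ EC x ↔ g * x * g⁻¹ = x ∨ g * x * g⁻¹ = x⁻¹ := Iff.rfl

theorem mem_Kp {t x g : G} : g ∈ Kp Ω t x ↔ g ∈ C{t} ∧ ∀ a : Ω, x • a = a → g • a = a := by
  rw [Kp, mem_inf, mem_fixingSubgroup_iff]; rfl

theorem mem_Ns {t x g : G} : g ∈ Ns Ω t x ↔ g ∈ C{t} ∧ g • Fx Ω x = Fx Ω x := Iff.rfl

theorem mem_Cm {A K B : Subgroup G} {g : G} :
    g ∈ Cm A K B ↔ g ∈ A ∧ g ∈ N[B] ∧ ∀ k ∈ K, g * k * g⁻¹ * k⁻¹ ∈ B := Iff.rfl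

theorem mem_Y9 {t g : G} {e : Fin 9 → Ω} : g ∈ Y9 t e ↔ g ∈ C{t} ∧ ∃ σ, Act e g σ := Iff.rfl

theorem Act.mul {e : Fin 9 → Ω} {g h : G} {σ τ : Equiv.Perm (Fin 9)} (h1 : Act e g σ)
    (h2 : Act e h τ) : Act e (g * h) (σ * τ) := fun i => by
  rw [mul_smul, h2, h1, Equiv.Perm.mul_apply]

theorem Act.inv {e : Fin 9 → Ω} {g : G} {σ : Equiv.Perm (Fin 9)} (h1 : Act e g σ) :
    Act e g⁻¹ σ⁻¹ := fun i => by
  rw [inv_smul_eq_iff, h1]; simp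

theorem Act.one (e : Fin 9 → Ω) : Act e (1 : G) 1 := fun i => by simp

theorem Act.pow {e : Fin 9 → Ω} {g : G} {σ : Equiv.Perm (Fin 9)} (h1 : Act e g σ) (n : ℕ) :
    Act e (g ^ n) (σ ^ n) := by
  induction n with
  | zero => simpa using Act.one e
  | succ n ih => rw [pow_succ, pow_succ]; exact ih.mul h1

theorem Act.unique {e : Fin 9 → Ω} (he : Function.Injective e) {g : G}
    {σ τ : Equiv.Perm (Fin 9)} (h1 : Act e g σ) (h2 : Act e g τ) : σ = τ :=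
  Equiv.ext fun i => he ((h1 i).symm.trans (h2 i))

theorem C2.symm {t x r p q : G} {α : Ω} (h : C2 t α x r p q) : C2 t α p q x r :=
  ⟨h.tw, h.pp, h.qq, h.xx, h.rr, h.pq, h.xr, h.xp.symm, h.rp.symm, h.xq.symm, h.rq.symm, h.fq,
    h.fpq, h.fr, h.fxr, h.five', h.five, h.pa, h.xa, h.syl', h.syl, h.three', h.three⟩

theorem Sw.symm {t x p g : G} (h : Sw Ω t x p g) : Sw Ω t p x g := ⟨h.1, h.2.2, h.2.1⟩

theorem TS.symm {t x r p q s : G} {T : Subgroup G} (h : TS Ω t x r p q T s) :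
    TS Ω t p q x r T s :=
  ⟨h.syl, h.le, h.pT, h.qT, h.xT, h.rT, fun g hg => (h.pres g hg).imp And.symm Sw.symm, h.sT,
    h.inv, h.sw.symm⟩

end TU
end H23
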