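import Mathlib
import Cfsg.Agent.H5.MCQ

/-! # The wreath case for a standard subgroup `M₁₂`: the group `W3 = 2⁴` -/

set_option autoImplicit false
set_option linter.unusedSectionVars false
set_option linter.unusedVariables false
set_option maxRecDepth 100000

namespace H23.W2

open H5.MC H9 Cfsg H24 Subgroup
open scoped commutatorElement

variable {H : Subgroup PG} {X : Type*} [Group X] [Finite X] (F : Fr H X) {s s' u v : Ph}
  {a a' a1 a2 x y g c w α β ω : X}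

def cr (s s' : Ph) : Prop := (NX.r * NX.of s * NX.r⁻¹ : N2) = NX.of s'
instance (s s' : Ph) : Decidable (cr s s') := inferInstanceAs (Decidable (_ = _))
def cρ (s s' : Ph) : Prop := (NX.r * NX.of s * NX.r⁻¹ : N1) = NX.of s'
instance (s s' : Ph) : Decidable (cρ s s') := inferInstanceAs (Decidable (_ = _))

theorem pm (hs : s.inn) (hu : u.inn) : F.p (s * u) = F.p s * F.p u := F.p_mul (F.inn hs) (F.inn hu)
theorem pi (hs : s.inn) : F.p s⁻¹ = (F.p s)⁻¹ := F.p_inv (F.inn hs)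
theorem p_out (h : emb s ∉ H) : F.p s = 1 := dif_neg h

theorem conj_e {x : PG} (hx : x ∈ H) (h : x * emb s * x⁻¹ = emb s') :
    F.e x * F.p s * (F.e x)⁻¹ = F.p s' := by
  by_cases hs : emb s ∈ H
  · rw [Fr.p, Fr.p, ← h, F.e_conj hx hs]
  · have : emb s' ∉ H := fun e => hs (by
      rw [← h] at e
      exact (mul_mem_cancel_left hx).1 ((mul_mem_cancel_right (inv_mem hx)).1 e))
    rw [p_out F hs, p_out F this]; simp

include F in
theorem r_mem : r2 ∈ H := F.h12 NX.r_12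
include F in
theorem ρ_mem : rho ∈ H := F.h12 NX.r_12

theorem conj_r (h : cr s s') : F.r * F.p s * F.r⁻¹ = F.p s' := conj_e F (r_mem F) (by
  have := congrArg NX.emb h
  rwa [map_mul, map_mul, map_inv, NX.emb_r, NX.emb_of, NX.emb_of] at this)

theorem conj_ρ (h : cρ s s') : F.ρ * F.p s * F.ρ⁻¹ = F.p s' := conj_e F (ρ_mem F) (by
  have := congrArg NX.emb h
  rwa [map_mul, map_mul, map_inv, NX.emb_r, NX.emb_of, NX.emb_of] at this)

theorem conj_p (hu : u.inn) (s : Ph) : F.p u * F.p s * (F.p u)⁻¹ = F.p (u * s * u⁻¹) :=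
  conj_e F (F.inn hu) (by rw [map_mul, map_mul, map_inv])

theorem conj_p' (hu : u.inn) (h : u * s * u⁻¹ = s') : F.p u * F.p s * (F.p u)⁻¹ = F.p s' :=
  h ▸ conj_p F hu s

theorem comm_p (hu : u.inn) (h : u * s * u⁻¹ = s) : Commute (F.p u) (F.p s) :=
  mul_inv_eq_iff_eq_mul.1 (conj_p' F hu h)

theorem sg_r : F.p sg * F.r * (F.p sg)⁻¹ = F.r⁻¹ := by
  have := congrArg NX.emb (show (NX.of sg * NX.r * (NX.of sg)⁻¹ : N2) = NX.r⁻¹ by decide +kernel)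
  rw [map_mul, map_mul, map_inv, map_inv, NX.emb_r, NX.emb_of] at this
  rw [Fr.p, Fr.r, ← F.e_conj (F.inn (by decide)) (r_mem F), ← F.e_inv (r_mem F)]
  exact congrArg F.e this

theorem i2_ρ : F.p i2 * F.ρ * (F.p i2)⁻¹ = F.ρ⁻¹ := by
  have := congrArg NX.emb (show (NX.of i2 * NX.r * (NX.of i2)⁻¹ : N1) = NX.r⁻¹ by decide +kernel)
  rw [map_mul, map_mul, map_inv, map_inv, NX.emb_r, NX.emb_of] at this
  rw [Fr.p, Fr.ρ, ← F.e_conj (F.inn (by decide)) (ρ_mem F), ← F.e_inv (ρ_mem F)]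
  exact congrArg F.e this

theorem r3 : F.r * F.r = F.r⁻¹ := by
  have := congrArg NX.emb (show (NX.r * NX.r : N2) = NX.r⁻¹ by decide +kernel)
  rw [map_mul, map_inv, NX.emb_r] at this
  rw [Fr.r, ← F.e_mul (r_mem F) (r_mem F), ← F.e_inv (r_mem F)]
  exact congrArg F.e this

theorem rt : F.r * F.t * F.r⁻¹ = F.t := mul_inv_eq_iff_eq_mul.2 (F.e_t r2).eq.symm
theorem ρt : F.ρ * F.t * F.ρ⁻¹ = F.t := mul_inv_eq_iff_eq_mul.2 (F.e_t rho).eq.symm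

theorem U_inn : ∀ u : Ph, u.U0 → u.inn := by decide +kernel
theorem V_inn : ∀ u : Ph, u.V1 → u.inn := by decide +kernel
theorem Y_inn : ∀ u : Ph, u.Y → u.inn := by decide +kernel
theorem U_Jh : ∀ u : Ph, u.U0 → u.Jh := by decide +kernel
theorem Y_Jh : ∀ u : Ph, u.Y → u.Jh := by decide +kernel
theorem U_mul : ∀ u : Ph, u.U0 → ∀ v : Ph, v.U0 → (u * v).U0 := by decide +kernel
theorem U_sq : ∀ u : Ph, u.U0 → u * u = 1 := by decide +kernel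
theorem U_c : ∀ u : Ph, u.U0 → ∀ s : Ph, s.Jh → u * s * u⁻¹ = s := by decide +kernel

theorem p_ne (hu : u.inn) (h : F.p u = 1) : u = 1 :=
  F.p_inj (F.inn hu) (F.inn (by decide)) (h.trans F.p_one.symm)

/-- the image of `Y` -/
def Yg : Subgroup X where
  carrier := {x | ∃ s : Ph, s.Y ∧ x = F.p s}
  one_mem' := ⟨1, by decide, F.p_one.symm⟩
  mul_mem' := by
    rintro _ _ ⟨s, hs, rfl⟩ ⟨u, hu, rfl⟩
    exact ⟨s * u, (by decide +kernel : ∀ s : Ph, s.Y → ∀ u : Ph, u.Y → (s * u).Y) s hs u hu,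
      (pm F (Y_inn s hs) (Y_inn u hu)).symm⟩
  inv_mem' := by
    rintro _ ⟨s, hs, rfl⟩
    exact ⟨s⁻¹, (by decide +kernel : ∀ s : Ph, s.Y → s⁻¹.Y) s hs, (pi F (Y_inn s hs)).symm⟩

theorem Y_le {K : Subgroup X} (h1 : F.p j1 ∈ K) (h2 : F.p j2 ∈ K) (h3 : F.p i0 ∈ K) :
    Yg F ≤ K := by
  let K' : Subgroup Ph :=
    { carrier := {s | emb s ∈ H ∧ F.p s ∈ K}
      one_mem' := ⟨F.inn (by decide), F.p_one ▸ one_mem _⟩
      mul_mem' := by
        rintro s u ⟨hs, hs'⟩ ⟨hu, hu'⟩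
        exact ⟨by rw [map_mul]; exact mul_mem hs hu, by rw [F.p_mul hs hu]; exact mul_mem hs' hu'⟩
      inv_mem' := by
        rintro s ⟨hs, hs'⟩
        exact ⟨by rw [map_inv]; exact inv_mem hs, by rw [F.p_inv hs]; exact inv_mem hs'⟩ }
  have k1 : j1 ∈ K' := ⟨F.inn (by decide), h1⟩
  have k2 : j2 ∈ K' := ⟨F.inn (by decide), h2⟩
  have k3 : i0 ∈ K' := ⟨F.inn (by decide), h3⟩
  rintro _ ⟨s, hs, rfl⟩
  obtain ⟨a, b, c, rfl⟩ := (by decide +kernel : ∀ s : Ph, s.Y → ∃ a b : Fin 4, ∃ c : Fin 2,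
    s = j1 ^ a.1 * j2 ^ b.1 * i0 ^ c.1) s hs
  exact (mul_mem (mul_mem (pow_mem k1 _) (pow_mem k2 _)) (pow_mem k3 _) : _ ∈ K').2

/-- the data defining `W3` -/
structure Wd (a1 a2 : X) : Prop where
  bot : F.W = ⊥
  aa1 : a1 * a1 = 1
  aa2 : a2 * a2 = 1
  a12 : Commute a1 a2
  ta1 : a1 * F.t * a1⁻¹ = F.t * F.p z1
  ta2 : a2 * F.t * a2⁻¹ = F.t * F.p z2
  aJ : ∀ s : Ph, s.Jh → Commute a1 (F.p s) ∧ Commute a2 (F.p s)

abbrev W3 (a1 a2 : X) : Subgroup X := closure ({a1, a2, F.p z1, F.p z2} : Set X)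

def K4 (a1 a2 a : X) : Prop := a = 1 ∨ a = a1 ∨ a = a2 ∨ a = a1 * a2

variable {F}

theorem key0 (hW : F.W = ⊥) (ha : a1 * F.t * a1⁻¹ = F.t * F.p z1)
    (haU : ∀ u : Ph, u.U0 → Commute a1 (F.p u)) (ht : Commute g F.t)
    (hY : ∀ y ∈ Yg F, Commute g y) (h1 : Commute g a1) : ∃ u : Ph, u.U0 ∧ g = F.p u := by
  obtain ⟨w, hw, x, hx, e⟩ := F.cent' ht
  rw [hW, mem_bot] at hw
  rw [hw, one_mul, one_mul] at e
  have c : ∀ s : Ph, s.Y → x * emb s = emb s * x := fun s hs => by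
    have h2 := hY _ ⟨s, hs, rfl⟩
    have h3 := F.inn (Y_inn s hs)
    refine F.e_inj (mul_mem hx h3) (mul_mem h3 hx) ?_
    rw [F.e_mul hx h3, F.e_mul h3 hx]
    rcases e with rfl | rfl
    · exact h2
    · have := (F.p_t s).inv_left.mul_left h2
      rwa [inv_mul_cancel_left] at this
  obtain ⟨n, rfl⟩ := cent_z (F.hAM hx) (c z1 (by decide))
  have c' : ∀ s : Ph, s.Y → n * NX.of s = NX.of s * n := fun s hs =>
    NX.emb_inj (by rw [map_mul, map_mul, NX.emb_of]; exact c s hs)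
  obtain ⟨u, hu, rfl⟩ := (by decide +kernel : ∀ n : N1, n * NX.of j1 = NX.of j1 * n →
    n * NX.of j2 = NX.of j2 * n → n * NX.of i0 = NX.of i0 * n → ∃ u : Ph, u.U0 ∧ n = NX.of u) n
    (c' _ (by decide)) (c' _ (by decide)) (c' _ (by decide))
  rw [NX.emb_of] at e
  refine ⟨u, hu, e.resolve_right fun e => ?_⟩
  have h2 : Commute a1 F.t := by
    have := h1.symm.mul_right (haU u hu).inv_right
    rwa [e, show F.e (emb u) = F.p u from rfl, mul_inv_cancel_right] at this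
  rw [h2.eq, mul_inv_cancel_right, left_eq_mul] at ha
  exact absurd (p_ne F (by decide) ha) (by decide)

namespace Wd

variable (D : Wd F a1 a2)
include D

theorem m1 : a1 ∈ W3 F a1 a2 := subset_closure (by simp)
theorem m2 : a2 ∈ W3 F a1 a2 := subset_closure (by simp)
theorem mU (hu : u.U0) : F.p u ∈ W3 F a1 a2 := by
  have h1 : F.p z1 ∈ W3 F a1 a2 := subset_closure (by simp)
  have h2 : F.p z2 ∈ W3 F a1 a2 := subset_closure (by simp)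
  rcases hu with rfl | rfl | rfl | rfl
  · rw [F.p_one]; exact one_mem _
  · exact h1
  · exact h2
  · rw [show z3 = z1 * z2 by decide +kernel, pm F (by decide) (by decide)]; exact mul_mem h1 h2
theorem mK (h : K4 a1 a2 a) : a ∈ W3 F a1 a2 := by
  rcases h with rfl | rfl | rfl | rfl
  exacts [one_mem _, D.m1, D.m2, mul_mem D.m1 D.m2]

omit D in
theorem le_C (h1 : Commute w a1) (h2 : Commute w a2) (h3 : Commute w (F.p z1))
    (h4 : Commute w (F.p z2)) : w ∈ C[W3 F a1 a2] :=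
  mem_C_iff_le_C1.2 ((closure_le _).2 (by
    rintro x (rfl | rfl | rfl | rfl)
    exacts [mem_C1.2 h1.symm, mem_C1.2 h2.symm, mem_C1.2 h3.symm, mem_C1.2 h4.symm]))

theorem cJ (hs : s.Jh) : F.p s ∈ C[W3 F a1 a2] :=
  le_C (D.aJ s hs).1.symm (D.aJ s hs).2.symm (comm_p F (by decide) (U_c _ (by decide) s hs)).symm
    (comm_p F (by decide) (U_c _ (by decide) s hs)).symm

theorem cY : Yg F ≤ C[W3 F a1 a2] := by rintro _ ⟨s, hs, rfl⟩; exact D.cJ (Y_Jh s hs)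

theorem ab : W3 F a1 a2 ≤ C[W3 F a1 a2] := (closure_le _).2 (by
  rintro x (rfl | rfl | rfl | rfl)
  exacts [le_C (Commute.refl _) D.a12 (D.aJ _ (by decide)).1 (D.aJ _ (by decide)).1,
    le_C D.a12.symm (Commute.refl _) (D.aJ _ (by decide)).2 (D.aJ _ (by decide)).2,
    D.cJ (by decide), D.cJ (by decide)])

theorem cm (hx : x ∈ W3 F a1 a2) (hy : y ∈ W3 F a1 a2) : x * y = y * x := comm_of_cent D.ab hx hy

theorem K_mul (h : K4 a1 a2 a) (h' : K4 a1 a2 a') : K4 a1 a2 (a * a') := by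
  have e1 := D.aa1
  have e2 := D.aa2
  have e3 := D.a12.eq.symm
  have e4 : ∀ x, a1 * (a1 * x) = x := fun x => by rw [← mul_assoc, e1, one_mul]
  have e5 : ∀ x, a2 * (a1 * x) = a1 * (a2 * x) := fun x => by rw [← mul_assoc, e3, mul_assoc]
  rcases h with rfl | rfl | rfl | rfl <;> rcases h' with rfl | rfl | rfl | rfl <;>
    simp [K4, e1, e2, e3, e4, e5, mul_assoc]

theorem sq (hx : x ∈ W3 F a1 a2) : x * x = 1 := by
  induction hx using closure_induction with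
  | mem x hx =>
    rcases hx with rfl | rfl | rfl | rfl
    · exact D.aa1
    · exact D.aa2
    · rw [← pm F (by decide) (by decide), U_sq _ (by decide), F.p_one]
    · rw [← pm F (by decide) (by decide), U_sq _ (by decide), F.p_one]
  | one => exact mul_one _
  | mul x y hx hy e1 e2 =>
    rw [mul_assoc, ← mul_assoc y, ← D.cm hx hy, mul_assoc, e2, mul_one, e1]
  | inv x hx e => rw [← mul_inv_rev, e, inv_one]

theorem dec (hx : x ∈ W3 F a1 a2) : ∃ a, K4 a1 a2 a ∧ ∃ u : Ph, u.U0 ∧ x = a * F.p u := by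
  induction hx using closure_induction with
  | mem x hx =>
    rcases hx with rfl | rfl | rfl | rfl
    · exact ⟨_, .inr (.inl rfl), 1, by decide, by rw [F.p_one, mul_one]⟩
    · exact ⟨_, .inr (.inr (.inl rfl)), 1, by decide, by rw [F.p_one, mul_one]⟩
    · exact ⟨_, .inl rfl, _, by decide, (one_mul _).symm⟩
    · exact ⟨_, .inl rfl, _, by decide, (one_mul _).symm⟩
  | one => exact ⟨_, .inl rfl, 1, by decide, by rw [F.p_one, mul_one]⟩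
  | mul x y hx hy e1 e2 =>
    obtain ⟨a, ha, u, hu, rfl⟩ := e1
    obtain ⟨a', ha', u', hu', rfl⟩ := e2
    refine ⟨_, D.K_mul ha ha', _, U_mul u hu u' hu', ?_⟩
    rw [pm F (U_inn u hu) (U_inn u' hu'), mul_assoc, ← mul_assoc (F.p u),
      D.cm (D.mU hu) (D.mK ha')]
    simp only [mul_assoc]
  | inv x hx e => rwa [inv_eq_of_mul_eq_one_right (D.sq hx)]

theorem ta3 : a1 * a2 * F.t * (a1 * a2)⁻¹ = F.t * F.p z3 := by
  calc _ = a1 * (a2 * F.t * a2⁻¹) * a1⁻¹ := by group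
    _ = a1 * F.t * a1⁻¹ * (a1 * F.p z2 * a1⁻¹) := by rw [D.ta2]; group
    _ = _ := by
      rw [D.ta1, (D.aJ _ (by decide)).1.eq, mul_inv_cancel_right, mul_assoc,
        ← pm F (by decide) (by decide), show z1 * z2 = z3 by decide +kernel]

theorem tK (hu : u.U0) : ∃ a, K4 a1 a2 a ∧ a * F.t * a⁻¹ = F.t * F.p u := by
  rcases hu with rfl | rfl | rfl | rfl
  · exact ⟨1, .inl rfl, by simp [F.p_one]⟩
  · exact ⟨_, .inr (.inl rfl), D.ta1⟩
  · exact ⟨_, .inr (.inr (.inl rfl)), D.ta2⟩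
  · exact ⟨_, .inr (.inr (.inr rfl)), D.ta3⟩

theorem tW (hx : x ∈ W3 F a1 a2) : ∃ u : Ph, u.U0 ∧ x * F.t * x⁻¹ = F.t * F.p u ∧
    (u = 1 → ∃ v : Ph, v.U0 ∧ x = F.p v) := by
  obtain ⟨a, ha, v, hv, rfl⟩ := D.dec hx
  have e : a * F.p v * F.t * (a * F.p v)⁻¹ = a * F.t * a⁻¹ := by
    rw [mul_assoc a, ← (F.p_t v).eq]; group
  rw [e]
  rcases ha with rfl | rfl | rfl | rfl
  · exact ⟨1, by decide, by simp [F.p_one], fun _ => ⟨v, hv, one_mul _⟩⟩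
  · exact ⟨z1, by decide, D.ta1, fun e => absurd e (by decide)⟩
  · exact ⟨z2, by decide, D.ta2, fun e => absurd e (by decide)⟩
  · exact ⟨z3, by decide, D.ta3, fun e => absurd e (by decide)⟩

theorem centT (hx : x ∈ W3 F a1 a2) (h : Commute x F.t) : ∃ v : Ph, v.U0 ∧ x = F.p v := by
  obtain ⟨u, hu, e, h1⟩ := D.tW hx
  rw [h.eq, mul_inv_cancel_right, left_eq_mul] at e
  exact h1 (p_ne F (U_inn u hu) e)

/-- a conjugate of `t` in `t y W3` -/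
theorem invT (hy : y * y = 1) (hyt : Commute F.t y) (hyC : y ∈ C[W3 F a1 a2])
    (hω : ω ∈ W3 F a1 a2) (e : c * F.t * c⁻¹ = F.t * y * ω) : ∃ v : Ph, v.U0 ∧ ω = F.p v := by
  refine D.centT hω ?_
  have e1 : F.t * y * ω * (F.t * y * ω) = 1 := by
    rw [← e, show c * F.t * c⁻¹ * (c * F.t * c⁻¹) = c * (F.t * F.t) * c⁻¹ by group, F.tt]; simp
  have e2 : F.t * y * ω * (F.t * y * ω) = F.t * (y * y) * (ω * F.t * ω) := by
    calc _ = F.t * y * (ω * (F.t * y)) * ω := by group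
      _ = F.t * y * ((ω * y) * F.t) * ω := by rw [hyt.eq]; group
      _ = _ := by rw [mem_C.1 hyC ω hω]; group
  rw [e2, hy, mul_one, ← mul_assoc, ← mul_assoc, mul_eq_one_iff_eq_inv,
    inv_eq_of_mul_eq_one_right (D.sq hω), ← eq_mul_inv_iff_mul_eq,
    inv_eq_of_mul_eq_one_right F.tt] at e1
  exact e1.symm

theorem key (hc : c ∈ C[W3 F a1 a2]) (hY : ∀ y ∈ Yg F, Commute c y) (hω : ω ∈ W3 F a1 a2)
    (e : c * F.t * c⁻¹ = F.t * ω) : c ∈ W3 F a1 a2 := by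
  obtain ⟨u, hu, rfl⟩ := D.invT (y := 1) (c := c) (mul_one _) (Commute.one_right _) (one_mem _) hω
    (by rw [mul_one, e])
  obtain ⟨a, ha, e1⟩ := D.tK hu
  have ha' := D.mK ha
  obtain ⟨v, hv, e2⟩ := key0 (g := a⁻¹ * c) D.bot D.ta1 (fun u hu => (D.aJ u (U_Jh u hu)).1)
    (by
      have : a⁻¹ * c * F.t * (a⁻¹ * c)⁻¹ = a⁻¹ * (c * F.t * c⁻¹) * a := by group
      rw [e, ← e1] at this
      exact mul_inv_eq_iff_eq_mul.1 (this.trans (by group)))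
    (fun y hy => (show Commute a y from mem_C.1 (D.cY hy) a ha').inv_left.mul_left (hY y hy))
    ((show Commute a a1 from D.cm ha' D.m1).inv_left.mul_left (mem_C'.1 hc _ D.m1))
  exact (mul_mem_cancel_left (inv_mem ha')).1 (e2 ▸ D.mU hv)

theorem YY (hx : x ∈ Yg F) (hy : y ∈ Yg F) : ⁅x, y⁆ ∈ W3 F a1 a2 := by
  obtain ⟨s, hs, rfl⟩ := hx
  obtain ⟨s', hs', rfl⟩ := hy
  have h1 := (by decide +kernel : ∀ s : Ph, s.Y → ∀ s' : Ph, s'.Y →
    (s * s' * s⁻¹ * s'⁻¹).U0 ∧ (s * s' * s⁻¹).inn ∧ s'⁻¹.inn) s hs s' hs'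
  have := D.mU h1.1
  rwa [pm F h1.2.1 h1.2.2, ← conj_p F (Y_inn s hs), pi F (Y_inn s' hs')] at this

/-- the elements acting trivially on `W3` and `Y W3 / W3` and moving `t` inside `t Y W3` -/
def AA : Subgroup X where
  carrier := {α | α ∈ C[W3 F a1 a2] ∧ (∀ y ∈ Yg F, ⁅α, y⁆ ∈ W3 F a1 a2) ∧
    ∃ y ∈ Yg F, ∃ ω ∈ W3 F a1 a2, α * F.t * α⁻¹ = F.t * y * ω}
  one_mem' := ⟨one_mem _, fun y _ => by simp, 1, one_mem _, 1, one_mem _, by simp⟩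
  mul_mem' := by
    rintro α β ⟨h1, h2, y, hy, ω, hω, e⟩ ⟨h1', h2', y', hy', ω', hω', e'⟩
    refine ⟨mul_mem h1 h1', fun y hy => ?_, y * y', mul_mem hy hy', ω * ⁅α, y'⁆ * ω',
      mul_mem (mul_mem hω (h2 y' hy')) hω', ?_⟩
    · have : ⁅α * β, y⁆ = α * ⁅β, y⁆ * α⁻¹ * ⁅α, y⁆ := by simp only [commutatorElement_def]; group
      rw [this, conj_eq_of_mem_C h1 (h2' y hy)]; exact mul_mem (h2' y hy) (h2 y hy)
    · calc α * β * F.t * (α * β)⁻¹ = α * (β * F.t * β⁻¹) * α⁻¹ := by group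
        _ = α * F.t * α⁻¹ * (⁅α, y'⁆ * y') * (α * ω' * α⁻¹) := by
          rw [e']; simp only [commutatorElement_def]; group
        _ = F.t * y * ((ω * ⁅α, y'⁆) * y') * ω' := by rw [e, conj_eq_of_mem_C h1 hω']; group
        _ = _ := by rw [mem_C.1 (D.cY hy') _ (mul_mem hω (h2 y' hy'))]; group
  inv_mem' := by
    rintro α ⟨h1, h2, y, hy, ω, hω, e⟩
    have h3 : ∀ y ∈ Yg F, ⁅α⁻¹, y⁆ ∈ W3 F a1 a2 := fun y hy => by
      have : ⁅α⁻¹, y⁆ = α⁻¹ * ⁅α, y⁆⁻¹ * α⁻¹⁻¹ := by simp only [commutatorElement_def]; group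
      rw [this, conj_eq_of_mem_C (inv_mem h1) (inv_mem (h2 y hy))]; exact inv_mem (h2 y hy)
    refine ⟨inv_mem h1, h3, y⁻¹, inv_mem hy, ω⁻¹ * ⁅α⁻¹, y⁻¹⁆,
      mul_mem (inv_mem hω) (h3 _ (inv_mem hy)), ?_⟩
    calc α⁻¹ * F.t * α⁻¹⁻¹ = α⁻¹ * (α * F.t * α⁻¹ * ω⁻¹ * y⁻¹) * α⁻¹⁻¹ := by rw [e]; group
      _ = F.t * ((α⁻¹ * ω⁻¹ * α⁻¹⁻¹) * ⁅α⁻¹, y⁻¹⁆ * y⁻¹) := by
        simp only [commutatorElement_def]; group
      _ = _ := by
        rw [conj_eq_of_mem_C (inv_mem h1) (inv_mem hω),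
          mem_C.1 (D.cY (inv_mem hy)) _ (mul_mem (inv_mem hω) (h3 _ (inv_mem hy))), mul_assoc]

theorem tmul {y' ω' : X} (hα : α ∈ D.AA) (hy' : y' ∈ Yg F) (hω : ω ∈ W3 F a1 a2)
    (hω' : ω' ∈ W3 F a1 a2) (e : α * F.t * α⁻¹ = F.t * y * ω) (e' : β * F.t * β⁻¹ = F.t * y' * ω') :
    ∃ Ω ∈ W3 F a1 a2, α * β * F.t * (α * β)⁻¹ = F.t * (y * y') * Ω := by
  have h2 := hα.2.1 y' hy'
  refine ⟨ω * ⁅α, y'⁆ * ω', mul_mem (mul_mem hω h2) hω', ?_⟩
  calc α * β * F.t * (α * β)⁻¹ = α * (β * F.t * β⁻¹) * α⁻¹ := by group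
    _ = α * F.t * α⁻¹ * (⁅α, y'⁆ * y') * (α * ω' * α⁻¹) := by
      rw [e']; simp only [commutatorElement_def]; group
    _ = F.t * y * ((ω * ⁅α, y'⁆) * y') * ω' := by rw [e, conj_eq_of_mem_C hα.1 hω']; group
    _ = _ := by rw [mem_C.1 (D.cY hy') _ (mul_mem hω h2)]; group

theorem W_le : W3 F a1 a2 ≤ D.AA := fun x hx => by
  obtain ⟨u, hu, e, -⟩ := D.tW hx
  refine ⟨D.ab hx, fun y hy => ?_, 1, one_mem _, _, D.mU hu, by rw [mul_one, e]⟩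
  rw [commutatorElement_eq_one_iff_mul_comm.2 (mem_C.1 (D.cY hy) x hx)]; exact one_mem _

theorem comm (hα : α ∈ D.AA) (hβ : β ∈ D.AA) : ⁅α, β⁆ ∈ W3 F a1 a2 := by
  suffices h : ∀ α ∈ D.AA, ∀ β ∈ D.AA, (β * α)⁻¹ * (α * β) ∈ W3 F a1 a2 by
    have := h _ (inv_mem hα) _ (inv_mem hβ)
    rw [← commutatorElement_inv, inv_mem_iff, commutatorElement_def]
    have := inv_mem this
    convert this using 1; group
  intro α hα β hβ
  obtain ⟨h1, h2, y, hy, ω, hω, e⟩ := id hα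
  obtain ⟨h1', h2', y', hy', ω', hω', e'⟩ := id hβ
  have hC : (β * α)⁻¹ ∈ C[W3 F a1 a2] := inv_mem (mul_mem h1' h1)
  have f : ∀ {α β : X}, α ∈ C[W3 F a1 a2] → ∀ {y}, ⁅β, y⁆ ∈ W3 F a1 a2 →
      α * β * y * (α * β)⁻¹ = ⁅β, y⁆ * ⁅α, y⁆ * y := fun {α β} h {y} h' => by
    rw [← conj_eq_of_mem_C h h']; simp only [commutatorElement_def]; group
  obtain ⟨Ω, m1, g1⟩ := D.tmul hα hy' hω hω' e e'
  obtain ⟨Ω', m2, g2⟩ := D.tmul hβ hy hω' hω e' e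
  have m3 := mul_mem (mul_mem (inv_mem m2) (D.YY (inv_mem hy) (inv_mem hy'))) m1
  refine D.key (mul_mem hC (mul_mem h1 h1')) (fun s hs => ?_) m3 ?_
  · have : (β * α)⁻¹ * (α * β) * s * ((β * α)⁻¹ * (α * β))⁻¹ =
        (β * α)⁻¹ * (α * β * s * (α * β)⁻¹) * (β * α) := by group
    rw [f h1 (h2' s hs), D.cm (h2' s hs) (h2 s hs), ← f h1' (h2 s hs)] at this
    exact mul_inv_eq_iff_eq_mul.1 (this.trans (by group))
  · calc _ = (β * α)⁻¹ * (α * β * F.t * (α * β)⁻¹) * (β * α)⁻¹⁻¹ := by group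
      _ = (β * α)⁻¹ * (β * α * F.t * (β * α)⁻¹ * (Ω'⁻¹ * ⁅y⁻¹, y'⁻¹⁆ * Ω)) * (β * α)⁻¹⁻¹ := by
        rw [g1, g2]; simp only [commutatorElement_def]; group
      _ = F.t * ((β * α)⁻¹ * (Ω'⁻¹ * ⁅y⁻¹, y'⁻¹⁆ * Ω) * (β * α)⁻¹⁻¹) := by group
      _ = _ := by rw [conj_eq_of_mem_C hC m3]

theorem mem_AA (hc : w ∈ C[W3 F a1 a2]) (h1 : ⁅w, F.p j1⁆ ∈ W3 F a1 a2)
    (h2 : ⁅w, F.p j2⁆ ∈ W3 F a1 a2) (h3 : ⁅w, F.p i0⁆ ∈ W3 F a1 a2) (hs : s.Y)
    (e : w * F.t * w⁻¹ = F.t * F.p s) : w ∈ D.AA := by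
  let K : Subgroup X :=
    { carrier := {y | y ∈ C[W3 F a1 a2] ∧ ⁅w, y⁆ ∈ W3 F a1 a2}
      one_mem' := ⟨one_mem _, by simp⟩
      mul_mem' := by
        rintro x y ⟨hx, hx'⟩ ⟨hy, hy'⟩
        refine ⟨mul_mem hx hy, ?_⟩
        have : ⁅w, x * y⁆ = ⁅w, x⁆ * (x * ⁅w, y⁆ * x⁻¹) := by
          simp only [commutatorElement_def]; group
        rw [this, conj_eq_of_mem_C hx hy']; exact mul_mem hx' hy'
      inv_mem' := by
        rintro x ⟨hx, hx'⟩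
        refine ⟨inv_mem hx, ?_⟩
        have : ⁅w, x⁻¹⁆ = x⁻¹ * ⁅w, x⁆⁻¹ * x⁻¹⁻¹ := by simp only [commutatorElement_def]; group
        rw [this, conj_eq_of_mem_C (inv_mem hx) (inv_mem hx')]; exact inv_mem hx' }
  exact ⟨hc, fun y hy => (Y_le F (K := K) ⟨D.cJ (by decide), h1⟩ ⟨D.cJ (by decide), h2⟩
    ⟨D.cJ (by decide), h3⟩ hy).2, _, ⟨s, hs, rfl⟩, 1, one_mem _, by rw [mul_one, e]⟩

end Wd

end H23.W2
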