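import Mathlib
import Cfsg.Agent.H23.W2a

/-! # The wreath case for a standard subgroup `M₁₂`: the elements `w k` -/

set_option autoImplicit false
set_option linter.unusedSectionVars false
set_option linter.unusedVariables false
set_option maxRecDepth 100000

namespace H23.W2

open H5.MC H9 Cfsg H24 Subgroup
open scoped commutatorElement

variable {H : Subgroup PG} {X : Type*} [Group X] [Finite X] {F : Fr H X} {s s' u v : Ph}
  {a a' a1 a2 x y g c w α β ω ω' j : X}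

theorem cj_mul' (g x y : X) : g * (x * y) * g⁻¹ = g * x * g⁻¹ * (g * y * g⁻¹) := by group
theorem cj_cj' (g x y : X) : g * x * g⁻¹ * (g * y * g⁻¹) * (g * x * g⁻¹)⁻¹ = g * (x * y * x⁻¹) * g⁻¹ := by
  group
theorem flip (hw : w * w = 1) (h : y * w * y⁻¹ = w * ω) (hc : ω * y = y * ω) :
    w * y * w⁻¹ = y * ω := by
  rw [inv_eq_of_mul_eq_one_right hw, ← hc, mul_assoc, mul_inv_eq_iff_eq_mul.1 h, ← mul_assoc,
    ← mul_assoc, hw, one_mul]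

theorem fixU (hu : u.U0) (h : F.r * F.p u * F.r⁻¹ = F.p u) : u = 1 := by
  obtain ⟨u', h1, h2, h3⟩ := (by decide +kernel :
    ∀ u : Ph, u.U0 → ∃ u' : Ph, u'.U0 ∧ cr u u' ∧ (u' = u → u = 1)) u hu
  exact h3 (F.p_inj (F.inn (U_inn _ h1)) (F.inn (U_inn _ hu)) ((conj_r F h2).symm.trans h))

theorem rrr (x : X) : F.r * (F.r * (F.r * x * F.r⁻¹) * F.r⁻¹) * F.r⁻¹ = x := by
  calc _ = F.r * (F.r * F.r) * x * (F.r * (F.r * F.r))⁻¹ := by group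
    _ = x := by rw [r3]; group

structure We (F : Fr H X) (a1 a2 : X) : Prop extends Wd F a1 a2 where
  r1 : F.r * a1 * F.r⁻¹ = a2
  r2 : F.r * a2 * F.r⁻¹ = a1 * a2
  sa1 : Commute (F.p sg) a1
  sa2 : F.p sg * a2 * (F.p sg)⁻¹ = a1 * a2

/-- the action on `j` -/
def PJ (F : Fr H X) (w : X) (j : Ph) (a : X) : Prop :=
  ∃ u : Ph, u.U0 ∧ w * F.p j * w⁻¹ = F.p j * a * F.p u

structure QQ (F : Fr H X) (a1 a2 w : X) : Prop where
  C : w ∈ C[W3 F a1 a2]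
  sq : w * w = 1
  p1 : PJ F w j1 a1
  p2 : PJ F w j2 a2
  p3 : PJ F w j3 (a1 * a2)
  ci : ⁅w, F.p i0⁆ ∈ W3 F a1 a2
  cc : ⁅w, F.p c0⁆ ∈ W3 F a1 a2

theorem PJ.conj {j j' : Ph} (h : PJ F w j a) (hj : cr j j') :
    PJ F (F.r * w * F.r⁻¹) j' (F.r * a * F.r⁻¹) := by
  obtain ⟨u, hu, e⟩ := h
  obtain ⟨u', h1, h2⟩ := (by decide +kernel : ∀ u : Ph, u.U0 → ∃ u' : Ph, u'.U0 ∧ cr u u') u hu
  exact ⟨u', h1, by rw [← conj_r F hj, ← conj_r F h2, cj_cj', e, cj_mul', cj_mul']⟩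

namespace We

variable (D : We F a1 a2)
include D

theorem r3' : F.r * (a1 * a2) * F.r⁻¹ = a1 := by
  rw [← D.r2, ← D.r1, rrr]

omit D in
theorem norm_W (h1 : g * a1 * g⁻¹ ∈ W3 F a1 a2) (h2 : g * a2 * g⁻¹ ∈ W3 F a1 a2)
    (h3 : g * F.p z1 * g⁻¹ ∈ W3 F a1 a2) (h4 : g * F.p z2 * g⁻¹ ∈ W3 F a1 a2) :
    g ∈ N[W3 F a1 a2] := mem_N_of_cj_le (cj_le_iff.2 ((closure_le _).2 (by
  rintro x (rfl | rfl | rfl | rfl) <;> rw [SetLike.mem_coe, mem_cj, inv_inv] <;> assumption)))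

theorem rN : F.r ∈ N[W3 F a1 a2] :=
  norm_W (D.r1 ▸ D.m2) (D.r2 ▸ mul_mem D.m1 D.m2)
    (by rw [conj_r F (s' := z2) (by decide +kernel)]; exact D.mU (by decide))
    (by rw [conj_r F (s' := z3) (by decide +kernel)]; exact D.mU (by decide))

theorem sgN : F.p sg ∈ N[W3 F a1 a2] :=
  norm_W (by rw [D.sa1.eq, mul_inv_cancel_right]; exact D.m1) (D.sa2 ▸ mul_mem D.m1 D.m2)
    (by rw [conj_p' F (s' := z1) (by decide) (by decide +kernel)]; exact D.mU (by decide))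
    (by rw [conj_p' F (s' := z3) (by decide) (by decide +kernel)]; exact D.mU (by decide))

theorem fpf (hx : x ∈ W3 F a1 a2) (h : F.r * x * F.r⁻¹ = x) : x = 1 := by
  obtain ⟨u, hu, e, h1⟩ := D.tW hx
  have e1 : F.r * (x * F.t * x⁻¹) * F.r⁻¹ = x * F.t * x⁻¹ := by rw [← cj_cj', h, rt]
  rw [e, cj_mul', rt, mul_right_inj] at e1
  obtain ⟨v, hv, rfl⟩ := h1 (fixU hu e1)
  rw [fixU hv h, F.p_one]

theorem qq_r (h : QQ F a1 a2 w) : QQ F a1 a2 (F.r * w * F.r⁻¹) where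
  C := H24.conj_mem (N_le_NC _ D.rN) h.C
  sq := by rw [← cj_mul', h.sq]; simp
  p1 := D.r3' ▸ h.p3.conj (by decide +kernel)
  p2 := D.r1 ▸ h.p1.conj (by decide +kernel)
  p3 := D.r2 ▸ h.p2.conj (by decide +kernel)
  ci := by
    rw [← conj_r F (s := i0) (s' := i0) (by decide +kernel), ← conjugate_commutatorElement]
    exact H24.conj_mem D.rN h.ci
  cc := by
    rw [← conj_r F (s := c0) (s' := c0) (by decide +kernel), ← conjugate_commutatorElement]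
    exact H24.conj_mem D.rN h.cc

theorem pj_comm {j : Ph} (hj : j.Jh) (ha : a ∈ W3 F a1 a2) (h : PJ F w j a) :
    ⁅w, F.p j⁆ ∈ W3 F a1 a2 := by
  obtain ⟨u, hu, e⟩ := h
  rw [commutatorElement_def, e, mul_assoc (F.p j), conj_eq_of_mem_C (D.cJ hj)
    (mul_mem ha (D.mU hu))]
  exact mul_mem ha (D.mU hu)

theorem qq_AA (h : QQ F a1 a2 w) (hs : s.Y) (e : w * F.t * w⁻¹ = F.t * F.p s) : w ∈ D.AA :=
  D.mem_AA h.C (D.pj_comm (by decide) D.m1 h.p1) (D.pj_comm (by decide) D.m2 h.p2) h.ci hs e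

theorem pj3 {j : Ph} (hj : j.Jh) {w1 w2 w3 : X} (ha : a ∈ W3 F a1 a2)
    (c1 : w1 ∈ C[W3 F a1 a2]) (c2 : w2 ∈ C[W3 F a1 a2]) (h1 : PJ F w1 j a) (h2 : PJ F w2 j a)
    (h3 : PJ F w3 j a) (hω : ω ∈ W3 F a1 a2) : PJ F (w1 * w2 * w3 * ω) j a := by
  obtain ⟨u1, k1, e1⟩ := h1
  obtain ⟨u2, k2, e2⟩ := h2
  obtain ⟨u3, k3, e3⟩ := h3
  refine ⟨u1 * u2 * u3, U_mul _ (U_mul _ k1 _ k2) _ k3, ?_⟩
  have m2 := mul_mem ha (D.mU k2)
  have m3 := mul_mem ha (D.mU k3)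
  have e0 : ω * F.p j * ω⁻¹ = F.p j := by rw [mem_C.1 (D.cJ hj) ω hω, mul_inv_cancel_right]
  rw [pm F (U_inn _ (U_mul _ k1 _ k2)) (U_inn _ k3), pm F (U_inn _ k1) (U_inn _ k2)]
  calc _ = w1 * (w2 * (w3 * (ω * F.p j * ω⁻¹) * w3⁻¹) * w2⁻¹) * w1⁻¹ := by group
    _ = w1 * (w2 * F.p j * w2⁻¹ * (w2 * (a * F.p u3) * w2⁻¹)) * w1⁻¹ := by rw [e0, e3]; group
    _ = w1 * F.p j * w1⁻¹ * (w1 * (a * F.p u2 * (a * F.p u3)) * w1⁻¹) := by
      rw [e2, conj_eq_of_mem_C c2 m3]; group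
    _ = F.p j * a * F.p u1 * (a * (F.p u2 * a) * F.p u3) := by
      rw [e1, conj_eq_of_mem_C c1 (mul_mem m2 m3)]; group
    _ = _ := by
      rw [D.cm (D.mU k2) ha, ← mul_assoc a a, D.sq ha, one_mul]; group

theorem cc_mul (hx : x ∈ C[W3 F a1 a2]) (h1 : ⁅x, c⁆ ∈ W3 F a1 a2) (h2 : ⁅y, c⁆ ∈ W3 F a1 a2) :
    ⁅x * y, c⁆ ∈ W3 F a1 a2 := by
  have : ⁅x * y, c⁆ = x * ⁅y, c⁆ * x⁻¹ * ⁅x, c⁆ := by simp only [commutatorElement_def]; group
  rw [this, conj_eq_of_mem_C hx h2]; exact mul_mem h2 h1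

theorem out {w1 : X} (q1 : QQ F a1 a2 w1) (t1 : w1 * F.t * w1⁻¹ = F.t * F.p i1)
    (ci : Commute w1 (F.p i1)) (ce : Commute w1 (F.p e1))
    (s1 : F.p sg * w1 * (F.p sg)⁻¹ * w1 ∈ W3 F a1 a2) : Nonempty (OutW F) := by
  have q2 := D.qq_r q1
  have q3 := D.qq_r q2
  have cr1 : ∀ {w : X} {s s' : Ph}, Commute w (F.p s) → cr s s' →
      Commute (F.r * w * F.r⁻¹) (F.p s') := fun h h' => conj_r F h' ▸ h.conj _
  have tr : ∀ {w : X} {s s' : Ph}, w * F.t * w⁻¹ = F.t * F.p s → cr s s' →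
      F.r * w * F.r⁻¹ * F.t * (F.r * w * F.r⁻¹)⁻¹ = F.t * F.p s' := fun {w s s'} h h' => by
    rw [← conj_r F h']
    conv_lhs => rw [← rt F, cj_cj', h, cj_mul', rt]
  have t2 := tr t1 (s' := i2) (by decide +kernel)
  have t3 := tr t2 (s' := i3) (by decide +kernel)
  have ci2 := cr1 ci (s' := i2) (by decide +kernel)
  have ci3 := cr1 ci2 (s' := i3) (by decide +kernel)
  have ce2 := cr1 ce (s' := e2) (by decide +kernel)
  have ce3 := cr1 ce2 (s' := e3) (by decide +kernel)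
  have r3w := rrr (F := F) w1
  have sgr : ∀ x, F.p sg * (F.r * x * F.r⁻¹) * (F.p sg)⁻¹ =
      F.r * (F.r * (F.p sg * x * (F.p sg)⁻¹) * F.r⁻¹) * F.r⁻¹ := fun x => by
    calc _ = (F.p sg * F.r * (F.p sg)⁻¹) * (F.p sg * x * (F.p sg)⁻¹) *
          (F.p sg * F.r * (F.p sg)⁻¹)⁻¹ := by group
      _ = F.r * F.r * (F.p sg * x * (F.p sg)⁻¹) * (F.r * F.r)⁻¹ := by rw [sg_r, r3]
      _ = _ := by group
  have s2 : F.p sg * (F.r * w1 * F.r⁻¹) * (F.p sg)⁻¹ * (F.r * (F.r * w1 * F.r⁻¹) * F.r⁻¹) ∈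
      W3 F a1 a2 := by
    rw [sgr, ← cj_mul', ← cj_mul']; exact H24.conj_mem D.rN (H24.conj_mem D.rN s1)
  have s3 : F.p sg * (F.r * (F.r * w1 * F.r⁻¹) * F.r⁻¹) * (F.p sg)⁻¹ * (F.r * w1 * F.r⁻¹) ∈
      W3 F a1 a2 := by
    rw [sgr, sgr, rrr, ← cj_mul']; exact H24.conj_mem D.rN s1
  obtain ⟨w2, hw2⟩ : ∃ w2, w2 = F.r * w1 * F.r⁻¹ := ⟨_, rfl⟩
  rw [← hw2] at q2 q3 t2 t3 ci2 ci3 ce2 ce3 r3w s2 s3
  obtain ⟨w3, hw3⟩ : ∃ w3, w3 = F.r * w2 * F.r⁻¹ := ⟨_, rfl⟩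
  rw [← hw3] at q3 t3 ci3 ce3 r3w s2 s3
  have A1 := D.qq_AA q1 (by decide) t1
  have A2 := D.qq_AA q2 (by decide) t2
  have A3 := D.qq_AA q3 (by decide) t3
  have Ay := mul_mem (mul_mem A1 A2) A3
  obtain ⟨Ω', hΩ', e'⟩ := D.tmul (β := w3) A2 ⟨i3, by decide, rfl⟩ (one_mem _) (one_mem _)
    (by rw [mul_one, t2]) (by rw [mul_one, t3])
  obtain ⟨Ω, hΩ, e⟩ := D.tmul A1 (mul_mem ⟨i2, by decide, rfl⟩ ⟨i3, by decide, rfl⟩) (one_mem _) hΩ'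
    (by rw [mul_one, t1]) e'
  rw [← mul_assoc w1, ← pm F (by decide) (by decide), ← pm F (by decide) (by decide +kernel),
    show i1 * (i2 * i3) = i0 * z2 by decide +kernel, pm F (by decide) (by decide), ← mul_assoc,
    mul_assoc (F.t * F.p i0)] at e
  have ii : F.p i0 * F.p i0 = 1 := by
    rw [← pm F (by decide) (by decide), show i0 * i0 = 1 by decide +kernel, F.p_one]
  obtain ⟨v, hv, e1⟩ := D.invT ii (F.p_t _) (D.cJ (by decide)) (mul_mem (D.mU (by decide)) hΩ) e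
  rw [e1] at e
  obtain ⟨a, ha, e2⟩ := D.tK hv
  have ha' := D.mK ha
  set y := w1 * w2 * w3 with hy
  have e3 : y * a * F.t * (y * a)⁻¹ = F.t * F.p i0 := by
    calc _ = y * (a * F.t * a⁻¹) * y⁻¹ := by group
      _ = _ := by
        rw [e2, cj_mul', e, conj_eq_of_mem_C Ay.1 (D.mU hv), mul_assoc, D.sq (D.mU hv), mul_one]
  have ry : F.r * y * F.r⁻¹ = y * ⁅(w2 * w3)⁻¹, w1⁻¹⁆ := by
    rw [hy, cj_mul', cj_mul', ← hw2, ← hw3, r3w]; simp only [commutatorElement_def]; group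
  have m1 : (y * a)⁻¹ * (F.r * (y * a) * F.r⁻¹) ∈ W3 F a1 a2 := by
    rw [cj_mul', ry, show ∀ c d : X, (y * a)⁻¹ * (y * c * d) = a⁻¹ * c * d by intros; group]
    exact mul_mem (mul_mem (inv_mem ha') (D.comm (inv_mem (mul_mem A2 A3)) (inv_mem A1)))
      (H24.conj_mem D.rN ha')
  obtain ⟨u, hu, e4⟩ := D.centT m1 (by
    have h1 := tr e3 (s' := i0) (by decide +kernel)
    rw [← e3] at h1
    refine mul_inv_eq_iff_eq_mul.1 ?_
    calc _ = (y * a)⁻¹ * (F.r * (y * a) * F.r⁻¹ * F.t * (F.r * (y * a) * F.r⁻¹)⁻¹) * (y * a) := by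
          group
      _ = _ := by rw [h1]; group)
  obtain ⟨u', u'', hu', k1, k2, k3⟩ := (by decide +kernel : ∀ u : Ph, u.U0 → ∃ u' u'' : Ph,
    u'.U0 ∧ cr u' u'' ∧ u * u'' = u' ∧ u''.inn) u hu
  have m0 := mul_mem ha' (D.mU hu')
  have r0 : F.r * (y * (a * F.p u')) * F.r⁻¹ = y * (a * F.p u') := by
    rw [← mul_assoc y, cj_mul', conj_r F k1, ← k2, pm F (U_inn u hu) k3, ← e4]; group
  have t0 : y * (a * F.p u') * F.t * (y * (a * F.p u'))⁻¹ = F.t * F.p i0 := by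
    rw [← e3, ← mul_assoc y, mul_assoc (y * a), ← (F.p_t u').eq]; group
  generalize a * F.p u' = ω at m0 r0 t0
  have A0 : y * ω ∈ D.AA := mul_mem Ay (D.W_le m0)
  have yy : y * y ∈ W3 F a1 a2 := by
    have : ⁅w1, w2 * w3⁆ * ⁅w2, w3⁆ = y * (w1⁻¹ * w2⁻¹ * w3⁻¹) := by
      rw [hy]; simp only [commutatorElement_def]; group
    rw [inv_eq_of_mul_eq_one_right q1.sq, inv_eq_of_mul_eq_one_right q2.sq,
      inv_eq_of_mul_eq_one_right q3.sq] at this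
    rw [← this]; exact mul_mem (D.comm A1 (mul_mem A2 A3)) (D.comm A2 A3)
  have yw : y * (y * ω) ∈ W3 F a1 a2 := by rw [← mul_assoc]; exact mul_mem yy m0
  have sq0 : y * ω * (y * ω) = 1 := D.fpf (by
    rw [show y * ω * (y * ω) = y * (ω * y) * ω by simp only [mul_assoc], mem_C.1 Ay.1 ω m0,
      show y * (y * ω) * ω = y * y * (ω * ω) by simp only [mul_assoc], D.sq m0, mul_one]
    exact yy)
    (by rw [cj_mul', r0])
  have fx : ∀ s : Ph, cr s s → ⁅y * ω, F.p s⁆ ∈ W3 F a1 a2 → Commute (y * ω) (F.p s) :=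
    fun s hs h => commutatorElement_eq_one_iff_commute.1 (D.fpf h (by
      rw [conjugate_commutatorElement, r0, conj_r F hs]))
  have ci0 := fx i0 (by decide +kernel) (A0.2.1 _ ⟨i0, by decide, rfl⟩)
  have ce0 := fx c0 (by decide +kernel) (D.cc_mul Ay.1 (D.cc_mul (mul_mem A1 A2).1
    (D.cc_mul A1.1 q1.cc q2.cc) q3.cc) (by
      rw [commutatorElement_eq_one_iff_mul_comm.2 (mem_C.1 (D.cJ (by decide)) ω m0)]
      exact one_mem _))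
  have s0 : F.p sg * (y * ω) * (F.p sg)⁻¹ * (y * ω) ∈ W3 F a1 a2 := by
    have n1 := C_le_N _ (inv_mem A1.1)
    have n2 := C_le_N _ (mul_mem (inv_mem A1.1) (inv_mem A3.1))
    have n3 := C_le_N _ (inv_mem Ay.1)
    have := mul_mem (mul_mem (mul_mem (mul_mem (mul_mem s1 (H24.conj_mem n1 s2))
      (H24.conj_mem n2 s3)) (D.comm (inv_mem A1) (inv_mem (mul_mem A2 A3))))
      (H24.conj_mem n3 (H24.conj_mem D.sgN m0))) m0
    convert this using 1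
    rw [hy]; simp only [commutatorElement_def]; group
  have AW : ∀ k, ![y * ω, w1, w2, w3] k ∈ D.AA := fun k => by fin_cases k <;> assumption
  refine ⟨⟨a1, a2, ![y * ω, w1, w2, w3], D.aa1, D.aa2, D.a12, D.ta1, D.ta2, D.aJ, D.sa1, D.sa2,
    fun k => ?_, fun k => ?_, fun k x hx => mem_C'.1 (AW k).1 x hx, fun k => ?_, fun k => ?_,
    fun k => ?_, fun k => ?_, fun k l => D.comm (AW k) (AW l), yw, fun k => ?_⟩⟩
  · fin_cases k
    exacts [sq0, q1.sq, q2.sq, q3.sq]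
  · fin_cases k
    exacts [t0, t1, t2, t3]
  · fin_cases k
    exacts [ci0, ci, ci2, ci3]
  · fin_cases k
    exacts [ce0, ce, ce2, ce3]
  · fin_cases k
    exacts [D.pj3 (by decide) D.m1 A1.1 A2.1 q1.p1 q2.p1 q3.p1 m0, q1.p1, q2.p1, q3.p1]
  · fin_cases k
    exacts [D.pj3 (by decide) D.m2 A1.1 A2.1 q1.p2 q2.p2 q3.p2 m0, q1.p2, q2.p2, q3.p2]
  · fin_cases k
    exacts [s0, s1, s2, s3]

end We

end H23.W2
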